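import Mathlib

/-!
# Local algebras essentially of finite type over a field: presentations

Structure lemma: a local `k`-algebra essentially of finite type is a quotient of the
localization of a polynomial ring at a prime (a regular local ring).
-/

set_option autoImplicit false
set_option linter.style.haveILetI false
set_option linter.unusedSectionVars false
universe u

namespace Groth.Agent.H61.EssFT

open IsLocalRing

section pres

variable (k : Type u) [Field k] (A : Type u) [CommRing A] [IsLocalRing A] [Algebra k A]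
  [Algebra.EssFiniteType k A]

/-- A local `k`-algebra essentially of finite type is a quotient of the localization of a
polynomial ring in finitely many variables at a prime ideal. -/
theorem exists_pres :
    ∃ (ι : Type u) (_ : Finite ι) (p : Ideal (MvPolynomial ι k)) (_ : p.IsPrime)
      (φ : Localization.AtPrime p →ₐ[k] A), Function.Surjective φ := by
  classical
  obtain ⟨σ, hσ⟩ := (Algebra.essFiniteType_iff k A).mp inferInstance
  let ψ₀ : MvPolynomial σ k →ₐ[k] A := MvPolynomial.aeval (fun i : σ => (i : A))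
  have hrange : ∀ t ∈ Algebra.adjoin k (σ : Set A), ∃ q, ψ₀ q = t := by
    intro t ht
    have h1 : Algebra.adjoin k (σ : Set A) = ψ₀.range := by
      have h2 := Algebra.adjoin_range_eq_range_aeval k (fun i : σ => (i : A))
      rw [← h2]
      congr 1
      ext x
      simp
    rw [h1] at ht
    exact ht
  let p : Ideal (MvPolynomial σ k) := (maximalIdeal A).comap ψ₀
  have hp : p.IsPrime := Ideal.comap_isPrime _ _
  have hunit : ∀ y : p.primeCompl, IsUnit (ψ₀ y) := by
    intro y
    have h1 : (y : MvPolynomial σ k) ∉ p := y.2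
    have h2 : ψ₀ y ∉ maximalIdeal A := fun h => h1 (Ideal.mem_comap.mpr h)
    exact IsLocalRing.notMem_maximalIdeal.mp h2
  let φ : Localization.AtPrime p →ₐ[k] A := IsLocalization.liftAlgHom (M := p.primeCompl) hunit
  refine ⟨σ, inferInstance, p, hp, φ, ?_⟩
  intro a
  obtain ⟨t, ht, htu, hat⟩ := hσ a
  obtain ⟨q, rfl⟩ := hrange t ht
  obtain ⟨r, hr⟩ := hrange _ hat
  have hq : q ∈ p.primeCompl := by
    intro h
    have h1 : ψ₀ q ∈ maximalIdeal A := Ideal.mem_comap.mp h
    exact (IsLocalRing.mem_maximalIdeal _).mp h1 htu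
  refine ⟨IsLocalization.mk' (Localization.AtPrime p) r ⟨q, hq⟩, ?_⟩
  have h1 : φ (IsLocalization.mk' (Localization.AtPrime p) r ⟨q, hq⟩) * ψ₀ q = ψ₀ r := by
    have h2 : φ (algebraMap _ (Localization.AtPrime p) q) = ψ₀ q := by
      simp [φ, IsLocalization.liftAlgHom_apply]
    have h3 : φ (algebraMap _ (Localization.AtPrime p) r) = ψ₀ r := by
      simp [φ, IsLocalization.liftAlgHom_apply]
    rw [← h2, ← h3, ← map_mul]
    congr 1
    exact IsLocalization.mk'_spec _ r ⟨q, hq⟩
  rw [hr] at h1
  exact htu.mul_left_injective h1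

end pres

/-- two local ring maps that differ by an ideal killed by the maximal ideal agree on `m²` -/
theorem agree_on_sq {P C : Type*} [CommRing P] [IsLocalRing P] [CommRing C] [IsLocalRing C]
    (w₁ w₂ : P →+* C)
    (h₁ : ∀ x ∈ IsLocalRing.maximalIdeal P, w₁ x ∈ IsLocalRing.maximalIdeal C)
    (h₂ : ∀ x ∈ IsLocalRing.maximalIdeal P, w₂ x ∈ IsLocalRing.maximalIdeal C)
    (J : Ideal C) (hJ : ∀ m ∈ IsLocalRing.maximalIdeal C, ∀ j ∈ J, m * j = 0)
    (hδ : ∀ x, w₁ x - w₂ x ∈ J) :
    ∀ x ∈ IsLocalRing.maximalIdeal P ^ 2, w₁ x = w₂ x := by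
  intro x hx
  rw [pow_two] at hx
  refine Submodule.smul_induction_on hx ?_ ?_
  · intro c hc d hd
    have e1 := hJ _ (h₁ c hc) _ (hδ d)
    have e2 := hJ _ (h₂ d hd) _ (hδ c)
    rw [smul_eq_mul, map_mul, map_mul]
    linear_combination e1 + e2
  · intro x y hx hy
    rw [map_add, map_add, hx, hy]

section resk

variable {k : Type u} [Field k] {P : Type u} [CommRing P] [IsLocalRing P] [Algebra k P]
  (hres : Function.Surjective (algebraMap k (ResidueField P)))

include hres in
theorem exists_sub_mem (x : P) : ∃ a : k, x - algebraMap k P a ∈ maximalIdeal P := by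
  obtain ⟨a, ha⟩ := hres (residue P x)
  refine ⟨a, ?_⟩
  rw [← residue_eq_zero_iff, map_sub, sub_eq_zero, ← ha]
  rfl

include hres in
/-- a finite module over `P` killed by the maximal ideal is finite over `k` -/
theorem finite_of_killed (M : Type*) [AddCommGroup M] [Module P M] [Module k M]
    [IsScalarTower k P M] [Module.Finite P M]
    (hM : ∀ y ∈ maximalIdeal P, ∀ v : M, y • v = 0) : Module.Finite k M := by
  obtain ⟨S, hS⟩ := (Module.Finite.fg_top : (⊤ : Submodule P M).FG)
  refine ⟨⟨S, ?_⟩⟩
  have hsm : ∀ (x : P) (v : M), ∃ a : k, x • v = a • v := by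
    intro x v
    obtain ⟨a, ha⟩ := exists_sub_mem hres x
    refine ⟨a, ?_⟩
    have h2 := hM _ ha v
    rw [sub_smul, sub_eq_zero, algebraMap_smul] at h2
    exact h2
  let N' : Submodule P M :=
    { carrier := Submodule.span k (S : Set M)
      add_mem' := fun ha hb => Submodule.add_mem _ ha hb
      zero_mem' := Submodule.zero_mem _
      smul_mem' := fun x v hv => by
        change x • v ∈ Submodule.span k (S : Set M)
        obtain ⟨a, ha⟩ := hsm x v
        rw [ha]
        exact Submodule.smul_mem _ _ hv }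
  have h1 : Submodule.span P (S : Set M) ≤ N' := Submodule.span_le.2 Submodule.subset_span
  rw [hS] at h1
  rw [eq_top_iff]
  intro v _
  exact h1 trivial

include hres in
/-- a finite module over a Noetherian `P` killed by a power of the maximal ideal is finite
over `k` -/
theorem finite_of_pow_killed [IsNoetherianRing P] (N : ℕ) :
    ∀ (M : Type u) [AddCommGroup M] [Module P M] [Module k M]
      [IsScalarTower k P M] [Module.Finite P M],
      (∀ y ∈ maximalIdeal P ^ N, ∀ v : M, y • v = 0) → Module.Finite k M := by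
  induction N with
  | zero =>
    intro M _ _ _ _ _ hM
    have h0 : ∀ v : M, v = 0 := fun v => by simpa using hM 1 (by simp) v
    haveI : Subsingleton M := ⟨fun a b => by rw [h0 a, h0 b]⟩
    infer_instance
  | succ N ih =>
    intro M _ _ _ _ _ hM
    let N' : Submodule P M := maximalIdeal P • ⊤
    haveI : IsNoetherian P M := isNoetherian_of_isNoetherianRing_of_finite P M
    haveI h1 : Module.Finite k N' := by
      apply ih N'
      intro y hy v
      apply Subtype.ext
      rw [Submodule.coe_smul, Submodule.coe_zero]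
      have hv : (v : M) ∈ maximalIdeal P • (⊤ : Submodule P M) := v.2
      refine Submodule.smul_induction_on hv ?_ ?_
      · intro c hc w _
        rw [← mul_smul]
        exact hM _ (by rw [pow_succ]; exact Ideal.mul_mem_mul hy hc) w
      · intro a b ha hb
        rw [smul_add, ha, hb, add_zero]
    haveI h2 : Module.Finite k (M ⧸ N') := by
      apply finite_of_killed hres
      intro y hy v
      obtain ⟨w, rfl⟩ := Submodule.Quotient.mk_surjective _ v
      rw [← Submodule.Quotient.mk_smul, Submodule.Quotient.mk_eq_zero]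
      exact Submodule.smul_mem_smul hy Submodule.mem_top
    haveI : IsNoetherian k N' := isNoetherian_of_isNoetherianRing_of_finite k N'
    haveI : IsNoetherian k (M ⧸ N') := isNoetherian_of_isNoetherianRing_of_finite k _
    haveI : IsNoetherian k M :=
      isNoetherian_of_range_eq_ker (N'.subtype.restrictScalars k) (N'.mkQ.restrictScalars k) (by
        ext x
        simp)
    infer_instance

end resk

section lift

variable (k : Type u) [Field k] (A : Type u) [CommRing A] [Algebra k A]

/-- the lifting property against square-zero extensions of finite local `k`-algebras -/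
def LiftSq : Prop :=
  ∀ (B' : Type u) [CommRing B'] [IsLocalRing B'] [Algebra k B'] [Module.Finite k B']
    (J : Ideal B'), J ^ 2 = ⊥ → ∀ f : A →ₐ[k] B' ⧸ J,
      ∃ g : A →ₐ[k] B', (Ideal.Quotient.mkₐ k J).comp g = f

variable {k A}
variable {P : Type u} [CommRing P] [IsLocalRing P] [IsNoetherianRing P] [Algebra k P]
  (hres : Function.Surjective (algebraMap k (ResidueField P)))

include hres in
/-- a surjection from a Noetherian local `k`-algebra with residue field `k`, with kernel in `m²`,
onto an algebra with the lifting property is injective -/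
theorem injective_of_liftSq (ψ : P →ₐ[k] A) (hψ : Function.Surjective ψ)
    (hker : RingHom.ker ψ ≤ maximalIdeal P ^ 2) (hL : LiftSq k A) : Function.Injective ψ := by
  set I : Ideal P := RingHom.ker ψ with hI
  set m : Ideal P := maximalIdeal P with hm
  have hIm : I ≤ m := hker.trans (Ideal.pow_le_self (by norm_num))
  have key : ∀ N : ℕ, I ≤ m * I ⊔ m ^ (N + 1) := by
    intro N
    set 𝔞 : Ideal P := m * I ⊔ m ^ (N + 1) with h𝔞
    have h𝔞m : 𝔞 ≤ m := sup_le Ideal.mul_le_left (Ideal.pow_le_self (by omega))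
    have h𝔞top : 𝔞 ≠ ⊤ := fun h =>
      (maximalIdeal.isMaximal P).ne_top (top_le_iff.mp (h ▸ h𝔞m))
    haveI : Nontrivial (P ⧸ 𝔞) := Ideal.Quotient.nontrivial_iff.mpr h𝔞top
    haveI : IsLocalRing (P ⧸ 𝔞) :=
      IsLocalRing.of_surjective' (Ideal.Quotient.mk 𝔞) Ideal.Quotient.mk_surjective
    haveI : Module.Finite k (P ⧸ 𝔞) := by
      apply finite_of_pow_killed hres (N + 1) (P ⧸ 𝔞)
      intro y hy v
      obtain ⟨w, rfl⟩ := Ideal.Quotient.mk_surjective v
      rw [Algebra.smul_def, Ideal.Quotient.algebraMap_eq, ← map_mul,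
        Ideal.Quotient.eq_zero_iff_mem]
      exact Ideal.mem_sup_right (Ideal.mul_mem_right _ _ hy)
    haveI : IsLocalHom (Ideal.Quotient.mk 𝔞) :=
      IsLocalHom.of_surjective _ Ideal.Quotient.mk_surjective
    have hmax : ∀ x : P, Ideal.Quotient.mk 𝔞 x ∈ maximalIdeal (P ⧸ 𝔞) ↔ x ∈ m := by
      intro x
      rw [hm, mem_maximalIdeal, mem_maximalIdeal, map_mem_nonunits_iff]
    let J : Ideal (P ⧸ 𝔞) := I.map (Ideal.Quotient.mk 𝔞)
    have hJ2 : J ^ 2 = ⊥ := by
      rw [← Ideal.map_pow, Ideal.map_eq_bot_iff_le_ker, Ideal.mk_ker, pow_two]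
      exact (Ideal.mul_mono_left hIm).trans le_sup_left
    have hJmem : ∀ j ∈ J, ∃ x ∈ I, Ideal.Quotient.mk 𝔞 x = j := by
      intro j hj
      rw [Ideal.mem_map_iff_of_surjective _ Ideal.Quotient.mk_surjective] at hj
      exact hj
    let π : P →ₐ[k] P ⧸ 𝔞 := Ideal.Quotient.mkₐ k 𝔞
    let π₂ : P →ₐ[k] (P ⧸ 𝔞) ⧸ J := (Ideal.Quotient.mkₐ k J).comp π
    have hπ₂ : RingHom.ker ψ.toRingHom ≤ RingHom.ker π₂.toRingHom := by
      intro x hx
      rw [RingHom.mem_ker]
      change Ideal.Quotient.mk J (Ideal.Quotient.mk 𝔞 x) = 0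
      rw [Ideal.Quotient.eq_zero_iff_mem]
      exact Ideal.mem_map_of_mem _ hx
    let f : A →ₐ[k] (P ⧸ 𝔞) ⧸ J := AlgHom.liftOfSurjective ψ hψ π₂ hπ₂
    have hf : ∀ x, f (ψ x) = π₂ x := AlgHom.liftOfSurjective_apply ψ hψ π₂ hπ₂
    obtain ⟨g, hg⟩ := hL (P ⧸ 𝔞) J hJ2 f
    have hg' : ∀ x : P, g (ψ x) - π x ∈ J := by
      intro x
      rw [← Ideal.Quotient.eq]
      have := congrArg (fun F => F (ψ x)) hg
      simp only [AlgHom.comp_apply] at this
      rw [hf] at this
      exact this
    have hJm : ∀ j ∈ J, j ∈ maximalIdeal (P ⧸ 𝔞) := by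
      intro j hj
      obtain ⟨x, hx, rfl⟩ := hJmem j hj
      exact (hmax x).mpr (hIm hx)
    have hagree := agree_on_sq (g.toRingHom.comp ψ.toRingHom) π.toRingHom
      (fun x hx => by
        have h1 : g (ψ x) = π x + (g (ψ x) - π x) := by ring
        change g (ψ x) ∈ _
        rw [h1]
        exact Ideal.add_mem _ ((hmax x).mpr hx) (hJm _ (hg' x)))
      (fun x hx => (hmax x).mpr hx) J
      (by
        intro c hc j hj
        obtain ⟨y, rfl⟩ := Ideal.Quotient.mk_surjective c
        obtain ⟨x, hx, rfl⟩ := hJmem j hj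
        rw [← map_mul, Ideal.Quotient.eq_zero_iff_mem]
        exact Ideal.mem_sup_left (Ideal.mul_mem_mul ((hmax y).mp hc) hx))
      hg'
    intro x hx
    have h1 := hagree x (hker hx)
    have h2 : ψ x = 0 := hx
    change g (ψ x) = π x at h1
    rw [h2, map_zero] at h1
    have h3 : Ideal.Quotient.mk 𝔞 x = 0 := h1.symm
    exact Ideal.Quotient.eq_zero_iff_mem.mp h3
  -- Krull intersection
  have hIle : I ≤ m * I := by
    intro x hx
    have h1 : (Submodule.mkQ (m * I) x : P ⧸ (m * I)) ∈
        (⨅ i : ℕ, m ^ i • ⊤ : Submodule P (P ⧸ (m * I))) := by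
      rw [Submodule.mem_iInf]
      intro i
      have h2 : x ∈ m * I ⊔ m ^ i := by
        rcases i with _ | i
        · simp
        · exact key i hx
      obtain ⟨a, ha, b, hb, rfl⟩ := Submodule.mem_sup.mp h2
      have h3 : (Submodule.mkQ (m * I) (a + b) : P ⧸ (m * I)) = b • Submodule.mkQ (m * I) 1 := by
        rw [← map_smul, smul_eq_mul, mul_one, map_add]
        have : Submodule.mkQ (m * I) a = 0 := by
          rw [Submodule.mkQ_apply, Submodule.Quotient.mk_eq_zero]
          exact ha
        rw [this, zero_add]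
      rw [h3]
      exact Submodule.smul_mem_smul hb Submodule.mem_top
    rw [Ideal.iInf_pow_smul_eq_bot_of_isLocalRing m (maximalIdeal.isMaximal P).ne_top,
      Submodule.mem_bot, Submodule.mkQ_apply, Submodule.Quotient.mk_eq_zero] at h1
    exact h1
  have hbot : I = ⊥ := by
    refine Submodule.eq_bot_of_le_smul_of_le_jacobson_bot m I (IsNoetherian.noetherian I) ?_ ?_
    · rw [smul_eq_mul]; exact hIle
    · rw [IsLocalRing.jacobson_eq_maximalIdeal ⊥ bot_ne_top]
  rw [injective_iff_map_eq_zero]
  intro x hx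
  have : x ∈ I := hx
  rw [hbot] at this
  exact this

end lift

end Groth.Agent.H61.EssFT
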