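import Groth.Prelude.Def_ArtFun5
import Mathlib.RingTheory.Artinian.Ring

/-! Formal elements and truncations (helper61). -/

set_option autoImplicit false
universe u v
open CategoryTheory

namespace Groth.Agent.H61

open ArtFun ArtFun.Art

variable {Λ : Type u} {k : Type u} [CommRing Λ] [Field k] [Algebra Λ k]

/-- the maximal ideal of an object of `Art` is nilpotent -/
theorem art_maximalIdeal_nilpotent (A : Art Λ k) : ∃ n : ℕ, IsLocalRing.maximalIdeal A ^ n = ⊥ := by
  have h : IsNilpotent (Ideal.jacobson (⊥ : Ideal A)) := IsArtinianRing.isNilpotent_jacobson_bot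
  rw [IsLocalRing.jacobson_eq_maximalIdeal ⊥ bot_ne_top] at h
  obtain ⟨n, hn⟩ := h
  exact ⟨n, hn⟩

variable (R : CRing Λ k)

/-- a compatible map sends the maximal ideal into the maximal ideal -/
theorem homSet_map_maximalIdeal {A : Art Λ k} (φ : HomSet R.carrier R.res A) (r : R.carrier)
    (hr : r ∈ IsLocalRing.maximalIdeal R.carrier) : φ.1 r ∈ IsLocalRing.maximalIdeal A := by
  rw [Art.mem_maximalIdeal_iff]
  rw [CRing.mem_maximalIdeal_iff] at hr
  have : A.res (φ.1 r) = R.res r := AlgHom.congr_fun φ.2 r
  rw [this, hr]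

theorem homSet_map_pow {A : Art Λ k} (φ : HomSet R.carrier R.res A) (n : ℕ) (r : R.carrier)
    (hr : r ∈ IsLocalRing.maximalIdeal R.carrier ^ n) : φ.1 r ∈ IsLocalRing.maximalIdeal A ^ n := by
  have h1 : (IsLocalRing.maximalIdeal R.carrier).map φ.1.toRingHom ≤ IsLocalRing.maximalIdeal A := by
    rw [Ideal.map_le_iff_le_comap]
    intro x hx
    exact homSet_map_maximalIdeal R φ x hx
  have h2 : (IsLocalRing.maximalIdeal R.carrier ^ n).map φ.1.toRingHom ≤ IsLocalRing.maximalIdeal A ^ n := by
    rw [Ideal.map_pow]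
    exact Ideal.pow_right_mono h1 n
  exact h2 (Ideal.mem_map_of_mem _ hr)

/-- the general transition map `R/m^(m+1) → R/m^(n+1)` for `n ≤ m` -/
noncomputable def truncLE {n m : ℕ} (h : n ≤ m) : R.trunc m ⟶ R.trunc n :=
  ⟨Ideal.Quotient.liftₐ (CRing.mpow R m) (Ideal.Quotient.mkₐ Λ (CRing.mpow R n)) (fun a ha =>
      Ideal.Quotient.eq_zero_iff_mem.2 (Ideal.pow_le_pow_right (Nat.succ_le_succ h) ha)), by
    apply AlgHom.ext
    intro x
    obtain ⟨a, rfl⟩ := Ideal.Quotient.mk_surjective x
    rfl⟩

theorem truncLE_truncHom {n m : ℕ} (h : n ≤ m) : HomSet.map (truncLE R h) (R.truncHom m) = R.truncHom n :=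
  Subtype.ext (AlgHom.ext fun _ => rfl)

theorem truncHom_surjective (n : ℕ) : Function.Surjective (R.truncHom n).1 :=
  Ideal.Quotient.mk_surjective

/-- two maps out of a truncation agreeing after the quotient map are equal -/
theorem trunc_hom_ext {n : ℕ} {A : Art Λ k} (g g' : R.trunc n ⟶ A)
    (h : HomSet.map g (R.truncHom n) = HomSet.map g' (R.truncHom n)) : g = g' := by
  apply Art.hom_ext
  apply AlgHom.ext
  intro x
  obtain ⟨a, rfl⟩ := truncHom_surjective R n x
  exact congrArg (fun t => t.1 a) h

theorem truncLE_refl (n : ℕ) : truncLE R (le_refl n) = 𝟙 _ := by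
  apply trunc_hom_ext
  rw [truncLE_truncHom]
  exact Subtype.ext (AlgHom.ext fun _ => rfl)

theorem truncLE_succ {n m : ℕ} (h : n ≤ m) :
    truncLE R (Nat.le_succ_of_le h) = R.truncMap m ≫ truncLE R h := by
  apply trunc_hom_ext
  rw [truncLE_truncHom]
  apply Subtype.ext
  apply AlgHom.ext
  intro a
  rfl

/-- compatibility of a formal element along general transition maps -/
theorem formalElt_compat {F : Art Λ k ⥤ Type v} (u : FormalElt F R) {n m : ℕ} (h : n ≤ m) :
    F.map (truncLE R h) (u.elt m) = u.elt n := by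
  induction m, h using Nat.le_induction with
  | base =>
    rw [truncLE_refl, F.map_id]; rfl
  | succ m hm ih =>
    rw [truncLE_succ R hm, F.map_comp]
    change F.map (truncLE R hm) (F.map (R.truncMap m) (u.elt (m + 1))) = u.elt n
    rw [u.compat, ih]

/-- every compatible map to an Artinian object factors through a truncation -/
theorem exists_factor_trunc {A : Art Λ k} (φ : HomSet R.carrier R.res A) :
    ∃ (n : ℕ) (g : R.trunc n ⟶ A), HomSet.map g (R.truncHom n) = φ := by
  obtain ⟨n, hn⟩ := art_maximalIdeal_nilpotent A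
  have hker : ∀ a ∈ CRing.mpow R n, φ.1 a = 0 := by
    intro a ha
    have h1 := homSet_map_pow R φ (n + 1) a ha
    have h2 : IsLocalRing.maximalIdeal A ^ (n + 1) ≤ IsLocalRing.maximalIdeal A ^ n :=
      Ideal.pow_le_pow_right (Nat.le_succ n)
    have h3 := h2 h1
    rw [hn] at h3
    exact h3
  refine ⟨n, ⟨Ideal.Quotient.liftₐ (CRing.mpow R n) φ.1 hker, ?_⟩, ?_⟩
  · apply AlgHom.ext
    intro x
    obtain ⟨a, rfl⟩ := Ideal.Quotient.mk_surjective x
    exact AlgHom.congr_fun φ.2 a
  · exact Subtype.ext (AlgHom.ext fun _ => rfl)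

/-- the value of a formal element on a factorisation does not depend on the factorisation -/
theorem formalElt_factor_indep {F : Art Λ k ⥤ Type v} (u : FormalElt F R) {A : Art Λ k}
    {n n' : ℕ} (g : R.trunc n ⟶ A) (g' : R.trunc n' ⟶ A)
    (h : HomSet.map g (R.truncHom n) = HomSet.map g' (R.truncHom n')) :
    F.map g (u.elt n) = F.map g' (u.elt n') := by
  wlog hnn : n ≤ n' generalizing n n'
  · exact (this g' g h.symm (le_of_not_ge hnn)).symm
  have hg' : g' = truncLE R hnn ≫ g := by
    apply trunc_hom_ext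
    rw [← h]
    have : HomSet.map (truncLE R hnn ≫ g) (R.truncHom n') =
        HomSet.map g (HomSet.map (truncLE R hnn) (R.truncHom n')) :=
      Subtype.ext (AlgHom.ext fun _ => rfl)
    rw [this, truncLE_truncHom]
  rw [hg', F.map_comp]
  change F.map g (u.elt n) = F.map g (F.map (truncLE R hnn) (u.elt n'))
  rw [formalElt_compat]

/-- the family attached to a formal element -/
noncomputable def familyOfFormalElt {F : Art Λ k ⥤ Type v} (u : FormalElt F R) :
    Family R.carrier R.res F where
  app A φ := F.map (exists_factor_trunc R φ).choose_spec.choose (u.elt (exists_factor_trunc R φ).choose)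
  natural {A B} f φ := by
    have h1 := (exists_factor_trunc R φ).choose_spec.choose_spec
    have h2 := (exists_factor_trunc R (HomSet.map f φ)).choose_spec.choose_spec
    have key := formalElt_factor_indep R u (exists_factor_trunc R (HomSet.map f φ)).choose_spec.choose
      ((exists_factor_trunc R φ).choose_spec.choose ≫ f) (by
        rw [h2]
        have : HomSet.map ((exists_factor_trunc R φ).choose_spec.choose ≫ f)
            (R.truncHom (exists_factor_trunc R φ).choose) =
          HomSet.map f (HomSet.map (exists_factor_trunc R φ).choose_spec.choose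
            (R.truncHom (exists_factor_trunc R φ).choose)) :=
          Subtype.ext (AlgHom.ext fun _ => rfl)
        rw [this, h1])
    rw [key, F.map_comp]
    rfl

theorem familyOfFormalElt_app {F : Art Λ k ⥤ Type v} (u : FormalElt F R) {A : Art Λ k}
    (φ : HomSet R.carrier R.res A) {n : ℕ} (g : R.trunc n ⟶ A)
    (h : HomSet.map g (R.truncHom n) = φ) :
    (familyOfFormalElt R u).app A φ = F.map g (u.elt n) := by
  apply formalElt_factor_indep
  rw [h]
  exact (exists_factor_trunc R φ).choose_spec.choose_spec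

theorem family_ext {R' : Type u} [CommRing R'] [Algebra Λ R'] {resR : R' →ₐ[Λ] k}
    {F : Art Λ k ⥤ Type v} {ξ ξ' : Family R' resR F}
    (h : ∀ A φ, ξ.app A φ = ξ'.app A φ) : ξ = ξ' := by
  cases ξ; cases ξ'; congr; funext A φ; exact h A φ

theorem family_app_eq_of_factor {F : Art Λ k ⥤ Type v} (ξ : Family R.carrier R.res F) {A : Art Λ k}
    (φ : HomSet R.carrier R.res A) {n : ℕ} (g : R.trunc n ⟶ A)
    (h : HomSet.map g (R.truncHom n) = φ) :
    ξ.app A φ = F.map g (ξ.toFormalElt.elt n) := by
  rw [← h, ξ.natural]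
  rfl

theorem toFormalElt_bijective (F : Art Λ k ⥤ Type v) :
    Function.Bijective (fun ξ : Family R.carrier R.res F => ξ.toFormalElt) := by
  constructor
  · intro ξ ξ' h
    apply family_ext
    intro A φ
    obtain ⟨n, g, hg⟩ := exists_factor_trunc R φ
    rw [family_app_eq_of_factor R ξ φ g hg, family_app_eq_of_factor R ξ' φ g hg]
    have : ξ.toFormalElt = ξ'.toFormalElt := h
    rw [this]
  · intro u
    refine ⟨familyOfFormalElt R u, ?_⟩
    apply FormalElt.ext'
    intro n
    change (familyOfFormalElt R u).app _ (R.truncHom n) = u.elt n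
    rw [familyOfFormalElt_app R u (R.truncHom n) (𝟙 _) (Subtype.ext (AlgHom.ext fun _ => rfl)), F.map_id]
    rfl

end Groth.Agent.H61
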