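import Groth.Agent.H61.PowerSeriesComplete
import Groth.Agent.H61.ArtFunFormal
import Mathlib.RingTheory.AdicCompletion.Exactness

/-!
# Coefficient rings: quotients and power series (helper61)
-/

set_option autoImplicit false
set_option linter.unusedSectionVars false
universe u v

namespace Groth.Agent.H61

open ArtFun ArtFun.Art

section QuotComplete

variable {R : Type*} [CommRing R] [IsLocalRing R] [IsNoetherianRing R]

/-- A quotient of a complete Noetherian local ring is complete (as a module). -/
theorem isAdicComplete_quotient_module [IsAdicComplete (IsLocalRing.maximalIdeal R) R] (J : Ideal R) :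
    IsAdicComplete (IsLocalRing.maximalIdeal R) (R ⧸ J) := by
  haveI : IsPrecomplete (IsLocalRing.maximalIdeal R) (R ⧸ J) := by
    rw [← AdicCompletion.of_surjective_iff]
    intro y
    obtain ⟨x, hx⟩ := AdicCompletion.map_surjective (IsLocalRing.maximalIdeal R)
      (f := Submodule.mkQ J) (Submodule.mkQ_surjective J) y
    obtain ⟨r, hr⟩ := AdicCompletion.of_surjective (IsLocalRing.maximalIdeal R) R x
    refine ⟨Submodule.mkQ J r, ?_⟩
    rw [← AdicCompletion.map_of, hr, hx]
  exact {}

/-- A quotient of a complete Noetherian local ring is complete. -/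
theorem isAdicComplete_quotient [IsAdicComplete (IsLocalRing.maximalIdeal R) R] (J : Ideal R)
    [IsLocalRing (R ⧸ J)] :
    IsAdicComplete (IsLocalRing.maximalIdeal (R ⧸ J)) (R ⧸ J) := by
  have h1 : (IsLocalRing.maximalIdeal R).map (algebraMap R (R ⧸ J)) =
      IsLocalRing.maximalIdeal (R ⧸ J) :=
    IsLocalRing.map_maximalIdeal_of_surjective (Ideal.Quotient.mk J) Ideal.Quotient.mk_surjective
  rw [← h1, IsAdicComplete.map_algebraMap_iff]
  exact isAdicComplete_quotient_module J

end QuotComplete

variable {Λ : Type u} {k : Type u} [CommRing Λ] [Field k] [Algebra Λ k]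

namespace CRingQ

variable (R : CRing Λ k) (J : Ideal R.carrier) (hJ : J ≤ IsLocalRing.maximalIdeal R.carrier)

include hJ in
theorem ne_top : J ≠ ⊤ :=
  fun h => (IsLocalRing.maximalIdeal.isMaximal R.carrier).ne_top (top_le_iff.1 (h ▸ hJ))

/-- the quotient coefficient ring -/
noncomputable def quot : CRing Λ k :=
  haveI : Nontrivial (R.carrier ⧸ J) := Ideal.Quotient.nontrivial_iff.2 (ne_top R J hJ)
  haveI : IsLocalRing (R.carrier ⧸ J) :=
    IsLocalRing.of_surjective' (Ideal.Quotient.mk J) Ideal.Quotient.mk_surjective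
  haveI := R.isAdicComplete
  { carrier := R.carrier ⧸ J
    res := Ideal.Quotient.liftₐ J R.res (fun a ha => (R.mem_maximalIdeal_iff a).1 (hJ ha))
    res_surjective := fun c => by
      obtain ⟨a, ha⟩ := R.res_surjective c
      exact ⟨Ideal.Quotient.mk J a, ha⟩
    isAdicComplete := isAdicComplete_quotient J }

/-- the quotient map -/
noncomputable def mk : R.carrier →ₐ[Λ] (quot R J hJ).carrier := Ideal.Quotient.mkₐ Λ J

theorem res_comp_mk : (quot R J hJ).res.comp (mk R J hJ) = R.res :=
  Ideal.Quotient.liftₐ_comp _ _ _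

theorem mk_surjective : Function.Surjective (mk R J hJ) := Ideal.Quotient.mk_surjective

theorem mk_eq_zero_iff (a : R.carrier) : mk R J hJ a = 0 ↔ a ∈ J := Ideal.Quotient.eq_zero_iff_mem

/-- descent of maps to the quotient -/
noncomputable def lift {A : Type*} [CommRing A] [Algebra Λ A] (χ : R.carrier →ₐ[Λ] A)
    (h : ∀ a ∈ J, χ a = 0) : (quot R J hJ).carrier →ₐ[Λ] A := Ideal.Quotient.liftₐ J χ h

theorem lift_mk {A : Type*} [CommRing A] [Algebra Λ A] (χ : R.carrier →ₐ[Λ] A)
    (h : ∀ a ∈ J, χ a = 0) (a : R.carrier) : lift R J hJ χ h (mk R J hJ a) = χ a := rfl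

theorem lift_comp_mk {A : Type*} [CommRing A] [Algebra Λ A] (χ : R.carrier →ₐ[Λ] A)
    (h : ∀ a ∈ J, χ a = 0) : (lift R J hJ χ h).comp (mk R J hJ) = χ := AlgHom.ext fun _ => rfl

end CRingQ

end Groth.Agent.H61
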