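import Mathlib.RingTheory.AdicCompletion.Completeness
import Mathlib.RingTheory.AdicCompletion.Noetherian
import Mathlib.RingTheory.MvPowerSeries.Equiv
import Mathlib.RingTheory.MvPowerSeries.Inverse

/-!
# Power series over a complete Noetherian local ring are complete (helper61)

For a Noetherian local ring `Λ` which is complete for its maximal ideal `m`, the power series ring
`P = Λ[[X_1, …, X_r]]` is complete for its maximal ideal `n = (m, X)`.  The key is the description
`n ^ N = {f | coeff α f ∈ m ^ (N - |α|)}`.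
-/

set_option autoImplicit false
set_option linter.unusedSectionVars false

namespace Groth.Agent.H61.PS

open MvPowerSeries

variable {σ : Type*} [Finite σ] {R : Type*} [CommRing R]

theorem map_span_X_eq :
    Ideal.map (toAdicCompletionAlgEquiv σ R).toRingEquiv (Ideal.span (Set.range X)) =
    (MvPolynomial.idealOfVars σ R).map (algebraMap (MvPolynomial σ R)
      (AdicCompletion (MvPolynomial.idealOfVars σ R) (MvPolynomial σ R))) := by
  simp_rw [Ideal.map_span, ← Set.range_comp]
  congr 2; ext1
  simp [AdicCompletion.algebraMap_apply, ← MvPolynomial.coe_X, toAdicCompletion_coe]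

/-- A power series without terms of degree `< N` lies in `(X)^N`. -/
theorem mem_span_X_pow_of_coeff_eq_zero (N : ℕ) (g : MvPowerSeries σ R)
    (hg : ∀ x : σ →₀ ℕ, Finsupp.degree x < N → coeff x g = 0) :
    g ∈ (Ideal.span (Set.range (X : σ → MvPowerSeries σ R))) ^ N := by
  set I := MvPolynomial.idealOfVars σ R with hI
  set e := toAdicCompletionAlgEquiv σ R with he
  have h0 : truncTotal N g = 0 := by
    ext x
    rw [coeff_truncTotal_eq_ite]
    split_ifs with h
    · rw [hg x h]; simp
    · simp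
  have h1 : e g ∈ LinearMap.ker (AdicCompletion.eval I (MvPolynomial σ R) N) := by
    rw [LinearMap.mem_ker, AdicCompletion.eval_apply]
    change (toAdicCompletion σ R g).val N = 0
    rw [toAdicCompletion_apply_eq_mk_truncTotal, h0]
    rfl
  rw [← AdicCompletion.pow_smul_top_eq_ker_eval (MvPolynomial.idealOfVars_fg σ R),
    Ideal.smul_top_eq_map, Submodule.restrictScalars_mem, Ideal.map_pow, ← map_span_X_eq,
    ← Ideal.map_pow] at h1
  obtain ⟨x, hx, hxe⟩ := (Ideal.mem_map_of_equiv _ _).1 h1
  have : x = g := e.injective hxe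
  rw [← this]
  exact hx

/-- `f` minus its truncation lies in `(X)^N`. -/
theorem sub_truncTotal_mem (N : ℕ) (f : MvPowerSeries σ R) :
    f - ((truncTotal N f : MvPolynomial σ R) : MvPowerSeries σ R) ∈
      (Ideal.span (Set.range (X : σ → MvPowerSeries σ R))) ^ N := by
  apply mem_span_X_pow_of_coeff_eq_zero
  intro x hx
  rw [map_sub, MvPolynomial.coeff_coe, coeff_truncTotal _ hx, sub_self]

section Local

variable [IsLocalRing R]

theorem mem_maximalIdeal_iff (f : MvPowerSeries σ R) :
    f ∈ IsLocalRing.maximalIdeal (MvPowerSeries σ R) ↔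
      constantCoeff f ∈ IsLocalRing.maximalIdeal R := by
  rw [IsLocalRing.mem_maximalIdeal, IsLocalRing.mem_maximalIdeal, mem_nonunits_iff,
    mem_nonunits_iff, isUnit_iff_constantCoeff]

theorem X_mem_maximalIdeal (i : σ) :
    (X i : MvPowerSeries σ R) ∈ IsLocalRing.maximalIdeal (MvPowerSeries σ R) := by
  rw [mem_maximalIdeal_iff, constantCoeff_X]
  exact Ideal.zero_mem _

theorem span_X_le : Ideal.span (Set.range (X : σ → MvPowerSeries σ R)) ≤
    IsLocalRing.maximalIdeal (MvPowerSeries σ R) := by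
  rw [Ideal.span_le]
  rintro _ ⟨i, rfl⟩
  exact X_mem_maximalIdeal i

theorem C_mem_pow {j : ℕ} {c : R} (hc : c ∈ IsLocalRing.maximalIdeal R ^ j) :
    (C c : MvPowerSeries σ R) ∈ IsLocalRing.maximalIdeal (MvPowerSeries σ R) ^ j := by
  have h1 : Ideal.map (C : R →+* MvPowerSeries σ R) (IsLocalRing.maximalIdeal R) ≤
      IsLocalRing.maximalIdeal (MvPowerSeries σ R) := by
    rw [Ideal.map_le_iff_le_comap]
    intro x hx
    rw [Ideal.mem_comap, mem_maximalIdeal_iff, constantCoeff_C]
    exact hx
  have h2 := Ideal.mem_map_of_mem (C : R →+* MvPowerSeries σ R) hc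
  rw [Ideal.map_pow] at h2
  exact Ideal.pow_right_mono h1 j h2

/-- The filtration `{f | coeff α f ∈ m ^ (N - |α|)}`. -/
def filt (N : ℕ) : Ideal (MvPowerSeries σ R) where
  carrier := {f | ∀ α : σ →₀ ℕ, coeff α f ∈ IsLocalRing.maximalIdeal R ^ (N - Finsupp.degree α)}
  add_mem' := by
    intro f g hf hg α
    rw [map_add]
    exact Ideal.add_mem _ (hf α) (hg α)
  zero_mem' := by
    intro α
    rw [map_zero]
    exact Ideal.zero_mem _
  smul_mem' := by
    classical
    intro c f hf α
    rw [smul_eq_mul, coeff_mul]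
    refine Ideal.sum_mem _ fun p hp => ?_
    have hp' : p.1 + p.2 = α := Finset.mem_antidiagonal.1 hp
    have hdeg : Finsupp.degree α = Finsupp.degree p.1 + Finsupp.degree p.2 := by
      rw [← hp', map_add]
    apply Ideal.mul_mem_left
    exact Ideal.pow_le_pow_right (by omega) (hf p.2)

theorem mem_filt {N : ℕ} {f : MvPowerSeries σ R} :
    f ∈ filt (σ := σ) (R := R) N ↔
      ∀ α : σ →₀ ℕ, coeff α f ∈ IsLocalRing.maximalIdeal R ^ (N - Finsupp.degree α) := Iff.rfl

theorem filt_mul_le (a b : ℕ) : filt (σ := σ) (R := R) a * filt b ≤ filt (a + b) := by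
  classical
  rw [Ideal.mul_le]
  intro f hf g hg α
  rw [coeff_mul]
  refine Ideal.sum_mem _ fun p hp => ?_
  have hp' : p.1 + p.2 = α := Finset.mem_antidiagonal.1 hp
  have hdeg : Finsupp.degree α = Finsupp.degree p.1 + Finsupp.degree p.2 := by
    rw [← hp', map_add]
  have h1 := Ideal.mul_mem_mul (hf p.1) (hg p.2)
  rw [← pow_add] at h1
  exact Ideal.pow_le_pow_right (by omega) h1

theorem maximalIdeal_le_filt_one :
    IsLocalRing.maximalIdeal (MvPowerSeries σ R) ≤ filt (σ := σ) (R := R) 1 := by
  intro f hf α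
  by_cases hα : α = 0
  · subst hα
    rw [map_zero, Nat.sub_zero, pow_one, coeff_zero_eq_constantCoeff_apply]
    exact (mem_maximalIdeal_iff f).1 hf
  · have : 1 - Finsupp.degree α = 0 := by
      have : Finsupp.degree α ≠ 0 := fun h => hα ((Finsupp.degree_eq_zero_iff α).1 h)
      omega
    rw [this, pow_zero, Ideal.one_eq_top]
    exact Submodule.mem_top

theorem pow_le_filt (N : ℕ) :
    IsLocalRing.maximalIdeal (MvPowerSeries σ R) ^ N ≤ filt (σ := σ) (R := R) N := by
  induction N with
  | zero =>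
    intro f _ α
    rw [Nat.zero_sub, pow_zero, Ideal.one_eq_top]
    exact Submodule.mem_top
  | succ N ih =>
    rw [pow_succ]
    exact (Ideal.mul_mono ih maximalIdeal_le_filt_one).trans (filt_mul_le N 1)

theorem monomial_mem_pow {N : ℕ} (x : σ →₀ ℕ) (hx : Finsupp.degree x ≤ N) {c : R}
    (hc : c ∈ IsLocalRing.maximalIdeal R ^ (N - Finsupp.degree x)) :
    (monomial x c : MvPowerSeries σ R) ∈ IsLocalRing.maximalIdeal (MvPowerSeries σ R) ^ N := by
  classical
  have h1 : (monomial x c : MvPowerSeries σ R) = C c * monomial x 1 := by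
    rw [← monomial_zero_eq_C_apply, monomial_mul_monomial, zero_add, mul_one]
  have h2 : (monomial x (1 : R) : MvPowerSeries σ R) ∈
      IsLocalRing.maximalIdeal (MvPowerSeries σ R) ^ (Finsupp.degree x) := by
    apply Ideal.pow_right_mono span_X_le
    apply mem_span_X_pow_of_coeff_eq_zero
    intro y hy
    rw [coeff_monomial, if_neg]
    rintro rfl
    exact lt_irrefl _ hy
  have h3 := Ideal.mul_mem_mul (C_mem_pow (σ := σ) hc) h2
  rw [← pow_add, Nat.sub_add_cancel hx] at h3
  rw [h1]
  exact h3

theorem filt_le_pow (N : ℕ) :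
    filt (σ := σ) (R := R) N ≤ IsLocalRing.maximalIdeal (MvPowerSeries σ R) ^ N := by
  intro f hf
  have h1 : f = (f - ((truncTotal N f : MvPolynomial σ R) : MvPowerSeries σ R)) +
      ((truncTotal N f : MvPolynomial σ R) : MvPowerSeries σ R) := by ring
  rw [h1]
  refine Ideal.add_mem _ (Ideal.pow_right_mono span_X_le N (sub_truncTotal_mem N f)) ?_
  rw [MvPolynomial.as_sum (truncTotal N f)]
  rw [← MvPolynomial.coeToMvPowerSeries.ringHom_apply, map_sum]
  refine Ideal.sum_mem _ fun x hx => ?_
  rw [MvPolynomial.coeToMvPowerSeries.ringHom_apply, MvPolynomial.coe_monomial]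
  have hx' : Finsupp.degree x < N := by
    by_contra hcon
    rw [MvPolynomial.mem_support_iff, coeff_truncTotal_eq_zero _ (not_lt.1 hcon)] at hx
    exact hx rfl
  apply monomial_mem_pow x hx'.le
  rw [coeff_truncTotal _ hx']
  exact hf x

theorem pow_eq_filt (N : ℕ) :
    IsLocalRing.maximalIdeal (MvPowerSeries σ R) ^ N = filt (σ := σ) (R := R) N :=
  le_antisymm (pow_le_filt N) (filt_le_pow N)

theorem isPrecomplete [IsPrecomplete (IsLocalRing.maximalIdeal R) R] :
    IsPrecomplete (IsLocalRing.maximalIdeal (MvPowerSeries σ R)) (MvPowerSeries σ R) := by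
  refine ⟨fun f hf => ?_⟩
  have hf' : ∀ {a b : ℕ}, a ≤ b →
      f a - f b ∈ IsLocalRing.maximalIdeal (MvPowerSeries σ R) ^ a := by
    intro a b hab
    have := hf hab
    rwa [SModEq.sub_mem, smul_eq_mul, Ideal.mul_top] at this
  -- the coefficient sequences
  have hc : ∀ α : σ →₀ ℕ, ∃ L : R, ∀ i : ℕ,
      coeff α (f (i + Finsupp.degree α)) ≡ L
        [SMOD (IsLocalRing.maximalIdeal R ^ i • ⊤ : Submodule R R)] := by
    intro α
    apply IsPrecomplete.prec'
    intro i j hij
    rw [SModEq.sub_mem, smul_eq_mul, Ideal.mul_top, ← map_sub]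
    have h1 := pow_le_filt _ (hf' (show i + Finsupp.degree α ≤ j + Finsupp.degree α by omega)) α
    rwa [Nat.add_sub_cancel] at h1
  choose L hL using hc
  let Lf : MvPowerSeries σ R := fun α => L α
  refine ⟨Lf, fun N => ?_⟩
  rw [SModEq.sub_mem, smul_eq_mul, Ideal.mul_top, pow_eq_filt]
  intro α
  by_cases hα : Finsupp.degree α ≤ N
  · have h1 := hL α (N - Finsupp.degree α)
    rw [SModEq.sub_mem, smul_eq_mul, Ideal.mul_top, Nat.sub_add_cancel hα] at h1
    rw [map_sub, coeff_apply Lf]
    exact h1
  · have : N - Finsupp.degree α = 0 := by omega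
    rw [this, pow_zero, Ideal.one_eq_top]
    exact Submodule.mem_top

instance isAdicComplete [IsNoetherianRing R] [IsAdicComplete (IsLocalRing.maximalIdeal R) R] :
    IsAdicComplete (IsLocalRing.maximalIdeal (MvPowerSeries σ R)) (MvPowerSeries σ R) :=
  { toIsHausdorff := inferInstance
    toIsPrecomplete := isPrecomplete }

end Local

end Groth.Agent.H61.PS
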