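import Groth.Agent.H61.ObsDim
import Mathlib.RingTheory.RegularLocalRing.Defs
import Mathlib.RingTheory.KrullDimension.NonZeroDivisors
import Mathlib.RingTheory.MvPowerSeries.NoZeroDivisors

/-!
# Dimension estimates from an obstruction theory (helper61)
-/

set_option autoImplicit false
set_option linter.unusedSectionVars false
set_option linter.style.haveILetI false
universe u v

namespace Groth.Agent.H61.Obs

open CategoryTheory ArtFun ArtFun.Art TensorProduct Groth.Agent.H63 MvPowerSeries

variable {k : Type u} [Field k]

theorem field_isAdicComplete (k : Type u) [Field k] :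
    IsAdicComplete (IsLocalRing.maximalIdeal k) k := by
  rw [IsLocalRing.maximalIdeal_eq_bot]
  infer_instance

attribute [local instance] field_isAdicComplete

theorem surj_id (k : Type u) [Field k] : Function.Surjective (algebraMap k k) := fun c => ⟨c, rfl⟩

section PSDim

theorem ps_field_maximalIdeal_eq (n : ℕ) :
    IsLocalRing.maximalIdeal (MvPowerSeries (Fin n) k) =
      Ideal.span (Set.range (X : Fin n → MvPowerSeries (Fin n) k)) := by
  apply le_antisymm
  · intro f hf
    rw [PS.mem_maximalIdeal_iff, IsLocalRing.maximalIdeal_eq_bot, Ideal.mem_bot] at hf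
    have h1 := PS.mem_span_X_pow_of_coeff_eq_zero 1 f (fun x hx => by
      have hx0 : x = 0 := (Finsupp.degree_eq_zero_iff x).1 (by omega)
      rw [hx0, coeff_zero_eq_constantCoeff_apply]
      exact hf)
    rwa [pow_one] at h1
  · exact PS.span_X_le

theorem ps_spanFinrank_le (n : ℕ) :
    (IsLocalRing.maximalIdeal (MvPowerSeries (Fin n) k)).spanFinrank ≤ n := by
  rw [ps_field_maximalIdeal_eq]
  refine (Submodule.spanFinrank_span_le_ncard_of_finite (Set.finite_range _)).trans ?_
  rw [← Set.image_univ]
  refine (Set.ncard_image_le (Set.finite_univ)).trans ?_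
  rw [Set.ncard_univ, Nat.card_fin]

theorem ps_dim_ge (n : ℕ) : (n : WithBot ℕ∞) ≤ ringKrullDim (MvPowerSeries (Fin n) k) := by
  induction n with
  | zero => exact_mod_cast ringKrullDim_nonneg_of_nontrivial
  | succ n ih =>
    have hxm : ∀ i : Fin (n + 1),
        (Fin.lastCases (0 : MvPowerSeries (Fin n) k) (fun j => (X j : MvPowerSeries (Fin n) k)) i) ∈
          IsLocalRing.maximalIdeal (psCRing (surj_id k) n).carrier := by
      intro i
      refine Fin.lastCases ?_ (fun j => ?_) i
      · rw [Fin.lastCases_last]
        exact Ideal.zero_mem _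
      · rw [Fin.lastCases_castSucc]
        exact PS.X_mem_maximalIdeal j
    obtain ⟨g, hg, hgx⟩ := ps_exists_hom_cring (surj_id k) (n + 1) (psCRing (surj_id k) n)
      (fun i => Fin.lastCases (0 : MvPowerSeries (Fin n) k)
        (fun j => (X j : MvPowerSeries (Fin n) k)) i) hxm
    have hgs : Function.Surjective g := by
      apply ((Groth.Agent.S12714.result (psCRing (surj_id k) (n + 1)) (psCRing (surj_id k) n) g
        hg).out 1 0).1
      apply le_antisymm
      · refine sup_le ?_ (Ideal.pow_le_self two_ne_zero)
        exact Ideal.map_le_iff_le_comap.2 (CRing.maximalIdeal_le_comap g hg)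
      · refine le_sup_of_le_left ?_
        have h1 : IsLocalRing.maximalIdeal (psCRing (surj_id k) n).carrier =
            Ideal.span (Set.range (X : Fin n → MvPowerSeries (Fin n) k)) :=
          ps_field_maximalIdeal_eq n
        rw [h1]
        refine Ideal.span_le.2 ?_
        rintro _ ⟨j, rfl⟩
        have h2 := hgx (Fin.castSucc j)
        rw [Fin.lastCases_castSucc] at h2
        rw [SetLike.mem_coe, ← h2]
        exact Ideal.mem_map_of_mem _ (psX_mem (surj_id k) (n + 1) (Fin.castSucc j))
    have hlast : g (X (Fin.last n) : MvPowerSeries (Fin (n + 1)) k) = 0 := by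
      have h2 := hgx (Fin.last n)
      rw [Fin.lastCases_last] at h2
      exact h2
    have h := ringKrullDim_succ_le_of_surjective (g : MvPowerSeries (Fin (n + 1)) k →+*
      MvPowerSeries (Fin n) k) hgs (X_mem_nonzeroDivisors (i := Fin.last n)) hlast
    calc ((n + 1 : ℕ) : WithBot ℕ∞) = (n : WithBot ℕ∞) + 1 := by push_cast; rfl
      _ ≤ ringKrullDim (MvPowerSeries (Fin n) k) + 1 := by gcongr
      _ ≤ ringKrullDim (MvPowerSeries (Fin (n + 1)) k) := h

theorem ps_isRegularLocalRing (n : ℕ) : IsRegularLocalRing (MvPowerSeries (Fin n) k) := by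
  haveI : IsNoetherianRing (MvPowerSeries (Fin n) k) := (psCRing (surj_id k) n).isNoetherianRing
  apply IsRegularLocalRing.of_spanFinrank_maximalIdeal_le
  exact (Nat.mono_cast (ps_spanFinrank_le n)).trans (ps_dim_ge n)

theorem ps_dim_eq (n : ℕ) : ringKrullDim (MvPowerSeries (Fin n) k) = n := by
  haveI : IsNoetherianRing (MvPowerSeries (Fin n) k) := (psCRing (surj_id k) n).isNoetherianRing
  apply le_antisymm _ (ps_dim_ge n)
  exact (ringKrullDim_le_spanFinrank_maximalIdeal _).trans (Nat.mono_cast (ps_spanFinrank_le n))

end PSDim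

section Bounds

/-- **Dimension estimates**: a complete local `k`-algebra whose functor of points has an obstruction
theory with values in a finite-dimensional space. -/
theorem bounds_of_obs (R : CRing k k) {V : Type u} [AddCommGroup V] [Module k V]
    [Module.Finite k V] (T : ObsTheory (hR R.carrier R.res) V) :
    ringKrullDim R.carrier ≤
        (Module.finrank (IsLocalRing.ResidueField R.carrier)
          (IsLocalRing.CotangentSpace R.carrier) : WithBot ℕ∞) ∧
      (Module.finrank (IsLocalRing.ResidueField R.carrier)
          (IsLocalRing.CotangentSpace R.carrier) : WithBot ℕ∞) ≤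
          ringKrullDim R.carrier + (Module.finrank k V : WithBot ℕ∞) ∧
      (Module.finrank k V = 0 → IsRegularLocalRing R.carrier) ∧
      (ringKrullDim R.carrier + (Module.finrank k V : WithBot ℕ∞) =
          (Module.finrank (IsLocalRing.ResidueField R.carrier)
            (IsLocalRing.CotangentSpace R.carrier) : WithBot ℕ∞) →
        ∃ (P : Type u) (_ : CommRing P) (_ : IsRegularLocalRing P) (π : P →+* R.carrier)
          (s : Finset P),
          Function.Surjective π ∧ Ideal.span (s : Set P) = RingHom.ker π ∧
            ringKrullDim P = ringKrullDim R.carrier + (s.card : WithBot ℕ∞)) := by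
  classical
  rw [← IsLocalRing.spanFinrank_maximalIdeal_eq_finrank_cotangentSpace R.carrier]
  obtain ⟨n, g, hg, hgs, hker⟩ := exists_min_presentation_cring (surj_id k) R
  have hJ : RingHom.ker g ≤ IsLocalRing.maximalIdeal (psCRing (surj_id k) n).carrier ^ 2 := by
    refine hker.trans ?_
    rw [IsLocalRing.maximalIdeal_eq_bot (R := k), Ideal.map_bot, sup_bot_eq]
  obtain ⟨ã, hã⟩ := exists_span_of_obs (psCRing (surj_id k) n) R g hgs hg hJ T
    (Module.finBasis k V)
  have hfg : (RingHom.ker g).FG := IsNoetherian.noetherian _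
  -- the number of relations
  have hμ : (RingHom.ker g).spanFinrank ≤ Module.finrank k V := by
    rw [hã]
    refine (Submodule.spanFinrank_span_le_ncard_of_finite (Set.finite_range _)).trans ?_
    rw [← Set.image_univ]
    refine (Set.ncard_image_le (Set.finite_univ)).trans ?_
    rw [Set.ncard_univ, Nat.card_fin]
  -- the embedding dimension
  have he : (IsLocalRing.maximalIdeal R.carrier).spanFinrank ≤ n := by
    have h1 : IsLocalRing.maximalIdeal R.carrier =
        Ideal.map (g : MvPowerSeries (Fin n) k →+* R.carrier)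
          (IsLocalRing.maximalIdeal (MvPowerSeries (Fin n) k)) :=
      (IsLocalRing.map_maximalIdeal_of_surjective (g : MvPowerSeries (Fin n) k →+* R.carrier)
        hgs).symm
    rw [h1]
    haveI : IsNoetherianRing (MvPowerSeries (Fin n) k) :=
      (psCRing (surj_id k) n).isNoetherianRing
    exact (Ideal.spanFinrank_map_le_of_fg _ (IsNoetherian.noetherian _)).trans
      (ps_spanFinrank_le n)
  -- Krull
  have hdimq : ringKrullDim (MvPowerSeries (Fin n) k ⧸ RingHom.ker g) = ringKrullDim R.carrier :=
    ringKrullDim_eq_of_ringEquiv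
      (RingHom.quotientKerEquivOfSurjective (f := (g : MvPowerSeries (Fin n) k →+* R.carrier)) hgs)
  have hkrull : (n : WithBot ℕ∞) ≤ ringKrullDim R.carrier +
      ((RingHom.ker g).spanFinrank : WithBot ℕ∞) := by
    haveI : IsNoetherianRing (MvPowerSeries (Fin n) k) :=
      (psCRing (surj_id k) n).isNoetherianRing
    have h1 := ringKrullDim_le_ringKrullDim_quotient_add_spanFinrank (RingHom.ker g) (by
      rw [IsLocalRing.ringJacobson_eq_maximalIdeal]
      exact hJ.trans (Ideal.pow_le_self two_ne_zero))
    rw [ps_dim_eq, hdimq] at h1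
    exact h1
  have hμ' : ringKrullDim R.carrier + ((RingHom.ker g).spanFinrank : WithBot ℕ∞) ≤
      ringKrullDim R.carrier + (Module.finrank k V : WithBot ℕ∞) := by
    gcongr
  refine ⟨ringKrullDim_le_spanFinrank_maximalIdeal R.carrier,
    (Nat.mono_cast he).trans (hkrull.trans hμ'), ?_, ?_⟩
  · intro h0
    have h1 : (RingHom.ker g).spanFinrank = 0 := Nat.le_zero.1 (h0 ▸ hμ)
    have h2 : RingHom.ker g = ⊥ := (Submodule.spanFinrank_eq_zero_iff_eq_bot hfg).1 h1
    have hinj : Function.Injective g := (RingHom.injective_iff_ker_eq_bot _).2 h2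
    haveI := ps_isRegularLocalRing (k := k) n
    exact IsRegularLocalRing.of_ringEquiv
      (RingEquiv.ofBijective (g : MvPowerSeries (Fin n) k →+* R.carrier) ⟨hinj, hgs⟩)
  · intro heq
    obtain ⟨s, hs, hscard⟩ := Submodule.FG.exists_span_finset_card_eq_spanFinrank hfg
    refine ⟨MvPowerSeries (Fin n) k, inferInstance, ps_isRegularLocalRing n,
      (g : MvPowerSeries (Fin n) k →+* R.carrier), s, hgs, hscard, ?_⟩
    rw [ps_dim_eq, hs]
    apply le_antisymm hkrull
    rw [heq] at hμ'
    exact hμ'.trans (Nat.mono_cast he)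

end Bounds

end Groth.Agent.H61.Obs
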