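import Groth.Agent.H61.ObsDimMain

/-!
# Power series presentations on a basis of the cotangent space (helper61)
-/

set_option autoImplicit false
set_option linter.unusedSectionVars false
set_option linter.style.haveILetI false
universe u v

namespace Groth.Agent.H61.CotB

open CategoryTheory ArtFun ArtFun.Art Groth.Agent.H63 MvPowerSeries Groth.Agent.H61.Obs

attribute [local instance] field_isAdicComplete

variable (k : Type u) [Field k] (R : Type u) [CommRing R] [IsLocalRing R] [IsNoetherianRing R]
  [Algebra k R] [IsAdicComplete (IsLocalRing.maximalIdeal R) R]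
  (hkR : Function.Surjective ((IsLocalRing.residue R).comp (algebraMap k R)))

/-- the identification of `k` with the residue field -/
noncomputable def eRes : k ≃+* IsLocalRing.ResidueField R :=
  RingEquiv.ofBijective ((IsLocalRing.residue R).comp (algebraMap k R))
    ⟨RingHom.injective _, hkR⟩

theorem eRes_apply (c : k) : eRes k R hkR c = IsLocalRing.residue R (algebraMap k R c) := rfl

/-- the augmentation -/
noncomputable def resHom : R →ₐ[k] k :=
  { toRingHom := (eRes k R hkR).symm.toRingHom.comp (IsLocalRing.residue R)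
    commutes' := fun c => (eRes k R hkR).symm_apply_apply c }

theorem resHom_apply (x : R) : resHom k R hkR x = (eRes k R hkR).symm (IsLocalRing.residue R x) := rfl

/-- `R` as a coefficient ring -/
noncomputable abbrev toCRing : CRing k k :=
  { carrier := R
    res := resHom k R hkR
    res_surjective := fun c => ⟨algebraMap k R c, (resHom k R hkR).commutes c⟩
    isAdicComplete := inferInstance }

variable {d : ℕ} (ψ : MvPowerSeries (Fin d) k →ₐ[k] R)
  (hψ : ∀ i : Fin d, ψ (MvPowerSeries.X i) ∈ IsLocalRing.maximalIdeal R)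

theorem res_comp : (toCRing k R hkR).res.comp ψ = (psCRing (surj_id k) d).res :=
  algHom_to_field_unique _ _

include hkR in
theorem map_max_le : Ideal.map ψ (IsLocalRing.maximalIdeal (MvPowerSeries (Fin d) k)) ≤
    IsLocalRing.maximalIdeal R :=
  Ideal.map_le_iff_le_comap.2
    (CRing.maximalIdeal_le_comap (R' := psCRing (surj_id k) d) (R := toCRing k R hkR) ψ
      (res_comp k R hkR ψ))

theorem smul_toCotangent (c : k) (y : IsLocalRing.maximalIdeal R) :
    (IsLocalRing.residue R (algebraMap k R c)) • (IsLocalRing.maximalIdeal R).toCotangent y =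
      (IsLocalRing.maximalIdeal R).toCotangent ((algebraMap k R c) • y) := by
  rw [map_smul]
  exact (algebraMap_smul (IsLocalRing.ResidueField R) (algebraMap k R c)
    ((IsLocalRing.maximalIdeal R).toCotangent y))

include hkR in
/-- surjectivity from spanning -/
theorem surjective_of_span
    (hsp : Submodule.span (IsLocalRing.ResidueField R)
      (Set.range (fun i : Fin d => (IsLocalRing.maximalIdeal R).toCotangent
        ⟨ψ (MvPowerSeries.X i), hψ i⟩)) = ⊤) : Function.Surjective ψ := by
  apply ((Groth.Agent.S12714.result (psCRing (surj_id k) d) (toCRing k R hkR) ψ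
    (res_comp k R hkR ψ)).out 1 0).1
  apply le_antisymm
  · exact sup_le (map_max_le k R hkR ψ) (Ideal.pow_le_self two_ne_zero)
  · intro x hx
    have hmem : (IsLocalRing.maximalIdeal R).toCotangent ⟨x, hx⟩ ∈
        Submodule.span (IsLocalRing.ResidueField R)
          (Set.range (fun i : Fin d => (IsLocalRing.maximalIdeal R).toCotangent
            ⟨ψ (MvPowerSeries.X i), hψ i⟩)) := by
      rw [hsp]
      exact Submodule.mem_top
    obtain ⟨cbar, hc⟩ := (Submodule.mem_span_range_iff_exists_fun _).1 hmem
    choose c hcc using fun i => hkR (cbar i)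
    have hcc' : ∀ i, IsLocalRing.residue R (algebraMap k R (c i)) = cbar i := hcc
    set y : IsLocalRing.maximalIdeal R :=
      ∑ i, (algebraMap k R (c i)) • (⟨ψ (MvPowerSeries.X i), hψ i⟩ : IsLocalRing.maximalIdeal R)
      with hy
    have h1 : (IsLocalRing.maximalIdeal R).toCotangent ⟨x, hx⟩ =
        (IsLocalRing.maximalIdeal R).toCotangent y := by
      rw [← hc, hy, map_sum]
      refine Finset.sum_congr rfl fun i _ => ?_
      rw [← hcc' i, smul_toCotangent]
    rw [Ideal.toCotangent_eq] at h1
    have hyv : (y : R) = ψ (∑ i, C (c i) * X i) := by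
      rw [hy, map_sum]
      simp only [AddSubmonoidClass.coe_finsetSum, Submodule.coe_smul, smul_eq_mul]
      refine Finset.sum_congr rfl fun i _ => ?_
      rw [map_mul]
      congr 1
      have : (C (c i) : MvPowerSeries (Fin d) k) = algebraMap k (MvPowerSeries (Fin d) k) (c i) := by
        rw [MvPowerSeries.algebraMap_apply]; rfl
      rw [this]
      exact (ψ.commutes (c i)).symm
    have e : x = (y : R) + (x - (y : R)) := by ring
    rw [e]
    refine Submodule.add_mem_sup ?_ h1
    rw [hyv]
    apply Ideal.mem_map_of_mem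
    refine Ideal.sum_mem _ fun i _ => ?_
    exact Ideal.mul_mem_left _ _ (PS.X_mem_maximalIdeal i)

include hkR in
/-- the kernel from linear independence -/
theorem ker_le_of_linearIndependent
    (hb : LinearIndependent (IsLocalRing.ResidueField R)
      (fun i : Fin d => (IsLocalRing.maximalIdeal R).toCotangent ⟨ψ (MvPowerSeries.X i), hψ i⟩)) :
    RingHom.ker ψ.toRingHom ≤ IsLocalRing.maximalIdeal (MvPowerSeries (Fin d) k) ^ 2 := by
  classical
  intro f hf
  have hf0 : ψ f = 0 := RingHom.mem_ker.1 hf
  set c₀ : k := constantCoeff f with hc₀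
  set a : Fin d → k := fun i => coeff (Finsupp.single i 1) f with ha
  have hg := ps_sub_lin_mem f
  have hg' : ψ (f - C c₀ - ∑ i, C (a i) * X i) ∈ IsLocalRing.maximalIdeal R ^ 2 := by
    have h1 := Ideal.mem_map_of_mem ψ (Ideal.pow_right_mono PS.span_X_le 2 hg)
    rw [Ideal.map_pow] at h1
    exact Ideal.pow_right_mono (map_max_le k R hkR ψ) 2 h1
  have hC : ∀ c : k, ψ (C c : MvPowerSeries (Fin d) k) = algebraMap k R c := by
    intro c
    have : (C c : MvPowerSeries (Fin d) k) = algebraMap k (MvPowerSeries (Fin d) k) c := by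
      rw [MvPowerSeries.algebraMap_apply]; rfl
    rw [this]
    exact ψ.commutes c
  have hc₀0 : c₀ = 0 := by
    have h1 : (toCRing k R hkR).res (ψ f) = (psCRing (surj_id k) d).res f :=
      CRing.res_comp_apply (R' := psCRing (surj_id k) d) (R := toCRing k R hkR) ψ (res_comp k R hkR ψ) f
    rw [hf0, map_zero] at h1
    exact h1.symm
  have hexp : ψ (f - C c₀ - ∑ i, C (a i) * X i) =
      - ∑ i, algebraMap k R (a i) * ψ (X i) := by
    rw [map_sub, map_sub, map_sum, hf0, hC, hc₀0, map_zero, sub_zero, zero_sub]
    congr 1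
    refine Finset.sum_congr rfl fun i _ => ?_
    rw [map_mul, hC]
  have hs : ∑ i, algebraMap k R (a i) * ψ (X i) ∈ IsLocalRing.maximalIdeal R ^ 2 := by
    have h1 := neg_mem hg'
    rw [hexp, neg_neg] at h1
    exact h1
  -- pass to the cotangent space
  set y : IsLocalRing.maximalIdeal R :=
    ∑ i, (algebraMap k R (a i)) • (⟨ψ (MvPowerSeries.X i), hψ i⟩ : IsLocalRing.maximalIdeal R)
    with hy
  have hyv : (y : R) = ∑ i, algebraMap k R (a i) * ψ (X i) := by
    rw [hy]
    simp only [AddSubmonoidClass.coe_finsetSum, Submodule.coe_smul, smul_eq_mul]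
  have hy0 : (IsLocalRing.maximalIdeal R).toCotangent y = 0 := by
    rw [Ideal.toCotangent_eq_zero, hyv]
    exact hs
  have hlin : ∑ i, (IsLocalRing.residue R (algebraMap k R (a i))) •
      (IsLocalRing.maximalIdeal R).toCotangent ⟨ψ (MvPowerSeries.X i), hψ i⟩ = 0 := by
    rw [← hy0, hy, map_sum]
    refine Finset.sum_congr rfl fun i _ => ?_
    rw [smul_toCotangent]
  have hzero := Fintype.linearIndependent_iff.1 hb _ hlin
  have ha0 : ∀ i, a i = 0 := by
    intro i
    have h1 := hzero i
    have h2 : eRes k R hkR (a i) = 0 := h1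
    exact (map_eq_zero_iff (eRes k R hkR) (eRes k R hkR).injective).1 h2
  have hfg : f = f - C c₀ - ∑ i, C (a i) * X i := by
    rw [hc₀0, map_zero, sub_zero]
    have : ∑ i, C (a i) * (X i : MvPowerSeries (Fin d) k) = 0 := by
      refine Finset.sum_eq_zero fun i _ => ?_
      rw [ha0 i, map_zero, zero_mul]
    rw [this, sub_zero]
  rw [hfg]
  exact Ideal.pow_right_mono PS.span_X_le 2 hg

end Groth.Agent.H61.CotB
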