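/-
Morphisms of "T²-data" between two presentations of the same algebra `B` (possibly over different base
rings), the induced maps on `L₁`, `L₂`, `T²`, identity and composition (helper61).
-/
import Groth.Prelude.Def_CotT2

set_option autoImplicit false

noncomputable section

namespace Groth.Agent.H61.CotT2

open TensorProduct CotT

universe u v w t u' w' t' u'' w'' t'' m n n'

section TMap

variable {R : Type u} {B : Type v} {R' : Type u'}
variable [CommRing R] [CommRing B] [Algebra R B] [CommRing R'] [Algebra R' B]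
variable (τ : R →+* R') (hτ : ∀ r, algebraMap R' B (τ r) = algebraMap R B r)
variable {N : Type n} {N' : Type n'} [AddCommMonoid N] [Module R N] [AddCommMonoid N'] [Module R' N']
variable (g : N →ₛₗ[τ] N')

/-- `B ⊗_R N → B ⊗_{R'} N'`, `b ⊗ x ↦ b ⊗ g x`, as a `B`-linear map. -/
def tmap : B ⊗[R] N →ₗ[B] B ⊗[R'] N' where
  toFun := CotT.tensorMap (B := B) (B' := B) τ hτ g
  map_add' x y := map_add _ x y
  map_smul' b z := by
    rw [LinearMap.map_smulₛₗ]
    rfl

@[simp] lemma tmap_tmul (b : B) (x : N) : tmap τ hτ g (b ⊗ₜ x) = b ⊗ₜ g x := rfl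

end TMap

variable {A : Type u} {B : Type v} {ι : Type w} {σ : Type t}
variable {A' : Type u'} {ι' : Type w'} {σ' : Type t'}
variable {A'' : Type u''} {ι'' : Type w''} {σ'' : Type t''}
variable [CommRing A] [CommRing B] [Algebra A B] [CommRing A'] [Algebra A' B] [CommRing A''] [Algebra A'' B]
variable (P : Algebra.Presentation A B ι σ) (P' : Algebra.Presentation A' B ι' σ')
variable (P'' : Algebra.Presentation A'' B ι'' σ'')

/-- A morphism of the data computing `T²`: a ring map `R → R'` over `B` and a semilinear lift `F → F'`. -/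
structure T2Hom where
  /-- the ring map -/
  ringHom : P.toExtension.Ring →+* P'.toExtension.Ring
  algebraMap_ringHom : ∀ x, algebraMap P'.toExtension.Ring B (ringHom x) = algebraMap P.toExtension.Ring B x
  /-- the map on the free modules on the relations -/
  relModMap : relMod P →ₛₗ[ringHom] relMod P'
  jmap_relModMap : ∀ f, jmap P' (relModMap f) = ringHom (jmap P f)

/-- the semilinear map `F → F'` with prescribed values on the basis -/
def slc (φ : P.toExtension.Ring →+* P'.toExtension.Ring) (v : σ → relMod P') :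
    relMod P →ₛₗ[φ] relMod P' where
  toFun f := Finsupp.linearCombination P'.toExtension.Ring v (Finsupp.mapRange φ (map_zero _) f)
  map_add' f g := by rw [Finsupp.mapRange_add (map_add _), map_add]
  map_smul' r f := by
    rw [← map_smul]
    congr 1
    ext s
    simp [Finsupp.mapRange_apply, map_mul]

@[simp] lemma slc_single (φ : P.toExtension.Ring →+* P'.toExtension.Ring) (v : σ → relMod P')
    (s : σ) (r : P.toExtension.Ring) : slc P P' φ v (Finsupp.single s r) = φ r • v s := by
  simp [slc]

variable {P P'} in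
/-- constructor from values on the basis -/
def T2Hom.ofRelVal (φ : P.toExtension.Ring →+* P'.toExtension.Ring)
    (hφ : ∀ x, algebraMap P'.toExtension.Ring B (φ x) = algebraMap P.toExtension.Ring B x)
    (v : σ → relMod P') (hv : ∀ s, jmap P' (v s) = φ (rel P s)) : T2Hom P P' where
  ringHom := φ
  algebraMap_ringHom := hφ
  relModMap := slc P P' φ v
  jmap_relModMap f := by
    induction f using Finsupp.induction_linear with
    | zero => simp
    | add f g hf hg => rw [map_add, map_add, hf, hg, map_add, map_add]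
    | single s r => rw [slc_single, map_smul, hv, jmap_single, smul_eq_mul, map_mul]

namespace T2Hom

variable {P P' P''} (h : T2Hom P P')

/-- `Q → Q'` -/
def relKerMap : relKer P →ₛₗ[h.ringHom] relKer P' :=
  (h.relModMap.comp (relKer P).subtype).codRestrict (relKer P') (fun q => by
    change jmap P' (h.relModMap (q : relMod P)) = 0
    rw [jmap_relModMap, show jmap P (q : relMod P) = 0 from q.2, map_zero])

@[simp] lemma relKerMap_coe (q : relKer P) : (h.relKerMap q : relMod P') = h.relModMap q := rfl

lemma relModMap_mem_trivRel {y : relMod P} (hy : y ∈ trivRel P) : h.relModMap y ∈ trivRel P' := by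
  induction hy using Submodule.span_induction with
  | mem x hx =>
    obtain ⟨a, b, rfl⟩ := hx
    refine Submodule.subset_span ⟨h.relModMap a, h.relModMap b, ?_⟩
    rw [map_sub, LinearMap.map_smulₛₗ, LinearMap.map_smulₛₗ, jmap_relModMap, jmap_relModMap]
  | zero => simp
  | add x y _ _ hx hy => rw [map_add]; exact Submodule.add_mem _ hx hy
  | smul r x _ hx => rw [LinearMap.map_smulₛₗ]; exact Submodule.smul_mem _ _ hx

/-- `L₁ → L₁'` -/
def L1map : L1 P →ₗ[B] L1 P' := tmap h.ringHom h.algebraMap_ringHom h.relModMap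

@[simp] lemma L1map_tmul (b : B) (f : relMod P) : h.L1map (b ⊗ₜ f) = b ⊗ₜ h.relModMap f := rfl

/-- `B ⊗ Q → L₂'` -/
def L2mapAux : B ⊗[P.toExtension.Ring] relKer P →ₗ[B] L2 P' :=
  (Submodule.mkQ _).comp (tmap h.ringHom h.algebraMap_ringHom h.relKerMap)

lemma L2mapAux_tmul (b : B) (q : relKer P) :
    h.L2mapAux (b ⊗ₜ q) = Submodule.Quotient.mk (b ⊗ₜ h.relKerMap q) := rfl

/-- `L₂ → L₂'` -/
def L2map : L2 P →ₗ[B] L2 P' :=
  Submodule.liftQ _ h.L2mapAux (by
    rintro _ ⟨z, rfl⟩
    rw [LinearMap.mem_ker]
    induction z using TensorProduct.induction_on with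
    | zero => simp
    | add x y hx hy => rw [map_add, map_add, hx, hy, add_zero]
    | tmul b k =>
      rw [LinearMap.baseChange_tmul, L2mapAux_tmul, Submodule.Quotient.mk_eq_zero]
      refine ⟨b ⊗ₜ ⟨h.relKerMap (k : relKer P), ?_⟩, rfl⟩
      change (h.relKerMap (k : relKer P) : relMod P') ∈ trivRel P'
      rw [relKerMap_coe]
      exact h.relModMap_mem_trivRel k.2)

@[simp] lemma L2map_mk_tmul (b : B) (q : relKer P) :
    h.L2map (Submodule.Quotient.mk (b ⊗ₜ q)) = Submodule.Quotient.mk (b ⊗ₜ h.relKerMap q) := rfl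

lemma d2_L2map (z : L2 P) : d2 P' (h.L2map z) = h.L1map (d2 P z) := by
  induction z using Submodule.Quotient.induction_on with
  | H z =>
    induction z using TensorProduct.induction_on with
    | zero => simp
    | add x y hx hy =>
      rw [Submodule.Quotient.mk_add, map_add, map_add, hx, hy, map_add, map_add]
    | tmul b q => rw [L2map_mk_tmul, d2_mk_tmul, d2_mk_tmul, L1map_tmul, relKerMap_coe]

section Pull

variable (M : Type m) [AddCommGroup M] [Module B M]

/-- precomposition with `L₁ → L₁'` -/
def pull1 : (L1 P' →ₗ[B] M) →ₗ[B] (L1 P →ₗ[B] M) := LinearMap.lcomp B M h.L1map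

/-- precomposition with `L₂ → L₂'` -/
def pull2 : (L2 P' →ₗ[B] M) →ₗ[B] (L2 P →ₗ[B] M) := LinearMap.lcomp B M h.L2map

@[simp] lemma pull1_apply (ψ : L1 P' →ₗ[B] M) (x : L1 P) : h.pull1 M ψ x = ψ (h.L1map x) := rfl
@[simp] lemma pull2_apply (ψ : L2 P' →ₗ[B] M) (x : L2 P) : h.pull2 M ψ x = ψ (h.L2map x) := rfl

lemma pull2_d2Star (ψ : L1 P' →ₗ[B] M) : h.pull2 M (d2Star P' M ψ) = d2Star P M (h.pull1 M ψ) := by
  refine LinearMap.ext fun z => ?_
  simp [d2_L2map]

/-- the induced map on `T²` -/
def T2pull : T2 P' M →ₗ[B] T2 P M :=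
  Submodule.mapQ (LinearMap.range (d2Star P' M)) (LinearMap.range (d2Star P M)) (h.pull2 M) (by
    rintro _ ⟨ψ, rfl⟩
    exact ⟨h.pull1 M ψ, (h.pull2_d2Star M ψ).symm⟩)

@[simp] lemma T2pull_mk (ψ : L2 P' →ₗ[B] M) :
    h.T2pull M (Submodule.Quotient.mk ψ) = Submodule.Quotient.mk (h.pull2 M ψ) := rfl

end Pull

end T2Hom

/-- the identity -/
def T2Hom.id : T2Hom P P where
  ringHom := RingHom.id _
  algebraMap_ringHom _ := rfl
  relModMap := LinearMap.id
  jmap_relModMap _ := rfl

variable {P P' P''} in
/-- composition -/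
def T2Hom.comp (h' : T2Hom P' P'') (h : T2Hom P P') : T2Hom P P'' where
  ringHom := h'.ringHom.comp h.ringHom
  algebraMap_ringHom x := by
    rw [RingHom.comp_apply, h'.algebraMap_ringHom, h.algebraMap_ringHom]
  relModMap :=
    haveI : RingHomCompTriple h.ringHom h'.ringHom (h'.ringHom.comp h.ringHom) := ⟨rfl⟩
    h'.relModMap.comp h.relModMap
  jmap_relModMap f := by
    change jmap P'' (h'.relModMap (h.relModMap f)) = h'.ringHom (h.ringHom (jmap P f))
    rw [h'.jmap_relModMap, h.jmap_relModMap]

section Functoriality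

variable {P P' P''} (M : Type m) [AddCommGroup M] [Module B M]

lemma L2map_id : (T2Hom.id P).L2map = LinearMap.id := by
  refine Submodule.linearMap_qext _ ?_
  refine TensorProduct.AlgebraTensorModule.ext fun b q => ?_
  rfl

lemma L2map_comp (h' : T2Hom P' P'') (h : T2Hom P P') :
    (h'.comp h).L2map = h'.L2map.comp h.L2map := by
  refine Submodule.linearMap_qext _ ?_
  refine TensorProduct.AlgebraTensorModule.ext fun b q => ?_
  rfl

lemma T2pull_id : (T2Hom.id P).T2pull M = LinearMap.id := by
  refine Submodule.linearMap_qext _ ?_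
  refine LinearMap.ext fun ψ => ?_
  change Submodule.Quotient.mk (ψ.comp (T2Hom.id P).L2map) = Submodule.Quotient.mk ψ
  rw [L2map_id, LinearMap.comp_id]

lemma T2pull_comp (h' : T2Hom P' P'') (h : T2Hom P P') :
    (h'.comp h).T2pull M = (h.T2pull M).comp (h'.T2pull M) := by
  refine Submodule.linearMap_qext _ ?_
  refine LinearMap.ext fun ψ => ?_
  change Submodule.Quotient.mk (ψ.comp (h'.comp h).L2map) =
    Submodule.Quotient.mk ((ψ.comp h'.L2map).comp h.L2map)
  rw [L2map_comp, LinearMap.comp_assoc]

end Functoriality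

end Groth.Agent.H61.CotT2

end
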