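/-
Twisted derivations out of a polynomial ring (helper61).

Setting: a commutative ring `R'`, an `R'`-module `E` with an `R'`-linear map `jb : E → R'` such that
`jb x • y = jb y • x` (a "crossed module").  Two ring maps `φ φ' : MvPolynomial ι A → R'` that agree on
constants and whose values on the variables differ by elements of the range of `jb`.  Then there is an
additive map `D : MvPolynomial ι A → E` with `D (a * b) = φ a • D b + φ' b • D a` and `jb (D a) = φ a - φ' a`.
-/
import Mathlib

set_option autoImplicit false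

noncomputable section

namespace Groth.Agent.H61.CotTwist

universe u v w x

variable {R' : Type u} [CommRing R'] {E : Type v} [AddCommGroup E] [Module R' E]

/-- type synonym of `E` carrying the multiplication `x * y = jb x • y` -/
@[nolint unusedArguments]
def CM (jb : E →ₗ[R'] R') (_h : ∀ x y : E, jb x • y = jb y • x) : Type v := E

variable (jb : E →ₗ[R'] R') (h : ∀ x y : E, jb x • y = jb y • x)

instance : AddCommGroup (CM jb h) := inferInstanceAs (AddCommGroup E)
instance : Module R' (CM jb h) := inferInstanceAs (Module R' E)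

/-- the identity map `CM jb h → E` -/
def CM.out (x : CM jb h) : E := x
/-- the identity map `E → CM jb h` -/
def CM.of (x : E) : CM jb h := x

instance : Mul (CM jb h) := ⟨fun x y => CM.of jb h (jb (CM.out jb h x) • CM.out jb h y)⟩

lemma CM.mul_def (x y : CM jb h) : x * y = CM.of jb h (jb (CM.out jb h x) • CM.out jb h y) := rfl

omit h in
private lemma l2 (x y z : E) : jb (x + y) • z = jb x • z + jb y • z := by rw [map_add, add_smul]
omit h in
private lemma l3 (x : E) : jb (0 : E) • x = 0 := by rw [map_zero, zero_smul]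
omit h in
private lemma l4 (x : E) : jb x • (0 : E) = 0 := smul_zero _
omit h in
private lemma l5 (x y z : E) : jb (jb x • y) • z = jb x • (jb y • z) := by
  rw [map_smul, smul_eq_mul, mul_smul]
omit h in
private lemma l6 (r : R') (x y : E) : jb (r • x) • y = r • (jb x • y) := by
  rw [map_smul, smul_eq_mul, mul_smul]
omit h in
private lemma l7 (r : R') (x y : E) : r • (jb x • y) = jb x • (r • y) := smul_comm _ _ _
omit h in
private lemma l8 (x y : E) : jb (jb x • y) = jb x * jb y := by rw [map_smul, smul_eq_mul]

instance : NonUnitalCommRing (CM jb h) :=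
  { (inferInstance : AddCommGroup (CM jb h)) with
    mul := (· * ·)
    left_distrib := fun x y z => smul_add (jb (CM.out jb h x)) (CM.out jb h y) (CM.out jb h z)
    right_distrib := fun x y z => l2 jb (CM.out jb h x) (CM.out jb h y) (CM.out jb h z)
    zero_mul := fun x => l3 jb (CM.out jb h x)
    mul_zero := fun x => l4 jb (CM.out jb h x)
    mul_assoc := fun x y z => l5 jb (CM.out jb h x) (CM.out jb h y) (CM.out jb h z)
    mul_comm := fun x y => h (CM.out jb h x) (CM.out jb h y) }

instance : IsScalarTower R' (CM jb h) (CM jb h) :=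
  ⟨fun r x y => l6 jb r (CM.out jb h x) (CM.out jb h y)⟩

instance : SMulCommClass R' (CM jb h) (CM jb h) :=
  ⟨fun r x y => l7 jb r (CM.out jb h x) (CM.out jb h y)⟩

/-- `jb` as a non-unital algebra hom -/
def jbHom : CM jb h →ₙₐ[R'] R' where
  toFun x := jb (CM.out jb h x)
  map_smul' r x := map_smul jb r (CM.out jb h x)
  map_zero' := map_zero jb
  map_add' x y := map_add jb (CM.out jb h x) (CM.out jb h y)
  map_mul' x y := l8 jb (CM.out jb h x) (CM.out jb h y)

/-- second projection `S → R'`, `(a, x) ↦ a + jb x` -/
def pi2 : Unitization R' (CM jb h) →ₐ[R'] R' := Unitization.lift (jbHom jb h)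

lemma pi2_apply (z : Unitization R' (CM jb h)) :
    pi2 jb h z = z.fst + jb (CM.out jb h z.snd) := by
  rw [pi2, Unitization.lift_apply]
  rfl

variable {A : Type w} [CommRing A] {ι : Type x}

/-- the ring hom `A[x_ι] → S` -/
def Phi (φ' : MvPolynomial ι A →+* R') (d : ι → E) : MvPolynomial ι A →+* Unitization R' (CM jb h) :=
  MvPolynomial.eval₂Hom ((Unitization.inlRingHom R' (CM jb h)).comp (φ'.comp MvPolynomial.C))
    (fun i => Unitization.inl (φ' (MvPolynomial.X i)) + ((CM.of jb h (d i) : CM jb h) : Unitization R' (CM jb h)))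

lemma fst_Phi (φ' : MvPolynomial ι A →+* R') (d : ι → E) (a : MvPolynomial ι A) :
    (Phi jb h φ' d a).fst = φ' a := by
  have : ((Unitization.fstHom R' (CM jb h)).toRingHom.comp (Phi jb h φ' d)) = φ' := by
    refine MvPolynomial.ringHom_ext (fun r => ?_) (fun i => ?_)
    · simp [Phi]
    · simp [Phi]
  exact RingHom.congr_fun this a

lemma pi2_Phi (φ φ' : MvPolynomial ι A →+* R') (d : ι → E)
    (hC : ∀ a, φ (MvPolynomial.C a) = φ' (MvPolynomial.C a))
    (hd : ∀ i, jb (d i) = φ (MvPolynomial.X i) - φ' (MvPolynomial.X i)) (a : MvPolynomial ι A) :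
    pi2 jb h (Phi jb h φ' d a) = φ a := by
  have : ((pi2 jb h).toRingHom.comp (Phi jb h φ' d)) = φ := by
    refine MvPolynomial.ringHom_ext (fun r => ?_) (fun i => ?_)
    · simp only [RingHom.coe_comp, Function.comp_apply, AlgHom.toRingHom_eq_coe, RingHom.coe_coe]
      rw [pi2_apply, Phi, MvPolynomial.eval₂Hom_C]
      simp [hC, CM.out]
      exact map_zero jb
    · simp only [RingHom.coe_comp, Function.comp_apply, AlgHom.toRingHom_eq_coe, RingHom.coe_coe]
      rw [pi2_apply, Phi, MvPolynomial.eval₂Hom_X']
      simp only [Unitization.fst_add, Unitization.fst_inl, Unitization.fst_inr, add_zero,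
        Unitization.snd_add, Unitization.snd_inl, Unitization.snd_inr, zero_add]
      change φ' (MvPolynomial.X i) + jb (d i) = _
      rw [hd]; ring
  exact RingHom.congr_fun this a

include h in
/-- **Existence of twisted derivations** out of a polynomial ring. -/
theorem exists_twisted (φ φ' : MvPolynomial ι A →+* R')
    (hC : ∀ a, φ (MvPolynomial.C a) = φ' (MvPolynomial.C a))
    (hX : ∀ i, φ (MvPolynomial.X i) - φ' (MvPolynomial.X i) ∈ LinearMap.range jb) :
    ∃ D : MvPolynomial ι A →+ E,
      (∀ a b, D (a * b) = φ a • D b + φ' b • D a) ∧ (∀ a, jb (D a) = φ a - φ' a) := by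
  classical
  choose d hd using hX
  let Φ := Phi jb h φ' d
  have hjb : ∀ a, jb (CM.out jb h (Φ a).snd) = φ a - φ' a := by
    intro a
    have h2 := pi2_Phi jb h φ φ' d hC hd a
    rw [pi2_apply, fst_Phi] at h2
    rw [← h2]; ring
  refine ⟨{ toFun := fun a => CM.out jb h (Φ a).snd, map_zero' := ?_, map_add' := ?_ }, ?_, ?_⟩
  · simp only [map_zero, Unitization.snd_zero]; rfl
  · intro a b
    simp only [map_add, Unitization.snd_add]; rfl
  · intro a b
    change CM.out jb h (Φ (a * b)).snd = φ a • CM.out jb h (Φ b).snd + φ' b • CM.out jb h (Φ a).snd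
    rw [map_mul, Unitization.snd_mul]
    change (Φ a).fst • CM.out jb h (Φ b).snd + (Φ b).fst • CM.out jb h (Φ a).snd +
      jb (CM.out jb h (Φ a).snd) • CM.out jb h (Φ b).snd = _
    rw [hjb a, fst_Phi, fst_Phi, sub_smul]
    abel
  · intro a
    exact hjb a

end Groth.Agent.H61.CotTwist

end
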