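/-
Homotopy invariance of the maps induced on `T²` by morphisms of T²-data, and the comparison
isomorphism (helper61).
-/
import Groth.Agent.H61.CotT2Hom
import Groth.Agent.H61.CotTwist

set_option autoImplicit false

noncomputable section

namespace Groth.Agent.H61.CotT2

open TensorProduct CotT

universe u v w t u' w' t' m n'

variable {A : Type u} {B : Type v} {ι : Type w} {σ : Type t}
variable {A' : Type u'} {ι' : Type w'} {σ' : Type t'}
variable [CommRing A] [CommRing B] [Algebra A B] [CommRing A'] [Algebra A' B]
variable (P : Algebra.Presentation A B ι σ) (P' : Algebra.Presentation A' B ι' σ')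

section SLC

variable {N' : Type n'} [AddCommGroup N'] [Module P'.toExtension.Ring N']

/-- the semilinear map `F → N'` with prescribed values on the basis -/
def slcN (φ : P.toExtension.Ring →+* P'.toExtension.Ring) (v : σ → N') :
    relMod P →ₛₗ[φ] N' where
  toFun f := Finsupp.linearCombination P'.toExtension.Ring v (Finsupp.mapRange φ (map_zero _) f)
  map_add' f g := by rw [Finsupp.mapRange_add (map_add _), map_add]
  map_smul' r f := by
    rw [← map_smul]
    congr 1
    ext s
    simp [Finsupp.mapRange_apply, map_mul]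

@[simp] lemma slcN_single (φ : P.toExtension.Ring →+* P'.toExtension.Ring) (v : σ → N')
    (s : σ) (r : P.toExtension.Ring) : slcN P P' φ v (Finsupp.single s r) = φ r • v s := by
  simp [slcN]

end SLC

section E

/-- `E' = F'/F₀'` -/
abbrev EMod : Type _ := relMod P' ⧸ trivRel P'

/-- the map `E' → R'` induced by `j'` -/
def jb : EMod P' →ₗ[P'.toExtension.Ring] P'.toExtension.Ring :=
  (trivRel P').liftQ (jmap P') (trivRel_le_relKer P')

lemma jb_mk (f : relMod P') : jb P' (Submodule.Quotient.mk f) = jmap P' f := rfl

lemma jb_symm (x y : EMod P') : jb P' x • y = jb P' y • x := by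
  induction x using Submodule.Quotient.induction_on with | H a
  induction y using Submodule.Quotient.induction_on with | H b
  rw [jb_mk, jb_mk, ← Submodule.Quotient.mk_smul, ← Submodule.Quotient.mk_smul, ← sub_eq_zero,
    ← Submodule.Quotient.mk_sub, Submodule.Quotient.mk_eq_zero]
  exact Submodule.subset_span ⟨a, b, rfl⟩

lemma range_jb : LinearMap.range (jb P') = P'.ker := by
  rw [jb, Submodule.range_liftQ, range_jmap]

end E

variable {P P'}

section Htpy

variable (h h' : T2Hom P P') (D : P.toExtension.Ring →+ EMod P')
  (hD1 : ∀ a b, D (a * b) = h.ringHom a • D b + h'.ringHom b • D a)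
  (hD2 : ∀ a, jb P' (D a) = h.ringHom a - h'.ringHom a)
  (d : σ → relMod P') (hd : ∀ s, (Submodule.Quotient.mk (d s) : EMod P') = D (rel P s))

/-- the values of the homotopy on the basis -/
def hv (s : σ) : relMod P' :=
  h.relModMap (Finsupp.single s 1) - h'.relModMap (Finsupp.single s 1) - d s

include hD1 hD2 hd in
lemma key (f : relMod P) :
    (Submodule.Quotient.mk (h.relModMap f) : EMod P') - Submodule.Quotient.mk (h'.relModMap f) -
      Submodule.Quotient.mk (slcN P P' h.ringHom (hv h h' d) f) = D (jmap P f) := by
  induction f using Finsupp.induction_linear with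
  | zero => simp
  | add f g hf hg =>
    simp only [map_add, Submodule.Quotient.mk_add]
    rw [← hf, ← hg]; abel
  | single s r =>
    have e1 : (Finsupp.single s r : relMod P) = r • Finsupp.single s 1 := by
      rw [Finsupp.smul_single, smul_eq_mul, mul_one]
    have e2 : h.relModMap (Finsupp.single s r) = h.ringHom r • h.relModMap (Finsupp.single s 1) := by
      rw [e1, LinearMap.map_smulₛₗ]
    have e3 : h'.relModMap (Finsupp.single s r) = h'.ringHom r • h'.relModMap (Finsupp.single s 1) := by
      rw [e1, LinearMap.map_smulₛₗ]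
    have e4 : jb P' (Submodule.Quotient.mk (h'.relModMap (Finsupp.single s 1))) = h'.ringHom (rel P s) := by
      rw [jb_mk, h'.jmap_relModMap, jmap_single, one_mul]
    rw [slcN_single, e2, e3, jmap_single, hD1, hv]
    simp only [Submodule.Quotient.mk_smul, Submodule.Quotient.mk_sub, smul_sub, hd]
    rw [← e4, ← jb_symm, hD2, sub_smul]
    abel

include hD2 hd in
lemma hv_mem (s : σ) : hv h h' d s ∈ relKer P' := by
  change jmap P' (hv h h' d s) = 0
  have e : jmap P' (d s) = h.ringHom (rel P s) - h'.ringHom (rel P s) := by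
    rw [← jb_mk, hd, hD2]
  rw [hv, map_sub, map_sub, h.jmap_relModMap, h'.jmap_relModMap, e, jmap_single, one_mul]
  ring

variable {M : Type m} [AddCommGroup M] [Module B M]

include hD1 hD2 hd in
/-- the homotopy: the two pulled-back maps differ by a coboundary -/
lemma pull2_sub_mem (ψ : L2 P' →ₗ[B] M) :
    h.pull2 M ψ - h'.pull2 M ψ ∈ LinearMap.range (d2Star P M) := by
  classical
  let vK : σ → relKer P' := fun s => ⟨hv h h' d s, hv_mem h h' D hD2 d hd s⟩
  let θK : relMod P →ₛₗ[h.ringHom] relKer P' := slcN P P' h.ringHom vK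
  have hθ : ∀ f, ((θK f : relKer P') : relMod P') = slcN P P' h.ringHom (hv h h' d) f := by
    intro f
    induction f using Finsupp.induction_linear with
    | zero => simp
    | add f g hf hg => rw [map_add, map_add, Submodule.coe_add, hf, hg]
    | single s r => rw [slcN_single, slcN_single]; rfl
  let χ : L1 P →ₗ[B] M :=
    (L1basis P).constr B (fun s => ψ (Submodule.Quotient.mk ((1 : B) ⊗ₜ vK s)))
  have hχ : ∀ (b : B) (f : relMod P), χ (b ⊗ₜ f) = ψ (Submodule.Quotient.mk (b ⊗ₜ θK f)) := by
    intro b f
    induction f using Finsupp.induction_linear with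
    | zero => simp
    | add f g hf hg =>
      rw [TensorProduct.tmul_add, map_add, hf, hg, map_add, TensorProduct.tmul_add,
        Submodule.Quotient.mk_add, map_add]
    | single s r =>
      have e1 : (b ⊗ₜ[P.toExtension.Ring] (Finsupp.single s r : relMod P) : L1 P) =
          (b * algebraMap P.toExtension.Ring B r) • L1basis P s := by
        rw [L1basis_apply, TensorProduct.smul_tmul', smul_eq_mul, mul_one]
        have : (Finsupp.single s r : relMod P) = r • Finsupp.single s 1 := by
          rw [Finsupp.smul_single, smul_eq_mul, mul_one]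
        rw [this, ← TensorProduct.smul_tmul, Algebra.smul_def, mul_comm]
      rw [e1, LinearMap.map_smul χ, Module.Basis.constr_basis, slcN_single, ← LinearMap.map_smul ψ,
        ← Submodule.Quotient.mk_smul,
        TensorProduct.smul_tmul', smul_eq_mul, mul_one, ← TensorProduct.smul_tmul, Algebra.smul_def,
        h.algebraMap_ringHom, mul_comm]
  have hmain : ∀ (b : B) (q : relKer P), χ (d2 P (Submodule.Quotient.mk (b ⊗ₜ q))) =
      ψ (h.L2map (Submodule.Quotient.mk (b ⊗ₜ q))) - ψ (h'.L2map (Submodule.Quotient.mk (b ⊗ₜ q))) := by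
    intro b q
    have hw : ((h.relKerMap q - h'.relKerMap q - θK q : relKer P') : relMod P') ∈ trivRel P' := by
      have := key h h' D hD1 hD2 d hd (q : relMod P)
      rw [show jmap P (q : relMod P) = 0 from q.2, map_zero, ← Submodule.Quotient.mk_sub,
        ← Submodule.Quotient.mk_sub, Submodule.Quotient.mk_eq_zero] at this
      rw [Submodule.coe_sub, Submodule.coe_sub, hθ]
      exact this
    have hz : (Submodule.Quotient.mk
        (b ⊗ₜ[P'.toExtension.Ring] (h.relKerMap q - h'.relKerMap q - θK q)) : L2 P') = 0 := by
      rw [Submodule.Quotient.mk_eq_zero]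
      exact ⟨b ⊗ₜ ⟨_, hw⟩, rfl⟩
    have t1 := TensorProduct.tmul_sub (R := P'.toExtension.Ring) b (h.relKerMap q - h'.relKerMap q) (θK q)
    have t2 := TensorProduct.tmul_sub (R := P'.toExtension.Ring) b (h.relKerMap q) (h'.relKerMap q)
    rw [t1, t2, Submodule.Quotient.mk_sub,
      Submodule.Quotient.mk_sub, sub_eq_zero] at hz
    rw [d2_mk_tmul, hχ, T2Hom.L2map_mk_tmul, T2Hom.L2map_mk_tmul, ← map_sub, hz]
  refine ⟨χ, ?_⟩
  refine LinearMap.ext fun z => ?_
  induction z using Submodule.Quotient.induction_on with | H z
  change χ (d2 P (Submodule.Quotient.mk z)) =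
    ψ (h.L2map (Submodule.Quotient.mk z)) - ψ (h'.L2map (Submodule.Quotient.mk z))
  induction z using TensorProduct.induction_on with
  | zero => simp
  | add x y hx hy =>
    simp only [Submodule.Quotient.mk_add, map_add]
    rw [hx, hy]
    abel
  | tmul b q => exact hmain b q

end Htpy

section Main

variable (M : Type m) [AddCommGroup M] [Module B M]

/-- Two morphisms of T²-data whose ring maps agree on the constants induce the same map on `T²`. -/
theorem T2pull_eq_of_agree (h h' : T2Hom P P')
    (hC : ∀ a : A, h.ringHom (MvPolynomial.C a : MvPolynomial ι A) = h'.ringHom (MvPolynomial.C a : MvPolynomial ι A)) :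
    h.T2pull M = h'.T2pull M := by
  obtain ⟨D, hD1, hD2⟩ := CotTwist.exists_twisted (R' := P'.toExtension.Ring) (E := EMod P')
    (A := A) (ι := ι) (jb P') (jb_symm P') h.ringHom h'.ringHom hC (fun i => by
      rw [range_jb]
      have : algebraMap P'.toExtension.Ring B (h.ringHom (MvPolynomial.X i : MvPolynomial ι A) -
          h'.ringHom (MvPolynomial.X i : MvPolynomial ι A)) = 0 := by
        rw [map_sub, h.algebraMap_ringHom, h'.algebraMap_ringHom, sub_self]
      exact this)
  have hsurj : ∀ s, ∃ ds : relMod P', (Submodule.Quotient.mk ds : EMod P') = D (rel P s) :=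
    fun s => Submodule.Quotient.mk_surjective _ _
  choose d hd using hsurj
  refine Submodule.linearMap_qext _ ?_
  refine LinearMap.ext fun ψ => ?_
  change Submodule.Quotient.mk (h.pull2 M ψ) = Submodule.Quotient.mk (h'.pull2 M ψ)
  rw [← sub_eq_zero, ← Submodule.Quotient.mk_sub, Submodule.Quotient.mk_eq_zero]
  exact pull2_sub_mem h h' D hD1 hD2 d hd ψ

/-- **Comparison isomorphism on `T²`**: two morphisms of T²-data in opposite directions whose composites
fix the constants induce mutually inverse isomorphisms. -/
def T2equiv (h : T2Hom P P') (h' : T2Hom P' P)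
    (hC : ∀ a : A, h'.ringHom (h.ringHom (MvPolynomial.C a : MvPolynomial ι A)) = (MvPolynomial.C a : MvPolynomial ι A))
    (hC' : ∀ a : A', h.ringHom (h'.ringHom (MvPolynomial.C a : MvPolynomial ι' A')) = (MvPolynomial.C a : MvPolynomial ι' A')) :
    T2 P M ≃ₗ[B] T2 P' M :=
  LinearEquiv.ofLinearMap (h'.T2pull M) (h.T2pull M)
    (by
      rw [← T2pull_comp, ← T2pull_id]
      exact T2pull_eq_of_agree M _ _ hC')
    (by
      rw [← T2pull_comp, ← T2pull_id]
      exact T2pull_eq_of_agree M _ _ hC)

end Main

end Groth.Agent.H61.CotT2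

end
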