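/-
Independence of `T⁰`, `T¹`, `T²` of the presentation (helper61).
-/
import Groth.Agent.H61.CotT2Htpy
import Groth.Agent.S12286
import Groth.Agent.S12289

set_option autoImplicit false

noncomputable section

namespace Groth.Agent.H61.CotT2

open TensorProduct CotT

universe u v w t w' t' m

section ExistsHom

variable {A : Type u} {B : Type v} [CommRing A] [CommRing B] [Algebra A B]
variable {ι : Type w} {σ : Type t} {ι' : Type w'} {σ' : Type t'}
variable (P : Algebra.Presentation A B ι σ) (P' : Algebra.Presentation A B ι' σ')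

/-- Between two presentations of `B` over the same base there is a morphism of T²-data fixing the
constants. -/
lemma exists_T2Hom : ∃ h : T2Hom P P',
    ∀ a : A, h.ringHom (MvPolynomial.C a : MvPolynomial ι A) = (MvPolynomial.C a : MvPolynomial ι' A) := by
  classical
  let f := (Algebra.Generators.defaultHom P.toGenerators P'.toGenerators).toExtensionHom
  have hφ : ∀ x, algebraMap P'.toExtension.Ring B (f.toRingHom x) = algebraMap P.toExtension.Ring B x :=
    fun x => f.algebraMap_toRingHom x
  have hv : ∀ s, ∃ v : relMod P', jmap P' v = f.toRingHom (rel P s) := by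
    intro s
    have : f.toRingHom (rel P s) ∈ LinearMap.range (jmap P') := by
      rw [range_jmap]
      change algebraMap P'.toExtension.Ring B _ = 0
      rw [hφ, algebraMap_rel]
    exact this
  choose v hv using hv
  refine ⟨T2Hom.ofRelVal f.toRingHom hφ v hv, fun a => ?_⟩
  exact f.toRingHom_algebraMap a

variable (M : Type m) [AddCommGroup M] [Module B M]

/-- `T²` does not depend on the presentation. -/
theorem nonempty_T2_equiv : Nonempty (T2 P M ≃ₗ[B] T2 P' M) := by
  obtain ⟨h, hh⟩ := exists_T2Hom P P'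
  obtain ⟨h', hh'⟩ := exists_T2Hom P' P
  refine ⟨T2equiv M h h' (fun a => ?_) (fun a => ?_)⟩
  · rw [hh a]; exact hh' a
  · rw [hh' a]; exact hh a

end ExistsHom

section T1

variable {A B : Type u} [CommRing A] [CommRing B] [Algebra A B]
variable (M : Type m) [AddCommGroup M] [Module B M]

/-- cokernel of `Hom(L₀, M) → Hom(I/I², M)` -/
abbrev C1 (E : Algebra.Extension A B) : Type _ :=
  (E.Cotangent →ₗ[B] M) ⧸ LinearMap.range (LinearMap.lcomp B M E.cotangentComplex)

variable {ι σ : Type w} (P : Algebra.Presentation A B ι σ)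

/-- `T¹` is the cokernel of `Hom(L₀, M) → Hom(I/I², M)` (from S12289). -/
def T1equivC1 : T1 P M ≃ₗ[B] C1 M P.toExtension :=
  (((Submodule.quotEquivOfEq _ _ (Groth.Agent.S12289.result A B ι σ P M).2.1).symm ≪≫ₗ
    (homToT1 P M).quotKerEquivOfSurjective (Groth.Agent.S12289.result A B ι σ P M).2.2)).symm

variable {M}

/-- the map on `C1` induced by a morphism of extensions -/
def C1pull {E₁ E₂ : Algebra.Extension A B} (f : E₁.Hom E₂) : C1 M E₂ →ₗ[B] C1 M E₁ :=
  Submodule.mapQ _ _ (LinearMap.lcomp B M (Algebra.Extension.Cotangent.map f)) (by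
    rintro _ ⟨χ, rfl⟩
    refine ⟨χ ∘ₗ Algebra.Extension.CotangentSpace.map f, ?_⟩
    refine LinearMap.ext fun x => ?_
    change χ (Algebra.Extension.CotangentSpace.map f (E₁.cotangentComplex x)) =
      χ (E₂.cotangentComplex (Algebra.Extension.Cotangent.map f x))
    rw [Algebra.Extension.CotangentSpace.map_cotangentComplex])

lemma C1pull_eq {E₁ E₂ : Algebra.Extension A B} (f g : E₁.Hom E₂) :
    C1pull (M := M) f = C1pull g := by
  refine Submodule.linearMap_qext _ ?_
  refine LinearMap.ext fun ψ => ?_
  change Submodule.Quotient.mk (ψ ∘ₗ Algebra.Extension.Cotangent.map f) =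
    Submodule.Quotient.mk (ψ ∘ₗ Algebra.Extension.Cotangent.map g)
  rw [← sub_eq_zero, ← Submodule.Quotient.mk_sub, Submodule.Quotient.mk_eq_zero, ← LinearMap.comp_sub,
    Algebra.Extension.Cotangent.map_sub_map]
  exact ⟨ψ ∘ₗ f.sub g, rfl⟩

lemma C1pull_id (E : Algebra.Extension A B) : C1pull (M := M) (Algebra.Extension.Hom.id E) = LinearMap.id := by
  refine Submodule.linearMap_qext _ ?_
  refine LinearMap.ext fun ψ => ?_
  change Submodule.Quotient.mk (ψ ∘ₗ Algebra.Extension.Cotangent.map (Algebra.Extension.Hom.id E)) =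
    Submodule.Quotient.mk ψ
  rw [Algebra.Extension.Cotangent.map_id, LinearMap.comp_id]

lemma C1pull_comp {E₁ E₂ E₃ : Algebra.Extension A B} (f : E₁.Hom E₂) (g : E₂.Hom E₃) :
    C1pull (M := M) (g.comp f) = (C1pull f).comp (C1pull g) := by
  refine Submodule.linearMap_qext _ ?_
  refine LinearMap.ext fun ψ => ?_
  change Submodule.Quotient.mk (ψ ∘ₗ Algebra.Extension.Cotangent.map (g.comp f)) =
    Submodule.Quotient.mk ((ψ ∘ₗ Algebra.Extension.Cotangent.map g) ∘ₗ Algebra.Extension.Cotangent.map f)
  rw [Algebra.Extension.Cotangent.map_comp]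
  rfl

/-- `C1` of two extensions with morphisms in both directions are isomorphic -/
def C1equiv {E₁ E₂ : Algebra.Extension A B} (f : E₁.Hom E₂) (g : E₂.Hom E₁) : C1 M E₁ ≃ₗ[B] C1 M E₂ :=
  LinearEquiv.ofLinearMap (C1pull g) (C1pull f)
    (by rw [← C1pull_comp, ← C1pull_id]; exact C1pull_eq _ _)
    (by rw [← C1pull_comp, ← C1pull_id]; exact C1pull_eq _ _)

variable (M) {ι' σ' : Type w'} (P' : Algebra.Presentation A B ι' σ')

/-- `T¹` does not depend on the presentation. -/
theorem nonempty_T1_equiv : Nonempty (T1 P M ≃ₗ[B] T1 P' M) :=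
  ⟨(T1equivC1 M P).trans ((C1equiv
    (Algebra.Generators.defaultHom P.toGenerators P'.toGenerators).toExtensionHom
    (Algebra.Generators.defaultHom P'.toGenerators P.toGenerators).toExtensionHom).trans
    (T1equivC1 M P').symm)⟩

/-- `T⁰` does not depend on the presentation. -/
theorem nonempty_T0_equiv : Nonempty (T0 P M ≃ₗ[B] T0 P' M) := by
  letI : Module A M := Module.compHom M (algebraMap A B)
  haveI : IsScalarTower A B M := IsScalarTower.of_compHom A B M
  exact ⟨(LinearEquiv.ofBijective (derToT0 P M) (Groth.Agent.S12286.result A B ι σ P M)).symm.trans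
    (LinearEquiv.ofBijective (derToT0 P' M) (Groth.Agent.S12286.result A B ι' σ' P' M))⟩

end T1

end Groth.Agent.H61.CotT2

end
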