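/-
`T¹` and `T²` of formally smooth algebras (helper61).

* `subsingleton_T1_of_formallySmooth`, `formallySmooth_of_subsingleton_T1`: `T¹(B/A, -) = 0` iff
  `B` is formally smooth over `A` (any presentation).
* `d2_injective_of`: `d₂ : L₂ → L₁` is injective as soon as every relation with coefficients in the
  kernel ideal is a trivial relation.
* `subsingleton_T2_of_injective_of_projective`: `T² = 0` when `d₂` is injective and `I/I²` is projective.
-/
import Groth.Agent.H61.CotTCompare
import Groth.Agent.H61.TrivRel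

set_option autoImplicit false

noncomputable section

namespace Groth.Agent.H61.CotT2

open TensorProduct CotT

universe u v w t m

section T1

variable {A B : Type u} [CommRing A] [CommRing B] [Algebra A B]
variable {ι σ : Type w} (P : Algebra.Presentation A B ι σ)

instance formallySmooth_ring : Algebra.FormallySmooth A P.toExtension.Ring :=
  (inferInstance : Algebra.FormallySmooth A (MvPolynomial ι A))

theorem subsingleton_T1_of_formallySmooth [Algebra.FormallySmooth A B] (M : Type m) [AddCommGroup M]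
    [Module B M] : Subsingleton (T1 P M) := by
  obtain ⟨l, hl⟩ := (P.toExtension.formallySmooth_iff_split_injection).mp inferInstance
  have h0 : ∀ z : C1 M P.toExtension, z = 0 := by
    intro z
    obtain ⟨ψ, rfl⟩ := Submodule.Quotient.mk_surjective _ z
    rw [Submodule.Quotient.mk_eq_zero]
    refine ⟨ψ ∘ₗ l, ?_⟩
    rw [LinearMap.lcomp_apply', LinearMap.comp_assoc, hl, LinearMap.comp_id]
  haveI : Subsingleton (C1 M P.toExtension) := ⟨fun x y => by rw [h0 x, h0 y]⟩
  exact (T1equivC1 M P).toEquiv.subsingleton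

theorem formallySmooth_of_subsingleton_T1 (h : Subsingleton (T1 P P.toExtension.Cotangent)) :
    Algebra.FormallySmooth A B := by
  haveI : Subsingleton (C1 P.toExtension.Cotangent P.toExtension) :=
    (T1equivC1 P.toExtension.Cotangent P).symm.toEquiv.subsingleton
  have h1 : (Submodule.Quotient.mk (LinearMap.id : P.toExtension.Cotangent →ₗ[B] P.toExtension.Cotangent) :
      C1 P.toExtension.Cotangent P.toExtension) = 0 := Subsingleton.elim _ _
  rw [Submodule.Quotient.mk_eq_zero] at h1
  obtain ⟨l, hl⟩ := h1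
  rw [LinearMap.lcomp_apply'] at hl
  exact (P.toExtension.formallySmooth_iff_split_injection).mpr ⟨l, hl⟩

end T1

section T2

variable {A : Type u} {B : Type v} [CommRing A] [CommRing B] [Algebra A B]
variable {ι : Type w} {σ : Type t} (P : Algebra.Presentation A B ι σ)

/-- every element of `B ⊗_R N` is of the form `1 ⊗ n` -/
lemma exists_one_tmul {N : Type*} [AddCommMonoid N] [Module P.toExtension.Ring N]
    (x : B ⊗[P.toExtension.Ring] N) : ∃ n : N, x = (1 : B) ⊗ₜ[P.toExtension.Ring] n := by
  induction x using TensorProduct.induction_on with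
  | zero => exact ⟨0, (TensorProduct.tmul_zero _ _).symm⟩
  | tmul b f =>
    obtain ⟨r, rfl⟩ := P.toExtension.algebraMap_surjective b
    refine ⟨r • f, ?_⟩
    rw [← TensorProduct.smul_tmul, Algebra.smul_def, mul_one]
  | add x y hx hy =>
    obtain ⟨f, rfl⟩ := hx
    obtain ⟨g, rfl⟩ := hy
    exact ⟨f + g, (TensorProduct.tmul_add _ _ _).symm⟩

/-- the coordinate functionals of `L₁` -/
def L1coord (s : σ) : L1 P →ₗ[B] B :=
  LinearMap.liftBaseChange B ((Algebra.linearMap P.toExtension.Ring B) ∘ₗ Finsupp.lapply s)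

lemma L1coord_tmul (s : σ) (b : B) (f : relMod P) :
    L1coord P s (b ⊗ₜ f) = b * algebraMap P.toExtension.Ring B (f s) := by
  simp [L1coord]

lemma toCot_surjective : Function.Surjective (toCot P) := by
  intro x
  obtain ⟨y, rfl⟩ := Algebra.Extension.Cotangent.mk_surjective x
  have hy : (y : P.toExtension.Ring) ∈ LinearMap.range (jmap P) := by
    rw [range_jmap]; exact y.2
  obtain ⟨f, hf⟩ := hy
  refine ⟨1 ⊗ₜ f, ?_⟩
  rw [toCot_tmul, one_smul]
  congr 1
  exact Subtype.ext hf

lemma ker_toCot_le_range_d2 : LinearMap.ker (toCot P) ≤ LinearMap.range (d2 P) := by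
  have hC1 : ∀ r ∈ P.toExtension.ker ^ 2, ∃ g : relMod P, jmap P g = r ∧
      ((1 : B) ⊗ₜ[P.toExtension.Ring] g : L1 P) = 0 := by
    intro r hr
    rw [pow_two] at hr
    refine Submodule.mul_induction_on hr ?_ ?_
    · intro a ha b hb
      have ha' : a ∈ LinearMap.range (jmap P) := by
        rw [range_jmap]; exact ha
      obtain ⟨ga, rfl⟩ := ha'
      refine ⟨b • ga, ?_, ?_⟩
      · rw [map_smul, smul_eq_mul, mul_comm]
      · rw [← TensorProduct.smul_tmul, Algebra.smul_def, mul_one]
        have : algebraMap P.toExtension.Ring B b = 0 := hb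
        rw [this, TensorProduct.zero_tmul]
    · rintro x y ⟨g₁, h₁, h₁'⟩ ⟨g₂, h₂, h₂'⟩
      exact ⟨g₁ + g₂, by rw [map_add, h₁, h₂], by rw [TensorProduct.tmul_add, h₁', h₂', add_zero]⟩
  intro x hx
  obtain ⟨f, rfl⟩ := exists_one_tmul P x
  rw [LinearMap.mem_ker, toCot_tmul, one_smul,
    Algebra.Extension.Cotangent.mk_eq_zero_iff] at hx
  obtain ⟨g, hg1, hg2⟩ := hC1 (jmap P f) hx
  have hq : f - g ∈ relKer P := by
    change jmap P (f - g) = 0
    rw [map_sub, hg1, sub_self]
  refine ⟨Submodule.Quotient.mk ((1 : B) ⊗ₜ ⟨f - g, hq⟩), ?_⟩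
  rw [d2_mk_tmul]
  change (1 : B) ⊗ₜ[P.toExtension.Ring] (f - g) = 1 ⊗ₜ f
  rw [TensorProduct.tmul_sub, hg2, sub_zero]

/-- `d₂` is injective if the relations with coefficients in the kernel are trivial -/
theorem d2_injective_of
    (hQ : ∀ q ∈ relKer P, (∀ s, q s ∈ P.toExtension.ker) → q ∈ trivRel P) :
    Function.Injective (d2 P) := by
  rw [← LinearMap.ker_eq_bot, LinearMap.ker_eq_bot']
  intro z hz
  obtain ⟨x, rfl⟩ := Submodule.Quotient.mk_surjective _ z
  obtain ⟨q, rfl⟩ := exists_one_tmul P x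
  rw [d2_mk_tmul] at hz
  have hcoord : ∀ s, (q : relMod P) s ∈ P.toExtension.ker := by
    intro s
    have h1 := congrArg (L1coord P s) hz
    rw [L1coord_tmul, one_mul, map_zero] at h1
    exact h1
  have hmem := hQ q q.2 hcoord
  rw [Submodule.Quotient.mk_eq_zero]
  refine ⟨(1 : B) ⊗ₜ ⟨q, hmem⟩, ?_⟩
  rw [LinearMap.baseChange_tmul]
  rfl

variable (M : Type m) [AddCommGroup M] [Module B M]

/-- `T² = 0` if `d₂` is injective and `I/I²` is projective -/
theorem subsingleton_T2_of_injective_of_projective (hinj : Function.Injective (d2 P))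
    [Module.Projective B P.toExtension.Cotangent] : Subsingleton (T2 P M) := by
  obtain ⟨sec, hsec⟩ := Module.projective_lifting_property (toCot P) LinearMap.id (toCot_surjective P)
  let π : L1 P →ₗ[B] L1 P := LinearMap.id - sec ∘ₗ toCot P
  have hπ : ∀ x, π x ∈ LinearMap.range (d2 P) := by
    intro x
    apply ker_toCot_le_range_d2 P
    rw [LinearMap.mem_ker]
    change toCot P (x - sec (toCot P x)) = 0
    rw [map_sub]
    have := LinearMap.congr_fun hsec (toCot P x)
    change toCot P (sec (toCot P x)) = toCot P x at this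
    rw [this, sub_self]
  let e := LinearEquiv.ofInjective (d2 P) hinj
  let ρ : L1 P →ₗ[B] L2 P := e.symm.toLinearMap ∘ₗ LinearMap.codRestrict (LinearMap.range (d2 P)) π hπ
  have hρ : ∀ z, ρ (d2 P z) = z := by
    intro z
    change e.symm ⟨π (d2 P z), _⟩ = z
    rw [LinearEquiv.symm_apply_eq]
    apply Subtype.ext
    change d2 P z - sec (toCot P (d2 P z)) = d2 P z
    have h0 : toCot P (d2 P z) = 0 := LinearMap.congr_fun (toCot_comp_d2 P) z
    rw [h0, map_zero, sub_zero]
  have h0 : ∀ x : T2 P M, x = 0 := by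
    intro x
    obtain ⟨φ, rfl⟩ := Submodule.Quotient.mk_surjective _ x
    rw [Submodule.Quotient.mk_eq_zero]
    refine ⟨φ ∘ₗ ρ, ?_⟩
    refine LinearMap.ext fun z => ?_
    change φ (ρ (d2 P z)) = φ z
    rw [hρ]
  exact ⟨fun x y => by rw [h0 x, h0 y]⟩

end T2

end Groth.Agent.H61.CotT2

end
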