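/-
Relations among the members of a regular sequence are generated by the trivial (Koszul) relations
(helper61).  Pure commutative algebra, Mathlib only.
-/
import Mathlib

set_option autoImplicit false

namespace Groth.Agent.H61.Koszul

open Finset

variable {R : Type*} [CommRing R]

/-- the Koszul (trivial) relations among `r : Fin n → R` -/
def K {n : ℕ} (r : Fin n → R) : Submodule R (Fin n → R) :=
  Submodule.span R {v | ∃ i j, v = r i • (Pi.single j 1 : Fin n → R) - r j • (Pi.single i 1 : Fin n → R)}

/-- regularity hypothesis in ideal form -/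
def Reg {n : ℕ} (r : Fin n → R) : Prop :=
  ∀ (i : Fin n) (x : R), r i * x ∈ Ideal.span (r '' {j | j < i}) → x ∈ Ideal.span (r '' {j | j < i})

/-- extension by zero -/
def ext0 (n : ℕ) : (Fin n → R) →ₗ[R] (Fin (n + 1) → R) where
  toFun v := fun i => Fin.lastCases (motive := fun _ => R) 0 (fun j => v j) i
  map_add' v w := by
    funext i
    cases i using Fin.lastCases <;> simp
  map_smul' a v := by
    funext i
    cases i using Fin.lastCases <;> simp

@[simp] lemma ext0_castSucc {n : ℕ} (v : Fin n → R) (i : Fin n) : ext0 n v i.castSucc = v i := by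
  simp [ext0]

@[simp] lemma ext0_last {n : ℕ} (v : Fin n → R) : ext0 n v (Fin.last n) = 0 := by
  simp [ext0]

lemma ext0_single {n : ℕ} (j : Fin n) : ext0 n (Pi.single j (1 : R)) = Pi.single j.castSucc 1 := by
  funext k
  cases k using Fin.lastCases with
  | last =>
    rw [ext0_last, Pi.single_apply, if_neg]
    exact (Fin.castSucc_lt_last j).ne'
  | cast k =>
    rw [ext0_castSucc, Pi.single_apply, Pi.single_apply]
    simp only [Fin.castSucc_inj]

theorem mem_K {n : ℕ} (r : Fin n → R) (hr : Reg r) (c : Fin n → R) (hc : ∑ i, c i * r i = 0) :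
    c ∈ K r := by
  induction n with
  | zero =>
    have : c = 0 := Subsingleton.elim _ _
    rw [this]; exact zero_mem _
  | succ n ih =>
    let r' : Fin n → R := fun i => r i.castSucc
    have hset : ∀ i : Fin n, r' '' {j | j < i} = r '' {j | j < i.castSucc} := by
      intro i
      ext y
      constructor
      · rintro ⟨j, hj, rfl⟩
        exact ⟨j.castSucc, Fin.castSucc_lt_castSucc_iff.mpr hj, rfl⟩
      · rintro ⟨j, hj, rfl⟩
        have hjn : (j : ℕ) < n := lt_of_lt_of_le (Fin.lt_def.mp hj) (by simp [i.2.le])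
        refine ⟨⟨j, hjn⟩, ?_, rfl⟩
        exact Fin.lt_def.mpr (Fin.lt_def.mp hj)
    have hr' : Reg r' := by
      intro i x hx
      rw [hset] at hx ⊢
      exact hr i.castSucc x hx
    have hlastset : r '' {j | j < Fin.last n} = Set.range r' := by
      ext y
      constructor
      · rintro ⟨j, hj, rfl⟩
        exact ⟨⟨j, Fin.lt_def.mp hj⟩, rfl⟩
      · rintro ⟨j, rfl⟩
        exact ⟨j.castSucc, Fin.castSucc_lt_last j, rfl⟩
    rw [Fin.sum_univ_castSucc] at hc
    have h1 : r (Fin.last n) * c (Fin.last n) ∈ Ideal.span (Set.range r') := by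
      have : r (Fin.last n) * c (Fin.last n) = ∑ i : Fin n, (-c i.castSucc) * r' i := by
        simp only [neg_mul, Finset.sum_neg_distrib]
        rw [eq_neg_iff_add_eq_zero, add_comm, mul_comm]
        exact hc
      rw [this]
      exact Ideal.mem_span_range_iff_exists_fun.mpr ⟨_, rfl⟩
    have h2 : c (Fin.last n) ∈ Ideal.span (Set.range r') := by
      rw [← hlastset] at h1 ⊢
      exact hr (Fin.last n) _ h1
    obtain ⟨d, hd⟩ := Ideal.mem_span_range_iff_exists_fun.mp h2
    let c' : Fin n → R := fun i => c i.castSucc + r (Fin.last n) * d i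
    have hc' : ∑ i, c' i * r' i = 0 := by
      have : ∑ i, c' i * r' i = ∑ i : Fin n, c i.castSucc * r i.castSucc + r (Fin.last n) * ∑ i, d i * r' i := by
        rw [Finset.mul_sum, ← Finset.sum_add_distrib]
        refine Finset.sum_congr rfl fun i _ => ?_
        simp only [c', r']; ring
      rw [this, hd, mul_comm (r (Fin.last n))]
      exact hc
    have hK' : c' ∈ K r' := ih r' hr' c' hc'
    have hmap : K r' ≤ (K r).comap (ext0 n) := by
      refine Submodule.span_le.mpr ?_
      rintro _ ⟨i, j, rfl⟩
      rw [SetLike.mem_coe, Submodule.mem_comap, map_sub, map_smul, map_smul, ext0_single, ext0_single]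
      exact Submodule.subset_span ⟨i.castSucc, j.castSucc, rfl⟩
    have h3 : ext0 n c' ∈ K r := hmap hK'
    have h4 : ∑ i : Fin n, d i • (r (Fin.last n) • (Pi.single i.castSucc 1 : Fin (n + 1) → R) -
        r i.castSucc • (Pi.single (Fin.last n) 1 : Fin (n + 1) → R)) ∈ K r := by
      refine Submodule.sum_mem _ fun i _ => Submodule.smul_mem _ _ ?_
      exact Submodule.subset_span ⟨Fin.last n, i.castSucc, rfl⟩
    have h5 : c = ext0 n c' - ∑ i : Fin n, d i • (r (Fin.last n) • (Pi.single i.castSucc 1 : Fin (n + 1) → R) -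
        r i.castSucc • (Pi.single (Fin.last n) 1 : Fin (n + 1) → R)) := by
      funext k
      cases k using Fin.lastCases with
      | last =>
        simp only [Pi.sub_apply, ext0_last, Finset.sum_apply, Pi.smul_apply, Pi.single_apply, smul_eq_mul]
        have : ∀ i : Fin n, (if Fin.last n = i.castSucc then (1 : R) else 0) = 0 := fun i =>
          if_neg (Fin.castSucc_lt_last i).ne'
        simp only [this, if_pos, mul_zero, mul_one, zero_sub, mul_neg, Finset.sum_neg_distrib, neg_neg]
        exact hd.symm
      | cast k =>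
        simp only [Pi.sub_apply, ext0_castSucc, Finset.sum_apply, Pi.smul_apply, Pi.single_apply, smul_eq_mul]
        have hk : k.castSucc ≠ Fin.last n := (Fin.castSucc_lt_last k).ne
        simp only [hk, if_false, mul_zero, sub_zero, Fin.castSucc_inj, mul_ite, mul_one, Finset.sum_ite_eq,
          Finset.mem_univ, if_true, c']
        ring
    rw [h5]
    exact Submodule.sub_mem _ h3 h4

section Transfer

variable {R' A : Type*} [CommRing R'] [CommRing A] (e : R' ≃+* A) (C : A →+* R')

lemma mem_map_iff (heC : ∀ a, e (C a) = a) (I : Ideal A) (y : R') :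
    y ∈ Ideal.map C I ↔ e y ∈ I := by
  have hCe : ∀ x, C (e x) = x := fun x => e.injective (heC _)
  constructor
  · intro hy
    have hle : Ideal.map C I ≤ Ideal.comap (e : R' →+* A) I := by
      rw [Ideal.map_le_iff_le_comap]
      intro a ha
      rw [Ideal.mem_comap, Ideal.mem_comap]
      change e (C a) ∈ I
      rwa [heC]
    exact hle hy
  · intro hy
    have := Ideal.mem_map_of_mem C hy
    rwa [hCe] at this

/-- a weakly regular sequence of `A`, transported along a ring isomorphism, satisfies `Reg` -/
theorem reg_of_isWeaklyRegular (heC : ∀ a, e (C a) = a) (rs : List A)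
    (hreg : RingTheory.Sequence.IsWeaklyRegular A rs) :
    Reg (fun i : Fin rs.length => C (rs.get i)) := by
  intro i x hx
  have hset : Ideal.span ((fun i : Fin rs.length => C (rs.get i)) '' {j | j < i}) =
      Ideal.map C (Ideal.ofList (rs.take i)) := by
    rw [Ideal.ofList, Ideal.map_span]
    congr 1
    ext y
    constructor
    · rintro ⟨j, hj, rfl⟩
      refine ⟨rs.get j, ?_, rfl⟩
      change rs.get j ∈ rs.take i
      rw [List.mem_take_iff_getElem]
      exact ⟨j, lt_min (Fin.lt_def.mp hj) j.2, rfl⟩
    · rintro ⟨a, ha, rfl⟩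
      change a ∈ rs.take i at ha
      rw [List.mem_take_iff_getElem] at ha
      obtain ⟨j, hj, rfl⟩ := ha
      exact ⟨⟨j, lt_of_lt_of_le hj (min_le_right _ _)⟩,
        Fin.lt_def.mpr (lt_of_lt_of_le hj (min_le_left _ _)), rfl⟩
  rw [hset] at hx ⊢
  rw [mem_map_iff e C heC] at hx ⊢
  rw [map_mul, heC] at hx
  have hregi := hreg.regular_mod_prev i i.2
  have h2 : (rs[(i : ℕ)] : A) • (Submodule.Quotient.mk (e x) :
      A ⧸ (Ideal.ofList (rs.take i) • (⊤ : Submodule A A))) = rs[(i : ℕ)] • 0 := by
    rw [smul_zero, ← Submodule.Quotient.mk_smul, Submodule.Quotient.mk_eq_zero, smul_eq_mul]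
    have hx' : rs[(i : ℕ)] * e x ∈ Ideal.ofList (rs.take i) := hx
    simpa only [smul_eq_mul, Ideal.mul_top] using hx'
  have h3 := hregi h2
  rw [Submodule.Quotient.mk_eq_zero] at h3
  simpa only [smul_eq_mul, Ideal.mul_top] using h3

end Transfer

end Groth.Agent.H61.Koszul
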