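/-
`H₁`-regular sequences localize (helper61).  Mathlib + the frozen definition only.
-/
import Mathlib
import Groth.Prelude.Def_CAlgX

set_option autoImplicit false

namespace Groth.Agent.H61.H1RegLoc

universe u

/-- the image of an `H₁`-regular sequence in a localization is `H₁`-regular -/
theorem isH1Regular_map_of_isLocalization {R R' : Type u} [CommRing R] [CommRing R'] [Algebra R R']
    (S : Submonoid R) [IsLocalization S R'] {c : ℕ} (f : Fin c → R) (hf : CAlgX.IsH1Regular f) :
    CAlgX.IsH1Regular (fun i => algebraMap R R' (f i)) := by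
  classical
  intro a' ha'
  obtain ⟨b, hb⟩ := IsLocalization.exist_integer_multiples_of_finite S a'
  choose a ha using hb
  have h1 : algebraMap R R' (∑ i, a i * f i) = 0 := by
    rw [map_sum]
    have : ∀ i, algebraMap R R' (a i * f i) = (b : R) • (a' i * algebraMap R R' (f i)) := by
      intro i
      rw [map_mul, ha i, smul_mul_assoc]
    rw [Finset.sum_congr rfl (fun i _ => this i), ← Finset.smul_sum, ha', smul_zero]
  obtain ⟨t, ht⟩ := (IsLocalization.map_eq_zero_iff S R' _).mp h1
  have hrel : ∑ i, ((t : R) * a i) * f i = 0 := by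
    rw [← ht, Finset.mul_sum]
    exact Finset.sum_congr rfl fun i _ => mul_assoc _ _ _
  have hmem := hf (fun i => (t : R) * a i) hrel
  -- push forward along `R → R'`
  let Φ : (Fin c → R) →ₗ[R] (Fin c → R') := (Algebra.linearMap R R').compLeft (Fin c)
  have hΦ : ∀ v ∈ Submodule.span R {v : Fin c → R | ∃ i j : Fin c, v = Pi.single i (f j) - Pi.single j (f i)},
      Φ v ∈ Submodule.span R' {v : Fin c → R' | ∃ i j : Fin c,
        v = Pi.single i (algebraMap R R' (f j)) - Pi.single j (algebraMap R R' (f i))} := by
    intro v hv
    induction hv using Submodule.span_induction with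
    | mem v hv =>
      obtain ⟨i, j, rfl⟩ := hv
      refine Submodule.subset_span ⟨i, j, ?_⟩
      funext k
      simp only [Φ, LinearMap.compLeft_apply, Function.comp_apply, Pi.sub_apply, Pi.single_apply,
        Algebra.linearMap_apply, map_sub]
      split_ifs <;> simp
    | zero => rw [map_zero]; exact zero_mem _
    | add v w _ _ hv hw => rw [map_add]; exact add_mem hv hw
    | smul r v _ hv =>
      rw [map_smul]
      have : r • Φ v = algebraMap R R' r • Φ v := (algebraMap_smul R' r (Φ v)).symm
      rw [this]
      exact Submodule.smul_mem _ _ hv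
  have h2 := hΦ _ hmem
  have h3 : a' = IsLocalization.mk' R' (1 : R) (t * b) • Φ (fun i => (t : R) * a i) := by
    funext i
    simp only [Φ, Pi.smul_apply, LinearMap.compLeft_apply, Function.comp_apply, Algebra.linearMap_apply,
      smul_eq_mul]
    rw [map_mul, ha i, Algebra.smul_def, ← mul_assoc, ← mul_assoc]
    have h4 : IsLocalization.mk' R' (1 : R) (t * b) * algebraMap R R' (t : R) * algebraMap R R' (b : R) = 1 := by
      rw [mul_assoc, ← map_mul, mul_comm,
        show (t : R) * (b : R) = ((t * b : S) : R) from rfl, IsLocalization.mk'_spec', map_one]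
    rw [h4, one_mul]
  rw [h3]
  exact Submodule.smul_mem _ _ h2

end Groth.Agent.H61.H1RegLoc
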