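/-
Local complete intersections: the conormal module has no torsion for non-zero-divisors of the
quotient (helper61).
-/
import Groth.Agent.H61.H1RegLoc
import Groth.Agent.H59.KoszH1Bridge
import Groth.Agent.S18939
import Groth.Prelude.Def_LCI2

set_option autoImplicit false

namespace Groth.Agent.H61.LciCot

universe u

/-- `l.get` spans the same ideal as the members of `l` -/
lemma span_range_get {R : Type u} [CommRing R] (l : List R) :
    Ideal.span (Set.range l.get) = Ideal.span {x | x ∈ l} := by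
  congr 1
  ext x
  simp only [Set.mem_range, Set.mem_setOf_eq]
  constructor
  · rintro ⟨i, rfl⟩
    exact List.get_mem l i
  · intro hx
    obtain ⟨i, hi⟩ := List.mem_iff_get.mp hx
    exact ⟨i, hi⟩

/-- Local data of a Koszul-regular ideal at a prime containing it. -/
lemma exists_h1Regular {P : Type u} [CommRing P] (I : Ideal P) (hI : LCI.IsKoszulRegularIdeal I)
    (𝔮 : Ideal P) [h𝔮 : 𝔮.IsPrime] (hle : I ≤ 𝔮) :
    ∃ g : P, g ∉ 𝔮 ∧ ∃ (c : ℕ) (h : Fin c → Localization.Away g), CAlgX.IsH1Regular h ∧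
      I.map (algebraMap P (Localization.Away g)) = Ideal.span (Set.range h) := by
  obtain ⟨g, hg, l, hl, hspan⟩ := hI ⟨𝔮, h𝔮⟩ hle
  refine ⟨g, hg, l.length, l.get, Groth.Agent.H59.Kosz.isH1Regular_of_isKoszulRegularSeq l hl, ?_⟩
  rw [hspan, span_range_get]

/-- If `s` is a non-zero-divisor modulo a Koszul-regular ideal `I`, then `s` is a non-zero-divisor on
`I/I²`. -/
theorem mem_sq_of_mul_mem_sq {P : Type u} [CommRing P] (I : Ideal P) (hI : LCI.IsKoszulRegularIdeal I)
    (s y : P) (hy : y ∈ I) (hsy : s * y ∈ I ^ 2) (hs : ∀ a, s * a ∈ I → a ∈ I) : y ∈ I ^ 2 := by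
  classical
  set C : Ideal P := (I ^ 2).colon {y} with hC
  have hCmem : ∀ t, t ∈ C ↔ t * y ∈ I ^ 2 := fun t => by
    rw [hC, Submodule.mem_colon_singleton, smul_eq_mul]
  suffices h1 : C = ⊤ by
    have : (1 : P) ∈ C := by rw [h1]; exact Submodule.mem_top
    rw [hCmem, one_mul] at this
    exact this
  by_contra hne
  obtain ⟨𝔪, h𝔪, hC𝔪⟩ := Ideal.exists_le_maximal C hne
  haveI := h𝔪.isPrime
  by_cases hle : I ≤ 𝔪
  · obtain ⟨g, hg, c, h, hH1, hspan⟩ := exists_h1Regular I hI 𝔪 hle
    set φ := algebraMap P (Localization.Away g) with hφ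
    -- non-zero-divisor property in the localization
    have hsJ : ∀ x' : Localization.Away g, φ s * x' ∈ I.map φ → x' ∈ I.map φ := by
      intro x' hx'
      obtain ⟨x, u, rfl⟩ := IsLocalization.exists_mk'_eq (Submonoid.powers g) x'
      have h2 : φ (s * x) ∈ I.map φ := by
        have : φ (s * x) = φ (u : P) * (φ s * IsLocalization.mk' (Localization.Away g) x u) := by
          rw [map_mul, mul_left_comm, IsLocalization.mk'_spec']
        rw [this]
        exact Ideal.mul_mem_left _ _ hx'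
      obtain ⟨w, hw, hwx⟩ :=
        (IsLocalization.algebraMap_mem_map_algebraMap_iff (Submonoid.powers g) _ I (s * x)).mp h2
      have h3 : w * x ∈ I := hs _ (by rw [mul_left_comm]; exact hwx)
      exact (IsLocalization.mk'_mem_map_algebraMap_iff (Submonoid.powers g) _ I x u).mpr ⟨w, hw, h3⟩
    have hyJ : φ y ∈ Ideal.span (Set.range h) := by
      rw [← hspan]
      exact Ideal.mem_map_of_mem _ hy
    obtain ⟨a, ha⟩ := Ideal.mem_span_range_iff_exists_fun.mp hyJ
    have hsum : ∑ i, (φ s * a i) * h i ∈ Ideal.span (Set.range h) ^ 2 := by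
      have : ∑ i, (φ s * a i) * h i = φ (s * y) := by
        rw [map_mul, ← ha, Finset.mul_sum]
        exact Finset.sum_congr rfl fun i _ => mul_assoc _ _ _
      rw [this, ← hspan, ← Ideal.map_pow]
      exact Ideal.mem_map_of_mem _ hsy
    have hak : ∀ k, a k ∈ I.map φ := by
      intro k
      apply hsJ
      rw [hspan]
      exact Groth.Agent.S18939.coeff_mem_of_h1 h hH1 (fun i => φ s * a i) hsum k
    have hy2 : φ y ∈ (I ^ 2).map φ := by
      rw [Ideal.map_pow, ← ha, pow_two]
      refine Ideal.sum_mem _ fun i _ => Ideal.mul_mem_mul (hak i) ?_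
      rw [hspan]
      exact Ideal.subset_span ⟨i, rfl⟩
    obtain ⟨w, hw, hwy⟩ :=
      (IsLocalization.algebraMap_mem_map_algebraMap_iff (Submonoid.powers g) _ (I ^ 2) y).mp hy2
    have hwC : w ∈ C := (hCmem w).mpr hwy
    obtain ⟨N, rfl⟩ := hw
    exact hg (h𝔪.isPrime.mem_of_pow_mem N (hC𝔪 hwC))
  · obtain ⟨t, htI, ht𝔪⟩ := SetLike.not_le_iff_exists.mp hle
    apply ht𝔪
    apply hC𝔪
    rw [hCmem, pow_two]
    exact Ideal.mul_mem_mul htI hy

end Groth.Agent.H61.LciCot
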