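/-
Flatness lemmas for deformation theory over Artinian local rings (helper61):
nilpotent Nakayama, kernels of surjections of flat modules, `K ∩ IF = IK` for flat quotients,
and the converse flatness criterion over a local ring with nilpotent maximal ideal.
-/
import Mathlib
import Groth.Agent.H30.NilFlat2

set_option autoImplicit false

namespace Groth.Agent.H61.DefFlat

open TensorProduct

universe u v

section Nak

variable {R : Type*} [CommRing R] {M : Type*} [AddCommGroup M] [Module R M]

/-- nilpotent Nakayama -/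
lemma le_of_le_sup_smul (J : Ideal R) (hnil : IsNilpotent J) {N N' : Submodule R M}
    (h : N ≤ N' ⊔ J • N) : N ≤ N' := by
  obtain ⟨n, hn⟩ := hnil
  have key : ∀ k : ℕ, N ≤ N' ⊔ (J ^ k) • N := by
    intro k
    induction k with
    | zero =>
      rw [pow_zero, Ideal.one_eq_top, Submodule.top_smul]
      exact le_sup_right
    | succ k ih =>
      refine h.trans (sup_le le_sup_left ?_)
      calc J • N ≤ J • (N' ⊔ (J ^ k) • N) := Submodule.smul_mono (le_refl J) ih
        _ = J • N' ⊔ J • (J ^ k) • N := Submodule.smul_sup _ _ _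
        _ ≤ N' ⊔ (J ^ (k + 1)) • N := by
          refine sup_le_sup Submodule.smul_le_right ?_
          rw [pow_succ', Submodule.mul_smul]
  have h1 := key n
  rw [hn, Ideal.zero_eq_bot, Submodule.bot_smul, sup_bot_eq] at h1
  exact h1

lemma eq_top_of_sup_smul_top (J : Ideal R) (hnil : IsNilpotent J) (N : Submodule R M)
    (h : N ⊔ J • (⊤ : Submodule R M) = ⊤) : N = ⊤ :=
  top_le_iff.mp (le_of_le_sup_smul J hnil (by rw [h]))

end Nak

section Flat

variable {A : Type u} [CommRing A]

/-- for a flat quotient `M` of `F`: `ker ∩ I F = I ker` (helper2's lemma, copied) -/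
lemma inf_smul_top_le_smul_ker {F M : Type*} [AddCommGroup F] [Module A F]
    [AddCommGroup M] [Module A M] [Module.Flat A M] (I : Ideal A) (φ : F →ₗ[A] M)
    (hφ : Function.Surjective φ) :
    LinearMap.ker φ ⊓ I • (⊤ : Submodule A F) ≤ I • LinearMap.ker φ := by
  intro x hx
  obtain ⟨hxK, hxI⟩ := hx
  have hinj : Function.Injective ((LinearMap.ker φ).subtype.lTensor (A ⧸ I)) :=
    lTensor_injective_of_exact_of_exact_of_rTensor_injective
      (f₁ := Submodule.subtype I) (f₂ := Submodule.mkQ I)
      (g₁ := (LinearMap.ker φ).subtype) (g₂ := φ)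
      (LinearMap.exact_subtype_mkQ I) (Submodule.mkQ_surjective I)
      (LinearMap.exact_subtype_ker_map φ) hφ
      (Module.Flat.rTensor_preserves_injective_linearMap _ Subtype.val_injective)
      (Module.Flat.lTensor_preserves_injective_linearMap _ Subtype.val_injective)
  have h1 : (TensorProduct.mk A (A ⧸ I) F 1) x = 0 := by
    rw [← LinearMap.mem_ker, LinearMap.ker_tensorProductMk]; exact hxI
  have h2 : (TensorProduct.mk A (A ⧸ I) (LinearMap.ker φ) 1) ⟨x, hxK⟩ = 0 := by
    apply hinj
    rw [map_zero]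
    show (LinearMap.lTensor (A ⧸ I) (LinearMap.ker φ).subtype)
      ((1 : A ⧸ I) ⊗ₜ[A] (⟨x, hxK⟩ : LinearMap.ker φ)) = 0
    rw [LinearMap.lTensor_tmul]; exact h1
  have h3 : (⟨x, hxK⟩ : LinearMap.ker φ) ∈ I • (⊤ : Submodule A (LinearMap.ker φ)) := by
    rw [← LinearMap.ker_tensorProductMk, LinearMap.mem_ker]; exact h2
  have h4 := Submodule.mem_map_of_mem (f := (LinearMap.ker φ).subtype) h3
  rw [Submodule.map_smul'', Submodule.map_top, Submodule.range_subtype] at h4
  exact h4

/-- the kernel of a surjection of flat modules is flat -/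
theorem flat_ker {K F M : Type*} [AddCommGroup K] [Module A K] [AddCommGroup F] [Module A F]
    [AddCommGroup M] [Module A M] (ι : K →ₗ[A] F) (π : F →ₗ[A] M) (hι : Function.Injective ι)
    (hex : Function.Exact ι π) (hπ : Function.Surjective π) [Module.Flat A F] [Module.Flat A M] :
    Module.Flat A K := by
  rw [Module.Flat.iff_rTensor_injective']
  intro I
  -- `I ⊗ K → I ⊗ F` is injective since `M` is flat
  let p : (I →₀ A) →ₗ[A] I := Finsupp.linearCombination A id
  have hp : Function.Surjective p := fun y => ⟨Finsupp.single y 1, by simp [p]⟩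
  have hex1 : Function.Exact (LinearMap.ker p).subtype p := LinearMap.exact_subtype_ker_map p
  have hf : Function.Injective ((LinearMap.ker p).subtype.rTensor M) :=
    Module.Flat.rTensor_preserves_injective_linearMap _ (Submodule.injective_subtype _)
  have hg : Function.Injective (ι.lTensor (I →₀ A)) :=
    Module.Flat.lTensor_preserves_injective_linearMap _ hι
  have h1 : Function.Injective (ι.lTensor I) := by
    have h := lTensor_injective_of_exact_of_exact_of_rTensor_injective (R := A)
      (M₁ := LinearMap.ker p) (M₂ := I →₀ A) (M₃ := I) (N₁ := K) (N₂ := F) (N₃ := M)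
      (f₁ := (LinearMap.ker p).subtype) (f₂ := p) (g₁ := ι) (g₂ := π)
    exact h hex1 hp hex hπ hf hg
  have h2 : Function.Injective (I.subtype.rTensor F) :=
    Module.Flat.rTensor_preserves_injective_linearMap _ (Submodule.injective_subtype _)
  have h3 : (ι.lTensor A).comp (I.subtype.rTensor K) = (I.subtype.rTensor F).comp (ι.lTensor I) := by
    rw [LinearMap.lTensor_comp_rTensor, LinearMap.rTensor_comp_lTensor]
  have h4 : Function.Injective ((ι.lTensor A).comp (I.subtype.rTensor K)) := by
    rw [h3, LinearMap.coe_comp]; exact h2.comp h1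
  rw [LinearMap.coe_comp] at h4
  exact Function.Injective.of_comp h4

variable [IsLocalRing A]

/-- converse criterion: over a local ring with nilpotent maximal ideal, a quotient `F/N` of a flat
module with `N ∩ 𝔪F ≤ 𝔪N` is flat -/
theorem flat_quotient_of_inf_le (hnil : IsNilpotent (IsLocalRing.maximalIdeal A))
    {F : Type*} [AddCommGroup F] [Module A F] [Module.Flat A F] (N : Submodule A F)
    (h : N ⊓ IsLocalRing.maximalIdeal A • (⊤ : Submodule A F) ≤ IsLocalRing.maximalIdeal A • N) :
    Module.Flat A (F ⧸ N) := by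
  set 𝔪 := IsLocalRing.maximalIdeal A with h𝔪
  refine Groth.Agent.H30.NilFlat.flat_of_nilpotent 𝔪 hnil ?_ ?_
  · let _ : Field (A ⧸ 𝔪) := Ideal.Quotient.field 𝔪
    infer_instance
  · rw [← LinearMap.lTensor_inj_iff_rTensor_inj]
    have hfinj : Function.Injective (N.subtype.rTensor (A ⧸ 𝔪)) := by
      rw [← LinearMap.lTensor_inj_iff_rTensor_inj, injective_iff_map_eq_zero]
      intro z hz
      obtain ⟨x, rfl⟩ := TensorProduct.mk_surjective A N (A ⧸ 𝔪) Ideal.Quotient.mk_surjective z
      rw [TensorProduct.mk_apply, LinearMap.lTensor_tmul] at hz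
      have h1 : (x : F) ∈ 𝔪 • (⊤ : Submodule A F) := by
        rw [← LinearMap.ker_tensorProductMk, LinearMap.mem_ker]; exact hz
      have h2 : (x : F) ∈ 𝔪 • N := h ⟨x.2, h1⟩
      have h3 : 𝔪 • N = (𝔪 • (⊤ : Submodule A N)).map N.subtype := by
        rw [Submodule.map_smul'', Submodule.map_top, Submodule.range_subtype]
      rw [h3] at h2
      obtain ⟨y, hy, hyx⟩ := h2
      have hyx' : y = x := Subtype.ext hyx
      have hy' : y ∈ LinearMap.ker (TensorProduct.mk A (A ⧸ 𝔪) N 1) := by
        rw [LinearMap.ker_tensorProductMk]; exact hy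
      rw [hyx'] at hy'
      exact LinearMap.mem_ker.mp hy'
    have hg : Function.Injective (𝔪.subtype.lTensor F) :=
      Module.Flat.lTensor_preserves_injective_linearMap _ (Submodule.injective_subtype _)
    have h0 := lTensor_injective_of_exact_of_exact_of_rTensor_injective (R := A)
      (M₁ := N) (M₂ := F) (M₃ := F ⧸ N) (N₁ := 𝔪) (N₂ := A) (N₃ := A ⧸ 𝔪)
      (f₁ := N.subtype) (f₂ := N.mkQ) (g₁ := 𝔪.subtype) (g₂ := 𝔪.mkQ)
    exact h0 (LinearMap.exact_subtype_mkQ N) (Submodule.mkQ_surjective N)
      (LinearMap.exact_subtype_mkQ 𝔪) (Submodule.mkQ_surjective 𝔪) hfinj hg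

end Flat

end Groth.Agent.H61.DefFlat
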