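import Mathlib
import Groth.Prelude.Def_ArtFun6
import Groth.Prelude.Def_FGA

/-!
# Points of a `k`-scheme with values in Artinian local `k`-algebras, based at a `k`-point

Definitions only (used to compute the tangent space of the Hilbert scheme).
-/

set_option autoImplicit false
universe u
open CategoryTheory CategoryTheory.Limits AlgebraicGeometry
open ArtFun ArtFun.Art

namespace Groth.Agent.H61.HilbTan

variable {k : Type u} [Field k]

lemma specRes_specOver (A : Art k k) : specRes A ≫ specOver A = 𝟙 (specPt k) := by
  have h : specRes A ≫ specOver A = specRes (base k k) := specRes_comp (ofBase A)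
  rw [h]
  exact (Category.id_comp _).symm.trans (comp_specRes_base (𝟙 (specPt k)))

/-- the closed point of `Spec A`, as a morphism of `k`-schemes -/
noncomputable def rPt (A : Art k k) :
    Over.mk (𝟙 (Spec (CommRingCat.of k))) ⟶ Over.mk (specOver A) :=
  Over.homMk (specRes A) (specRes_specOver A)

/-- `Spec B ⟶ Spec A` as a morphism of `k`-schemes -/
noncomputable def sMap {A B : Art k k} (g : A ⟶ B) :
    Over.mk (specOver B) ⟶ Over.mk (specOver A) :=
  Over.homMk (specMap g) (specOver_comp g)

lemma rPt_sMap {A B : Art k k} (g : A ⟶ B) : rPt B ≫ sMap g = rPt A := by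
  apply Over.OverMorphism.ext
  exact specRes_comp g

/-- the `A`-valued points of the `k`-scheme `H` whose closed point is the `k`-point `h` -/
def TV (H : Over (Spec (CommRingCat.of k))) (h : Over.mk (𝟙 (Spec (CommRingCat.of k))) ⟶ H)
    (A : Art k k) : Type u :=
  {t : Over.mk (specOver A) ⟶ H // rPt A ≫ t = h}

/-- functoriality of `TV` -/
noncomputable def TV.map {H : Over (Spec (CommRingCat.of k))}
    {h : Over.mk (𝟙 (Spec (CommRingCat.of k))) ⟶ H} {A B : Art k k} (g : A ⟶ B)
    (t : TV H h A) : TV H h B :=
  ⟨sMap g ≫ t.1, by rw [← Category.assoc, rPt_sMap]; exact t.2⟩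

/-- the `A`-valued points of a ring `R` with a structure map `s` from `k` and an augmentation
`e` to `k`: ring maps `R → A` compatible with both -/
def DPt {R : Type u} [CommRing R] (s : k →+* R) (e : R →+* k) (A : Art k k) : Type u :=
  {φ : R →+* A // φ.comp s = algebraMap k A ∧ (A.res : A →+* k).comp φ = e}

/-- functoriality of `DPt` -/
def DPt.map {R : Type u} [CommRing R] {s : k →+* R} {e : R →+* k} {A B : Art k k} (g : A ⟶ B)
    (φ : DPt s e A) : DPt s e B :=
  ⟨(g.toAlgHom : A →+* B).comp φ.1, by
    constructor
    · rw [RingHom.comp_assoc, φ.2.1]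
      exact RingHom.ext fun c => g.toAlgHom.commutes c
    · have h2 := φ.2.2
      rw [← RingHom.comp_assoc]
      refine Eq.trans ?_ h2
      congr 1
      exact RingHom.ext fun a => congrFun (congrArg (fun f : A →ₐ[k] k => (f : A → k)) g.res_comp) a⟩

end Groth.Agent.H61.HilbTan
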