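/-
Flatness and fibres (helper61): three elementary tools.

* `mem_mul_of_flat`: if `S/I` is flat over `A`, then `𝔮S ∩ I = 𝔮S · I` for every ideal `𝔮` of `A`.
* `exists_not_mem_smul_top`: the graded-piece lemma for a flat module `M` over a Noetherian local ring
  `(R, 𝔪)`: an element `z ∉ 𝔪ⁿM` yields `w ∉ 𝔪M` such that every endomorphism killing `z` sends `w`
  into `𝔪M`.
* `isH1Regular_map_of_surjective`: `H₁`-regular sequences descend along surjections `φ` with
  `ker φ ∩ (h) = ker φ · (h)`.
-/
import Mathlib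
import Groth.Prelude.Def_CAlgX

set_option autoImplicit false

namespace Groth.Agent.H61.FlatFibre

open IsLocalRing

/-- If `S/I` is flat over `A` then `𝔮S ∩ I ⊆ 𝔮S · I`. -/
theorem mem_mul_of_flat {A S : Type*} [CommRing A] [CommRing S] [Algebra A S] (I : Ideal S)
    [Module.Flat A (S ⧸ I)] (𝔮 : Ideal A) (x : S) (hxI : x ∈ I)
    (hxq : x ∈ 𝔮.map (algebraMap A S)) : x ∈ 𝔮.map (algebraMap A S) * I := by
  classical
  rw [Ideal.map, Ideal.span, Finsupp.mem_span_image_iff_linearCombination] at hxq
  obtain ⟨l, hl, rfl⟩ := hxq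
  rw [Finsupp.linearCombination_apply, Finsupp.sum] at hxI ⊢
  -- the relation in `S/I`
  have hrel : ∑ i : {a // a ∈ l.support}, (i.1 : A) • (Ideal.Quotient.mk I (l i.1)) = 0 := by
    have : ∑ i : {a // a ∈ l.support}, (i.1 : A) • (Ideal.Quotient.mk I (l i.1)) =
        Ideal.Quotient.mk I (∑ a ∈ l.support, l a • algebraMap A S a) := by
      rw [map_sum, ← Finset.sum_coe_sort l.support]
      refine Finset.sum_congr rfl fun i _ => ?_
      rw [smul_eq_mul, map_mul, Algebra.smul_def, mul_comm]
      rfl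
    rw [this]
    exact Ideal.Quotient.eq_zero_iff_mem.mpr hxI
  obtain ⟨k, a, y, hy, ha⟩ := Module.Flat.isTrivialRelation_of_sum_smul_eq_zero (R := A)
    (M := S ⧸ I) (f := fun i : {a // a ∈ l.support} => (i.1 : A))
    (x := fun i : {a // a ∈ l.support} => Ideal.Quotient.mk I (l i.1)) hrel
  replace hy : ∀ i : {a // a ∈ l.support}, Ideal.Quotient.mk I (l i.1) = ∑ j, a i j • y j := hy
  replace ha : ∀ j : Fin k, ∑ i : {a // a ∈ l.support}, (i.1 : A) * a i j = 0 := ha
  choose y' hy' using fun j => Ideal.Quotient.mk_surjective (y j)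
  set e : {a // a ∈ l.support} → S := fun i => l i.1 - ∑ j, algebraMap A S (a i j) * y' j with he
  have heI : ∀ i, e i ∈ I := by
    intro i
    rw [← Ideal.Quotient.eq_zero_iff_mem, he, map_sub, hy i, map_sum, sub_eq_zero]
    refine Finset.sum_congr rfl fun j _ => ?_
    rw [map_mul, hy' j, Algebra.smul_def]
    rfl
  have hsum : ∑ a ∈ l.support, l a • algebraMap A S a =
      ∑ i : {a // a ∈ l.support}, algebraMap A S i.1 * e i := by
    rw [← Finset.sum_coe_sort l.support]
    have h2 : ∑ i : {a // a ∈ l.support}, algebraMap A S i.1 * ∑ j, algebraMap A S (a i j) * y' j = 0 := by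
      have : ∑ i : {a // a ∈ l.support}, algebraMap A S i.1 * ∑ j, algebraMap A S (a i j) * y' j =
          ∑ j, algebraMap A S (∑ i : {a // a ∈ l.support}, (i.1 : A) * a i j) * y' j := by
        simp_rw [Finset.mul_sum, map_sum, Finset.sum_mul]
        rw [Finset.sum_comm]
        refine Finset.sum_congr rfl fun j _ => Finset.sum_congr rfl fun i _ => ?_
        rw [map_mul, mul_assoc]
      rw [this]
      refine Finset.sum_eq_zero fun j _ => ?_
      rw [ha j, map_zero, zero_mul]
    have h3 : ∀ i : {a // a ∈ l.support}, l i.1 • algebraMap A S i.1 =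
        algebraMap A S i.1 * e i + algebraMap A S i.1 * ∑ j, algebraMap A S (a i j) * y' j := by
      intro i
      rw [he, smul_eq_mul]
      ring
    rw [Finset.sum_congr rfl fun i _ => h3 i, Finset.sum_add_distrib, h2, add_zero]
  rw [hsum]
  refine Ideal.sum_mem _ fun i _ => Ideal.mul_mem_mul (Ideal.mem_map_of_mem _ (hl ?_)) (heI i)
  exact i.2

/-- elements of `span t • ⊤` are combinations of the generators -/
lemma exists_sum_of_mem_span_smul_top {R M : Type*} [CommRing R] [AddCommGroup M] [Module R M]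
    (t : Finset R) (z : M) (hz : z ∈ Ideal.span (t : Set R) • (⊤ : Submodule R M)) :
    ∃ p : R → M, z = ∑ x ∈ t, x • p x := by
  classical
  refine Submodule.smul_induction_on hz ?_ ?_
  · intro r hr m _
    obtain ⟨f, -, hf⟩ := Submodule.mem_span_finset.mp hr
    refine ⟨fun x => f x • m, ?_⟩
    rw [← hf, Finset.sum_smul]
    refine Finset.sum_congr rfl fun x _ => ?_
    rw [smul_eq_mul, mul_comm, mul_smul]
  · intro x y hx hy
    obtain ⟨p, rfl⟩ := hx
    obtain ⟨q, rfl⟩ := hy
    refine ⟨fun x => p x + q x, ?_⟩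
    rw [← Finset.sum_add_distrib]
    exact Finset.sum_congr rfl fun x _ => (smul_add _ _ _).symm

/-- The graded-piece lemma for flat modules over a Noetherian local ring. -/
theorem exists_not_mem_smul_top {R : Type*} [CommRing R] [IsLocalRing R] [IsNoetherianRing R]
    {M : Type*} [AddCommGroup M] [Module R M] [Module.Flat R M]
    (z : M) (n : ℕ) (hz : z ∉ (maximalIdeal R ^ n) • (⊤ : Submodule R M)) :
    ∃ w : M, w ∉ (maximalIdeal R) • (⊤ : Submodule R M) ∧
      ∀ φ : M →ₗ[R] M, φ z = 0 → φ w ∈ (maximalIdeal R) • (⊤ : Submodule R M) := by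
  classical
  have hex : ∃ n, z ∉ (maximalIdeal R ^ n) • (⊤ : Submodule R M) := ⟨n, hz⟩
  set n₀ := Nat.find hex with hn₀
  have hn₀spec : z ∉ (maximalIdeal R ^ n₀) • (⊤ : Submodule R M) := Nat.find_spec hex
  have hn₀ne : n₀ ≠ 0 := by
    intro h0
    rw [h0, pow_zero, Ideal.one_eq_top, Submodule.top_smul] at hn₀spec
    exact hn₀spec Submodule.mem_top
  obtain ⟨k, hk⟩ := Nat.exists_eq_succ_of_ne_zero hn₀ne
  have hzk : z ∈ (maximalIdeal R ^ k) • (⊤ : Submodule R M) := by
    by_contra hcon
    exact Nat.find_min hex (m := k) (by rw [← hn₀, hk]; exact Nat.lt_succ_self k) hcon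
  rw [hk] at hn₀spec
  -- minimal generators of `J = 𝔪^k`
  set J : Ideal R := maximalIdeal R ^ k with hJ
  have hexr : ∃ r : ℕ, ∃ t : Finset R, t.card = r ∧ Ideal.span (t : Set R) = J := by
    obtain ⟨t, ht⟩ := (isNoetherianRing_iff_ideal_fg R).mp inferInstance J
    exact ⟨t.card, t, rfl, ht⟩
  obtain ⟨t, htcard, htspan⟩ := Nat.find_spec hexr
  have hmin : ∀ x ∈ t, x ∉ Ideal.span ((t.erase x : Finset R) : Set R) := by
    intro x hx hxmem
    have hspan : Ideal.span ((t.erase x : Finset R) : Set R) = J := by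
      apply le_antisymm
      · rw [← htspan]
        exact Ideal.span_mono (by exact_mod_cast Finset.erase_subset x t)
      · rw [← htspan, Ideal.span_le]
        intro y hy
        by_cases hyx : y = x
        · rw [hyx]; exact hxmem
        · exact Ideal.subset_span (by exact_mod_cast Finset.mem_erase.mpr ⟨hyx, hy⟩)
    have hcard : (t.erase x).card < Nat.find hexr := by
      rw [Finset.card_erase_of_mem hx, htcard]
      have : 0 < t.card := Finset.card_pos.mpr ⟨x, hx⟩
      omega
    exact Nat.find_min hexr hcard ⟨t.erase x, rfl, hspan⟩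
  -- write `z` in terms of the generators
  rw [← htspan] at hzk
  obtain ⟨p, hp⟩ := exists_sum_of_mem_span_smul_top t z hzk
  have hexx : ∃ x ∈ t, p x ∉ (maximalIdeal R) • (⊤ : Submodule R M) := by
    by_contra hcon
    push Not at hcon
    apply hn₀spec
    rw [hp, pow_succ, mul_smul]
    refine Submodule.sum_mem _ fun x hx => Submodule.smul_mem_smul ?_ (hcon x hx)
    rw [← hJ, ← htspan]
    exact Ideal.subset_span hx
  obtain ⟨x₀, hx₀, hpx₀⟩ := hexx
  refine ⟨p x₀, hpx₀, fun φ hφ => ?_⟩
  have hrel : ∑ i : {x // x ∈ t}, (i.1 : R) • φ (p i.1) = 0 := by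
    rw [Finset.sum_coe_sort t (fun x => x • φ (p x))]
    rw [hp, map_sum] at hφ
    rw [← hφ]
    exact Finset.sum_congr rfl fun x _ => (map_smul φ x (p x)).symm
  obtain ⟨k', a, y, hy, ha⟩ := Module.Flat.isTrivialRelation_of_sum_smul_eq_zero hrel
  have hamem : ∀ (i : {x // x ∈ t}) (j : Fin k'), a i j ∈ maximalIdeal R := by
    intro i j
    by_contra hnot
    have hunit : IsUnit (a i j) := by
      by_contra hnu
      exact hnot ((mem_maximalIdeal _).mpr hnu)
    obtain ⟨u, hu⟩ := hunit
    apply hmin i.1 i.2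
    have hsum := ha j
    rw [← Finset.add_sum_erase Finset.univ _ (Finset.mem_univ i)] at hsum
    have hi : (i.1 : R) = - (↑u⁻¹ * ∑ i' ∈ Finset.univ.erase i, (i'.1 : R) * a i' j) := by
      have h1 : (i.1 : R) * a i j = - ∑ i' ∈ Finset.univ.erase i, (i'.1 : R) * a i' j :=
        eq_neg_of_add_eq_zero_left hsum
      rw [← hu] at h1
      calc (i.1 : R) = ↑u⁻¹ * ((i.1 : R) * ↑u) := by
            rw [mul_comm (i.1 : R), ← mul_assoc, Units.inv_mul, one_mul]
        _ = _ := by rw [h1, mul_neg]
    have hmem : - (↑u⁻¹ * ∑ i' ∈ Finset.univ.erase i, (i'.1 : R) * a i' j) ∈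
        Ideal.span ((t.erase i.1 : Finset R) : Set R) := by
      refine Ideal.neg_mem_iff _ |>.mpr (Ideal.mul_mem_left _ _ (Ideal.sum_mem _ fun i' hi' => ?_))
      refine Ideal.mul_mem_right _ _ (Ideal.subset_span ?_)
      have hne : i' ≠ i := (Finset.mem_erase.mp hi').1
      have : (i'.1 : R) ∈ t.erase i.1 :=
        Finset.mem_erase.mpr ⟨fun h => hne (Subtype.ext h), i'.2⟩
      exact_mod_cast this
    rw [← hi] at hmem
    exact hmem
  have hy0 : φ (p x₀) = ∑ j, a ⟨x₀, hx₀⟩ j • y j := hy ⟨x₀, hx₀⟩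
  rw [hy0]
  exact Submodule.sum_mem _ fun j _ => Submodule.smul_mem_smul (hamem _ j) Submodule.mem_top

universe u

/-- `H₁`-regular sequences descend along surjections `φ` with `ker φ ∩ (h) ⊆ ker φ · (h)`. -/
theorem isH1Regular_map_of_surjective {T L : Type u} [CommRing T] [CommRing L] (φ : T →+* L)
    (hφ : Function.Surjective φ) {c : ℕ} (h : Fin c → T) (hH1 : CAlgX.IsH1Regular h)
    (hker : ∀ x ∈ Ideal.span (Set.range h), φ x = 0 →
      x ∈ RingHom.ker φ * Ideal.span (Set.range h)) :
    CAlgX.IsH1Regular (fun i => φ (h i)) := by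
  classical
  intro a' ha'
  choose a haφ using fun i => hφ (a' i)
  have hxmem : ∑ i, a i * h i ∈ Ideal.span (Set.range h) :=
    Ideal.sum_mem _ fun i _ => Ideal.mul_mem_left _ _ (Ideal.subset_span ⟨i, rfl⟩)
  have hx0 : φ (∑ i, a i * h i) = 0 := by
    rw [map_sum, ← ha']
    refine Finset.sum_congr rfl fun i _ => ?_
    rw [map_mul, haφ i]
  have hxK := hker _ hxmem hx0
  rw [← smul_eq_mul (a := RingHom.ker φ), Ideal.span, Submodule.mem_ideal_smul_span_iff_exists_sum] at hxK
  obtain ⟨b, hb, hbsum⟩ := hxK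
  have hbsum' : ∑ i, b i * h i = ∑ i, a i * h i := by
    rw [← hbsum, Finsupp.sum_fintype _ _ (fun i => by rw [zero_smul])]
    rfl
  have hrel : ∑ i, (a i - b i) * h i = 0 := by
    simp_rw [sub_mul]
    rw [Finset.sum_sub_distrib, hbsum', sub_self]
  have hmem := hH1 (fun i => a i - b i) hrel
  -- push forward along `φ`
  have hΦ : ∀ v ∈ Submodule.span T {v : Fin c → T | ∃ i j : Fin c, v = Pi.single i (h j) - Pi.single j (h i)},
      (fun k => φ (v k)) ∈ Submodule.span L {v : Fin c → L | ∃ i j : Fin c,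
        v = Pi.single i (φ (h j)) - Pi.single j (φ (h i))} := by
    intro v hv
    induction hv using Submodule.span_induction with
    | mem v hv =>
      obtain ⟨i, j, rfl⟩ := hv
      refine Submodule.subset_span ⟨i, j, ?_⟩
      funext k
      simp only [Pi.sub_apply, Pi.single_apply, map_sub]
      split_ifs <;> simp
    | zero =>
      have : (fun k => φ ((0 : Fin c → T) k)) = 0 := by funext k; simp
      rw [this]; exact zero_mem _
    | add v w _ _ hv hw =>
      have : (fun k => φ ((v + w) k)) = (fun k => φ (v k)) + (fun k => φ (w k)) := by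
        funext k; simp
      rw [this]; exact add_mem hv hw
    | smul r v _ hv =>
      have : (fun k => φ ((r • v) k)) = φ r • (fun k => φ (v k)) := by
        funext k; simp
      rw [this]; exact Submodule.smul_mem _ _ hv
  have h2 := hΦ _ hmem
  have h3 : (fun k => φ ((fun i => a i - b i) k)) = a' := by
    funext k
    have hbk : φ (b k) = 0 := hb k
    simp only [map_sub, haφ k, hbk, sub_zero]
  rw [h3] at h2
  exact h2

end Groth.Agent.H61.FlatFibre
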