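import Groth.Prelude.Def_LCI2
import Mathlib.RingTheory.Extension.Cotangent.Basic
import Mathlib.Algebra.Homology.Double
import Mathlib.Algebra.Homology.QuasiIso
import Mathlib.Algebra.Homology.DerivedCategory.Basic

/-!
# Homotopy invariance of the naive cotangent complex as an object of `D(B)`

For an extension `P` of `B` over `A` (all in one universe) we form the two-term complex
`nl P = [P.Cotangent → P.CotangentSpace]` in degrees `-1, 0` (`HomologicalComplex.double`);
`LCI.NLcx A B = nl (Generators.self A B).toExtension` by definition.  Homs of extensions induce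
maps of complexes, any two of which are homotopic, so `toD (nl P) ≅ toD (nl P')` for any two
extensions admitting homs in both directions.
-/

universe u

open CategoryTheory HomologicalComplex Algebra

attribute [local instance] HasDerivedCategory.standard

namespace Groth.Agent.H61.NLInv

variable {A B : Type u} [CommRing A] [CommRing B] [Algebra A B]

lemma rel : (ComplexShape.up ℤ).Rel (-1) 0 := by simp

lemma ne : (-1 : ℤ) ≠ 0 := by decide

/-- The two-term complex `I/I² → B ⊗ Ω` in degrees `-1, 0`. -/
noncomputable def nl (P : Extension.{u} A B) : DRing.Cx B :=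
  HomologicalComplex.double (ModuleCat.ofHom P.cotangentComplex) rel

lemma NLcx_eq : LCI.NLcx A B = nl (Generators.self A B).toExtension := rfl

variable {P P' P'' : Extension.{u} A B}

/-- The degree `-1` iso. -/
noncomputable def iso₀ (P : Extension.{u} A B) : (nl P).X (-1) ≅ ModuleCat.of B P.Cotangent :=
  doubleXIso₀ _ rel

/-- The degree `0` iso. -/
noncomputable def iso₁ (P : Extension.{u} A B) : (nl P).X 0 ≅ ModuleCat.of B P.CotangentSpace :=
  doubleXIso₁ _ rel ne

lemma nl_d (P : Extension.{u} A B) :
    (nl P).d (-1) 0 = (iso₀ P).hom ≫ ModuleCat.ofHom P.cotangentComplex ≫ (iso₁ P).inv :=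
  double_d _ rel ne

/-- The map of complexes induced by a hom of extensions. -/
noncomputable def nlMap (f : P.Hom P') : nl P ⟶ nl P' :=
  mkHomFromDouble rel ne
    (ModuleCat.ofHom (Extension.Cotangent.map f) ≫ (iso₀ P').inv)
    (ModuleCat.ofHom (Extension.CotangentSpace.map f) ≫ (iso₁ P').inv)
    (by
      rw [nl_d, Category.assoc, Iso.inv_hom_id_assoc, ← Category.assoc, ← Category.assoc]
      congr 1
      ext x
      exact (Extension.CotangentSpace.map_cotangentComplex f x).symm)
    (fun k _ => by
      rw [show (nl P').d 0 k = 0 from double_d_eq_zero₀ _ _ _ _ (by decide), Limits.comp_zero])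

@[simp] lemma nlMap_f₀ (f : P.Hom P') :
    (nlMap f).f (-1) = (iso₀ P).hom ≫ ModuleCat.ofHom (Extension.Cotangent.map f) ≫ (iso₀ P').inv :=
  mkHomFromDouble_f₀ _ _ _ _ _ _

@[simp] lemma nlMap_f₁ (f : P.Hom P') :
    (nlMap f).f 0 = (iso₁ P).hom ≫ ModuleCat.ofHom (Extension.CotangentSpace.map f) ≫ (iso₁ P').inv :=
  mkHomFromDouble_f₁ _ _ _ _ _ _

lemma nlMap_id : nlMap (Extension.Hom.id P) = 𝟙 (nl P) := by
  apply from_double_hom_ext
  · rw [nlMap_f₀, Extension.Cotangent.map_id]
    show (iso₀ P).hom ≫ 𝟙 _ ≫ (iso₀ P).inv = _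
    simp
  · rw [nlMap_f₁, Extension.CotangentSpace.map_id]
    show (iso₁ P).hom ≫ 𝟙 _ ≫ (iso₁ P).inv = _
    simp

lemma nlMap_comp (f : P.Hom P') (g : P'.Hom P'') : nlMap (g.comp f) = nlMap f ≫ nlMap g := by
  apply from_double_hom_ext
  · rw [nlMap_f₀, comp_f, nlMap_f₀, nlMap_f₀]
    simp only [Category.assoc, Iso.inv_hom_id_assoc]
    congr 1
    rw [← Category.assoc]
    congr 1
    refine ModuleCat.hom_ext (LinearMap.ext fun x => ?_)
    exact DFunLike.congr_fun (Extension.Cotangent.map_comp (f := f) (g := g)) x
  · rw [nlMap_f₁, comp_f, nlMap_f₁, nlMap_f₁]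
    simp only [Category.assoc, Iso.inv_hom_id_assoc]
    congr 1
    rw [← Category.assoc]
    congr 1
    refine ModuleCat.hom_ext (LinearMap.ext fun x => ?_)
    exact Extension.CotangentSpace.map_comp_apply f g x

open Classical in
/-- The homotopy components. -/
noncomputable def hHom (f g : P.Hom P') (i j : ℤ) : (nl P).X i ⟶ (nl P').X j :=
  if h : i = 0 ∧ j = -1 then
    eqToHom (by rw [h.1]) ≫ (iso₁ P).hom ≫ ModuleCat.ofHom (f.sub g) ≫ (iso₀ P').inv ≫
      eqToHom (by rw [h.2])
  else 0

lemma hHom_zero_neg_one (f g : P.Hom P') :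
    hHom f g 0 (-1) = (iso₁ P).hom ≫ ModuleCat.ofHom (f.sub g) ≫ (iso₀ P').inv := by
  rw [hHom, dif_pos ⟨rfl, rfl⟩]
  simp

lemma hHom_of_ne (f g : P.Hom P') (i j : ℤ) (h : ¬ (i = 0 ∧ j = -1)) : hHom f g i j = 0 :=
  dif_neg h

/-- Two homs of extensions induce homotopic maps of naive cotangent complexes. -/
noncomputable def htpy (f g : P.Hom P') : Homotopy (nlMap f) (nlMap g) where
  hom := hHom f g
  zero i j hij := hHom_of_ne f g i j (by
    rintro ⟨rfl, rfl⟩
    exact hij (by simp))
  comm i := by
    by_cases h₀ : i = -1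
    · subst h₀
      rw [dNext_eq _ (show (ComplexShape.up ℤ).Rel (-1) 0 by simp),
        prevD_eq _ (show (ComplexShape.up ℤ).Rel (-2) (-1) by simp),
        hHom_of_ne f g (-1) (-2) (by decide), Limits.zero_comp, add_zero,
        hHom_zero_neg_one, nl_d, nlMap_f₀, nlMap_f₀]
      simp only [Category.assoc, Iso.inv_hom_id_assoc]
      rw [← Preadditive.comp_add]
      congr 1
      rw [← Category.assoc (ModuleCat.ofHom P.cotangentComplex), ← Preadditive.add_comp]
      congr 1
      refine ModuleCat.hom_ext (LinearMap.ext fun x => ?_)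
      have := DFunLike.congr_fun (Extension.Cotangent.map_sub_map f g) x
      simp only [LinearMap.sub_apply, LinearMap.comp_apply] at this
      rw [sub_eq_iff_eq_add] at this
      exact this
    · by_cases h₁ : i = 0
      · subst h₁
        rw [dNext_eq _ (show (ComplexShape.up ℤ).Rel 0 1 by simp),
          prevD_eq _ (show (ComplexShape.up ℤ).Rel (-1) 0 by simp),
          hHom_of_ne f g 1 0 (by decide), Limits.comp_zero, zero_add,
          hHom_zero_neg_one, nl_d, nlMap_f₁, nlMap_f₁]
        simp only [Category.assoc, Iso.inv_hom_id_assoc]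
        rw [← Preadditive.comp_add]
        congr 1
        rw [← Category.assoc (ModuleCat.ofHom (f.sub g)), ← Preadditive.add_comp]
        congr 1
        refine ModuleCat.hom_ext (LinearMap.ext fun x => ?_)
        have := DFunLike.congr_fun (Extension.CotangentSpace.map_sub_map f g) x
        simp only [LinearMap.sub_apply, LinearMap.comp_apply] at this
        rw [sub_eq_iff_eq_add] at this
        exact this
      · exact (isZero_double_X _ rel i h₀ h₁).eq_of_src _ _

/-- Homs of extensions in both directions give a homotopy equivalence. -/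
noncomputable def homotopyEquiv (f : P.Hom P') (g : P'.Hom P) : HomotopyEquiv (nl P) (nl P') where
  hom := nlMap f
  inv := nlMap g
  homotopyHomInvId :=
    (Homotopy.ofEq (nlMap_comp f g).symm).trans
      ((htpy (g.comp f) (Extension.Hom.id P)).trans (Homotopy.ofEq nlMap_id))
  homotopyInvHomId :=
    (Homotopy.ofEq (nlMap_comp g f).symm).trans
      ((htpy (f.comp g) (Extension.Hom.id P')).trans (Homotopy.ofEq nlMap_id))

/-- The naive cotangent complexes of two extensions (with homs in both directions) are
isomorphic in `D(B)`. -/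
theorem nonempty_iso (f : P.Hom P') (g : P'.Hom P) :
    Nonempty (DRing.toD (nl P) ≅ DRing.toD (nl P')) := by
  haveI : QuasiIso (homotopyEquiv f g).hom := inferInstance
  haveI : IsIso (DerivedCategory.Q.map (homotopyEquiv f g).hom) :=
    (DerivedCategory.isIso_Q_map_iff_quasiIso (C := ModuleCat.{u} B) _).2 inferInstance
  exact ⟨asIso (DerivedCategory.Q.map (homotopyEquiv f g).hom)⟩

/-- `LCI.NL A B` is computed by any extension admitting a hom to the standard one (e.g. any
extension coming from generators). -/
theorem nonempty_NL_iso (P : Extension.{u} A B) (g : P.Hom (Generators.self A B).toExtension) :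
    Nonempty (DRing.toD (nl P) ≅ LCI.NL A B) := by
  obtain ⟨e⟩ := nonempty_iso (P := P) (P' := (Generators.self A B).toExtension) g
    (Extension.defaultHom (R := A) (S := B) P)
  exact ⟨e⟩

lemma vanishesOutside (P : Extension.{u} A B) : DRing.VanishesOutside (nl P) (-1) 0 := by
  intro i hi
  exact isZero_double_X _ rel i (by omega) (by omega)

end Groth.Agent.H61.NLInv
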