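import Groth.Agent.H61.PushTilde

/-!
# Gluing modules on affine opens into a sheaf of modules

Given a preorder `J`, affine opens `U j` of a scheme `X` (shrinking as `j` grows), `Γ(X, U j)`-modules
`M j` and semilinear transition maps `φ : M j → M k` for `j ≤ k` which are localizations at one
element, functorial, with `J` locally directed: there is an `O_X`-module `F` whose sections over
`U j` are `M j`, compatibly with the module structures and the transition maps.
-/

set_option autoImplicit false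
set_option linter.style.haveILetI false
set_option linter.unusedSectionVars false
universe u
open CategoryTheory CategoryTheory.Limits AlgebraicGeometry TopologicalSpace Opposite

noncomputable section

namespace Groth.Agent.H61.AffGlue

open Groth.Agent.H61.PushTilde Groth.Agent.H41.SheafGlueLim

variable {X : Scheme.{u}} {J : Type u} [Preorder J]
  (U : J → X.Opens) (hU : ∀ j, IsAffineOpen (U j))
  (M : ∀ j, ModuleCat.{u} Γ(X, U j))
  (hle : ∀ {j k : J}, j ≤ k → U k ≤ U j)
  (φ : ∀ {j k : J}, j ≤ k → (M j →+ M k))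
  (hφ : ∀ {j k : J} (h : j ≤ k) (r : Γ(X, U j)) (m : M j),
    φ h (r • m) = X.presheaf.map (homOfLE (hle h)).op r • φ h m)
  (hid : ∀ (j : J) (m : M j), φ (le_refl j) m = m)
  (hcomp : ∀ {j k l : J} (h₁ : j ≤ k) (h₂ : k ≤ l) (m : M j),
    φ h₂ (φ h₁ m) = φ (h₁.trans h₂) m)

/-- The system of direct images. -/
def Fun : J ⥤ X.Modules where
  obj j := PT (hU j) (M j)
  map {j k} f := trans (hU j) (hU k) (hle (leOfHom f)) (M j) (M k) (φ (leOfHom f))
    (hφ (leOfHom f))
  map_id j := trans_id (hU j) (M j) _ _ _ (hid j)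
  map_comp {j k l} f g := (trans_comp (hU j) (hU k) (hU l) (M j) (M k) (M l) _ _ _ _ _ _ _ _ _
    (hcomp (leOfHom f) (leOfHom g))).symm

variable
  (hloc : ∀ {j k : J} (h : j ≤ k), ∃ r : Γ(X, U j), U k = X.basicOpen r ∧
    (∀ m' : M k, ∃ (n : ℕ) (m : M j),
      (X.presheaf.map (homOfLE (hle h)).op r) ^ n • m' = φ h m) ∧
    (∀ m : M j, φ h m = 0 → ∃ n : ℕ, r ^ n • m = 0))
  (hdir : ∀ (j k : J) (x : X), x ∈ U j → x ∈ U k → ∃ l : J, j ≤ l ∧ k ≤ l ∧ x ∈ U l)

include hloc hdir in
theorem bijective_π (j : J) (W : X.Opens) (hW : W ≤ U j) :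
    Function.Bijective ((limit.π (Fun U hU M hle φ hφ hid hcomp) j).app W) := by
  refine bijective_limit_π (Fun U hU M hle φ hφ hid hcomp) U (fun h => hle h) ?_ ?_ hdir j W hW
  · intro j k hjk W hW
    obtain ⟨r, hr, h1, h2⟩ := hloc hjk
    exact trans_app_bijective (hU j) (hU k) (hle hjk) (M j) (M k) (φ hjk) (hφ hjk) r hr h1 h2 W hW
  · intro j W
    exact res_inf_bijective (hU j) (M j) le_rfl W

/-- The sections of `PT` over the affine open are the module. -/
def tP (j : J) : M j ≃+ Γ(PT (hU j) (M j), U j) :=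
  AddEquiv.ofBijective (AddMonoidHom.mk' (toPT (hU j) (M j) (U j)) (toPT_add (hU j) (M j) (U j)))
    (toPT_bijective (hU j) (M j))

lemma tP_apply (j : J) (m : M j) : tP U hU M j m = toPT (hU j) (M j) (U j) m := rfl

include hU hφ hid hcomp hloc hdir in
/-- The glued module. -/
theorem exists_glue : ∃ (F : X.Modules) (iso : ∀ j, Γ(F, U j) ≃+ M j),
    (∀ (j : J) (a : Γ(X, U j)) (s : Γ(F, U j)), iso j (a • s) = a • iso j s) ∧
    (∀ {j k : J} (h : j ≤ k) (s : Γ(F, U j)),
      iso k (F.presheaf.map (homOfLE (hle h)).op s) = φ h (iso j s)) := by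
  let Fn := Fun U hU M hle φ hφ hid hcomp
  have hb : ∀ j, Function.Bijective ((limit.π Fn j).app (U j)) := fun j =>
    bijective_π U hU M hle φ hφ hid hcomp hloc hdir j (U j) le_rfl
  let πE : ∀ j, Γ(limit Fn, U j) ≃+ Γ(PT (hU j) (M j), U j) := fun j =>
    AddEquiv.ofBijective ((limit.π Fn j).app (U j)).hom (hb j)
  have hπE : ∀ j s, πE j s = (limit.π Fn j).app (U j) s := fun j s => rfl
  refine ⟨limit Fn, fun j => (πE j).trans (tP U hU M j).symm, ?_, ?_⟩
  · intro j a s
    rw [AddEquiv.trans_apply, AddEquiv.trans_apply, AddEquiv.symm_apply_eq, tP_apply, hπE,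
      Scheme.Modules.Hom.app_smul]
    have h1 := toPT_smul (hU j) (M j) (le_refl (U j)) a ((tP U hU M j).symm (πE j s))
    have h2 : X.presheaf.map (homOfLE (le_refl (U j))).op a = a := by
      rw [show (homOfLE (le_refl (U j))).op = 𝟙 (op (U j)) from rfl, X.presheaf.map_id]
      rfl
    rw [h2] at h1
    rw [h1, ← tP_apply, AddEquiv.apply_symm_apply, hπE]
    rfl
  · intro j k h s
    rw [AddEquiv.trans_apply, AddEquiv.trans_apply, AddEquiv.symm_apply_eq, tP_apply, hπE,
      Groth.Agent.H8.app_res]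
    have hw := limit_w_app Fn (homOfLE h) (U j) s
    have e1 : (limit.π Fn j).app (U j) s =
        toPT (hU j) (M j) (U j) ((tP U hU M j).symm (πE j s)) := by
      rw [← tP_apply, AddEquiv.apply_symm_apply, hπE]
    rw [← hw, e1]
    have e2 : (Fn.map (homOfLE h)).app (U j)
        (toPT (hU j) (M j) (U j) ((tP U hU M j).symm (πE j s))) =
        toPT (hU k) (M k) (U j) (φ h ((tP U hU M j).symm (πE j s))) :=
      trans_toPT (hU j) (hU k) (hle h) (M j) (M k) (φ h) (hφ h) (U j) _
    rw [e2]
    exact res_toPT (hU k) (M k) (hle h) _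

end Groth.Agent.H61.AffGlue
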