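import Groth.Agent.H61.AffGlue
import Groth.Agent.H8.QCohPushLocal

/-!
# Gluing modules on affine opens: the glued module is quasi-coherent

Complement to `H61/AffGlue`: names the glued module (`glued`), its comparison isomorphisms
(`gluedIso`) and proves that it is quasi-coherent when the affine opens cover `X`.
-/

set_option autoImplicit false
set_option linter.style.haveILetI false
set_option linter.unusedSectionVars false
universe u
open CategoryTheory CategoryTheory.Limits AlgebraicGeometry TopologicalSpace Opposite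

noncomputable section

namespace Groth.Agent.H61.AffGlue

open Groth.Agent.H61.PushTilde Groth.Agent.H41.SheafGlueLim

variable {X : Scheme.{u}} {J : Type u} [Preorder J]
  (U : J → X.Opens) (hU : ∀ j, IsAffineOpen (U j))
  (M : ∀ j, ModuleCat.{u} Γ(X, U j))
  (hle : ∀ {j k : J}, j ≤ k → U k ≤ U j)
  (φ : ∀ {j k : J}, j ≤ k → (M j →+ M k))
  (hφ : ∀ {j k : J} (h : j ≤ k) (r : Γ(X, U j)) (m : M j),
    φ h (r • m) = X.presheaf.map (homOfLE (hle h)).op r • φ h m)
  (hid : ∀ (j : J) (m : M j), φ (le_refl j) m = m)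
  (hcomp : ∀ {j k l : J} (h₁ : j ≤ k) (h₂ : k ≤ l) (m : M j),
    φ h₂ (φ h₁ m) = φ (h₁.trans h₂) m)
  (hloc : ∀ {j k : J} (h : j ≤ k), ∃ r : Γ(X, U j), U k = X.basicOpen r ∧
    (∀ m' : M k, ∃ (n : ℕ) (m : M j),
      (X.presheaf.map (homOfLE (hle h)).op r) ^ n • m' = φ h m) ∧
    (∀ m : M j, φ h m = 0 → ∃ n : ℕ, r ^ n • m = 0))
  (hdir : ∀ (j k : J) (x : X), x ∈ U j → x ∈ U k → ∃ l : J, j ≤ l ∧ k ≤ l ∧ x ∈ U l)

/-- The glued module: the limit of the direct images of the tilde modules. -/
def glued : X.Modules := limit (Fun U hU M hle φ hφ hid hcomp)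

/-- The projection of the glued module to the `j`-th direct image. -/
def gluedπ (j : J) : glued U hU M hle φ hφ hid hcomp ⟶ PT (hU j) (M j) :=
  limit.π (Fun U hU M hle φ hφ hid hcomp) j

include hloc hdir in
theorem gluedπ_bijective (j : J) (W : X.Opens) (hW : W ≤ U j) :
    Function.Bijective ((gluedπ U hU M hle φ hφ hid hcomp j).app W) :=
  bijective_π U hU M hle φ hφ hid hcomp hloc hdir j W hW

include hloc hdir in
/-- The glued module is quasi-coherent when the `U j` cover `X`. -/
theorem glued_isQuasicoherent (hcov : IsOpenCover U) :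
    (glued U hU M hle φ hφ hid hcomp).IsQuasicoherent := by
  set F := glued U hU M hle φ hφ hid hcomp with hF
  have hb := gluedπ_bijective U hU M hle φ hφ hid hcomp hloc hdir
  refine Groth.Agent.H8.isQuasicoherent_of_sections_cover F U hcov hU ?_ ?_
  · intro j a y
    set π := gluedπ U hU M hle φ hφ hid hcomp j with hπ
    have hWU : X.basicOpen a ≤ U j := X.basicOpen_le a
    obtain ⟨n, m, hm⟩ := exists_smul_eq_toPT (hU j) (M j) a (X.basicOpen a) rfl hWU
      (π.app (X.basicOpen a) y)
    obtain ⟨x, hx⟩ := (hb j (U j) le_rfl).2 (toPT (hU j) (M j) (U j) m)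
    refine ⟨n, x, ?_⟩
    apply (hb j (X.basicOpen a) hWU).1
    rw [Scheme.Modules.Hom.app_smul, Groth.Agent.H8.app_res, hx, res_toPT]
    exact hm
  · intro j a x hx
    set π := gluedπ U hU M hle φ hφ hid hcomp j with hπ
    have hWU : X.basicOpen a ≤ U j := X.basicOpen_le a
    obtain ⟨m, hm⟩ := (toPT_bijective (hU j) (M j)).2 (π.app (U j) x)
    have h0 : toPT (hU j) (M j) (X.basicOpen a) m = 0 := by
      rw [← res_toPT (hU j) (M j) hWU m, hm, ← Groth.Agent.H8.app_res, hx, map_zero]
    obtain ⟨n, hn⟩ := exists_smul_eq_zero_of_toPT (hU j) (M j) a (X.basicOpen a) rfl m h0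
    refine ⟨n, ?_⟩
    apply (hb j (U j) le_rfl).1
    rw [Scheme.Modules.Hom.app_smul, map_zero, ← hm]
    have h1 := toPT_smul (hU j) (M j) (le_refl (U j)) (a ^ n) m
    have h2 : X.presheaf.map (homOfLE (le_refl (U j))).op (a ^ n) = a ^ n := by
      rw [show (homOfLE (le_refl (U j))).op = 𝟙 (op (U j)) from rfl, X.presheaf.map_id]
      rfl
    rw [h2] at h1
    rw [← h1, hn, toPT_zero]

include hU hφ hid hcomp hloc hdir in
/-- The glued module, with quasi-coherence. -/
theorem exists_glue_qc (hcov : IsOpenCover U) :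
    ∃ (F : X.Modules) (iso : ∀ j, Γ(F, U j) ≃+ M j), F.IsQuasicoherent ∧
    (∀ (j : J) (a : Γ(X, U j)) (s : Γ(F, U j)), iso j (a • s) = a • iso j s) ∧
    (∀ {j k : J} (h : j ≤ k) (s : Γ(F, U j)),
      iso k (F.presheaf.map (homOfLE (hle h)).op s) = φ h (iso j s)) := by
  let Fn := Fun U hU M hle φ hφ hid hcomp
  have hb : ∀ j, Function.Bijective ((limit.π Fn j).app (U j)) := fun j =>
    bijective_π U hU M hle φ hφ hid hcomp hloc hdir j (U j) le_rfl
  let πE : ∀ j, Γ(limit Fn, U j) ≃+ Γ(PT (hU j) (M j), U j) := fun j =>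
    AddEquiv.ofBijective ((limit.π Fn j).app (U j)).hom (hb j)
  have hπE : ∀ j s, πE j s = (limit.π Fn j).app (U j) s := fun j s => rfl
  refine ⟨limit Fn, fun j => (πE j).trans (tP U hU M j).symm,
    glued_isQuasicoherent U hU M hle φ hφ hid hcomp hloc hdir hcov, ?_, ?_⟩
  · intro j a s
    rw [AddEquiv.trans_apply, AddEquiv.trans_apply, AddEquiv.symm_apply_eq, tP_apply, hπE,
      Scheme.Modules.Hom.app_smul]
    have h1 := toPT_smul (hU j) (M j) (le_refl (U j)) a ((tP U hU M j).symm (πE j s))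
    have h2 : X.presheaf.map (homOfLE (le_refl (U j))).op a = a := by
      rw [show (homOfLE (le_refl (U j))).op = 𝟙 (op (U j)) from rfl, X.presheaf.map_id]
      rfl
    rw [h2] at h1
    rw [h1, ← tP_apply, AddEquiv.apply_symm_apply, hπE]
    rfl
  · intro j k h s
    rw [AddEquiv.trans_apply, AddEquiv.trans_apply, AddEquiv.symm_apply_eq, tP_apply, hπE,
      Groth.Agent.H8.app_res]
    have hw := limit_w_app Fn (homOfLE h) (U j) s
    have e1 : (limit.π Fn j).app (U j) s =
        toPT (hU j) (M j) (U j) ((tP U hU M j).symm (πE j s)) := by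
      rw [← tP_apply, AddEquiv.apply_symm_apply, hπE]
    rw [← hw, e1]
    have e2 : (Fn.map (homOfLE h)).app (U j)
        (toPT (hU j) (M j) (U j) ((tP U hU M j).symm (πE j s))) =
        toPT (hU k) (M k) (U j) (φ h ((tP U hU M j).symm (πE j s))) :=
      trans_toPT (hU j) (hU k) (hle h) (M j) (M k) (φ h) (hφ h) (U j) _
    rw [e2]
    exact res_toPT (hU k) (M k) (hle h) _

end Groth.Agent.H61.AffGlue
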