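import Groth.Agent.H61.ArtSmoothComp

/-!
# The tangent action at the level of functors, relative version (helper61)
-/

set_option autoImplicit false
set_option linter.unusedSectionVars false
set_option linter.style.haveILetI false
universe u v

namespace Groth.Agent.H61

open CategoryTheory ArtFun ArtFun.Art Groth.Agent.H63

variable {Λ : Type u} {k : Type u} [CommRing Λ] [Field k] [Algebra Λ k]
variable [IsNoetherianRing Λ] [Module.Finite Λ k]
variable {F G : Art Λ k ⥤ Type v}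

/-- Relative transitivity of the tangent action: if `φ` is surjective on tangent spaces, a lift
`x'` can be adjusted so that its image becomes a prescribed lift `g'`. -/
theorem exists_adjust (φ : F ⟶ G) (hF0 : H0 F) (hF2 : Heps F) (hG1 : Hbar G) (hG2 : Heps G)
    (hT : Function.Surjective (φ.app (dual Λ k))) {B A : Art Λ k} (μ : B ⟶ A)
    (hμ : IsSmallExt μ) (x' : F.obj B) (g' : G.obj B)
    (h : G.map μ g' = G.map μ (φ.app B x')) :
    ∃ x'' : F.obj B, F.map μ x'' = F.map μ x' ∧ φ.app B x'' = g' := by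
  obtain ⟨t, hker, ht, htm, ht0, hμt⟩ := exists_gen μ hμ
  haveI : IsIso (eMap μ hμ.1 t ht htm hμt) :=
    isIso_of_bijective _ (eMap_bijective μ hμ.1 t hker ht htm ht0 hμt)
  obtain ⟨w, hw⟩ := hG1 (fibreProdFst μ μ hμ.1) (fibreProdSnd μ μ hμ.1) μ μ
    (isFibreProd_fibreProd μ μ hμ.1) hμ ⟨(φ.app B x', g'), h.symm⟩
  have hw1 : G.map (fibreProdFst μ μ hμ.1) w = φ.app B x' := congrArg (fun z => z.1.1) hw
  have hw2 : G.map (fibreProdSnd μ μ hμ.1) w = g' := congrArg (fun z => z.1.2) hw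
  have he1 : inv (eMap μ hμ.1 t ht htm hμt) ≫ qq₁ B = fibreProdFst μ μ hμ.1 := by
    rw [IsIso.inv_comp_eq, eMap_fst]
  have he2 : inv (eMap μ hμ.1 t ht htm hμt) ≫ aT t ht htm (qq₁ B) (qq₂ B) =
      fibreProdSnd μ μ hμ.1 := by
    rw [IsIso.inv_comp_eq, eMap_snd]
  obtain ⟨zG, hzG⟩ : ∃ zG : G.obj (QQ B), zG = G.map (inv (eMap μ hμ.1 t ht htm hμt)) w := ⟨_, rfl⟩
  have hz1 : G.map (qq₁ B) zG = φ.app B x' := by
    rw [hzG, ← Functor.map_comp_apply, he1, hw1]
  have hz2 : G.map (aT t ht htm (qq₁ B) (qq₂ B)) zG = g' := by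
    rw [hzG, ← Functor.map_comp_apply, he2, hw2]
  obtain ⟨u, hu⟩ := hT (G.map (qq₂ B) zG)
  obtain ⟨z, hz⟩ := (hF2 (qq₁ B) (qq₂ B) (isFibreProd_QQ B)).2
    ⟨(x', u), @Subsingleton.elim _ hF0.2 _ _⟩
  have hzF1 : F.map (qq₁ B) z = x' := congrArg (fun z => z.1.1) hz
  have hzF2 : F.map (qq₂ B) z = u := congrArg (fun z => z.1.2) hz
  have hφz : φ.app _ z = zG := by
    apply (hG2 (qq₁ B) (qq₂ B) (isFibreProd_QQ B)).1
    apply Subtype.ext
    apply Prod.ext
    · change G.map (qq₁ B) (φ.app _ z) = G.map (qq₁ B) zG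
      rw [← NatTrans.naturality_apply, hzF1, hz1]
    · change G.map (qq₂ B) (φ.app _ z) = G.map (qq₂ B) zG
      rw [← NatTrans.naturality_apply, hzF2, hu]
  refine ⟨F.map (aT t ht htm (qq₁ B) (qq₂ B)) z, ?_, ?_⟩
  · rw [← Functor.map_comp_apply, aT_comp t ht htm μ hμt, Functor.map_comp_apply, hzF1]
  · rw [NatTrans.naturality_apply, hφz, hz2]

/-- A criterion for smoothness of a morphism: liftability along small extensions (given by
obstruction theory, say) plus surjectivity on tangent spaces. -/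
theorem isSmooth_of_small_lift (φ : F ⟶ G) (hF0 : H0 F) (hF2 : Heps F) (hG1 : Hbar G)
    (hG2 : Heps G) (hT : Function.Surjective (φ.app (dual Λ k)))
    (hlift : ∀ ⦃B A : Art Λ k⦄ (μ : B ⟶ A), IsSmallExt μ → ∀ (x : F.obj A) (g' : G.obj B),
      φ.app A x = G.map μ g' → ∃ x' : F.obj B, F.map μ x' = x) :
    IsSmooth φ := by
  intro B A μ hμ
  refine surjective_induction
    (fun (A B : Art Λ k) (μ : B ⟶ A) => Function.Surjective (relCmp φ μ)) ?_ ?_ ?_ μ hμ
  · intro A B e he y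
    haveI := he
    obtain ⟨⟨x, g'⟩, hxg⟩ := y
    have hxg' : φ.app A x = G.map e g' := hxg
    refine ⟨F.map (inv e) x, Subtype.ext (Prod.ext ?_ ?_)⟩
    · change F.map e (F.map (inv e) x) = x
      rw [← Functor.map_comp_apply, IsIso.inv_hom_id, Functor.map_id_apply]
    · change φ.app B (F.map (inv e) x) = g'
      rw [NatTrans.naturality_apply, hxg', ← Functor.map_comp_apply, IsIso.hom_inv_id,
        Functor.map_id_apply]
  · intro A B p hp y
    obtain ⟨⟨x, g'⟩, hxg⟩ := y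
    have hxg' : φ.app A x = G.map p g' := hxg
    obtain ⟨x', hx'⟩ := hlift p hp x g' hxg'
    obtain ⟨x'', h1, h2⟩ := exists_adjust φ hF0 hF2 hG1 hG2 hT p hp x' g'
      (by rw [← NatTrans.naturality_apply, hx', hxg'])
    exact ⟨x'', Subtype.ext (Prod.ext (h1.trans hx') h2)⟩
  · intro A B C p q hp hq y
    obtain ⟨⟨x, g''⟩, hxg⟩ := y
    have hxg' : φ.app A x = G.map (p ≫ q) g'' := hxg
    obtain ⟨x', hx'⟩ := hq ⟨(x, G.map p g''), by
      change φ.app A x = G.map q (G.map p g'')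
      rw [hxg', Functor.map_comp_apply]⟩
    have hx1 : F.map q x' = x := congrArg (fun t => t.1.1) hx'
    have hx2 : φ.app B x' = G.map p g'' := congrArg (fun t => t.1.2) hx'
    obtain ⟨x'', hx''⟩ := hp ⟨(x', g''), hx2⟩
    have hy1 : F.map p x'' = x' := congrArg (fun t => t.1.1) hx''
    have hy2 : φ.app C x'' = g'' := congrArg (fun t => t.1.2) hx''
    refine ⟨x'', Subtype.ext (Prod.ext ?_ hy2)⟩
    change F.map (p ≫ q) x'' = x
    rw [Functor.map_comp_apply, hy1, hx1]

end Groth.Agent.H61
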