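import Groth.Prelude.Def_ArtFun2

/-! Helper lemmas on functors of Artin rings (helper61). -/

set_option autoImplicit false
universe u v
open CategoryTheory

namespace H61

open ArtFun ArtFun.Art

variable {Λ : Type u} {k : Type u} [CommRing Λ] [Field k] [Algebra Λ k]

section Lift

variable {R : Type u} [CommRing R] [Algebra Λ R] {resR : R →ₐ[Λ] k}
variable {B A A' A'' : Art Λ k} {p' : B ⟶ A'} {p'' : B ⟶ A''} {f' : A' ⟶ A} {f'' : A'' ⟶ A}

/-- The map into a fibre product induced by two compatible maps. -/
theorem fibreProd_lift (h : IsFibreProd p' p'' f' f'') (φ' : HomSet R resR A') (φ'' : HomSet R resR A'')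
    (hφ : HomSet.map f' φ' = HomSet.map f'' φ'') :
    ∃ χ : HomSet R resR B, HomSet.map p' χ = φ' ∧ HomSet.map p'' χ = φ'' := by
  have hcompat : ∀ r : R, f' (φ'.1 r) = f'' (φ''.1 r) := by
    intro r
    have := congrArg (fun t => t.1 r) hφ
    exact this
  choose g hg1 hg2 using fun r : R => h.surj (φ'.1 r) (φ''.1 r) (hcompat r)
  have hp'mul : ∀ x y : B, p' (x * y) = p' x * p' y := fun x y => map_mul p'.toAlgHom x y
  have hp''mul : ∀ x y : B, p'' (x * y) = p'' x * p'' y := fun x y => map_mul p''.toAlgHom x y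
  have hp'add : ∀ x y : B, p' (x + y) = p' x + p' y := fun x y => map_add p'.toAlgHom x y
  have hp''add : ∀ x y : B, p'' (x + y) = p'' x + p'' y := fun x y => map_add p''.toAlgHom x y
  let χ : R →ₐ[Λ] B :=
    { toFun := g
      map_one' := by
        apply h.inj
        · rw [hg1]; exact (map_one φ'.1).trans (map_one p'.toAlgHom).symm
        · rw [hg2]; exact (map_one φ''.1).trans (map_one p''.toAlgHom).symm
      map_mul' := by
        intro x y
        apply h.inj
        · rw [hg1, hp'mul, hg1, hg1]; exact map_mul φ'.1 x y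
        · rw [hg2, hp''mul, hg2, hg2]; exact map_mul φ''.1 x y
      map_zero' := by
        apply h.inj
        · rw [hg1]; exact (map_zero φ'.1).trans (map_zero p'.toAlgHom).symm
        · rw [hg2]; exact (map_zero φ''.1).trans (map_zero p''.toAlgHom).symm
      map_add' := by
        intro x y
        apply h.inj
        · rw [hg1, hp'add, hg1, hg1]; exact map_add φ'.1 x y
        · rw [hg2, hp''add, hg2, hg2]; exact map_add φ''.1 x y
      commutes' := by
        intro r
        apply h.inj
        · rw [hg1]; exact (φ'.1.commutes r).trans (p'.toAlgHom.commutes r).symm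
        · rw [hg2]; exact (φ''.1.commutes r).trans (p''.toAlgHom.commutes r).symm }
  have hχ1 : p'.toAlgHom.comp χ = φ'.1 := AlgHom.ext fun r => hg1 r
  have hχ2 : p''.toAlgHom.comp χ = φ''.1 := AlgHom.ext fun r => hg2 r
  refine ⟨⟨χ, ?_⟩, Subtype.ext hχ1, Subtype.ext hχ2⟩
  rw [← φ'.2, ← hχ1, ← AlgHom.comp_assoc, p'.res_comp]

end Lift

section FamilyLemmas

variable {R : Type u} [CommRing R] [Algebra Λ R] {resR : R →ₐ[Λ] k} {F : Art Λ k ⥤ Type v}

/-- `h_R(k)` is a subsingleton. -/
theorem homSet_base_subsingleton : Subsingleton (HomSet R resR (base Λ k)) := by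
  constructor
  rintro ⟨a, ha⟩ ⟨b, hb⟩
  apply Subtype.ext
  change a = b
  have ha' : a = resR := by
    rw [← ha]; exact (AlgHom.id_comp a).symm
  have hb' : b = resR := by
    rw [← hb]; exact (AlgHom.id_comp b).symm
  rw [ha', hb']

/-- The point of `h_R(k)`. -/
def homSetBasePt : HomSet R resR (base Λ k) := ⟨resR, AlgHom.id_comp _⟩

end FamilyLemmas

end H61
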