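import Groth.Prelude.Def_ArtFun2
import Mathlib.LinearAlgebra.Basis.VectorSpace

/-! Maps to the dual numbers from functionals on the cotangent space (helper61). -/

set_option autoImplicit false
universe u v
open CategoryTheory

namespace Groth.Agent.H61

open ArtFun ArtFun.Art

variable {k : Type u} [Field k]

/-- An element of the augmentation ideal not in its square is detected by a map to `k[ε]`. -/
theorem exists_dual_hom {B : Type u} [CommRing B] [Algebra k B] (resB : B →ₐ[k] k) (d : B)
    (hd : d ∈ RingHom.ker resB) (hd2 : d ∉ (RingHom.ker resB) ^ 2) :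
    ∃ h : B →ₐ[k] DualNumber k, (TrivSqZeroExt.fstHom k k k).comp h = resB ∧
      TrivSqZeroExt.snd (h d) ≠ 0 := by
  set m : Ideal B := RingHom.ker resB with hm
  let p : Submodule k B := Submodule.span k {(1 : B)} ⊔ (m ^ 2).restrictScalars k
  have hres_alg : ∀ c : k, resB (algebraMap k B c) = c := fun c => by
    rw [AlgHom.commutes]; rfl
  have hdp : d ∉ p := by
    intro hmem
    obtain ⟨y, hy, z, hz, hyz⟩ := Submodule.mem_sup.1 hmem
    obtain ⟨c, rfl⟩ := Submodule.mem_span_singleton.1 hy
    have hz' : z ∈ m ^ 2 := hz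
    have hzm : z ∈ m := Ideal.pow_le_self (two_ne_zero) hz'
    have h1 : resB (c • (1 : B) + z) = 0 := by rw [hyz]; exact hd
    rw [map_add, map_smul, map_one, (RingHom.mem_ker).1 hzm, add_zero, smul_eq_mul, mul_one] at h1
    rw [h1, zero_smul, zero_add] at hyz
    exact hd2 (hyz ▸ hz')
  obtain ⟨l, hld, hpl⟩ := Submodule.exists_le_ker_of_notMem hdp
  have hl1 : l 1 = 0 := hpl (Submodule.mem_sup_left (Submodule.mem_span_singleton_self 1))
  have hl2 : ∀ x y : B, x ∈ m → y ∈ m → l (x * y) = 0 := by
    intro x y hx hy
    apply hpl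
    apply Submodule.mem_sup_right
    change x * y ∈ m ^ 2
    rw [pow_two]
    exact Ideal.mul_mem_mul hx hy
  have hlalg : ∀ c : k, l (algebraMap k B c) = 0 := by
    intro c
    rw [Algebra.algebraMap_eq_smul_one, map_smul, hl1, smul_zero]
  have hdecomp : ∀ x : B, x - algebraMap k B (resB x) ∈ m := by
    intro x
    rw [hm, RingHom.mem_ker, map_sub, hres_alg, sub_self]
  have hlmul : ∀ x y : B, l (x * y) = resB x * l y + resB y * l x := by
    intro x y
    have hx := hdecomp x
    have hy := hdecomp y
    set a := resB x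
    set b := resB y
    have e : x * y = algebraMap k B (a * b) + a • (y - algebraMap k B b) + b • (x - algebraMap k B a)
        + (x - algebraMap k B a) * (y - algebraMap k B b) := by
      rw [Algebra.smul_def, Algebra.smul_def, map_mul]
      ring
    rw [e, map_add, map_add, map_add, hlalg, hl2 _ _ hx hy, map_smul, map_smul, map_sub, map_sub,
      hlalg, hlalg]
    simp only [smul_eq_mul, sub_zero, zero_add, add_zero]
  let h : B →ₐ[k] DualNumber k :=
    { toFun := fun x => TrivSqZeroExt.inl (resB x) + TrivSqZeroExt.inr (l x)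
      map_one' := by
        rw [map_one, hl1, TrivSqZeroExt.inr_zero, add_zero, TrivSqZeroExt.inl_one]
      map_mul' := by
        intro x y
        apply TrivSqZeroExt.ext
        · simp
        · simp [hlmul, mul_comm]
      map_zero' := by
        rw [map_zero, map_zero, TrivSqZeroExt.inr_zero, add_zero, TrivSqZeroExt.inl_zero]
      map_add' := by
        intro x y
        apply TrivSqZeroExt.ext
        · simp
        · simp
      commutes' := by
        intro c
        rw [hres_alg, hlalg, TrivSqZeroExt.inr_zero, add_zero]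
        rfl }
  refine ⟨h, ?_, ?_⟩
  · apply AlgHom.ext
    intro x
    change TrivSqZeroExt.fst (TrivSqZeroExt.inl (resB x) + TrivSqZeroExt.inr (l x)) = resB x
    simp
  · change TrivSqZeroExt.snd (TrivSqZeroExt.inl (resB d) + TrivSqZeroExt.inr (l d)) ≠ 0
    simpa using hld

/-- The trivial map to `k[ε]`. -/
theorem exists_dual_hom_zero {B : Type u} [CommRing B] [Algebra k B] (resB : B →ₐ[k] k) :
    ∃ h : B →ₐ[k] DualNumber k, (TrivSqZeroExt.fstHom k k k).comp h = resB ∧
      ∀ x, TrivSqZeroExt.snd (h x) = 0 := by
  refine ⟨(TrivSqZeroExt.inlAlgHom k k k).comp resB, ?_, ?_⟩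
  · apply AlgHom.ext
    intro x
    rfl
  · intro x
    rfl

end Groth.Agent.H61
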