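import Groth.Agent.H61.ArtFunFormal
import Mathlib.RingTheory.AdicCompletion.RingHom

/-! Limits of compatible maps into a complete coefficient ring; existence and uniqueness of
maps between (uni)versal families (helper61). -/

set_option autoImplicit false
universe u v
open CategoryTheory

namespace Groth.Agent.H61

open ArtFun ArtFun.Art

variable {Λ : Type u} {k : Type u} [CommRing Λ] [Field k] [Algebra Λ k]

section Limit

variable {R₂ : Type u} [CommRing R₂] [Algebra Λ R₂] {res₂ : R₂ →ₐ[Λ] k} (R : CRing Λ k)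

theorem compat_le (ψ : ∀ n : ℕ, HomSet R₂ res₂ (R.trunc n))
    (hψ : ∀ n, HomSet.map (R.truncMap n) (ψ (n + 1)) = ψ n) {n m : ℕ} (h : n ≤ m) :
    HomSet.map (truncLE R h) (ψ m) = ψ n := by
  induction m, h using Nat.le_induction with
  | base =>
    rw [truncLE_refl]
    exact Subtype.ext (AlgHom.ext fun _ => rfl)
  | succ m hm ih =>
    rw [truncLE_succ R hm, ← ih, ← hψ m]
    exact Subtype.ext (AlgHom.ext fun _ => rfl)

/-- The limit of a compatible system of maps into the truncations of a complete ring. -/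
theorem exists_limit_hom (ψ : ∀ n : ℕ, HomSet R₂ res₂ (R.trunc n))
    (hψ : ∀ n, HomSet.map (R.truncMap n) (ψ (n + 1)) = ψ n) :
    ∃ (φ : R₂ →ₐ[Λ] R.carrier) (_ : R.res.comp φ = res₂),
      ∀ n, (R.truncHom n).1.comp φ = (ψ n).1 := by
  have : IsAdicComplete (IsLocalRing.maximalIdeal R.carrier) R.carrier := R.isAdicComplete
  let I := IsLocalRing.maximalIdeal R.carrier
  let p : ∀ n : ℕ, R₂ →ₐ[Λ] (R.carrier ⧸ I ^ (n + 1)) := fun n => (ψ n).1
  have key : ∀ (m n : ℕ) (hle : m ≤ n) (a : R₂) (y : R.carrier),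
      p n a = Ideal.Quotient.mk (I ^ (n + 1)) y → p m a = Ideal.Quotient.mk (I ^ (m + 1)) y := by
    intro m n hle a y hy
    have h1 : p m a = (truncLE R hle) (p n a) := by
      have := compat_le R ψ hψ hle
      exact (congrArg (fun t => t.1 a) this).symm
    rw [h1, hy]
    rfl
  let f : ∀ n : ℕ, R₂ →ₐ[Λ] R.carrier ⧸ I ^ n := fun n =>
    (Ideal.Quotient.factorₐ Λ (Ideal.pow_le_pow_right (Nat.le_succ n))).comp (p n)
  have hfy : ∀ (n : ℕ) (a : R₂) (y : R.carrier), p n a = Ideal.Quotient.mk (I ^ (n + 1)) y →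
      f n a = Ideal.Quotient.mk (I ^ n) y := by
    intro n a y hy
    change (Ideal.Quotient.factorₐ Λ (Ideal.pow_le_pow_right (Nat.le_succ n))) (p n a) = _
    rw [hy]
    rfl
  have hf : ∀ {m n : ℕ} (hle : m ≤ n),
      (Ideal.Quotient.factorₐ Λ (Ideal.pow_le_pow_right hle)).comp (f n) = f m := by
    intro m n hle
    apply AlgHom.ext
    intro a
    obtain ⟨y, hy⟩ := Ideal.Quotient.mk_surjective (p n a)
    change (Ideal.Quotient.factorₐ Λ (Ideal.pow_le_pow_right hle)) (f n a) = f m a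
    rw [hfy n a y hy.symm, hfy m a y (key m n hle a y hy.symm)]
    rfl
  let φ : R₂ →ₐ[Λ] R.carrier := IsAdicComplete.liftAlgHom I f hf
  have hφ : ∀ n, (R.truncHom n).1.comp φ = (ψ n).1 := by
    intro n
    apply AlgHom.ext
    intro a
    have h1 : (Ideal.Quotient.mk (I ^ (n + 1))) (φ a) = f (n + 1) a :=
      IsAdicComplete.mk_liftAlgHom I f hf (n + 1) a
    obtain ⟨y, hy⟩ := Ideal.Quotient.mk_surjective (p (n + 1) a)
    change (Ideal.Quotient.mk (I ^ (n + 1))) (φ a) = p n a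
    rw [h1, hfy (n + 1) a y hy.symm, key n (n + 1) (Nat.le_succ n) a y hy.symm]
  refine ⟨φ, ?_, hφ⟩
  apply AlgHom.ext
  intro a
  have h0 : (R.truncHom 0).1 (φ a) = (ψ 0).1 a := congrArg (fun t => t a) (hφ 0)
  have h1 : (R.trunc 0).res ((ψ 0).1 a) = res₂ a := AlgHom.congr_fun (ψ 0).2 a
  change R.res (φ a) = res₂ a
  rw [← h1, ← h0]
  rfl

end Limit

section Uniq

variable {F : Art Λ k ⥤ Type v}

/-- two maps into a complete ring that agree modulo all powers of the maximal ideal are equal -/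
theorem algHom_eq_of_trunc_eq {R₂ : Type u} [CommRing R₂] [Algebra Λ R₂] (S : CRing Λ k)
    (g₁ g₂ : R₂ →ₐ[Λ] S.carrier) (h : ∀ n, (S.truncHom n).1.comp g₁ = (S.truncHom n).1.comp g₂) :
    g₁ = g₂ := by
  have hS : IsHausdorff (IsLocalRing.maximalIdeal S.carrier) S.carrier := S.isAdicComplete.toIsHausdorff
  apply AlgHom.ext
  intro r
  rw [← sub_eq_zero]
  apply hS.haus
  intro n
  have hr : (Ideal.Quotient.mk (CRing.mpow S n)) (g₁ r) =
      (Ideal.Quotient.mk (CRing.mpow S n)) (g₂ r) := congrArg (fun t => t r) (h n)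
  rw [Ideal.Quotient.eq] at hr
  rw [SModEq.zero, smul_eq_mul, Ideal.mul_top]
  exact Ideal.pow_le_pow_right (Nat.le_succ n) hr

/-- a universal family is induced along at most one map -/
theorem along_injective_of_isUniversal (R : CRing Λ k) (ξ : Family R.carrier R.res F) (hξ : IsUniversal ξ)
    (S : CRing Λ k) (g₁ g₂ : R.carrier →ₐ[Λ] S.carrier)
    (hg₁ : S.res.comp g₁ = R.res) (hg₂ : S.res.comp g₂ = R.res)
    (h : ξ.along g₁ hg₁ = ξ.along g₂ hg₂) : g₁ = g₂ := by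
  apply algHom_eq_of_trunc_eq S
  intro n
  have hn : (ξ.along g₁ hg₁).app _ (S.truncHom n) = (ξ.along g₂ hg₂).app _ (S.truncHom n) := by rw [h]
  exact congrArg Subtype.val ((hξ (S.trunc n)).1 hn)

theorem isVersal_of_isUniversal {R : Type u} [CommRing R] [Algebra Λ R] {resR : R →ₐ[Λ] k}
    (ξ : Family R resR F) (hξ : IsUniversal ξ) : IsVersal ξ := by
  intro B A μ _ φ y hy
  obtain ⟨ψ, hψ⟩ := (hξ B).2 y
  refine ⟨ψ, ?_, hψ⟩
  apply (hξ A).1
  rw [ξ.natural, hψ, hy]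

end Uniq

section Exist

variable {F₁ F₂ : Art Λ k ⥤ Type v}

/-- a versal, objectwise surjective family receives a map from any family, covering a given
morphism of functors -/
theorem exists_hom_of_isVersal (f : F₁ ⟶ F₂)
    (R₁ : CRing Λ k) (ξ₁ : Family R₁.carrier R₁.res F₁)
    {R₂ : Type u} [CommRing R₂] [Algebra Λ R₂] {res₂ : R₂ →ₐ[Λ] k}
    (ξ₂ : Family R₂ res₂ F₂) (hξ₂ : IsVersal ξ₂)
    (hsurj : ∀ A : Art Λ k, Function.Surjective (ξ₂.app A)) :
    ∃ (φ : R₂ →ₐ[Λ] R₁.carrier) (hφ : R₁.res.comp φ = res₂),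
      ∀ (A : Art Λ k) (u : HomSet R₁.carrier R₁.res A),
        (ξ₂.along φ hφ).app A u = f.app A (ξ₁.app A u) := by
  let y : ∀ n : ℕ, F₂.obj (R₁.trunc n) := fun n => f.app _ (ξ₁.app _ (R₁.truncHom n))
  have hy : ∀ n, F₂.map (R₁.truncMap n) (y (n + 1)) = y n := by
    intro n
    change F₂.map (R₁.truncMap n) (f.app _ (ξ₁.app _ (R₁.truncHom (n + 1)))) = _
    rw [← NatTrans.naturality_apply f, ← ξ₁.natural, CRing.truncMap_truncHom]
  have hsurjmap : ∀ n, Function.Surjective (R₁.truncMap n) := by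
    intro n x
    obtain ⟨a, rfl⟩ := Ideal.Quotient.mk_surjective x
    exact ⟨Ideal.Quotient.mk _ a, rfl⟩
  -- build the compatible system
  let Ψ : ∀ n : ℕ, {ψ : HomSet R₂ res₂ (R₁.trunc n) // ξ₂.app _ ψ = y n} := fun n =>
    Nat.rec (motive := fun n => {ψ : HomSet R₂ res₂ (R₁.trunc n) // ξ₂.app _ ψ = y n})
      ⟨(hsurj _ (y 0)).choose, (hsurj _ (y 0)).choose_spec⟩
      (fun n prev =>
        have hh := hξ₂ (R₁.truncMap n) (hsurjmap n) prev.1 (y (n + 1)) (by rw [hy n, prev.2])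
        ⟨hh.choose, hh.choose_spec.2⟩) n
  have hΨ : ∀ n, HomSet.map (R₁.truncMap n) (Ψ (n + 1)).1 = (Ψ n).1 := by
    intro n
    have hh := hξ₂ (R₁.truncMap n) (hsurjmap n) (Ψ n).1 (y (n + 1)) (by rw [hy n, (Ψ n).2])
    exact hh.choose_spec.1
  obtain ⟨φ, hφ, hφn⟩ := exists_limit_hom R₁ (fun n => (Ψ n).1) hΨ
  refine ⟨φ, hφ, ?_⟩
  intro A u
  obtain ⟨n, g, hg⟩ := exists_factor_trunc R₁ u
  have h1 : (⟨u.1.comp φ, by rw [← AlgHom.comp_assoc, u.2, hφ]⟩ : HomSet R₂ res₂ A) =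
      HomSet.map g (Ψ n).1 := by
    apply Subtype.ext
    change u.1.comp φ = g.toAlgHom.comp (Ψ n).1.1
    rw [← hφn n, ← AlgHom.comp_assoc]
    congr 1
    exact (congrArg Subtype.val hg).symm
  change ξ₂.app A ⟨u.1.comp φ, _⟩ = _
  rw [h1, ξ₂.natural, (Ψ n).2]
  change F₂.map g (f.app _ (ξ₁.app _ (R₁.truncHom n))) = _
  rw [← NatTrans.naturality_apply f, ← ξ₁.natural, hg]

end Exist

end Groth.Agent.H61
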