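import Groth.Agent.H61.ArtSmoothComp

/-!
# `H0`, `H̄`, `H_ε`, `H_4` imply homogeneity (helper61)
-/

set_option autoImplicit false
set_option linter.unusedSectionVars false
set_option linter.style.haveILetI false
universe u v

namespace Groth.Agent.H61.Homog

open CategoryTheory ArtFun ArtFun.Art Groth.Agent.H63 Groth.Agent.H61

variable {Λ : Type u} {k : Type u} [CommRing Λ] [Field k] [Algebra Λ k]
variable [IsNoetherianRing Λ] [Module.Finite Λ k]

section Gen

variable {B A A' A'' : Art Λ k} {p' : B ⟶ A'} {p'' : B ⟶ A''} {f' : A' ⟶ A} {f'' : A'' ⟶ A}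
  (h : IsFibreProd p' p'' f' f'')

include h in
/-- a generator of the kernel of `f''` lifts to a generator of the kernel of `p'` -/
theorem exists_gen_fst (hsm : IsSmallExt f'') :
    ∃ (t'' : A'') (t : B), p' t = 0 ∧ p'' t = t'' ∧
      (∀ y ∈ IsLocalRing.maximalIdeal A'', y * t'' = 0) ∧ t'' ∈ IsLocalRing.maximalIdeal A'' ∧
      t'' ≠ 0 ∧ f'' t'' = 0 ∧ RingHom.ker f''.toAlgHom = Ideal.span {t''} ∧
      RingHom.ker p'.toAlgHom = Ideal.span {t} ∧
      (∀ y ∈ IsLocalRing.maximalIdeal B, y * t = 0) ∧ t ∈ IsLocalRing.maximalIdeal B ∧ t ≠ 0 := by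
  obtain ⟨t'', hker'', ht'', htm'', ht0'', hft''⟩ := exists_gen f'' hsm
  obtain ⟨t, ht1, ht2⟩ := h.surj 0 t'' (by rw [hft'']; exact map_zero f'.toAlgHom)
  have hkill : ∀ y ∈ IsLocalRing.maximalIdeal B, y * t = 0 := by
    intro y hy
    apply h.inj
    · have e : p' (y * t) = p' y * p' t := map_mul p'.toAlgHom y t
      rw [e, ht1, mul_zero]
      exact (map_zero p'.toAlgHom).symm
    · have e : p'' (y * t) = p'' y * p'' t := map_mul p''.toAlgHom y t
      rw [e, ht2, ht'' _ (map_mem_maximalIdeal p'' hy)]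
      exact (map_zero p''.toAlgHom).symm
  refine ⟨t'', t, ht1, ht2, ht'', htm'', ht0'', hft'', hker'', ?_, hkill, ?_, ?_⟩
  · apply le_antisymm
    · intro x hx
      have hx1 : p' x = 0 := RingHom.mem_ker.1 hx
      have hx2 : p'' x ∈ RingHom.ker f''.toAlgHom := by
        rw [RingHom.mem_ker]
        change f'' (p'' x) = 0
        rw [← h.w_apply, hx1]
        exact map_zero f'.toAlgHom
      rw [hker''] at hx2
      obtain ⟨c, hc⟩ := Ideal.mem_span_singleton'.1 hx2
      obtain ⟨b, hb⟩ := B.res_surjective (A''.res c)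
      have hbc : (p'' b - c) * t'' = 0 := by
        apply ht''
        rw [mem_maximalIdeal_iff, map_sub, res_app, hb, sub_self]
      have hxb : x = b * t := by
        apply h.inj
        · have e : p' (b * t) = p' b * p' t := map_mul p'.toAlgHom b t
          rw [e, ht1, mul_zero, hx1]
        · have e : p'' (b * t) = p'' b * p'' t := map_mul p''.toAlgHom b t
          rw [e, ht2, ← hc]
          linear_combination (-1 : A'') * hbc
      rw [hxb]
      exact Ideal.mul_mem_left _ _ (Ideal.subset_span rfl)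
    · rw [Ideal.span_le, Set.singleton_subset_iff]
      exact RingHom.mem_ker.2 ht1
  · apply mem_maximalIdeal_of_map p''
    rw [ht2]
    exact htm''
  · rintro rfl
    apply ht0''
    rw [← ht2]
    exact map_zero p''.toAlgHom

end Gen

/-- functoriality of `B ↦ B ×_k k[ε]` -/
noncomputable def QQmap {B C : Art Λ k} (g : B ⟶ C) : QQ B ⟶ QQ C :=
  fibreProdLift (toBase C) (toBase (dual Λ k)) toBase_dual_surjective (qq₁ B ≫ g) (qq₂ B)
    (by rw [eq_toBase ((qq₁ B ≫ g) ≫ toBase C), eq_toBase (qq₂ B ≫ toBase _)])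

theorem QQmap_qq₁ {B C : Art Λ k} (g : B ⟶ C) : QQmap g ≫ qq₁ C = qq₁ B ≫ g :=
  fibreProdLift_fst _ _ _ _ _ _

theorem QQmap_qq₂ {B C : Art Λ k} (g : B ⟶ C) : QQmap g ≫ qq₂ C = qq₂ B :=
  fibreProdLift_snd _ _ _ _ _ _

theorem QQmap_aT {B C : Art Λ k} (g : B ⟶ C) (t : B)
    (ht : ∀ y ∈ IsLocalRing.maximalIdeal B, y * t = 0) (htm : t ∈ IsLocalRing.maximalIdeal B)
    (t' : C) (ht' : ∀ y ∈ IsLocalRing.maximalIdeal C, y * t' = 0)
    (htm' : t' ∈ IsLocalRing.maximalIdeal C) (hg : g t = t') :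
    aT t ht htm (qq₁ B) (qq₂ B) ≫ g = QQmap g ≫ aT t' ht' htm' (qq₁ C) (qq₂ C) := by
  apply hom_ext
  apply AlgHom.ext
  intro q
  change g (aT t ht htm (qq₁ B) (qq₂ B) q) = aT t' ht' htm' (qq₁ C) (qq₂ C) (QQmap g q)
  rw [aT_apply, aT_apply]
  have e1 : qq₁ C (QQmap g q) = g (qq₁ B q) :=
    congrArg (fun f => Hom.toAlgHom f q) (QQmap_qq₁ g)
  have e2 : qq₂ C (QQmap g q) = qq₂ B q := congrArg (fun f => Hom.toAlgHom f q) (QQmap_qq₂ g)
  rw [e1, e2]
  have e3 : g (qq₁ B q + smulT t (dsnd (qq₂ B q))) =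
      g (qq₁ B q) + g (smulT t (dsnd (qq₂ B q))) := map_add g.toAlgHom _ _
  rw [e3]
  congr 1
  obtain ⟨b, hb⟩ := B.res_surjective (dsnd (qq₂ B q))
  have e4 : g (b * t) = g b * g t := map_mul g.toAlgHom _ _
  rw [smulT_eq t ht hb, e4, hg]
  exact (smulT_eq t' ht' (by rw [res_app, hb])).symm

variable {F : Art Λ k ⥤ Type v}

/-- injectivity of the comparison map along a small extension -/
theorem cmp_injective_small (h0 : H0 F) (h1 : Hbar F) (h2 : Heps F) (h4 : HSq F)
    ⦃B A A' A'' : Art Λ k⦄ (p' : B ⟶ A') (p'' : B ⟶ A'') (f' : A' ⟶ A) (f'' : A'' ⟶ A)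
    (h : IsFibreProd p' p'' f' f'') (hsm : IsSmallExt f'') : Function.Injective (cmp F h) := by
  intro z₁ z₂ hz
  have hz1 : F.map p' z₁ = F.map p' z₂ := congrArg (fun t => t.1.1) hz
  have hz2 : F.map p'' z₁ = F.map p'' z₂ := congrArg (fun t => t.1.2) hz
  obtain ⟨t'', t, ht1, ht2, ht'', htm'', ht0'', hft'', hker'', hker, ht, htm, ht0⟩ :=
    exists_gen_fst h hsm
  have hp's : Function.Surjective p' := IsFibreProd.surjective_fst h hsm.1
  have hp'sm : IsSmallExt p' := by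
    refine ⟨hp's, ?_, ⟨⟨t, hker⟩⟩, ?_⟩
    · intro hbot
      apply ht0
      have : t ∈ RingHom.ker p'.toAlgHom := RingHom.mem_ker.2 ht1
      rw [hbot] at this
      exact this
    · rw [eq_bot_iff, Ideal.mul_le]
      intro y hy x hx
      rw [hker] at hx
      obtain ⟨c, rfl⟩ := Ideal.mem_span_singleton'.1 hx
      rw [Ideal.mem_bot, mul_comm c t, ← mul_assoc, ht y hy, zero_mul]
  -- the isomorphisms `B ×_k k[ε] ≅ B ×_{A'} B` and `A'' ×_k k[ε] ≅ A'' ×_A A''`
  haveI : IsIso (eMap p' hp's t ht htm ht1) :=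
    isIso_of_bijective _ (eMap_bijective p' hp's t hker ht htm ht0 ht1)
  haveI : IsIso (eMap f'' hsm.1 t'' ht'' htm'' hft'') :=
    isIso_of_bijective _ (eMap_bijective f'' hsm.1 t'' hker'' ht'' htm'' ht0'' hft'')
  -- Step 1
  obtain ⟨w, hw⟩ := h1 (fibreProdFst p' p' hp's) (fibreProdSnd p' p' hp's) p' p'
    (isFibreProd_fibreProd p' p' hp's) hp'sm ⟨(z₁, z₂), hz1⟩
  have hw1 : F.map (fibreProdFst p' p' hp's) w = z₁ := congrArg (fun z => z.1.1) hw
  have hw2 : F.map (fibreProdSnd p' p' hp's) w = z₂ := congrArg (fun z => z.1.2) hw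
  have he1 : inv (eMap p' hp's t ht htm ht1) ≫ qq₁ B = fibreProdFst p' p' hp's := by
    rw [IsIso.inv_comp_eq, eMap_fst]
  have he2 : inv (eMap p' hp's t ht htm ht1) ≫ aT t ht htm (qq₁ B) (qq₂ B) =
      fibreProdSnd p' p' hp's := by
    rw [IsIso.inv_comp_eq, eMap_snd]
  obtain ⟨z, hzdef⟩ : ∃ z : F.obj (QQ B), z = F.map (inv (eMap p' hp's t ht htm ht1)) w :=
    ⟨_, rfl⟩
  have hzq1 : F.map (qq₁ B) z = z₁ := by
    rw [hzdef, ← Functor.map_comp_apply, he1, hw1]
  have hzaT : F.map (aT t ht htm (qq₁ B) (qq₂ B)) z = z₂ := by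
    rw [hzdef, ← Functor.map_comp_apply, he2, hw2]
  -- Step 2: push to `A''`
  obtain ⟨x, hxdef⟩ : ∃ x : F.obj A'', x = F.map p'' z₁ := ⟨_, rfl⟩
  obtain ⟨w'', hw''def⟩ : ∃ w'' : F.obj (QQ A''), w'' = F.map (QQmap p'') z := ⟨_, rfl⟩
  have hw''1 : F.map (qq₁ A'') w'' = x := by
    rw [hw''def, ← Functor.map_comp_apply, QQmap_qq₁, Functor.map_comp_apply, hzq1, hxdef]
  have hw''2 : F.map (aT t'' ht'' htm'' (qq₁ A'') (qq₂ A'')) w'' = x := by
    rw [hw''def, ← Functor.map_comp_apply, ← QQmap_aT p'' t ht htm t'' ht'' htm'' ht2,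
      Functor.map_comp_apply, hzaT, hxdef, hz2]
  -- Step 3: `w''` is the zero section
  have hw''0 : w'' = F.map (zeroSec A'') x := by
    have key : F.map (eMap f'' hsm.1 t'' ht'' htm'' hft'') w'' =
        F.map (eMap f'' hsm.1 t'' ht'' htm'' hft'') (F.map (zeroSec A'') x) := by
      apply (h4 (fibreProdFst f'' f'' hsm.1) (fibreProdSnd f'' f'' hsm.1) f''
        (isFibreProd_fibreProd f'' f'' hsm.1) hsm).1
      apply Subtype.ext
      apply Prod.ext
      · change F.map (fibreProdFst f'' f'' hsm.1) (F.map _ w'') =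
          F.map (fibreProdFst f'' f'' hsm.1) (F.map _ (F.map (zeroSec A'') x))
        rw [← Functor.map_comp_apply, ← Functor.map_comp_apply, ← Functor.map_comp_apply, eMap_fst,
          zeroSec_qq₁, Functor.map_id_apply, hw''1]
      · change F.map (fibreProdSnd f'' f'' hsm.1) (F.map _ w'') =
          F.map (fibreProdSnd f'' f'' hsm.1) (F.map _ (F.map (zeroSec A'') x))
        rw [← Functor.map_comp_apply, ← Functor.map_comp_apply, ← Functor.map_comp_apply, eMap_snd,
          zeroSec_aT, Functor.map_id_apply, hw''2]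
    have := congrArg (F.map (inv (eMap f'' hsm.1 t'' ht'' htm'' hft''))) key
    rwa [← Functor.map_comp_apply, ← Functor.map_comp_apply, IsIso.hom_inv_id,
      Functor.map_id_apply, Functor.map_id_apply] at this
  have hzq2 : F.map (qq₂ B) z = F.map (toBase A'' ≫ baseToDual) x := by
    rw [← QQmap_qq₂ p'', Functor.map_comp_apply, ← hw''def, hw''0, ← Functor.map_comp_apply,
      zeroSec_qq₂]
  -- Step 4: `z` is the zero section
  have hz0 : z = F.map (zeroSec B) z₁ := by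
    apply (h2 (qq₁ B) (qq₂ B) (isFibreProd_QQ B)).1
    apply Subtype.ext
    apply Prod.ext
    · change F.map (qq₁ B) z = F.map (qq₁ B) (F.map (zeroSec B) z₁)
      rw [← Functor.map_comp_apply, zeroSec_qq₁, Functor.map_id_apply, hzq1]
    · change F.map (qq₂ B) z = F.map (qq₂ B) (F.map (zeroSec B) z₁)
      rw [← Functor.map_comp_apply, zeroSec_qq₂, hzq2, Functor.map_comp_apply,
        Functor.map_comp_apply]
      congr 1
      exact @Subsingleton.elim _ h0.2 _ _
  rw [← hzaT, hz0, ← Functor.map_comp_apply, zeroSec_aT, Functor.map_id_apply]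

/-- **Homogeneity.** -/
theorem cmp_bijective (h0 : H0 F) (h1 : Hbar F) (h2 : Heps F) (h4 : HSq F)
    ⦃B A A' A'' : Art Λ k⦄ (p' : B ⟶ A') (p'' : B ⟶ A'') (f' : A' ⟶ A) (f'' : A'' ⟶ A)
    (h : IsFibreProd p' p'' f' f'') (hf : Function.Surjective f'') :
    Function.Bijective (cmp F h) :=
  ⟨cmp_injective_of_smallExt F (cmp_injective_small h0 h1 h2 h4) p' p'' f' f'' h hf,
    cmp_surjective_of_smallExt F h1 p' p'' f' f'' h hf⟩

end Groth.Agent.H61.Homog
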