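import Groth.Agent.H61.SchlessSmall

/-!
# Smoothness of composites of morphisms of functors of Artin rings (helper61)
-/

set_option autoImplicit false
set_option linter.unusedSectionVars false
set_option linter.style.haveILetI false
universe u v

namespace Groth.Agent.H61

open CategoryTheory ArtFun ArtFun.Art Groth.Agent.H63

variable {Λ : Type u} {k : Type u} [CommRing Λ] [Field k] [Algebra Λ k]
variable [IsNoetherianRing Λ] [Module.Finite Λ k]

/-- the zero section `B → B ×_k k[ε]` -/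
noncomputable def zeroSec (B : Art Λ k) : B ⟶ QQ B :=
  fibreProdLift (toBase B) (toBase (dual Λ k)) toBase_dual_surjective (𝟙 B)
    (toBase B ≫ baseToDual)
    (by rw [eq_toBase (𝟙 B ≫ toBase B), eq_toBase ((toBase B ≫ baseToDual) ≫ toBase _)])

theorem zeroSec_qq₁ (B : Art Λ k) : zeroSec B ≫ qq₁ B = 𝟙 B := fibreProdLift_fst _ _ _ _ _ _

theorem zeroSec_qq₂ (B : Art Λ k) : zeroSec B ≫ qq₂ B = toBase B ≫ baseToDual :=
  fibreProdLift_snd _ _ _ _ _ _

theorem zeroSec_aT {B : Art Λ k} (t : B) (ht : ∀ y ∈ IsLocalRing.maximalIdeal B, y * t = 0)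
    (htm : t ∈ IsLocalRing.maximalIdeal B) :
    zeroSec B ≫ aT t ht htm (qq₁ B) (qq₂ B) = 𝟙 B := by
  apply hom_ext
  apply AlgHom.ext
  intro b
  change aT t ht htm (qq₁ B) (qq₂ B) (zeroSec B b) = b
  rw [aT_apply]
  have e1 : qq₁ B (zeroSec B b) = b := congrArg (fun f => Hom.toAlgHom f b) (zeroSec_qq₁ B)
  have e2 : qq₂ B (zeroSec B b) = baseToDual (toBase B b) :=
    congrArg (fun f => Hom.toAlgHom f b) (zeroSec_qq₂ B)
  rw [e1, e2, dsnd_baseToDual, smulT_zero t ht, add_zero]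

variable {F G H : Art Λ k ⥤ Type v}

/-- a surjective-on-objects morphism to a functor with `H0`, from one with a point -/
theorem app_surjective_of_isSmooth {η : F ⟶ H} (hη : IsSmooth η) (hF : H0 F) (hH : H0 H)
    (A : Art Λ k) : Function.Surjective (η.app A) := by
  intro h
  obtain ⟨x₀⟩ := hF.1
  obtain ⟨z, hz⟩ := hη (toBase A) A.res_surjective ⟨(x₀, h), @Subsingleton.elim _ hH.2 _ _⟩
  exact ⟨z, congrArg (fun t => t.1.2) hz⟩

/-- injectivity on tangent spaces propagates to all objects -/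
theorem app_injective_of_tangent_injective (ψ : G ⟶ H) (hG0 : H0 G) (hG1 : Hbar G) (hG2 : Heps G)
    (hH : HSq H) (hψ : Function.Injective (ψ.app (dual Λ k))) (A : Art Λ k) :
    Function.Injective (ψ.app A) := by
  have hbase : Function.Injective (ψ.app (base Λ k)) := fun a b _ =>
    @Subsingleton.elim _ hG0.2 a b
  refine surjective_induction
    (fun (A B : Art Λ k) (_ : B ⟶ A) => Function.Injective (ψ.app A) → Function.Injective (ψ.app B))
    ?_ ?_ ?_ (toBase A) A.res_surjective hbase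
  · intro A B e he hA g₁ g₂ h
    haveI := he
    have h1 : G.map e g₁ = G.map e g₂ := by
      apply hA
      rw [NatTrans.naturality_apply, NatTrans.naturality_apply, h]
    have h2 := congrArg (G.map (inv e)) h1
    rwa [← Functor.map_comp_apply, ← Functor.map_comp_apply, IsIso.hom_inv_id,
      Functor.map_id_apply, Functor.map_id_apply] at h2
  · intro A B μ hμ hA g₁ g₂ h
    have h1 : G.map μ g₁ = G.map μ g₂ := by
      apply hA
      rw [NatTrans.naturality_apply, NatTrans.naturality_apply, h]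
    obtain ⟨t, hker, ht, htm, ht0, hμt⟩ := exists_gen μ hμ
    haveI : IsIso (eMap μ hμ.1 t ht htm hμt) :=
      isIso_of_bijective _ (eMap_bijective μ hμ.1 t hker ht htm ht0 hμt)
    obtain ⟨w, hw⟩ := hG1 (fibreProdFst μ μ hμ.1) (fibreProdSnd μ μ hμ.1) μ μ
      (isFibreProd_fibreProd μ μ hμ.1) hμ ⟨(g₁, g₂), h1⟩
    have hw1 : G.map (fibreProdFst μ μ hμ.1) w = g₁ := congrArg (fun z => z.1.1) hw
    have hw2 : G.map (fibreProdSnd μ μ hμ.1) w = g₂ := congrArg (fun z => z.1.2) hw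
    have he1 : inv (eMap μ hμ.1 t ht htm hμt) ≫ qq₁ B = fibreProdFst μ μ hμ.1 := by
      rw [IsIso.inv_comp_eq, eMap_fst]
    have he2 : inv (eMap μ hμ.1 t ht htm hμt) ≫ aT t ht htm (qq₁ B) (qq₂ B) =
        fibreProdSnd μ μ hμ.1 := by
      rw [IsIso.inv_comp_eq, eMap_snd]
    set z := G.map (inv (eMap μ hμ.1 t ht htm hμt)) w with hz
    have hz1 : G.map (qq₁ B) z = g₁ := by
      rw [hz, ← Functor.map_comp_apply, he1, hw1]
    have hz2 : G.map (aT t ht htm (qq₁ B) (qq₂ B)) z = g₂ := by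
      rw [hz, ← Functor.map_comp_apply, he2, hw2]
    -- compare `ψ z` with the zero section in `H`
    have key : H.map (eMap μ hμ.1 t ht htm hμt) (ψ.app _ z) =
        H.map (eMap μ hμ.1 t ht htm hμt) (H.map (zeroSec B) (ψ.app B g₁)) := by
      apply (hH (fibreProdFst μ μ hμ.1) (fibreProdSnd μ μ hμ.1) μ
        (isFibreProd_fibreProd μ μ hμ.1) hμ).1
      apply Subtype.ext
      apply Prod.ext
      · change H.map (fibreProdFst μ μ hμ.1) (H.map _ (ψ.app _ z)) =
          H.map (fibreProdFst μ μ hμ.1) (H.map _ (H.map (zeroSec B) (ψ.app B g₁)))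
        rw [← Functor.map_comp_apply, ← Functor.map_comp_apply, ← Functor.map_comp_apply, eMap_fst,
          zeroSec_qq₁, Functor.map_id_apply, ← NatTrans.naturality_apply, hz1]
      · change H.map (fibreProdSnd μ μ hμ.1) (H.map _ (ψ.app _ z)) =
          H.map (fibreProdSnd μ μ hμ.1) (H.map _ (H.map (zeroSec B) (ψ.app B g₁)))
        rw [← Functor.map_comp_apply, ← Functor.map_comp_apply, ← Functor.map_comp_apply, eMap_snd,
          zeroSec_aT, Functor.map_id_apply, ← NatTrans.naturality_apply, hz2, h]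
    have key2 : ψ.app _ z = H.map (zeroSec B) (ψ.app B g₁) := by
      have := congrArg (H.map (inv (eMap μ hμ.1 t ht htm hμt))) key
      rwa [← Functor.map_comp_apply, ← Functor.map_comp_apply, IsIso.hom_inv_id,
        Functor.map_id_apply, Functor.map_id_apply] at this
    have key3 : G.map (qq₂ B) z = G.map (toBase B ≫ baseToDual) g₁ := by
      apply hψ
      rw [NatTrans.naturality_apply, key2, ← Functor.map_comp_apply, zeroSec_qq₂,
        NatTrans.naturality_apply]
    have key4 : z = G.map (zeroSec B) g₁ := by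
      apply (hG2 (qq₁ B) (qq₂ B) (isFibreProd_QQ B)).1
      apply Subtype.ext
      apply Prod.ext
      · change G.map (qq₁ B) z = G.map (qq₁ B) (G.map (zeroSec B) g₁)
        rw [hz1, ← Functor.map_comp_apply, zeroSec_qq₁, Functor.map_id_apply]
      · change G.map (qq₂ B) z = G.map (qq₂ B) (G.map (zeroSec B) g₁)
        rw [key3, ← Functor.map_comp_apply, zeroSec_qq₂]
    rw [← hz2, key4, ← Functor.map_comp_apply, zeroSec_aT, Functor.map_id_apply]
  · intro A B C p q hp hq hA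
    exact hp (hq hA)

theorem isSmooth_comp {φ : F ⟶ G} {ψ : G ⟶ H} (hφ : IsSmooth φ) (hψ : IsSmooth ψ) :
    IsSmooth (φ ≫ ψ) := by
  intro B A μ hμ y
  obtain ⟨⟨x, h'⟩, hxy⟩ := y
  have hxy' : ψ.app A (φ.app A x) = H.map μ h' := hxy
  obtain ⟨g', hg'⟩ := hψ μ hμ ⟨(φ.app A x, h'), hxy'⟩
  have hg1 : G.map μ g' = φ.app A x := congrArg (fun t => t.1.1) hg'
  have hg2 : ψ.app B g' = h' := congrArg (fun t => t.1.2) hg'
  obtain ⟨f', hf'⟩ := hφ μ hμ ⟨(x, g'), hg1.symm⟩
  have hf1 : F.map μ f' = x := congrArg (fun t => t.1.1) hf'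
  have hf2 : φ.app B f' = g' := congrArg (fun t => t.1.2) hf'
  refine ⟨f', Subtype.ext (Prod.ext hf1 ?_)⟩
  change ψ.app B (φ.app B f') = h'
  rw [hf2, hg2]

theorem isSmooth_of_bijective (ψ : G ⟶ H) (hb : ∀ A, Function.Bijective (ψ.app A)) :
    IsSmooth ψ := by
  intro B A μ hμ y
  obtain ⟨⟨g, h'⟩, hgh⟩ := y
  have hgh' : ψ.app A g = H.map μ h' := hgh
  obtain ⟨g', hg'⟩ := (hb B).2 h'
  refine ⟨g', Subtype.ext (Prod.ext ?_ hg')⟩
  change G.map μ g' = g
  apply (hb A).1
  rw [NatTrans.naturality_apply, hg', hgh']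

theorem isSmooth_of_comp_of_bijective (φ : F ⟶ G) (ψ : G ⟶ H)
    (hb : ∀ A, Function.Bijective (ψ.app A)) (hs : IsSmooth (φ ≫ ψ)) : IsSmooth φ := by
  intro B A μ hμ y
  obtain ⟨⟨x, g'⟩, hxg⟩ := y
  have hxg' : φ.app A x = G.map μ g' := hxg
  have h1 : (φ ≫ ψ).app A x = H.map μ (ψ.app B g') := by
    change ψ.app A (φ.app A x) = _
    rw [hxg', NatTrans.naturality_apply]
  obtain ⟨f', hf'⟩ := hs μ hμ ⟨(x, ψ.app B g'), h1⟩
  have hf1 : F.map μ f' = x := congrArg (fun t => t.1.1) hf'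
  have hf2 : ψ.app B (φ.app B f') = ψ.app B g' := congrArg (fun t => t.1.2) hf'
  exact ⟨f', Subtype.ext (Prod.ext hf1 ((hb B).1 hf2))⟩

/-- SGA7-style criterion: with `ψ` injective on tangent spaces, `φ ≫ ψ` is smooth iff both are. -/
theorem isSmooth_comp_iff (φ : F ⟶ G) (ψ : G ⟶ H) (hF : H0 F) (hG0 : H0 G) (hG1 : Hbar G)
    (hG2 : Heps G) (hH0 : H0 H) (hH : HSq H) (hψ : Function.Injective (ψ.app (dual Λ k))) :
    IsSmooth (φ ≫ ψ) ↔ (IsSmooth φ ∧ IsSmooth ψ) := by
  constructor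
  · intro hs
    have hb : ∀ A, Function.Bijective (ψ.app A) := by
      intro A
      refine ⟨app_injective_of_tangent_injective ψ hG0 hG1 hG2 hH hψ A, ?_⟩
      intro h
      obtain ⟨x, hx⟩ := app_surjective_of_isSmooth hs hF hH0 A h
      exact ⟨φ.app A x, hx⟩
    exact ⟨isSmooth_of_comp_of_bijective φ ψ hb hs, isSmooth_of_bijective ψ hb⟩
  · rintro ⟨h1, h2⟩
    exact isSmooth_comp h1 h2

end Groth.Agent.H61
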