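import Groth.Agent.H61.SchlessSmall

/-!
# The family of an element over an Artinian object; `k[ε] → k` is a small extension (helper61)
-/

set_option autoImplicit false
set_option linter.unusedSectionVars false
set_option linter.style.haveILetI false
universe u v

namespace Groth.Agent.H61

open CategoryTheory ArtFun ArtFun.Art Groth.Agent.H63

variable {Λ : Type u} {k : Type u} [CommRing Λ] [Field k] [Algebra Λ k]

/-- the morphism of a compatible map out of an Artinian object -/
def homOfHomSet {R' A : Art Λ k} (φ : HomSet R'.carrier R'.res A) : R' ⟶ A := ⟨φ.1, φ.2⟩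

/-- the compatible map of a morphism -/
def homSetOfHom {R' A : Art Λ k} (f : R' ⟶ A) : HomSet R'.carrier R'.res A :=
  ⟨f.toAlgHom, f.res_comp⟩

theorem homOfHomSet_homSetOfHom {R' A : Art Λ k} (f : R' ⟶ A) :
    homOfHomSet (homSetOfHom f) = f := rfl

theorem homSetOfHom_homOfHomSet {R' A : Art Λ k} (φ : HomSet R'.carrier R'.res A) :
    homSetOfHom (homOfHomSet φ) = φ := rfl

theorem homSetOfHom_comp {R' A B : Art Λ k} (f : R' ⟶ A) (g : A ⟶ B) :
    homSetOfHom (f ≫ g) = HomSet.map g (homSetOfHom f) := rfl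

theorem homOfHomSet_map {R' A B : Art Λ k} (φ : HomSet R'.carrier R'.res A) (g : A ⟶ B) :
    homOfHomSet (HomSet.map g φ) = homOfHomSet φ ≫ g := rfl

variable {F : Art Λ k ⥤ Type v}

/-- the family `h_{R'} → F` of an element of `F(R')` -/
def yFam {R' : Art Λ k} (a' : F.obj R') : Family R'.carrier R'.res F where
  app A φ := F.map (homOfHomSet φ) a'
  natural f φ := by
    rw [homOfHomSet_map, Functor.map_comp_apply]

theorem yFam_app {R' A : Art Λ k} (a' : F.obj R') (f : R' ⟶ A) :
    (yFam a').app A (homSetOfHom f) = F.map f a' := rfl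

theorem dfst_mul' (x y : dual Λ k) : dfst (x * y) = dfst x * dfst y := rfl

/-- `ε` -/
def dEps : dual Λ k := dmk 0 1

theorem dual_eq_mul_eps {x : dual Λ k} (hx : dfst x = 0) : x = dmk (dsnd x) 0 * dEps := by
  apply dual_ext
  · change dfst x = dfst (dmk (Λ := Λ) (dsnd x) 0) * dfst (dEps (Λ := Λ) (k := k))
    rw [hx]
    change (0 : k) = dsnd x * 0
    rw [mul_zero]
  · rw [dsnd_mul]
    change dsnd x = dsnd x * 1 + 0 * 0
    ring

theorem mem_ker_toBase_dual (x : dual Λ k) :
    x ∈ RingHom.ker (toBase (dual Λ k)).toAlgHom ↔ dfst x = 0 := by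
  rw [RingHom.mem_ker]
  rfl

theorem isSmallExt_toBase_dual : IsSmallExt (toBase (dual Λ k)) := by
  have hker : RingHom.ker (toBase (dual Λ k)).toAlgHom = Ideal.span {dEps} := by
    apply le_antisymm
    · intro x hx
      rw [mem_ker_toBase_dual] at hx
      rw [dual_eq_mul_eps hx]
      exact Ideal.mul_mem_left _ _ (Ideal.mem_span_singleton_self _)
    · rw [Ideal.span_le]
      intro x hx
      rw [Set.mem_singleton_iff] at hx
      subst hx
      change dEps ∈ RingHom.ker (toBase (dual Λ k)).toAlgHom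
      rw [mem_ker_toBase_dual]
      rfl
  refine ⟨(dual Λ k).res_surjective, ?_, ⟨dEps, hker⟩, ?_⟩
  · intro h
    have h1 : (dEps : dual Λ k) ∈ RingHom.ker (toBase (dual Λ k)).toAlgHom := by
      rw [hker]; exact Ideal.mem_span_singleton_self _
    rw [h, Ideal.mem_bot] at h1
    have h2 : dsnd (dEps (Λ := Λ) (k := k)) = dsnd (0 : dual Λ k) := by rw [h1]
    change (1 : k) = 0 at h2
    exact one_ne_zero h2
  · rw [eq_bot_iff, Ideal.mul_le]
    intro a ha b hb
    rw [mem_maximalIdeal_iff] at ha
    rw [mem_ker_toBase_dual] at hb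
    have ha' : dfst a = 0 := ha
    rw [Ideal.mem_bot]
    apply dual_ext
    · rw [dfst_mul', ha', zero_mul]; rfl
    · rw [dsnd_mul, ha', hb, zero_mul, zero_mul, add_zero]; rfl

end Groth.Agent.H61
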