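import Mathlib.RingTheory.Finiteness.Defs
import Mathlib.RingTheory.FinitePresentation
import Mathlib.Algebra.Module.FinitePresentation
import Mathlib.LinearAlgebra.Quotient.Basic
import Mathlib.RingTheory.Noetherian.Basic

/-! Coherent modules (helper61). -/

set_option autoImplicit false
universe u

namespace H61

variable (R : Type u) [CommRing R]

/-- coherent module: finite and every f.g. submodule is finitely presented -/
def IsCohMod (M : Type u) [AddCommGroup M] [Module R M] : Prop :=
  Module.Finite R M ∧ ∀ P : Submodule R M, P.FG → Module.FinitePresentation R P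

variable {R} {N M : Type u} [AddCommGroup N] [Module R N] [AddCommGroup M] [Module R M]

theorem ker_fg_of_finite_of_isCohMod [Module.Finite R N] (hM : IsCohMod R M) (φ : N →ₗ[R] M) :
    (LinearMap.ker φ).FG := by
  have hr : (LinearMap.range φ).FG := by
    rw [LinearMap.range_eq_map]
    exact Submodule.FG.map φ Module.Finite.fg_top
  have := hM.2 _ hr
  have := Module.FinitePresentation.fg_ker φ.rangeRestrict φ.surjective_rangeRestrict
  rwa [LinearMap.ker_rangeRestrict] at this

theorem isCohMod_submodule (hM : IsCohMod R M) (Q : Submodule R M) (hQ : Q.FG) : IsCohMod R Q := by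
  refine ⟨Module.Finite.iff_fg.2 hQ, fun P hP => ?_⟩
  have h1 : (P.map Q.subtype).FG := hP.map _
  have := hM.2 _ h1
  exact Module.FinitePresentation.of_equiv
    (Submodule.equivMapOfInjective Q.subtype Q.injective_subtype P).symm

theorem isCohMod_quotient (hM : IsCohMod R M) (Q : Submodule R M) (hQ : Q.FG) : IsCohMod R (M ⧸ Q) := by
  have := hM.1
  refine ⟨inferInstance, fun P hP => ?_⟩
  set P' : Submodule R M := P.comap Q.mkQ with hP'
  have hQP' : Q ≤ P' := by
    intro x hx
    rw [hP', Submodule.mem_comap, Submodule.mkQ_apply, (Submodule.Quotient.mk_eq_zero Q).2 hx]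
    exact P.zero_mem
  have hmap : P'.map Q.mkQ = P := Submodule.map_comap_eq_of_surjective Q.mkQ_surjective P
  have hfg : P'.FG := by
    apply Submodule.fg_of_fg_map_of_fg_inf_ker Q.mkQ
    · rw [hmap]; exact hP
    · rw [Submodule.ker_mkQ, inf_eq_right.2 hQP']; exact hQ
  have := hM.2 _ hfg
  let l : P' →ₗ[R] P := Q.mkQ.restrict (fun x hx => hx)
  have hl : Function.Surjective l := by
    rintro ⟨y, hy⟩
    obtain ⟨x, rfl⟩ := Q.mkQ_surjective y
    exact ⟨⟨x, hy⟩, rfl⟩
  apply Module.finitePresentation_of_surjective l hl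
  have hker : (LinearMap.ker l).map P'.subtype = Q := by
    ext x
    constructor
    · rintro ⟨⟨y, hy⟩, hy2, rfl⟩
      have : Q.mkQ y = 0 := congrArg Subtype.val (LinearMap.mem_ker.1 hy2)
      exact (Submodule.Quotient.mk_eq_zero Q).1 this
    · intro hx
      refine ⟨⟨x, hQP' hx⟩, ?_, rfl⟩
      change _ ∈ LinearMap.ker l
      rw [LinearMap.mem_ker]
      apply Subtype.ext
      exact (Submodule.Quotient.mk_eq_zero Q).2 hx
  apply Submodule.fg_of_fg_map_injective P'.subtype P'.injective_subtype
  rw [hker]; exact hQ

end H61
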