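import Groth.Agent.Lead.CompleteNoetherian
import Groth.Agent.H61.CRingLib
import Groth.Agent.H61.ArtFunFormal
import Mathlib.RingTheory.AdicCompletion.LocalRing
import Mathlib.RingTheory.Polynomial.Basic

/-!
# The completion of a polynomial ring over `Λ` at a maximal ideal with residue field `k`,
as a coefficient ring, and its mapping properties (helper61)
-/

set_option autoImplicit false
set_option linter.unusedSectionVars false
set_option linter.style.haveILetI false
universe u v

namespace Groth.Agent.H61.CP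

open ArtFun ArtFun.Art

variable {Λ : Type u} {k : Type u} [CommRing Λ] [Field k] [Algebra Λ k] [IsNoetherianRing Λ]
variable {σ : Type} [Finite σ]
variable (π : MvPolynomial σ Λ →ₐ[Λ] k) (hπ : Function.Surjective π)

/-- the maximal ideal of the polynomial ring -/
noncomputable def M : Ideal (MvPolynomial σ Λ) := RingHom.ker π.toRingHom

theorem mem_M (p : MvPolynomial σ Λ) : p ∈ M π ↔ π p = 0 := RingHom.mem_ker

theorem M_fg : (M π).FG := IsNoetherian.noetherian _

include hπ in
theorem M_isMaximal : (M π).IsMaximal := RingHom.ker_isMaximal_of_surjective π.toRingHom hπ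

/-- the carrier -/
abbrev Car : Type u := AdicCompletion (M π) (MvPolynomial σ Λ)

theorem isNoeth : IsNoetherianRing (Car π) :=
  Groth.Agent.Lead.isNoetherianRing_adicCompletion (M π) (M_fg π)

/-- the extension of the maximal ideal -/
noncomputable def Mhat : Ideal (Car π) := (M π).map (algebraMap (MvPolynomial σ Λ) (Car π))

include hπ in
theorem Mhat_isMaximal : (Mhat π).IsMaximal := by
  haveI := M_isMaximal π hπ
  exact AdicCompletion.isMaximal_map_of_le (M π) (M π) le_rfl (M_fg π)

theorem Mhat_complete : IsAdicComplete (Mhat π) (Car π) :=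
  AdicCompletion.isAdicComplete_self (M π) (M_fg π)

include hπ in
theorem isLocal : IsLocalRing (Car π) := by
  haveI := Mhat_isMaximal π hπ
  haveI := Mhat_complete π
  exact isLocalRing_of_isAdicComplete_maximal (Mhat π)

/-- the augmentation, as a ring hom -/
noncomputable def resRingHom : Car π →+* k :=
  (Ideal.Quotient.lift (M π) π.toRingHom (fun a ha => ha)).comp
    (AdicCompletion.evalOneₐ (M π)).toRingHom

theorem resRingHom_of (p : MvPolynomial σ Λ) :
    resRingHom π (AdicCompletion.of (M π) _ p) = π p := rfl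

/-- the augmentation -/
noncomputable def resHom : Car π →ₐ[Λ] k :=
  { toRingHom := resRingHom π
    commutes' := fun a => π.commutes a }

theorem resHom_of (p : MvPolynomial σ Λ) : resHom π (AdicCompletion.of (M π) _ p) = π p := rfl

include hπ in
theorem resHom_surjective : Function.Surjective (resHom π) := by
  intro c
  obtain ⟨p, hp⟩ := hπ c
  exact ⟨AdicCompletion.of (M π) _ p, hp⟩


/-- the coefficient ring -/
noncomputable def ring : CRing Λ k :=
  { carrier := Car π
    isLocalRing := isLocal π hπ
    isNoetherianRing := isNoeth π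
    res := resHom π
    res_surjective := resHom_surjective π hπ
    isAdicComplete := by
      haveI := isLocal π hπ
      have h : IsLocalRing.maximalIdeal (Car π) = Mhat π :=
        (IsLocalRing.eq_maximalIdeal (Mhat_isMaximal π hπ)).symm
      rw [h]
      exact Mhat_complete π }

theorem maximalIdeal_eq :
    IsLocalRing.maximalIdeal (ring π hπ).carrier = Mhat π := by
  haveI := isLocal π hπ
  exact (IsLocalRing.eq_maximalIdeal (Mhat_isMaximal π hπ)).symm

/-- the inclusion of the polynomial ring -/
noncomputable def ofHom : MvPolynomial σ Λ →ₐ[Λ] Car π :=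
  { toRingHom := algebraMap (MvPolynomial σ Λ) (Car π)
    commutes' := fun _ => rfl }

theorem ofHom_apply (p : MvPolynomial σ Λ) : ofHom π p = AdicCompletion.of (M π) _ p := rfl

/-- density of the polynomial ring -/
theorem exists_sub_mem (x : Car π) (n : ℕ) :
    ∃ p : MvPolynomial σ Λ, x - ofHom π p ∈ Mhat π ^ n := by
  obtain ⟨p, hp⟩ := Ideal.Quotient.mk_surjective (AdicCompletion.evalₐ (M π) n x)
  refine ⟨p, ?_⟩
  have h1 : AdicCompletion.evalₐ (M π) n (x - ofHom π p) = 0 := by
    rw [map_sub, ofHom_apply, AdicCompletion.evalₐ_of, hp, sub_self]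
  have h2 : AdicCompletion.eval (M π) (MvPolynomial σ Λ) n (x - ofHom π p) = 0 := by
    have h3 := AdicCompletion.factor_eval_eq_evalₐ (M π) (x - ofHom π p)
      (n := n) (le_of_eq (by simp))
    rw [h1] at h3
    have hinj : Function.Injective (Ideal.Quotient.factor
        (show ((M π) ^ n • ⊤ : Ideal (MvPolynomial σ Λ)) ≤ (M π) ^ n from le_of_eq (by simp))) := by
      rw [RingHom.injective_iff_ker_eq_bot, Ideal.Quotient.factor_ker]
      exact Ideal.map_mk_eq_bot_of_le (le_of_eq (by simp))
    exact hinj (h3.trans (map_zero _).symm)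
  have h4 : x - ofHom π p ∈ ((M π) ^ n • ⊤ : Submodule (MvPolynomial σ Λ) (Car π)) := by
    rw [AdicCompletion.pow_smul_top_eq_ker_eval (M_fg π)]
    exact h2
  rw [Ideal.smul_top_eq_map, Submodule.restrictScalars_mem, Ideal.map_pow] at h4
  exact h4


/-- ring homs out of the completion killing a power of the maximal ideal are determined on
polynomials -/
theorem ringHom_ext {T : Type*} [CommRing T] (f f' : Car π →+* T) (n : ℕ)
    (hf : ∀ x ∈ Mhat π ^ n, f x = 0) (hf' : ∀ x ∈ Mhat π ^ n, f' x = 0)
    (h : ∀ p, f (ofHom π p) = f' (ofHom π p)) : f = f' := by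
  ext x
  obtain ⟨p, hp⟩ := exists_sub_mem π x n
  have h1 := hf _ hp
  have h2 := hf' _ hp
  rw [map_sub, sub_eq_zero] at h1 h2
  rw [h1, h2, h]

theorem kills_of_M {T : Type*} [CommRing T] (f : Car π →+* T)
    (hf : ∀ p ∈ M π, f (ofHom π p) = 0) : ∀ x ∈ Mhat π ^ 1, f x = 0 := by
  intro x hx
  rw [pow_one] at hx
  have : Mhat π ≤ RingHom.ker f := by
    rw [Mhat, Ideal.map_le_iff_le_comap]
    intro p hp
    exact RingHom.mem_ker.2 (hf p hp)
  exact RingHom.mem_ker.1 (this hx)

/-- the variables -/
noncomputable def cpX (i : σ) : (ring π hπ).carrier := ofHom π (MvPolynomial.X i)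

/-- Existence of maps out of the completed polynomial ring with prescribed values on the
variables. -/
theorem exists_hom (B : Art Λ k) (b : σ → B) (hb : ∀ i, B.res (b i) = π (MvPolynomial.X i)) :
    ∃ ψ : HomSet (ring π hπ).carrier (ring π hπ).res B, ∀ i, ψ.1 (cpX π hπ i) = b i := by
  obtain ⟨n, hn⟩ := art_maximalIdeal_nilpotent B
  let ev : MvPolynomial σ Λ →ₐ[Λ] B := MvPolynomial.aeval b
  have hres : B.res.comp ev = π := by
    apply MvPolynomial.algHom_ext
    intro i
    change B.res (MvPolynomial.aeval b (MvPolynomial.X i)) = _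
    rw [MvPolynomial.aeval_X, hb]
  have hres' : ∀ p, B.res (ev p) = π p := fun p => AlgHom.congr_fun hres p
  have hevM : ∀ p ∈ M π, ev p ∈ IsLocalRing.maximalIdeal B := by
    intro p hp
    rw [Art.mem_maximalIdeal_iff, hres']
    exact (mem_M π p).1 hp
  have hev : ∀ p ∈ M π ^ n, ev p = 0 := by
    intro p hp
    have h1 : Ideal.map ev.toRingHom (M π) ≤ IsLocalRing.maximalIdeal B := by
      rw [Ideal.map_le_iff_le_comap]
      intro p hp
      exact hevM p hp
    have h2 := Ideal.mem_map_of_mem ev.toRingHom hp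
    rw [Ideal.map_pow] at h2
    have h3 := Ideal.pow_right_mono h1 n h2
    rw [hn] at h3
    exact h3
  let q : (MvPolynomial σ Λ ⧸ M π ^ n) →ₐ[Λ] B := Ideal.Quotient.liftₐ (M π ^ n) ev hev
  have hq : ∀ p, q (Ideal.Quotient.mk _ p) = ev p := fun p => rfl
  let ψ₀ : Car π →ₐ[Λ] B :=
    { toRingHom := q.toRingHom.comp (AdicCompletion.evalₐ (M π) n).toRingHom
      commutes' := fun a => by
        change q (AdicCompletion.evalₐ (M π) n
          (AdicCompletion.of (M π) _ (algebraMap Λ (MvPolynomial σ Λ) a))) = _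
        rw [AdicCompletion.evalₐ_of, hq]
        exact ev.commutes a }
  have hψ₀ : ∀ p, ψ₀ (ofHom π p) = ev p := by
    intro p
    change q (AdicCompletion.evalₐ (M π) n (AdicCompletion.of (M π) _ p)) = _
    rw [AdicCompletion.evalₐ_of, hq]
  refine ⟨⟨ψ₀, ?_⟩, ?_⟩
  · apply AlgHom.coe_ringHom_injective
    apply ringHom_ext π _ _ 1
    · apply kills_of_M
      intro p hp
      change B.res (ψ₀ (ofHom π p)) = 0
      rw [hψ₀, hres']
      exact (mem_M π p).1 hp
    · apply kills_of_M
      intro p hp
      exact (mem_M π p).1 hp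
    · intro p
      change B.res (ψ₀ (ofHom π p)) = π p
      rw [hψ₀, hres']
  · intro i
    change ψ₀ (ofHom π (MvPolynomial.X i)) = b i
    rw [hψ₀]
    exact MvPolynomial.aeval_X b i

/-- Maps out of the completed polynomial ring are determined by their values on the variables. -/
theorem hom_ext (B : Art Λ k) (ψ ψ' : HomSet (ring π hπ).carrier (ring π hπ).res B)
    (h : ∀ i, ψ.1 (cpX π hπ i) = ψ'.1 (cpX π hπ i)) : ψ = ψ' := by
  obtain ⟨n, hn⟩ := art_maximalIdeal_nilpotent B
  apply Subtype.ext
  apply AlgHom.coe_ringHom_injective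
  have hk : ∀ χ : HomSet (ring π hπ).carrier (ring π hπ).res B,
      ∀ x ∈ Mhat π ^ n, χ.1 x = 0 := by
    intro χ x hx
    rw [← maximalIdeal_eq π hπ] at hx
    have := homSet_map_pow (ring π hπ) χ n x hx
    rw [hn] at this
    exact this
  apply ringHom_ext π _ _ n (hk ψ) (hk ψ')
  intro p
  have : ψ.1.comp (ofHom π) = ψ'.1.comp (ofHom π) := MvPolynomial.algHom_ext (fun i => h i)
  exact AlgHom.congr_fun this p

theorem res_cpX (i : σ) : (ring π hπ).res (cpX π hπ i) = π (MvPolynomial.X i) := rfl

end Groth.Agent.H61.CP
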