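import Mathlib

/-!
# The canonical map `S ⊗_A I → H¹(L_{S/A})` for an ideal `I ⊆ ker (A → S)`

For an extension `P` of `S` over `A` and `a : A` mapping to `0` in `S`, the constant
`algebraMap A P.Ring a` lies in `P.ker` and its class in `P.Cotangent` is killed by the
differential; this gives `cls P a : P.H1Cotangent`, an `A`-linear map `I → P.H1Cotangent` and
`c P I : S ⊗[A] I →ₗ[S] P.H1Cotangent`.  It is natural for homs of extensions.  When
`Spec S → Spec A` is (locally on basic opens of `A`) a closed immersion with ideal `I`, `c` is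
bijective.
-/

set_option autoImplicit false
set_option backward.isDefEq.respectTransparency false
universe u
open TensorProduct

namespace Groth.Agent.H61.ConormalH1

open Algebra

section Cls

variable {A S : Type u} [CommRing A] [CommRing S] [Algebra A S] (P : Extension.{u} A S)

lemma algebraMap_mem_ker {a : A} (ha : algebraMap A S a = 0) : algebraMap A P.Ring a ∈ P.ker := by
  show algebraMap P.Ring S (algebraMap A P.Ring a) = 0
  rw [← IsScalarTower.algebraMap_apply]
  exact ha

/-- The class in `H¹` of a constant killed in `S`. -/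
noncomputable def cls (a : A) (ha : algebraMap A S a = 0) : P.H1Cotangent :=
  ⟨Extension.Cotangent.mk ⟨algebraMap A P.Ring a, algebraMap_mem_ker P ha⟩, by
    rw [LinearMap.mem_ker, Extension.cotangentComplex_mk]
    simp⟩

lemma cls_val (a : A) (ha : algebraMap A S a = 0) :
    (cls P a ha).1 = Extension.Cotangent.mk ⟨algebraMap A P.Ring a, algebraMap_mem_ker P ha⟩ :=
  rfl

variable (I : Ideal A) (hI : I ≤ RingHom.ker (algebraMap A S))

/-- `x ↦ cls x` on `I`. -/
noncomputable def ℓ : I →ₗ[A] P.H1Cotangent where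
  toFun x := cls P x.1 (hI x.2)
  map_add' x y := by
    apply Extension.h1Cotangentι_ext
    rw [Extension.H1Cotangent.val_add, cls_val, cls_val, cls_val, ← map_add]
    congr 1
    exact Subtype.ext (map_add _ _ _)
  map_smul' a x := by
    apply Extension.h1Cotangentι_ext
    rw [Extension.H1Cotangent.val_smul, cls_val, cls_val, RingHom.id_apply]
    apply Extension.Cotangent.ext
    rw [Extension.Cotangent.val_smul'', Extension.Cotangent.val_mk, Extension.Cotangent.val_mk]
    have h1 : (⟨algebraMap A P.Ring ((a • x : I) : A), algebraMap_mem_ker P (hI (a • x).2)⟩ : P.ker) =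
        algebraMap A P.Ring a • ⟨algebraMap A P.Ring x.1, algebraMap_mem_ker P (hI x.2)⟩ :=
      Subtype.ext (by simp [Algebra.smul_def])
    rw [h1, map_smul, algebraMap_smul]

/-- The canonical map `S ⊗[A] I → H¹(L_P)`. -/
noncomputable def c : S ⊗[A] I →ₗ[S] P.H1Cotangent :=
  LinearMap.liftBaseChange S (ℓ P I hI)

lemma c_tmul (s : S) (x : I) : c P I hI (s ⊗ₜ x) = s • cls P x.1 (hI x.2) := by
  rw [c, LinearMap.liftBaseChange_tmul]
  rfl

end Cls

section Nat

variable {A S A' S' : Type u} [CommRing A] [CommRing S] [Algebra A S] [CommRing A'] [CommRing S']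
  [Algebra A' S'] [Algebra A A'] [Algebra S S'] [Algebra A S'] [IsScalarTower A A' S']
  [IsScalarTower A S S']
  {P : Extension.{u} A S} {P' : Extension.{u} A' S'} (f : P.Hom P')

lemma algebraMap_eq_zero {a : A} (ha : algebraMap A S a = 0) :
    algebraMap A' S' (algebraMap A A' a) = 0 := by
  rw [← IsScalarTower.algebraMap_apply, IsScalarTower.algebraMap_apply A S S', ha, map_zero]

lemma map_cls (a : A) (ha : algebraMap A S a = 0) :
    Extension.H1Cotangent.map f (cls P a ha) =
      cls P' (algebraMap A A' a) (algebraMap_eq_zero ha) := by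
  apply Extension.h1Cotangentι_ext
  rw [Extension.H1Cotangent.map_apply_coe, cls_val, cls_val, Extension.Cotangent.map_mk]
  congr 1
  exact Subtype.ext (f.toRingHom_algebraMap a)

variable (I : Ideal A) (hI : I ≤ RingHom.ker (algebraMap A S))
  (I' : Ideal A') (hI' : I' ≤ RingHom.ker (algebraMap A' S'))
  (hII' : ∀ x ∈ I, algebraMap A A' x ∈ I')

lemma map_c_tmul (s : S) (x : I) :
    Extension.H1Cotangent.map f (c P I hI (s ⊗ₜ x)) =
      c P' I' hI' (algebraMap S S' s ⊗ₜ ⟨algebraMap A A' x.1, hII' x.1 x.2⟩) := by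
  rw [c_tmul, c_tmul, map_smul, map_cls, algebraMap_smul]

end Nat

section AlgMap

variable (A A' B B' : Type u) [CommRing A] [CommRing A'] [CommRing B] [CommRing B']
  [Algebra A A'] [Algebra A B] [Algebra A' B'] [Algebra B B'] [Algebra A B']
  [IsScalarTower A A' B'] [IsScalarTower A B B']

/-- `Algebra.H1Cotangent.map` on multiples of classes of constants. -/
lemma algH1map_smul_cls (b : B) (a : A) (ha : algebraMap A B a = 0) :
    Algebra.H1Cotangent.map A A' B B' (b • cls (Generators.self A B).toExtension a ha) =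
      algebraMap B B' b • cls (Generators.self A' B').toExtension (algebraMap A A' a)
        (algebraMap_eq_zero ha) := by
  rw [map_smul, Algebra.H1Cotangent.map, map_cls, algebraMap_smul]

end AlgMap

section Local

variable {A B' : Type u} [CommRing A] [CommRing B'] [Algebra A B']
  (g : A) (Ag : Type u) [CommRing Ag] [Algebra A Ag] [IsLocalization.Away g Ag]
  [Algebra Ag B'] [IsScalarTower A Ag B']
  (hsurj : Function.Surjective (algebraMap Ag B'))
  (I : Ideal A) (hker : RingHom.ker (algebraMap Ag B') = I.map (algebraMap A Ag))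

/-- The extension `Ag → B'` of `B'` over `A`. -/
@[reducible] noncomputable def extAg : Extension.{u} A B' where
  Ring := Ag
  σ x := (hsurj x).choose
  algebraMap_σ x := (hsurj x).choose_spec

include hker in
lemma le_ker_of_hker : I ≤ RingHom.ker (algebraMap A B') := by
  intro x hx
  rw [RingHom.mem_ker, IsScalarTower.algebraMap_apply A Ag B', ← RingHom.mem_ker, hker]
  exact Ideal.mem_map_of_mem _ hx

omit [IsLocalization.Away g Ag] [IsScalarTower A Ag B'] in
lemma isUnit_end_of {g : A} (hg : IsUnit (algebraMap A B' g))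
    (N : Type u) [AddCommGroup N] [Module A N] [Module B' N] [IsScalarTower A B' N]
    (x : Submonoid.powers g) : IsUnit (algebraMap A (Module.End A N) x) := by
  have h1 : IsUnit (algebraMap A B' x) := by
    obtain ⟨_, n, rfl⟩ := x
    rw [map_pow]
    exact hg.pow n
  have h2 : algebraMap A (Module.End A N) x = Algebra.lsmul A A N (algebraMap A B' x) := by
    ext n
    simp
  rw [h2]
  exact h1.map _

include Ag in
lemma isUnit_algebraMap_g : IsUnit (algebraMap A B' g) := by
  rw [IsScalarTower.algebraMap_apply A Ag B']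
  exact (IsLocalization.Away.algebraMap_isUnit (S := Ag) g).map _

/-- `I·Ag → B' ⊗[A] I`, `x/1 ↦ 1 ⊗ x`. -/
noncomputable def s₀' : (I.map (algebraMap A Ag)) →ₗ[Ag] B' ⊗[A] I :=
  (IsLocalizedModule.lift (Submonoid.powers g) (Algebra.idealMap Ag I)
    (TensorProduct.mk A B' I 1)
    (isUnit_end_of (isUnit_algebraMap_g (B' := B') g Ag) (B' ⊗[A] I))).extendScalarsOfIsLocalization
      (Submonoid.powers g) Ag

lemma s₀'_idealMap (x : I) : s₀' g Ag I (Algebra.idealMap Ag I x) = (1 : B') ⊗ₜ[A] x := by
  show IsLocalizedModule.lift (Submonoid.powers g) (Algebra.idealMap Ag I)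
    (TensorProduct.mk A B' I 1) (isUnit_end_of (isUnit_algebraMap_g (B' := B') g Ag) (B' ⊗[A] I))
      (Algebra.idealMap Ag I x) = _
  rw [IsLocalizedModule.lift_apply]
  rfl

include hker in
lemma s₀'_mul (y y' : I.map (algebraMap A Ag)) : s₀' (B' := B') g Ag I (y * y') = 0 := by
  have h1 : y * y' = (y : Ag) • y' := Subtype.ext (by simp)
  have hy : (y : Ag) ∈ RingHom.ker (algebraMap Ag B') := by rw [hker]; exact y.2
  rw [h1, map_smul, ← algebraMap_smul B' (y : Ag), RingHom.mem_ker.mp hy, zero_smul]

/-- `P.ker → B' ⊗[A] I`. -/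
noncomputable def s₀ : (extAg (A := A) Ag hsurj).ker →ₗ[Ag] B' ⊗[A] I :=
  s₀' g Ag I ∘ₗ (LinearEquiv.ofEq _ _ hker).toLinearMap

lemma s₀_mul (y y' : (extAg (A := A) Ag hsurj).ker) : s₀ g Ag hsurj I hker (y * y') = 0 := by
  show s₀' g Ag I (LinearEquiv.ofEq _ _ hker (y * y')) = 0
  have : LinearEquiv.ofEq _ _ hker (y * y') =
      LinearEquiv.ofEq _ _ hker y * LinearEquiv.ofEq _ _ hker y' := Subtype.ext rfl
  rw [this, s₀'_mul g Ag I hker]

/-- `P.Cotangent → B' ⊗[A] I`. -/
noncomputable def sFull (m : (extAg (A := A) Ag hsurj).Cotangent) : B' ⊗[A] I :=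
  Ideal.Cotangent.lift (R := Ag) (s₀ g Ag hsurj I hker) (s₀_mul g Ag hsurj I hker) m.val

lemma sFull_add (m m' : (extAg (A := A) Ag hsurj).Cotangent) :
    sFull g Ag hsurj I hker (m + m') = sFull g Ag hsurj I hker m + sFull g Ag hsurj I hker m' := by
  simp only [sFull, Extension.Cotangent.val_add, map_add]

lemma sFull_c (t : B' ⊗[A] I) :
    sFull g Ag hsurj I hker
      (c (extAg (A := A) Ag hsurj) I (le_ker_of_hker Ag I hker) t).1 = t := by
  induction t using TensorProduct.induction_on with
  | zero =>
    rw [map_zero]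
    simp [sFull]
  | add a b ha hb =>
    rw [map_add, Extension.H1Cotangent.val_add, sFull_add, ha, hb]
  | tmul b x =>
    obtain ⟨r, rfl⟩ := hsurj b
    rw [c_tmul, Extension.H1Cotangent.val_smul, cls_val]
    have h1 : algebraMap Ag B' r • (Extension.Cotangent.mk (P := extAg (A := A) Ag hsurj)
        ⟨algebraMap A (extAg (A := A) Ag hsurj).Ring x.1,
          algebraMap_mem_ker (extAg (A := A) Ag hsurj) (le_ker_of_hker Ag I hker x.2)⟩) =
        Extension.Cotangent.mk (P := extAg (A := A) Ag hsurj)
          (r • ⟨algebraMap A (extAg (A := A) Ag hsurj).Ring x.1,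
            algebraMap_mem_ker (extAg (A := A) Ag hsurj) (le_ker_of_hker Ag I hker x.2)⟩) := by
      rw [map_smul]
      exact algebraMap_smul B' r _
    rw [h1]
    show Ideal.Cotangent.lift (R := Ag) (s₀ g Ag hsurj I hker) (s₀_mul g Ag hsurj I hker)
      (Ideal.toCotangent _ _) = _
    rw [Ideal.Cotangent.lift_toCotangent, map_smul]
    have h2 : s₀ g Ag hsurj I hker ⟨algebraMap A (extAg (A := A) Ag hsurj).Ring x.1,
        algebraMap_mem_ker (extAg (A := A) Ag hsurj) (le_ker_of_hker Ag I hker x.2)⟩ =
        s₀' g Ag I (Algebra.idealMap Ag I x) := rfl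
    rw [h2, s₀'_idealMap, TensorProduct.smul_tmul', Algebra.algebraMap_eq_smul_one]

lemma exists_c_val_eq (m : (extAg (A := A) Ag hsurj).Cotangent) :
    ∃ t : B' ⊗[A] I, (c (extAg (A := A) Ag hsurj) I (le_ker_of_hker Ag I hker) t).1 = m := by
  obtain ⟨⟨z, hz⟩, rfl⟩ := Extension.Cotangent.mk_surjective m
  have hz' : z ∈ I.map (algebraMap A Ag) := by rw [← hker]; exact hz
  have key : ∀ z ∈ I.map (algebraMap A Ag), ∃ (hz : z ∈ (extAg (A := A) Ag hsurj).ker)
      (t : B' ⊗[A] I), (c (extAg (A := A) Ag hsurj) I (le_ker_of_hker Ag I hker) t).1 =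
        Extension.Cotangent.mk ⟨z, hz⟩ := by
    intro z hz
    refine Submodule.span_induction (p := fun z _ => ∃ (hz : z ∈ (extAg (A := A) Ag hsurj).ker)
      (t : B' ⊗[A] I), (c (extAg (A := A) Ag hsurj) I (le_ker_of_hker Ag I hker) t).1 =
        Extension.Cotangent.mk ⟨z, hz⟩) ?_ ?_ ?_ ?_ hz
    · rintro _ ⟨x, hx, rfl⟩
      refine ⟨algebraMap_mem_ker (extAg (A := A) Ag hsurj) (le_ker_of_hker Ag I hker hx),
        (1 : B') ⊗ₜ ⟨x, hx⟩, ?_⟩
      rw [c_tmul, one_smul, cls_val]
    · exact ⟨Submodule.zero_mem _, 0, by rw [map_zero]; exact (map_zero _).symm⟩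
    · rintro a b _ _ ⟨ha, ta, hta⟩ ⟨hb, tb, htb⟩
      refine ⟨Submodule.add_mem _ ha hb, ta + tb, ?_⟩
      rw [map_add, Extension.H1Cotangent.val_add, hta, htb, ← map_add]
      rfl
    · rintro r a _ ⟨ha, ta, hta⟩
      refine ⟨Ideal.mul_mem_left _ _ ha, algebraMap Ag B' r • ta, ?_⟩
      rw [map_smul, Extension.H1Cotangent.val_smul, hta, algebraMap_smul, ← map_smul]
      rfl
  obtain ⟨_, t, ht⟩ := key z hz'
  exact ⟨t, ht⟩

include g in
theorem bijective_c_extAg :
    Function.Bijective (c (extAg (A := A) Ag hsurj) I (le_ker_of_hker Ag I hker)) := by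
  constructor
  · intro t₁ t₂ h
    rw [← sFull_c g Ag hsurj I hker t₁, ← sFull_c g Ag hsurj I hker t₂, h]
  · intro w
    obtain ⟨t, ht⟩ := exists_c_val_eq Ag hsurj I hker w.1
    exact ⟨t, Extension.h1Cotangentι_ext _ _ ht⟩

include g hsurj in
/-- The canonical map `B' ⊗[A] I → H¹(L_{B'/A})` is bijective when `A_g → B'` is surjective with
kernel `I·A_g`. -/
theorem bijective_c_self :
    Function.Bijective (c (Generators.self A B').toExtension I (le_ker_of_hker Ag I hker)) := by
  haveI : Algebra.FormallySmooth A (Generators.self A B').toExtension.Ring :=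
    inferInstanceAs (Algebra.FormallySmooth A (MvPolynomial _ _))
  haveI : Algebra.FormallySmooth A (extAg (A := A) Ag hsurj).Ring :=
    Algebra.FormallySmooth.of_isLocalization (Rₘ := Ag) (Submonoid.powers g)
  let Φ := Extension.H1Cotangent.equivOfFormallySmooth (Generators.self A B').toExtension
    (extAg (A := A) Ag hsurj)
  have hΦ : ∀ t, Φ (c (Generators.self A B').toExtension I (le_ker_of_hker Ag I hker) t) =
      c (extAg (A := A) Ag hsurj) I (le_ker_of_hker Ag I hker) t := by
    intro t
    rw [Extension.H1Cotangent.equivOfFormallySmooth_apply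
      (Extension.defaultHom (R := A) (S := B') (extAg (A := A) Ag hsurj))]
    induction t using TensorProduct.induction_on with
    | zero => simp
    | add a b ha hb => rw [map_add, map_add, map_add, ha, hb]
    | tmul b x =>
      rw [map_c_tmul _ I (le_ker_of_hker Ag I hker) I (le_ker_of_hker Ag I hker)
        (fun x hx => hx)]
      rfl
  have hb := bijective_c_extAg g Ag hsurj I hker
  constructor
  · intro t₁ t₂ h
    apply hb.1
    rw [← hΦ, ← hΦ, h]
  · intro w
    obtain ⟨t, ht⟩ := hb.2 (Φ w)
    exact ⟨t, Φ.injective ((hΦ t).trans ht)⟩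

end Local

section Glue

variable {A B : Type u} [CommRing A] [CommRing B] [Algebra A B]
  (I : Ideal A) (hI : I ≤ RingHom.ker (algebraMap A B))

omit hI in
include hI in
lemma le_ker_of_tower (Br : Type u) [CommRing Br] [Algebra B Br] [Algebra A Br]
    [IsScalarTower A B Br] : I ≤ RingHom.ker (algebraMap A Br) := by
  intro x hx
  rw [RingHom.mem_ker, IsScalarTower.algebraMap_apply A B Br, RingHom.mem_ker.mp (hI hx), map_zero]

/-- Local-to-global: `c` is bijective if it is so after localizing `B` at elements generating the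
unit ideal. -/
theorem bijective_c_of_cover (s : Set B) (hs : Ideal.span s = ⊤)
    (Bp : s → Type u) [∀ r, CommRing (Bp r)] [∀ r, Algebra B (Bp r)] [∀ r, Algebra A (Bp r)]
    [∀ r, IsScalarTower A B (Bp r)] [∀ r : s, IsLocalization.Away r.1 (Bp r)]
    (H : ∀ r : s, Function.Bijective
      (c (Generators.self A (Bp r)).toExtension I (le_ker_of_tower I hI (Bp r)))) :
    Function.Bijective (c (Generators.self A B).toExtension I hI) := by
  refine bijective_of_isLocalized_span s hs
    (fun r => Bp r ⊗[A] I)
    (fun r => TensorProduct.AlgebraTensorModule.rTensor A I (Algebra.linearMap B (Bp r)))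
    (fun r => Algebra.H1Cotangent A (Bp r))
    (fun r => Algebra.H1Cotangent.map A A B (Bp r))
    (c (Generators.self A B).toExtension I hI) ?_
  intro r
  have key : IsLocalizedModule.map (Submonoid.powers r.1)
      (TensorProduct.AlgebraTensorModule.rTensor A I (Algebra.linearMap B (Bp r)))
      (Algebra.H1Cotangent.map A A B (Bp r)) (c (Generators.self A B).toExtension I hI) =
      (c (Generators.self A (Bp r)).toExtension I (le_ker_of_tower I hI (Bp r))).restrictScalars B := by
    apply IsLocalizedModule.linearMap_ext (Submonoid.powers r.1)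
      (TensorProduct.AlgebraTensorModule.rTensor A I (Algebra.linearMap B (Bp r)))
      (Algebra.H1Cotangent.map A A B (Bp r))
    rw [IsLocalizedModule.map_comp]
    apply TensorProduct.AlgebraTensorModule.ext
    intro b x
    simp only [LinearMap.comp_apply, LinearMap.restrictScalars_apply,
      TensorProduct.AlgebraTensorModule.rTensor_tmul, Algebra.linearMap_apply]
    exact map_c_tmul _ I hI I (le_ker_of_tower I hI (Bp r)) (fun x hx => hx) b x
  rw [key]
  exact H r

end Glue

end Groth.Agent.H61.ConormalH1
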