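import Groth.Agent.H61.ConormalH1
import Groth.Agent.H39.ConormalSplit
import Groth.Agent.H39.ConormalStalk
import Groth.Agent.H39.ConormalSect
import Groth.Agent.H39.PullTrack5
import Groth.Prelude.Def_SheafNL

/-!
# The conormal sheaf of a quasi-compact immersion on chart pairs

For a quasi-compact immersion `i : Z ⟶ X` and an affine chart pair `(U, V)`:
`Γ(C_{Z/X}, U) ≃ H¹(L_{Γ(Z,U)/Γ(X,V)})`, sending the pulled-back section of `x ∈ 𝓘(V)` to the class
of the constant `x`.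
-/

set_option autoImplicit false
set_option linter.style.haveILetI false
universe u
open CategoryTheory CategoryTheory.Limits AlgebraicGeometry Opposite OmegaSh TopologicalSpace
open scoped TensorProduct

namespace Groth.Agent.H61.ConormalH1Sch

open Groth.Agent.H61.ConormalH1 Groth.Agent.H39

section Basic

variable {Z X : Scheme.{u}} (i : Z ⟶ X)

lemma appLE_surjective_of_eq (W : X.Opens) (W' : Z.Opens) (h : W' = i ⁻¹ᵁ W)
    (hs : Function.Surjective (i.app W)) : Function.Surjective (i.appLE W W' h.le) := by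
  subst h
  rwa [← Scheme.Hom.app_eq_appLE]

lemma ker_appLE_of_eq (W : X.Opens) (W' : Z.Opens) (h : W' = i ⁻¹ᵁ W) :
    RingHom.ker (i.appLE W W' h.le).hom = RingHom.ker (i.app W).hom := by
  subst h
  rw [← Scheme.Hom.app_eq_appLE]

variable [QuasiCompact i] {U : Z.Opens} {V : X.Opens} (hV : IsAffineOpen V) (e : U ≤ i ⁻¹ᵁ V)

lemma ideal_le_ker_appLE :
    i.ker.ideal ⟨V, hV⟩ ≤ RingHom.ker (i.appLE V U e).hom := by
  intro x hx
  rw [Scheme.Hom.ker_apply, RingHom.mem_ker] at hx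
  rw [RingHom.mem_ker, Scheme.Hom.appLE, CommRingCat.hom_comp, RingHom.comp_apply]
  show (Z.presheaf.map (homOfLE e).op).hom ((i.app V).hom x) = 0
  rw [hx, map_zero]

end Basic

section Bij

variable {Z X : Scheme.{u}} (i : Z ⟶ X) [IsImmersion i] [QuasiCompact i]
  {U : Z.Opens} {V : X.Opens} (hU : IsAffineOpen U) (hV : IsAffineOpen V) (e : U ≤ i ⁻¹ᵁ V)

/-- Images in `Γ(Z, U)` of functions `g` on `V` whose basic open is small. -/
def goodSet : Set Γ(Z, U) :=
  {r | ∃ g : Γ(X, V), r = (i.appLE V U e).hom g ∧ X.basicOpen g ≤ i.coborderRange ∧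
    i ⁻¹ᵁ (X.basicOpen g) ≤ U}

include hU hV in
lemma span_goodSet : Ideal.span (goodSet i e) = ⊤ := by
  rw [← hU.self_le_iSup_basicOpen_iff]
  intro u hu
  obtain ⟨W', hW'o, hW'⟩ := i.isEmbedding.isInducing.isOpen_iff.mp U.2
  let W'' : X.Opens := ⟨W', hW'o⟩
  have huW : i u ∈ W'' := by
    show u ∈ i ⁻¹' W'
    rw [hW']
    exact hu
  obtain ⟨g, hg1, hg2⟩ := hV.exists_basicOpen_le (V := V ⊓ i.coborderRange ⊓ W'')
    ⟨i u, ⟨⟨e hu, ConormalStalk.mem_coborderRange i u⟩, huW⟩⟩ (e hu)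
  have hgood : (i.appLE V U e).hom g ∈ goodSet i e := by
    refine ⟨g, rfl, hg1.trans (inf_le_left.trans inf_le_right), ?_⟩
    intro z hz
    have h1 : i z ∈ W'' := (hg1 hz).2
    have h2 : z ∈ i ⁻¹' W' := h1
    rw [hW'] at h2
    exact h2
  rw [Opens.mem_iSup]
  refine ⟨⟨_, hgood⟩, ?_⟩
  rw [Scheme.basicOpen_appLE]
  exact ⟨hu, hg2⟩

set_option maxHeartbeats 1000000 in
include hU in
/-- The canonical map `Γ(Z,U) ⊗ 𝓘(V) → H¹(L_{Γ(Z,U)/Γ(X,V)})` is bijective on chart pairs of a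
quasi-compact immersion. -/
theorem bijective_c_chart :
    letI := (i.appLE V U e).hom.toAlgebra
    Function.Bijective (c (Algebra.Generators.self Γ(X, V) Γ(Z, U)).toExtension
      (i.ker.ideal ⟨V, hV⟩) (ideal_le_ker_appLE i hV e)) := by
  letI := (i.appLE V U e).hom.toAlgebra
  letI algA : ∀ r : goodSet i e, Algebra Γ(X, V) Γ(Z, Z.basicOpen r.1) := fun r =>
    ((algebraMap Γ(Z, U) Γ(Z, Z.basicOpen r.1)).comp (algebraMap Γ(X, V) Γ(Z, U))).toAlgebra
  haveI : ∀ r : goodSet i e, IsScalarTower Γ(X, V) Γ(Z, U) Γ(Z, Z.basicOpen r.1) := fun r =>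
    IsScalarTower.of_algebraMap_eq' rfl
  haveI : ∀ r : goodSet i e, IsLocalization.Away r.1 Γ(Z, Z.basicOpen r.1) := fun r =>
    hU.isLocalization_basicOpen r.1
  refine bijective_c_of_cover (i.ker.ideal ⟨V, hV⟩) (ideal_le_ker_appLE i hV e) (goodSet i e)
    (span_goodSet i hU hV e) (fun r => Γ(Z, Z.basicOpen r.1)) ?_
  intro r
  obtain ⟨g, hrg, hgc, hgU⟩ := r.2
  have heq : Z.basicOpen r.1 = i ⁻¹ᵁ (X.basicOpen g) := by
    rw [hrg, Scheme.basicOpen_appLE]
    exact inf_eq_right.mpr hgU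
  letI : Algebra Γ(X, X.basicOpen g) Γ(Z, Z.basicOpen r.1) :=
    (i.appLE (X.basicOpen g) (Z.basicOpen r.1) heq.le).hom.toAlgebra
  haveI : IsLocalization.Away g Γ(X, X.basicOpen g) := hV.isLocalization_basicOpen g
  haveI : IsScalarTower Γ(X, V) Γ(X, X.basicOpen g) Γ(Z, Z.basicOpen r.1) :=
    IsScalarTower.of_algebraMap_eq' (by
      show ((Z.presheaf.map _).hom.comp (i.appLE V U e).hom) =
        (i.appLE _ _ _).hom.comp (X.presheaf.map _).hom
      rw [← CommRingCat.hom_comp, ← CommRingCat.hom_comp, Scheme.Hom.appLE_map,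
        Scheme.Hom.map_appLE])
  obtain ⟨hW, hsurj0⟩ := ConormalSplit.coborder_affine' i (hV.basicOpen g) hgc
  have hsurj : Function.Surjective (algebraMap Γ(X, X.basicOpen g) Γ(Z, Z.basicOpen r.1)) :=
    appLE_surjective_of_eq i _ _ heq hsurj0
  have hker : RingHom.ker (algebraMap Γ(X, X.basicOpen g) Γ(Z, Z.basicOpen r.1)) =
      (i.ker.ideal ⟨V, hV⟩).map (algebraMap Γ(X, V) Γ(X, X.basicOpen g)) := by
    show RingHom.ker (i.appLE _ _ _).hom = _
    rw [ker_appLE_of_eq i _ _ heq]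
    exact ConormalStalk.ker_app_basicOpen i hV g |>.trans (by rw [Scheme.Hom.ker_apply]; rfl)
  exact bijective_c_self g Γ(X, X.basicOpen g) hsurj (i.ker.ideal ⟨V, hV⟩) hker

end Bij

section Iso

variable {Z X : Scheme.{u}} (i : Z ⟶ X) [IsImmersion i] [QuasiCompact i]
  {U : Z.Opens} {V : X.Opens} (hU : IsAffineOpen U) (hV : IsAffineOpen V) (e : U ≤ i ⁻¹ᵁ V)

omit [IsImmersion i] in
include hV in
lemma algebraMap_idealSect_eq_zero (x : Γ(ClSub.idealMod i.ker, V)) :
    (i.appLE V U e).hom (idealSect i.ker V x) = 0 :=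
  ideal_le_ker_appLE i hV e (ConormalLocal.idealSect_mem_ideal i.ker ⟨V, hV⟩ x)

omit [IsImmersion i] in
include hU hV in
/-- Sections of the conormal sheaf over `U` are generated by pulled-back sections of the ideal. -/
theorem pullSectLE_induction (P : Γ((Scheme.Modules.pullback i).obj (ClSub.idealMod i.ker), U) → Prop) (h0 : P 0)
    (hadd : ∀ m m', P m → P m' → P (m + m'))
    (hsm : ∀ (b : Γ(Z, U)) (x : Γ(ClSub.idealMod i.ker, V)),
      P (b • PullTrack.pullSectLE i (ClSub.idealMod i.ker) V U e x)) (m : Γ((Scheme.Modules.pullback i).obj (ClSub.idealMod i.ker), U)) :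
    P m := by
  letI := (i.appLE V U e).hom.toAlgebra
  haveI : (ClSub.idealMod i.ker).IsQuasicoherent :=
    inferInstanceAs (kernel (ClSub.toSubscheme i.ker)).IsQuasicoherent
  obtain ⟨E, hE⟩ := PullTrack.exists_sectionsPullbackEquiv i (ClSub.idealMod i.ker) hV hU e
  have key : ∀ t : TensorProduct Γ(X, V) Γ(Z, U) Γ(ClSub.idealMod i.ker, V), P (E.symm t) := by
    intro t
    induction t using TensorProduct.induction_on with
    | zero => rw [map_zero]; exact h0
    | add a b ha hb => rw [map_add]; exact hadd _ _ ha hb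
    | tmul b x =>
      have h1 : b ⊗ₜ[Γ(X, V)] x = b • ((1 : Γ(Z, U)) ⊗ₜ[Γ(X, V)] x) := by
        rw [TensorProduct.smul_tmul', smul_eq_mul, mul_one]
      rw [h1, map_smul, ← hE x, LinearEquiv.symm_apply_apply]
      exact hsm b x
  have := key (E m)
  rwa [LinearEquiv.symm_apply_apply] at this

set_option maxHeartbeats 1000000 in
include hU in
/-- The chart identification of the conormal sheaf with `H¹` of the cotangent complex. -/
theorem exists_chart_equiv :
    letI := (i.appLE V U e).hom.toAlgebra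
    ∃ Φ : Γ((Scheme.Modules.pullback i).obj (ClSub.idealMod i.ker), U) ≃ₗ[Γ(Z, U)] Algebra.H1Cotangent Γ(X, V) Γ(Z, U),
      ∀ x : Γ(ClSub.idealMod i.ker, V),
        Φ (PullTrack.pullSectLE i (ClSub.idealMod i.ker) V U e x) =
          cls (Algebra.Generators.self Γ(X, V) Γ(Z, U)).toExtension (idealSect i.ker V x)
            (algebraMap_idealSect_eq_zero i hV e x) := by
  letI := (i.appLE V U e).hom.toAlgebra
  haveI : (ClSub.idealMod i.ker).IsQuasicoherent :=
    inferInstanceAs (kernel (ClSub.toSubscheme i.ker)).IsQuasicoherent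
  obtain ⟨E, hE⟩ := PullTrack.exists_sectionsPullbackEquiv i (ClSub.idealMod i.ker) hV hU e
  let T : TensorProduct Γ(X, V) Γ(Z, U) Γ(ClSub.idealMod i.ker, V) ≃ₗ[Γ(Z, U)]
      TensorProduct Γ(X, V) Γ(Z, U) (i.ker.ideal ⟨V, hV⟩) :=
    TensorProduct.AlgebraTensorModule.congr (LinearEquiv.refl Γ(Z, U) Γ(Z, U))
      (ConormalSect.idealEquiv i.ker ⟨V, hV⟩)
  let C : TensorProduct Γ(X, V) Γ(Z, U) (i.ker.ideal ⟨V, hV⟩) ≃ₗ[Γ(Z, U)]
      Algebra.H1Cotangent Γ(X, V) Γ(Z, U) :=
    LinearEquiv.ofBijective _ (bijective_c_chart i hU hV e)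
  refine ⟨E ≪≫ₗ T ≪≫ₗ C, fun x => ?_⟩
  show C (T (E _)) = _
  rw [hE x]
  show c _ _ _ ((1 : Γ(Z, U)) ⊗ₜ ConormalSect.idealEquiv i.ker ⟨V, hV⟩ x) = _
  rw [c_tmul, one_smul]
  rfl

end Iso

section Sheaf

variable {Z X : Scheme.{u}} (i : Z ⟶ X) [IsImmersion i] [QuasiCompact i]

/-- The chosen chart identification. -/
noncomputable def chartEquiv (U : Z.affineOpens) (V : X.affineOpens)
    (e : (U : Z.Opens) ≤ i ⁻¹ᵁ (V : X.Opens)) :
    Γ((Scheme.Modules.pullback i).obj (ClSub.idealMod i.ker), (U : Z.Opens)) ≃ₗ[Γ(Z, (U : Z.Opens))] NLCx.ChartH1 i U V e :=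
  (exists_chart_equiv i U.2 V.2 e).choose

lemma chartEquiv_pullSectLE (U : Z.affineOpens) (V : X.affineOpens)
    (e : (U : Z.Opens) ≤ i ⁻¹ᵁ (V : X.Opens)) (x : Γ(ClSub.idealMod i.ker, (V : X.Opens))) :
    letI := (i.appLE (V : X.Opens) (U : Z.Opens) e).hom.toAlgebra
    chartEquiv i U V e (PullTrack.pullSectLE i (ClSub.idealMod i.ker) V U e x) =
      cls (Algebra.Generators.self Γ(X, (V : X.Opens)) Γ(Z, (U : Z.Opens))).toExtension
        (idealSect i.ker V x) (algebraMap_idealSect_eq_zero i V.2 e x) :=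
  (exists_chart_equiv i U.2 V.2 e).choose_spec x

set_option maxHeartbeats 1000000 in
theorem chartEquiv_res {U U' : Z.affineOpens} {V V' : X.affineOpens}
    (e : (U : Z.Opens) ≤ i ⁻¹ᵁ (V : X.Opens)) (e' : (U' : Z.Opens) ≤ i ⁻¹ᵁ (V' : X.Opens))
    (hU : (U' : Z.Opens) ≤ (U : Z.Opens)) (hV : (V' : X.Opens) ≤ (V : X.Opens))
    (m : Γ((Scheme.Modules.pullback i).obj (ClSub.idealMod i.ker), (U : Z.Opens))) :
    chartEquiv i U' V' e' (((Scheme.Modules.pullback i).obj (ClSub.idealMod i.ker)).presheaf.map (homOfLE hU).op m) =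
      NLCx.chartRes e e' hU hV (chartEquiv i U V e m) := by
  refine pullSectLE_induction i U.2 V.2 e (fun m => chartEquiv i U' V' e'
    (((Scheme.Modules.pullback i).obj (ClSub.idealMod i.ker)).presheaf.map (homOfLE hU).op m) =
      NLCx.chartRes e e' hU hV (chartEquiv i U V e m)) ?_ ?_ ?_ m
  · simp only [map_zero]
  · intro m m' h h'
    simp only [map_add, h, h']
  · intro b x
    have h1 : PullTrack.pullSectLE i (ClSub.idealMod i.ker) V U' (hU.trans e) x =
        PullTrack.pullSectLE i (ClSub.idealMod i.ker) V' U' e'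
          ((ClSub.idealMod i.ker).presheaf.map (homOfLE hV).op x) :=
      (PullTrack.pullSectLE_res_source i (ClSub.idealMod i.ker) hV U' e' x).symm
    have h2 : idealSect i.ker V' ((ClSub.idealMod i.ker).presheaf.map (homOfLE hV).op x) =
        X.presheaf.map (homOfLE hV).op (idealSect i.ker V x) :=
      PullTrack.app_res (ClSub.idealModι i.ker) hV x
    rw [Scheme.Modules.map_smul, map_smul, PullTrack.pullSectLE_res_target, h1,
      chartEquiv_pullSectLE, map_smul, chartEquiv_pullSectLE]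
    letI := (i.appLE (V : X.Opens) (U : Z.Opens) e).hom.toAlgebra
    letI := (i.appLE (V' : X.Opens) (U' : Z.Opens) e').hom.toAlgebra
    letI := (i.appLE (V : X.Opens) (U' : Z.Opens) (hU.trans e)).hom.toAlgebra
    letI := (Z.presheaf.map (homOfLE hU).op).hom.toAlgebra
    letI := (X.presheaf.map (homOfLE hV).op).hom.toAlgebra
    haveI : IsScalarTower Γ(X, (V : X.Opens)) Γ(X, (V' : X.Opens)) Γ(Z, (U' : Z.Opens)) :=
      IsScalarTower.of_algebraMap_eq' (by
        change (i.appLE _ _ _).hom = (i.appLE _ _ _).hom.comp (X.presheaf.map _).hom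
        rw [← CommRingCat.hom_comp, Scheme.Hom.map_appLE])
    haveI : IsScalarTower Γ(X, (V : X.Opens)) Γ(Z, (U : Z.Opens)) Γ(Z, (U' : Z.Opens)) :=
      IsScalarTower.of_algebraMap_eq' (by
        change (i.appLE _ _ _).hom = (Z.presheaf.map _).hom.comp (i.appLE _ _ _).hom
        rw [← CommRingCat.hom_comp, Scheme.Hom.appLE_map])
    have key := algH1map_smul_cls Γ(X, (V : X.Opens)) Γ(X, (V' : X.Opens)) Γ(Z, (U : Z.Opens))
      Γ(Z, (U' : Z.Opens)) b (idealSect i.ker V x) (algebraMap_idealSect_eq_zero i V.2 e x)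
    refine Eq.trans ?_ key.symm
    have hcls : ∀ (a a' : Γ(X, (V' : X.Opens))) (h : a = a')
        (ha : algebraMap Γ(X, (V' : X.Opens)) Γ(Z, (U' : Z.Opens)) a = 0)
        (ha' : algebraMap Γ(X, (V' : X.Opens)) Γ(Z, (U' : Z.Opens)) a' = 0),
        cls (Algebra.Generators.self Γ(X, (V' : X.Opens)) Γ(Z, (U' : Z.Opens))).toExtension a ha =
          cls (Algebra.Generators.self Γ(X, (V' : X.Opens)) Γ(Z, (U' : Z.Opens))).toExtension
            a' ha' := by
      intro a a' h ha ha'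
      subst h
      rfl
    rw [hcls _ _ h2]
    rfl

end Sheaf

end Groth.Agent.H61.ConormalH1Sch
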