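/-
The conormal module `I/I²` of a Koszul-regular ideal is finitely generated projective (helper61).
Uses helper66's `LocFree`.
-/
import Groth.Agent.H61.LciCot
import Groth.Agent.H66.LocFree

set_option autoImplicit false

namespace Groth.Agent.H61.CotProj

universe u

open Algebra

variable {A P : Type u} [CommRing A] [CommRing P] [Algebra A P]

/-- local freeness of the conormal module on a basic open -/
theorem free_away (E : Algebra.Extension.{u} A P) (hI : LCI.IsKoszulRegularIdeal E.ker)
    (𝔭 : PrimeSpectrum P) :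
    ∃ r : P, r ∉ 𝔭.asIdeal ∧
      Module.Free (Localization.Away r) (LocalizedModule.Away r E.Cotangent) ∧
      Module.Finite (Localization.Away r) (LocalizedModule.Away r E.Cotangent) := by
  classical
  set 𝔓 : Ideal E.Ring := 𝔭.asIdeal.comap (algebraMap E.Ring P) with h𝔓
  haveI : 𝔓.IsPrime := Ideal.comap_isPrime _ _
  have hle : E.ker ≤ 𝔓 := by
    intro x hx
    rw [h𝔓, Ideal.mem_comap]
    have : algebraMap E.Ring P x = 0 := hx
    rw [this]
    exact zero_mem _
  obtain ⟨g, hg, c, h, hH1, hspan⟩ := Groth.Agent.H61.LciCot.exists_h1Regular E.ker hI 𝔓 hle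
  set φ := algebraMap E.Ring (Localization.Away g) with hφ
  -- numerators
  have hnum : ∀ i, ∃ (η : E.ker) (u : Submonoid.powers g), h i * φ u = φ η := by
    intro i
    have hi : h i ∈ E.ker.map φ := by rw [hspan]; exact Ideal.subset_span ⟨i, rfl⟩
    obtain ⟨⟨η, u⟩, hηu⟩ := (IsLocalization.mem_map_algebraMap_iff (Submonoid.powers g) _).mp hi
    exact ⟨η, u, hηu⟩
  choose η u hηu using hnum
  have hunit : ∀ i, IsUnit (φ (u i)) := fun i => IsLocalization.map_units _ (u i)
  refine ⟨algebraMap E.Ring P g, hg, ?_⟩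
  refine Groth.Agent.H66.LocFree.free_localizedModule_away (algebraMap E.Ring P g)
    (fun i => Algebra.Extension.Cotangent.mk (η i)) ?_ ?_
  · -- spanning
    intro y
    obtain ⟨x, rfl⟩ := Algebra.Extension.Cotangent.mk_surjective y
    have hx : φ x ∈ Ideal.span (Set.range h) := by
      rw [← hspan]; exact Ideal.mem_map_of_mem _ x.2
    obtain ⟨a, ha⟩ := Ideal.mem_span_range_iff_exists_fun.mp hx
    -- `h i = φ (η i) * (φ (u i))⁻¹`
    have hh : ∀ i, h i = φ (η i) * ((hunit i).unit⁻¹ : (Localization.Away g)ˣ) := by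
      intro i
      rw [← hηu i, mul_assoc]
      have : φ (u i) * ((hunit i).unit⁻¹ : (Localization.Away g)ˣ) = 1 := (hunit i).mul_val_inv
      rw [this, mul_one]
    obtain ⟨b, hb⟩ := IsLocalization.exist_integer_multiples_of_finite (Submonoid.powers g)
      (fun i => a i * ((hunit i).unit⁻¹ : (Localization.Away g)ˣ))
    choose b' hb' using hb
    have h1 : φ ((b : E.Ring) * x) = φ (∑ i, b' i * η i) := by
      rw [map_mul, ← ha, Finset.mul_sum, map_sum]
      refine Finset.sum_congr rfl fun i _ => ?_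
      rw [map_mul, hb' i, hh i, Algebra.smul_def]
      ring
    obtain ⟨t, ht⟩ := (IsLocalization.eq_iff_exists (Submonoid.powers g) _).mp h1
    obtain ⟨k₁, hk₁⟩ := b.2
    obtain ⟨k₂, hk₂⟩ := t.2
    replace hk₁ : g ^ k₁ = (b : E.Ring) := hk₁
    replace hk₂ : g ^ k₂ = (t : E.Ring) := hk₂
    refine ⟨k₂ + k₁, ?_⟩
    have h2 : (g ^ (k₂ + k₁)) • x = ∑ i, ((t : E.Ring) * b' i) • η i := by
      apply Subtype.ext
      simp only [Submodule.coe_smul, smul_eq_mul, AddSubmonoidClass.coe_finsetSum]
      rw [pow_add, hk₁, hk₂, mul_assoc, ht, Finset.mul_sum]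
      exact Finset.sum_congr rfl fun i _ => (mul_assoc _ _ _).symm
    have h3 : (algebraMap E.Ring P g) ^ (k₂ + k₁) • Algebra.Extension.Cotangent.mk x =
        ∑ i, algebraMap E.Ring P ((t : E.Ring) * b' i) • Algebra.Extension.Cotangent.mk (η i) := by
      rw [← map_pow, algebraMap_smul, ← map_smul, h2, map_sum]
      refine Finset.sum_congr rfl fun i _ => ?_
      rw [map_smul, algebraMap_smul]
    rw [h3]
    exact Submodule.sum_mem _ fun i _ => Submodule.smul_mem _ _ (Submodule.subset_span ⟨i, rfl⟩)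
  · -- independence
    intro a ha
    choose a' ha' using fun i => E.algebraMap_surjective (a i)
    have h1 : Algebra.Extension.Cotangent.mk (∑ i, a' i • η i) = 0 := by
      rw [map_sum, ← ha]
      refine Finset.sum_congr rfl fun i _ => ?_
      rw [map_smul, ← ha' i, algebraMap_smul]
    rw [Algebra.Extension.Cotangent.mk_eq_zero_iff] at h1
    have h2 : ∑ i, (φ (a' i) * φ (u i)) * h i ∈ Ideal.span (Set.range h) ^ 2 := by
      have : ∑ i, (φ (a' i) * φ (u i)) * h i = φ ((∑ i, a' i • η i : E.ker) : E.Ring) := by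
        simp only [AddSubmonoidClass.coe_finsetSum, Submodule.coe_smul, smul_eq_mul, map_sum, map_mul]
        refine Finset.sum_congr rfl fun i _ => ?_
        rw [← hηu i]
        ring
      rw [this, ← hspan, ← Ideal.map_pow]
      exact Ideal.mem_map_of_mem _ h1
    have h3 : ∀ i, ∃ k : ℕ, g ^ k * a' i ∈ E.ker := by
      intro i
      have h4 := Groth.Agent.S18939.coeff_mem_of_h1 h hH1 (fun i => φ (a' i) * φ (u i)) h2 i
      rw [← hspan] at h4
      have h5 : φ (a' i) ∈ E.ker.map φ := (Ideal.mul_unit_mem_iff_mem _ (hunit i)).mp h4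
      obtain ⟨w, hw, hwa⟩ :=
        (IsLocalization.algebraMap_mem_map_algebraMap_iff (Submonoid.powers g) _ E.ker (a' i)).mp h5
      obtain ⟨k, rfl⟩ := hw
      exact ⟨k, hwa⟩
    choose k hk using h3
    refine ⟨∑ i, k i, fun i => ?_⟩
    have h6 : g ^ (∑ j, k j) * a' i ∈ E.ker := by
      have : ∑ j, k j = (∑ j ∈ Finset.univ.erase i, k j) + k i := by
        rw [Finset.sum_erase_add _ _ (Finset.mem_univ i)]
      rw [this, pow_add, mul_assoc]
      exact Ideal.mul_mem_left _ _ (hk i)
    have h7 : algebraMap E.Ring P (g ^ (∑ j, k j) * a' i) = 0 := h6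
    rw [← ha' i, ← map_pow, ← map_mul]
    exact h7

/-- **The conormal module of a Koszul-regular ideal is projective.** -/
theorem projective_cotangent (E : Algebra.Extension.{u} A P) (hI : LCI.IsKoszulRegularIdeal E.ker) :
    Module.Projective P E.Cotangent :=
  Groth.Agent.H66.LocFree.projective_of_locally_free (free_away E hI)

end Groth.Agent.H61.CotProj
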