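/-
If the relations of a presentation (finitely many, indexed by `Fin n`) satisfy the Koszul regularity
condition, then `L₂ = 0` and hence `T² = 0` (helper61).
-/
import Groth.Prelude.Def_CotT
import Groth.Agent.H61.KoszulRel

set_option autoImplicit false

noncomputable section

namespace Groth.Agent.H61.CotT2

open TensorProduct CotT

universe u v w m

variable {A : Type u} {B : Type v} {ι : Type w} {n : ℕ}
variable [CommRing A] [CommRing B] [Algebra A B]
variable (P : Algebra.Presentation A B ι (Fin n))

/-- every relation is a trivial relation -/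
lemma relKer_le_trivRel_of_reg (hReg : Koszul.Reg (rel P)) : relKer P ≤ trivRel P := by
  classical
  intro q hq
  let L := Finsupp.linearEquivFunOnFinite P.toExtension.Ring P.toExtension.Ring (Fin n)
  have hsum : ∑ i, (L q) i * rel P i = 0 := by
    have h1 : jmap P q = 0 := hq
    rw [jmap, Finsupp.linearCombination_apply, Finsupp.sum_fintype q (fun i a => a • rel P i)
      (fun i => zero_smul _ _)] at h1
    exact h1
  have hK := Koszul.mem_K (rel P) hReg (L q) hsum
  have hle : Koszul.K (rel P) ≤ (trivRel P).comap L.symm.toLinearMap := by
    refine Submodule.span_le.mpr ?_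
    rintro _ ⟨i, j, rfl⟩
    rw [SetLike.mem_coe, Submodule.mem_comap, map_sub, map_smul, map_smul]
    have hs : ∀ k : Fin n, L.symm.toLinearMap (Pi.single k 1) =
        (Finsupp.single k 1 : relMod P) := by
      intro k
      change L.symm (Pi.single k 1) = _
      rw [LinearEquiv.symm_apply_eq]
      exact (Finsupp.linearEquivFunOnFinite_single _ _ _ k 1).symm
    rw [hs, hs]
    refine Submodule.subset_span ⟨Finsupp.single i 1, Finsupp.single j 1, ?_⟩
    rw [jmap_single, jmap_single, one_mul, one_mul]
  have := hle hK
  rw [Submodule.mem_comap] at this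
  change L.symm (L q) ∈ _ at this
  rwa [LinearEquiv.symm_apply_apply] at this

lemma L2_eq_zero_of_le (hQ : relKer P ≤ trivRel P) (x : L2 P) : x = 0 := by
  induction x using Submodule.Quotient.induction_on with | H z
  induction z using TensorProduct.induction_on with
  | zero => rfl
  | tmul b q =>
    rw [Submodule.Quotient.mk_eq_zero]
    exact ⟨b ⊗ₜ ⟨q, hQ q.2⟩, rfl⟩
  | add x y hx hy => rw [Submodule.Quotient.mk_add, hx, hy, add_zero]

end Groth.Agent.H61.CotT2

end
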