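/-
`T²` of a localization vanishes (helper61).

For a commutative ring `B`, a family `v : ι → B` and the polynomial ring `R = B[X_i]`, the elements
`r_i = v_i X_i - 1` have only Koszul relations.  Consequently, for a localization `C = S⁻¹B` the
presentation `B[X_s, s ∈ S]/(s X_s - 1)` has `L₂ = 0`, and `T²(C/B, M) = 0` for every presentation.
-/
import Groth.Agent.H61.CotTCompare

set_option autoImplicit false

noncomputable section

namespace Groth.Agent.H61.CotTLoc

open TensorProduct CotT

universe u v w t m

section Poly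

open Polynomial in
/-- `sX - 1` is a non-zero-divisor in any polynomial ring -/
lemma poly_nzd {R' : Type*} [CommRing R'] (s : R') (p : R'[X]) (h : (C s * X - 1) * p = 0) :
    p = 0 := by
  have key : ∀ n, p.coeff n = 0 := by
    intro n
    induction n with
    | zero =>
      have h0 := congrArg (fun q => q.coeff 0) h
      simp only [sub_mul, one_mul, mul_assoc, coeff_sub, coeff_C_mul, coeff_X_mul_zero, mul_zero,
        zero_sub, coeff_zero, neg_eq_zero] at h0
      exact h0
    | succ n ih =>
      have h1 := congrArg (fun q => q.coeff (n + 1)) h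
      simp only [sub_mul, one_mul, mul_assoc, coeff_sub, coeff_C_mul, coeff_X_mul, ih, mul_zero,
        zero_sub, coeff_zero, neg_eq_zero] at h1
      exact h1
  ext n
  rw [key n, Polynomial.coeff_zero]

end Poly

section Family

variable {B : Type u} [CommRing B] {ι : Type w} (v : ι → B)

/-- the relation `v_i X_i - 1` -/
def r (i : ι) : MvPolynomial ι B := MvPolynomial.C (v i) * MvPolynomial.X i - 1

open Classical in
/-- substitute a fresh polynomial variable for `X_{i₀}` -/
def τ (i₀ : ι) : MvPolynomial ι B →ₐ[B] Polynomial (MvPolynomial ι B) :=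
  MvPolynomial.aeval (fun t => if t = i₀ then Polynomial.X else Polynomial.C (MvPolynomial.X t))

lemma τ_X_self (i₀ : ι) : τ (B := B) i₀ (MvPolynomial.X i₀) = Polynomial.X := by
  rw [τ, MvPolynomial.aeval_X, if_pos rfl]

lemma τ_X_ne (i₀ t : ι) (h : t ≠ i₀) :
    τ (B := B) i₀ (MvPolynomial.X t) = Polynomial.C (MvPolynomial.X t) := by
  rw [τ, MvPolynomial.aeval_X, if_neg h]

lemma τ_C (i₀ : ι) (b : B) :
    τ (ι := ι) i₀ (MvPolynomial.C b) = Polynomial.C (MvPolynomial.C b) := by
  rw [τ, MvPolynomial.aeval_C]
  rfl

lemma τ_r_ne (i₀ t : ι) (h : t ≠ i₀) : τ i₀ (r v t) = Polynomial.C (r v t) := by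
  rw [r, map_sub, map_mul, map_one, τ_C, τ_X_ne i₀ t h, Polynomial.C_sub, Polynomial.C_mul,
    Polynomial.C_1]

lemma τ_r_self (i₀ : ι) :
    τ i₀ (r v i₀) = Polynomial.C (MvPolynomial.C (v i₀)) * Polynomial.X - 1 := by
  rw [r, map_sub, map_mul, map_one, τ_C, τ_X_self]

lemma aeval_τ (i₀ : ι) (x : MvPolynomial ι B) :
    Polynomial.aeval (MvPolynomial.X i₀ : MvPolynomial ι B) (τ i₀ x) = x := by
  induction x using MvPolynomial.induction_on with
  | C b => rw [τ_C, Polynomial.aeval_C]; rfl
  | add p q hp hq => rw [map_add, map_add, hp, hq]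
  | mul_X p t hp =>
    rw [map_mul, map_mul, hp]
    by_cases h : t = i₀
    · subst h
      rw [τ_X_self, Polynomial.aeval_X]
    · rw [τ_X_ne i₀ t h, Polynomial.aeval_C]
      rfl

/-- `r_{i₀}` is a non-zero-divisor modulo the ideal generated by the other `r_t` -/
lemma nzd (F : Set ι) (i₀ : ι) (hi₀ : i₀ ∉ F) (x : MvPolynomial ι B)
    (hx : r v i₀ * x ∈ Ideal.span (r v '' F)) : x ∈ Ideal.span (r v '' F) := by
  set J : Ideal (MvPolynomial ι B) := Ideal.span (r v '' F) with hJ
  have h1 : Ideal.map (τ (B := B) i₀).toRingHom J ≤ Ideal.map Polynomial.C J := by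
    rw [hJ, Ideal.map_span, Ideal.span_le]
    rintro _ ⟨_, ⟨t, ht, rfl⟩, rfl⟩
    have hne : t ≠ i₀ := fun h => hi₀ (h ▸ ht)
    change τ i₀ (r v t) ∈ _
    rw [τ_r_ne v i₀ t hne]
    exact Ideal.mem_map_of_mem _ (Ideal.subset_span ⟨t, ht, rfl⟩)
  have h2 : τ i₀ (r v i₀ * x) ∈ Ideal.map Polynomial.C J :=
    h1 (Ideal.mem_map_of_mem (τ (B := B) i₀).toRingHom hx)
  rw [map_mul, τ_r_self] at h2
  have hker : Ideal.map Polynomial.C J = RingHom.ker (Polynomial.mapRingHom (Ideal.Quotient.mk J)) := by
    rw [Polynomial.ker_mapRingHom, Ideal.mk_ker]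
  rw [hker, RingHom.mem_ker, map_mul] at h2
  have h3 : Polynomial.mapRingHom (Ideal.Quotient.mk J)
      (Polynomial.C (MvPolynomial.C (v i₀)) * Polynomial.X - 1) =
      Polynomial.C (Ideal.Quotient.mk J (MvPolynomial.C (v i₀))) * Polynomial.X - 1 := by
    simp
  rw [h3] at h2
  have h4 := poly_nzd _ _ h2
  rw [← RingHom.mem_ker, ← hker] at h4
  have h5 : Polynomial.aeval (MvPolynomial.X i₀ : MvPolynomial ι B) (τ i₀ x) ∈ J := by
    have hle : Ideal.map (Polynomial.aeval (MvPolynomial.X i₀ : MvPolynomial ι B)).toRingHom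
        (Ideal.map Polynomial.C J) ≤ J := by
      rw [Ideal.map_map, Ideal.map_le_iff_le_comap]
      intro y hy
      rw [Ideal.mem_comap]
      change Polynomial.aeval _ (Polynomial.C y) ∈ J
      rw [Polynomial.aeval_C]
      exact hy
    exact hle (Ideal.mem_map_of_mem _ h4)
  rwa [aeval_τ] at h5

/-- the linear combination map -/
abbrev lc : (ι →₀ MvPolynomial ι B) →ₗ[MvPolynomial ι B] MvPolynomial ι B :=
  Finsupp.linearCombination (MvPolynomial ι B) (r v)

/-- the Koszul relations -/
def triv : Submodule (MvPolynomial ι B) (ι →₀ MvPolynomial ι B) :=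
  Submodule.span (MvPolynomial ι B) {y | ∃ a b : ι →₀ MvPolynomial ι B, y = lc v a • b - lc v b • a}

/-- every relation among the `r_i` is a Koszul relation -/
theorem mem_triv_of_lc_eq_zero (q : ι →₀ MvPolynomial ι B) (hq : lc v q = 0) : q ∈ triv v := by
  classical
  suffices H : ∀ (F : Finset ι) (q : ι →₀ MvPolynomial ι B), q.support ⊆ F → lc v q = 0 →
      q ∈ triv v from H q.support q (Finset.Subset.refl _) hq
  intro F
  induction F using Finset.induction_on with
  | empty =>
    intro q hs _
    have : q = 0 := by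
      rw [← Finsupp.support_eq_empty]
      exact Finset.subset_empty.mp hs
    rw [this]
    exact zero_mem _
  | insert i₀ F' hi₀ ih =>
    intro q hs hq
    -- `r_{i₀} q_{i₀}` lies in the ideal of the `r_t`, `t ∈ F'`
    have hsum : lc v q = q i₀ * r v i₀ + ∑ t ∈ F', q t * r v t := by
      rw [lc, Finsupp.linearCombination_apply, Finsupp.sum_of_support_subset q hs
        (fun i a => a • r v i) (fun i _ => zero_smul _ _), Finset.sum_insert hi₀]
      rfl
    have hmem : r v i₀ * q i₀ ∈ Ideal.span (r v '' (F' : Set ι)) := by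
      have : r v i₀ * q i₀ = - ∑ t ∈ F', q t * r v t := by
        rw [hq] at hsum
        rw [mul_comm]
        exact eq_neg_of_add_eq_zero_left hsum.symm
      rw [this]
      refine neg_mem (Ideal.sum_mem _ fun t ht => Ideal.mul_mem_left _ _ ?_)
      exact Ideal.subset_span ⟨t, ht, rfl⟩
    have hqi := nzd v (F' : Set ι) i₀ (by simpa using hi₀) (q i₀) hmem
    rw [Ideal.span, Finsupp.mem_span_image_iff_linearCombination] at hqi
    obtain ⟨a, ha, hla⟩ := hqi
    have hai₀ : a i₀ = 0 := by
      by_contra hne
      exact hi₀ (by simpa using ha (Finsupp.mem_support_iff.mpr hne))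
    set e : ι →₀ MvPolynomial ι B := Finsupp.single i₀ 1 with he
    have hle : lc v e = r v i₀ := by
      rw [he, lc, Finsupp.linearCombination_single, one_smul]
    set z : ι →₀ MvPolynomial ι B := lc v a • e - lc v e • a with hz
    have hzmem : z ∈ triv v := Submodule.subset_span ⟨a, e, rfl⟩
    have hq' : q - z ∈ triv v := by
      refine ih (q - z) ?_ ?_
      · intro t ht
        rw [Finsupp.mem_support_iff] at ht
        by_cases hti : t = i₀
        · exfalso
          apply ht
          rw [hti, hz, Finsupp.sub_apply, Finsupp.sub_apply, Finsupp.smul_apply, Finsupp.smul_apply,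
            hai₀, he, Finsupp.single_eq_same, smul_eq_mul, smul_eq_mul, mul_one, mul_zero, sub_zero,
            hla, sub_self]
        · by_contra htF
          apply ht
          have hqt : q t = 0 := by
            by_contra hne
            have := hs (Finsupp.mem_support_iff.mpr hne)
            rw [Finset.mem_insert] at this
            exact this.elim hti htF
          have hat : a t = 0 := by
            by_contra hne
            exact htF (by simpa using ha (Finsupp.mem_support_iff.mpr hne))
          rw [hz, Finsupp.sub_apply, Finsupp.sub_apply, Finsupp.smul_apply, Finsupp.smul_apply, hat, he,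
            Finsupp.single_eq_of_ne hti, hqt, smul_zero, smul_zero, sub_zero, sub_zero]
      · rw [map_sub, hq, hz, map_sub, map_smul, map_smul, smul_eq_mul, smul_eq_mul, mul_comm, sub_self,
          sub_zero]
    have : q = (q - z) + z := by abel
    rw [this]
    exact add_mem hq' hzmem

end Family

section Loc

variable {B : Type u} {C : Type v} [CommRing B] [CommRing C] [Algebra B C]
variable (S : Submonoid B) [IsLocalization S C]

/-- the generator `1/s` -/
def val (s : S) : C := IsLocalization.mk' C (1 : B) s

lemma aeval_surjective :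
    Function.Surjective (MvPolynomial.aeval (R := B) (val (C := C) S)) := by
  intro c
  obtain ⟨b, s, rfl⟩ := IsLocalization.exists_mk'_eq S c
  refine ⟨MvPolynomial.C b * MvPolynomial.X s, ?_⟩
  rw [map_mul, MvPolynomial.aeval_C, MvPolynomial.aeval_X, val,
    IsLocalization.mul_mk'_eq_mk'_of_mul, mul_one]

/-- generators of the localization: one variable `X_s ↦ 1/s` for every `s ∈ S` -/
def gens : Algebra.Generators B C S :=
  Algebra.Generators.ofSurjective (val (C := C) S) (aeval_surjective S)

lemma aeval_r (s : S) :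
    MvPolynomial.aeval (R := B) (val (C := C) S) (r (fun s : S => (s : B)) s) = 0 := by
  rw [r, map_sub, map_mul, map_one, MvPolynomial.aeval_C, MvPolynomial.aeval_X, val,
    IsLocalization.mk'_spec', map_one, sub_self]

lemma ker_eq :
    Ideal.span (Set.range (r (fun s : S => (s : B)))) = (gens (C := C) S).ker := by
  rw [Algebra.Generators.ker_eq_ker_aeval_val]
  change _ = RingHom.ker (MvPolynomial.aeval (R := B) (val (C := C) S))
  refine le_antisymm (Ideal.span_le.mpr ?_) ?_
  · rintro _ ⟨s, rfl⟩
    exact aeval_r S s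
  · set J : Ideal (MvPolynomial S B) := Ideal.span (Set.range (r (fun s : S => (s : B)))) with hJ
    let g : B →+* (MvPolynomial S B ⧸ J) := (Ideal.Quotient.mk J).comp MvPolynomial.C
    have hmul : ∀ s : S, g s * Ideal.Quotient.mk J (MvPolynomial.X s) = 1 := by
      intro s
      change Ideal.Quotient.mk J (MvPolynomial.C (s : B)) * _ = _
      rw [← map_mul, ← sub_eq_zero, ← map_one (Ideal.Quotient.mk J), ← map_sub,
        Ideal.Quotient.eq_zero_iff_mem]
      exact Ideal.subset_span ⟨s, rfl⟩
    have hg : ∀ s : S, IsUnit (g s) := fun s => IsUnit.of_mul_eq_one _ (hmul s)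
    let ψ : C →+* (MvPolynomial S B ⧸ J) := IsLocalization.lift hg
    have hcomp : ψ.comp (MvPolynomial.aeval (R := B) (val (C := C) S)).toRingHom =
        Ideal.Quotient.mk J := by
      refine MvPolynomial.ringHom_ext (fun b => ?_) (fun s => ?_)
      · change ψ (MvPolynomial.aeval (val (C := C) S) (MvPolynomial.C b)) = _
        rw [MvPolynomial.aeval_C]
        exact IsLocalization.lift_eq hg b
      · change ψ (MvPolynomial.aeval (val (C := C) S) (MvPolynomial.X s)) = _
        rw [MvPolynomial.aeval_X]
        have h1 : g s * ψ (val (C := C) S s) = 1 := by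
          rw [← IsLocalization.lift_eq (S := C) hg (s : B)]
          change ψ _ * ψ _ = 1
          rw [← map_mul, val, IsLocalization.mk'_spec', map_one, map_one]
        calc ψ (val (C := C) S s) = ψ (val (C := C) S s) * (g s * Ideal.Quotient.mk J (MvPolynomial.X s)) := by
              rw [hmul, mul_one]
          _ = (g s * ψ (val (C := C) S s)) * Ideal.Quotient.mk J (MvPolynomial.X s) := by ring
          _ = _ := by rw [h1, one_mul]
    intro x hx
    rw [RingHom.mem_ker] at hx
    rw [← Ideal.Quotient.eq_zero_iff_mem, ← hcomp]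
    change ψ (MvPolynomial.aeval (val (C := C) S) x) = 0
    rw [hx, map_zero]

/-- the standard presentation `B[X_s, s ∈ S]/(s X_s - 1)` of the localization `S⁻¹B` -/
def pres : Algebra.Presentation B C S S where
  __ := gens (C := C) S
  relation := r (fun s : S => (s : B))
  span_range_relation_eq_ker := ker_eq S

theorem relKer_le_trivRel : relKer (pres (C := C) S) ≤ trivRel (pres (C := C) S) := by
  intro q hq
  exact mem_triv_of_lc_eq_zero (fun s : S => (s : B)) q hq

end Loc

section General

variable {A : Type u} {B : Type v} {ι : Type w} {σ : Type t}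
variable [CommRing A] [CommRing B] [Algebra A B]
variable (P : Algebra.Presentation A B ι σ)

lemma L2_eq_zero_of_le (hQ : relKer P ≤ trivRel P) (x : L2 P) : x = 0 := by
  induction x using Submodule.Quotient.induction_on with | H z
  induction z using TensorProduct.induction_on with
  | zero => rfl
  | tmul b q =>
    rw [Submodule.Quotient.mk_eq_zero]
    exact ⟨b ⊗ₜ ⟨q, hQ q.2⟩, rfl⟩
  | add x y hx hy => rw [Submodule.Quotient.mk_add, hx, hy, add_zero]

theorem subsingleton_T2_of_le (hQ : relKer P ≤ trivRel P) (M : Type m) [AddCommGroup M] [Module B M] :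
    Subsingleton (T2 P M) := by
  haveI : Subsingleton (L2 P) := ⟨fun x y => by rw [L2_eq_zero_of_le P hQ x, L2_eq_zero_of_le P hQ y]⟩
  haveI : Subsingleton (L2 P →ₗ[B] M) :=
    ⟨fun f g => LinearMap.ext fun x => by rw [Subsingleton.elim x 0, map_zero, map_zero]⟩
  exact (Submodule.Quotient.mk_surjective _).subsingleton

end General

section LocMain

variable {B : Type u} {C : Type v} [CommRing B] [CommRing C] [Algebra B C]
variable {ι : Type w} {σ : Type t} (P : Algebra.Presentation B C ι σ)

/-- `T²(S⁻¹B/B, M) = 0` for every presentation -/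
theorem subsingleton_T2_of_isLocalization (S : Submonoid B) [IsLocalization S C]
    (M : Type m) [AddCommGroup M] [Module C M] :
    Subsingleton (T2 P M) := by
  haveI := subsingleton_T2_of_le (pres (C := C) S) (relKer_le_trivRel S) M
  obtain ⟨e⟩ := Groth.Agent.H61.CotT2.nonempty_T2_equiv P (pres (C := C) S) M
  exact e.toEquiv.subsingleton

end LocMain

end Groth.Agent.H61.CotTLoc

end
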