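/-
`T² = 0` for formally smooth algebras of finite type over a perfect field (helper61).
Uses helper79's Jacobian criterion (`H79.SmoothReg`) and helper9's regular sequences in regular
local rings (`H9.RegLocalSeq`).
-/
import Groth.Agent.H61.CotTSmooth
import Groth.Agent.H79.SmoothReg
import Groth.Agent.H9.RegLocalSeq

set_option autoImplicit false

noncomputable section

namespace Groth.Agent.H61.CotT2

open TensorProduct CotT IsLocalRing

universe u t m

section LocalRegular

variable {k R : Type u} [Field k] [PerfectField k] [CommRing R] [Algebra k R] [Algebra.FiniteType k R]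
variable [IsRegularRing R]

/-- if `R` is a regular ring of finite type over a perfect field `k` and `R ⧸ I` is formally smooth
over `k`, then `I` is generated by a weakly regular sequence at every maximal ideal containing it -/
theorem exists_isWeaklyRegular_localization (I : Ideal R) [Algebra.FormallySmooth k (R ⧸ I)]
    (𝔫 : Ideal R) [𝔫.IsMaximal] (hI : I ≤ 𝔫) :
    ∃ rs : List (Localization.AtPrime 𝔫),
      RingTheory.Sequence.IsWeaklyRegular (Localization.AtPrime 𝔫) rs ∧
      I.map (algebraMap R (Localization.AtPrime 𝔫)) = Ideal.ofList rs := by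
  set R' := Localization.AtPrime 𝔫
  set I' := I.map (algebraMap R R') with hI'def
  have hI'le : I' ≤ maximalIdeal R' := by
    rw [← Localization.AtPrime.map_eq_maximalIdeal]
    exact Ideal.map_mono hI
  have hI'top : I' ≠ ⊤ := ne_top_of_le_ne_top (maximalIdeal.isMaximal R').ne_top hI'le
  haveI : Nontrivial (R' ⧸ I') := Ideal.Quotient.nontrivial_iff.mpr hI'top
  haveI : IsLocalRing (R' ⧸ I') :=
    IsLocalRing.of_surjective' (Ideal.Quotient.mk I') Ideal.Quotient.mk_surjective
  haveI : IsScalarTower k (R ⧸ I) (R' ⧸ I') := IsScalarTower.of_algebraMap_eq fun x => by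
    rw [IsScalarTower.algebraMap_apply k R' (R' ⧸ I'), IsScalarTower.algebraMap_apply k R R',
      IsScalarTower.algebraMap_apply k R (R ⧸ I)]
    rfl
  haveI : Algebra.FormallyEtale (R ⧸ I) (R' ⧸ I') :=
    .of_isLocalization (Algebra.algebraMapSubmonoid (R ⧸ I) 𝔫.primeCompl)
  haveI : Algebra.FormallySmooth k (R' ⧸ I') := Algebra.FormallySmooth.comp k (R ⧸ I) (R' ⧸ I')
  haveI : Algebra.FiniteType (R' ⧸ I') (ResidueField (R' ⧸ I')) :=
    Algebra.FiniteType.of_surjective (Algebra.ofId (R' ⧸ I') (ResidueField (R' ⧸ I')))
      IsLocalRing.residue_surjective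
  haveI : Algebra.EssFiniteType k (ResidueField (R' ⧸ I')) :=
    Algebra.EssFiniteType.comp k (R' ⧸ I') (ResidueField (R' ⧸ I'))
  have hκ : Algebra.FormallySmooth k (ResidueField (R' ⧸ I')) := inferInstance
  haveI hreg : IsRegularLocalRing (R' ⧸ I') :=
    (Groth.Agent.H79.SmoothReg.formallySmooth_iff_isRegularLocalRing k (R' ⧸ I') hκ).mp inferInstance
  exact Groth.Agent.H9.exists_isWeaklyRegular_of_regular_quotient _ R' rfl I' hI'top hreg

end LocalRegular

section Field

variable {k B : Type u} [Field k] [PerfectField k] [CommRing B] [Algebra k B]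
variable [Algebra.FormallySmooth k B]
variable {n : ℕ} {σ : Type t} (P : Algebra.Presentation k B (Fin n) σ)

instance : IsRegularRing P.toExtension.Ring := (inferInstance : IsRegularRing (MvPolynomial (Fin n) k))

instance : Algebra.FiniteType k P.toExtension.Ring :=
  (inferInstance : Algebra.FiniteType k (MvPolynomial (Fin n) k))

/-- for a formally smooth algebra over a perfect field, presented with finitely many variables,
every relation with coefficients in the kernel is a trivial relation -/
theorem mem_trivRel_of_formallySmooth (q : relMod P) (hq : q ∈ relKer P)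
    (hqI : ∀ s, q s ∈ P.toExtension.ker) : q ∈ trivRel P := by
  let e : (P.toExtension.Ring ⧸ P.toExtension.ker) ≃ₐ[k] B :=
    Ideal.quotientKerAlgEquivOfSurjective (f := IsScalarTower.toAlgHom k P.toExtension.Ring B)
      P.toExtension.algebraMap_surjective
  haveI : Algebra.FormallySmooth k (P.toExtension.Ring ⧸ P.toExtension.ker) :=
    Algebra.FormallySmooth.of_equiv e.symm
  have hspan : Ideal.span (Set.range (rel P)) = P.toExtension.ker := P.span_range_relation_eq_ker
  exact TrivRel.mem_triv_of_locally_regular (rel P) P.toExtension.ker hspan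
    (fun 𝔫 _ h => exists_isWeaklyRegular_localization (k := k) P.toExtension.ker 𝔫 h) q hq hqI

theorem d2_injective_of_formallySmooth : Function.Injective (d2 P) :=
  d2_injective_of P (mem_trivRel_of_formallySmooth P)

end Field

section Proj

variable {A : Type u} {B : Type u} [CommRing A] [CommRing B] [Algebra A B] [Algebra.FormallySmooth A B]
variable {ι : Type*} {σ : Type*} (P : Algebra.Presentation A B ι σ)

instance cotangent_projective : Module.Projective B P.toExtension.Cotangent := by
  haveI : Algebra.FormallySmooth A P.toExtension.Ring :=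
    (inferInstance : Algebra.FormallySmooth A (MvPolynomial ι A))
  obtain ⟨l, hl⟩ := (P.toExtension.formallySmooth_iff_split_injection).mp inferInstance
  haveI : Module.Free B P.toExtension.CotangentSpace :=
    Module.Free.of_basis P.toGenerators.cotangentSpaceBasis
  exact Module.Projective.of_split P.toExtension.cotangentComplex l hl

end Proj

section Main

variable {k B : Type u} [Field k] [PerfectField k] [CommRing B] [Algebra k B]
variable [Algebra.FormallySmooth k B]
variable {n : ℕ} {σ : Type t} (P : Algebra.Presentation k B (Fin n) σ)

theorem subsingleton_T2_of_formallySmooth (M : Type m) [AddCommGroup M] [Module B M] :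
    Subsingleton (T2 P M) :=
  subsingleton_T2_of_injective_of_projective P M (d2_injective_of_formallySmooth P)

end Main

end Groth.Agent.H61.CotT2

end
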