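/-
`Ext¹(N, Y)` from a projective presentation `F ↠ N`: it is `Hom(K, Y) / Hom(F, Y)` with
`K = ker (F → N)`, as a linear equivalence (helper61).  Mathlib only.
-/
import Mathlib

set_option autoImplicit false
universe u
open CategoryTheory

namespace Groth.Agent.H61.ExtPres

variable {B : Type u} [CommRing B] {F N Y : Type u} [AddCommGroup F] [Module B F]
  [AddCommGroup N] [Module B N] [AddCommGroup Y] [Module B Y]

/-- restriction of linear forms to the kernel of `π` -/
def restr (π : F →ₗ[B] N) : (F →ₗ[B] Y) →ₗ[B] (LinearMap.ker π →ₗ[B] Y) :=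
  LinearMap.lcomp B Y (LinearMap.ker π).subtype

variable (π : F →ₗ[B] N) (hπ : Function.Surjective π)

/-- the connecting map `Hom(K, Y) → Ext¹(N, Y)` -/
noncomputable def conn : (LinearMap.ker π →ₗ[B] Y) →ₗ[B]
    Abelian.Ext (ModuleCat.of B N) (ModuleCat.of B Y) 1 where
  toFun φ := (LinearMap.shortExact_shortComplexKer hπ).extClass.comp
    (Abelian.Ext.mk₀ (ModuleCat.ofHom φ)) (add_zero 1)
  map_add' φ ψ := by
    rw [ModuleCat.ofHom_add, Abelian.Ext.mk₀_add, Abelian.Ext.comp_add]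
  map_smul' b φ := by
    rw [RingHom.id_apply, ← Abelian.Ext.comp_smul, ← Abelian.Ext.mk₀_smul]
    rfl

lemma conn_apply (φ : LinearMap.ker π →ₗ[B] Y) :
    conn π hπ φ = (LinearMap.shortExact_shortComplexKer hπ).extClass.comp
      (Abelian.Ext.mk₀ (ModuleCat.ofHom φ)) (add_zero 1) := rfl

theorem conn_surjective [Module.Projective B F] : Function.Surjective (conn (Y := Y) π hπ) := by
  intro x
  set T := π.shortComplexKer
  have hT : T.ShortExact := LinearMap.shortExact_shortComplexKer hπ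
  have hproj : Projective T.X₂ :=
    (inferInstance : Projective (ModuleCat.of B F))
  have h0 : (Abelian.Ext.mk₀ T.g).comp x (zero_add 1) = 0 := Abelian.Ext.eq_zero_of_projective _
  obtain ⟨x₁, hx₁⟩ := Abelian.Ext.contravariant_sequence_exact₃ hT (ModuleCat.of B Y) x h0
    (add_zero 1)
  refine ⟨(Abelian.Ext.homEquiv₀ x₁).hom, ?_⟩
  rw [conn_apply, ModuleCat.ofHom_hom, Abelian.Ext.mk₀_homEquiv₀_apply]
  exact hx₁

theorem conn_eq_zero_iff (φ : LinearMap.ker π →ₗ[B] Y) :
    conn π hπ φ = 0 ↔ φ ∈ LinearMap.range (restr (Y := Y) π) := by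
  set T := π.shortComplexKer
  have hT : T.ShortExact := LinearMap.shortExact_shortComplexKer hπ
  constructor
  · intro h0
    rw [conn_apply] at h0
    obtain ⟨x₂, hx₂⟩ := Abelian.Ext.contravariant_sequence_exact₁ hT (ModuleCat.of B Y)
      (Abelian.Ext.mk₀ (ModuleCat.ofHom φ)) (add_zero 1) h0
    let d' : T.X₂ ⟶ ModuleCat.of B Y := Abelian.Ext.homEquiv₀ x₂
    have h1 : T.f ≫ d' = ModuleCat.ofHom φ := by
      apply (Abelian.Ext.mk₀_bijective _ _).1
      rw [← Abelian.Ext.mk₀_comp_mk₀, Abelian.Ext.mk₀_homEquiv₀_apply]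
      exact hx₂
    refine ⟨d'.hom, ?_⟩
    ext k
    have h2 := congrArg (fun t => t.hom k) h1
    exact h2
  · rintro ⟨ψ, rfl⟩
    rw [conn_apply]
    have h1 : ModuleCat.ofHom (restr (Y := Y) π ψ) = T.f ≫ ModuleCat.ofHom ψ := rfl
    rw [h1, ← Abelian.Ext.mk₀_comp_mk₀, ← Abelian.Ext.comp_assoc_of_third_deg_zero,
      hT.extClass_comp, Abelian.Ext.zero_comp]

/-- `Ext¹(N, Y) ≅ Hom(K, Y) / Hom(F, Y)` for a projective presentation `F ↠ N` with kernel `K` -/
noncomputable def ext1Equiv [Module.Projective B F] :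
    ((LinearMap.ker π →ₗ[B] Y) ⧸ LinearMap.range (restr (Y := Y) π)) ≃ₗ[B]
      Abelian.Ext (ModuleCat.of B N) (ModuleCat.of B Y) 1 :=
  (Submodule.quotEquivOfEq _ _ (by
    ext φ
    rw [LinearMap.mem_ker, conn_eq_zero_iff])).trans
    ((conn (Y := Y) π hπ).quotKerEquivOfSurjective (conn_surjective π hπ))

end Groth.Agent.H61.ExtPres
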