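/-
Generic triviality of relations for reduced algebras over a field, and the comparison
`T²(P, B) ≅ Ext¹(I/I², B)` (helper61).
-/
import Groth.Agent.H61.CotTSmoothField
import Groth.Agent.H61.ExtPres

set_option autoImplicit false

universe u t

namespace Groth.Agent.H61.CotT2

open CotT IsLocalRing

section LocalRegular

variable {R : Type u} [CommRing R] [IsRegularRing R]

/-- if `R` is a regular ring and `R ⧸ I` is reduced, then `I` is generated by a weakly regular
sequence at every prime minimal over `I` -/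
theorem exists_isWeaklyRegular_localization_of_minimal (I : Ideal R) [IsReduced (R ⧸ I)]
    (𝔮 : Ideal R) [𝔮.IsPrime] (h𝔮 : 𝔮 ∈ I.minimalPrimes) :
    ∃ rs : List (Localization.AtPrime 𝔮),
      RingTheory.Sequence.IsWeaklyRegular (Localization.AtPrime 𝔮) rs ∧
      I.map (algebraMap R (Localization.AtPrime 𝔮)) = Ideal.ofList rs := by
  set R' := Localization.AtPrime 𝔮
  set I' := I.map (algebraMap R R') with hI'def
  have hI𝔮 : I ≤ 𝔮 := h𝔮.1.2
  have hI'le : I' ≤ maximalIdeal R' := by
    rw [← Localization.AtPrime.map_eq_maximalIdeal]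
    exact Ideal.map_mono hI𝔮
  -- `I' = maximalIdeal R'`
  have hI'eq : I' = maximalIdeal R' := by
    refine le_antisymm hI'le ?_
    rw [← Localization.AtPrime.map_eq_maximalIdeal, Ideal.map_le_iff_le_comap]
    intro x hx
    rw [Ideal.mem_comap]
    rw [Ideal.minimalPrimes_eq_comap] at h𝔮
    obtain ⟨p, hp, hp𝔮⟩ := h𝔮
    haveI := hp.1.1
    have hxp : Ideal.Quotient.mk I x ∈ p := by
      rw [← hp𝔮] at hx
      exact hx
    haveI : Ring.KrullDimLE 0 (Localization.AtPrime p) := .of_isLocalization _ hp _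
    letI : Field (Localization.AtPrime p) := Ring.KrullDimLE.isField_of_isReduced.toField
    obtain ⟨⟨m, hmp⟩, hm⟩ := (IsLocalization.map_eq_zero_iff p.primeCompl (Localization.AtPrime p)
      (Ideal.Quotient.mk I x)).mp (by
        rw [← Ideal.mem_bot, ← IsLocalRing.maximalIdeal_eq_bot,
          ← Localization.AtPrime.map_eq_maximalIdeal]
        exact Ideal.mem_map_of_mem _ hxp)
    obtain ⟨s, rfl⟩ := Ideal.Quotient.mk_surjective m
    have hs𝔮 : s ∉ 𝔮 := by
      intro hs
      apply hmp
      rw [← hp𝔮] at hs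
      exact hs
    have hsx : s * x ∈ I := by
      rw [← Ideal.Quotient.eq_zero_iff_mem, map_mul]
      exact hm
    have hu : IsUnit (algebraMap R R' s) :=
      IsLocalization.map_units R' (⟨s, hs𝔮⟩ : 𝔮.primeCompl)
    have h1 : algebraMap R R' (s * x) ∈ I' := Ideal.mem_map_of_mem _ hsx
    rw [map_mul] at h1
    exact (Ideal.unit_mul_mem_iff_mem I' hu).mp h1
  have hI'top : I' ≠ ⊤ := hI'eq ▸ (maximalIdeal.isMaximal R').ne_top
  have hreg : IsRegularLocalRing (R' ⧸ I') := by
    rw [hI'eq]
    exact (inferInstance : IsRegularLocalRing (IsLocalRing.ResidueField R'))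
  exact Groth.Agent.H9.exists_isWeaklyRegular_of_regular_quotient _ R' rfl I' hI'top hreg

end LocalRegular

section AtPrime

variable {R : Type*} [CommRing R] {σ : Type*}

open TrivRel in
/-- prime-local form of `TrivRel.mem_triv_of_locally_regular` -/
theorem exists_smul_mem_triv_of_regular_at (g : σ → R) (I : Ideal R)
    (hI : Ideal.span (Set.range g) = I) (𝔫 : Ideal R) [𝔫.IsPrime]
    (rs : List (Localization.AtPrime 𝔫))
    (hreg : RingTheory.Sequence.IsWeaklyRegular (Localization.AtPrime 𝔫) rs)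
    (hrs : I.map (algebraMap R (Localization.AtPrime 𝔫)) = Ideal.ofList rs)
    (q : σ →₀ R) (hq : Finsupp.linearCombination R g q = 0) (hqI : ∀ s, q s ∈ I) :
    ∃ s ∈ 𝔫.primeCompl, s • q ∈ Triv (Finsupp.linearCombination R g) := by
  classical
  let R' := Localization.AtPrime 𝔫
  let g' : σ → R' := fun s => algebraMap R R' (g s)
  let f : (σ →₀ R) →ₗ[R] (σ →₀ R') := Finsupp.mapRange.linearMap (Algebra.linearMap R R')
  have hspan' : Ideal.span (Set.range g') = I.map (algebraMap R R') := by
    rw [← hI, Ideal.map_span]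
    congr 1
    ext y
    constructor
    · rintro ⟨s, rfl⟩; exact ⟨g s, ⟨s, rfl⟩, rfl⟩
    · rintro ⟨_, ⟨s, rfl⟩, rfl⟩; exact ⟨s, rfl⟩
  have hj : ∀ x, Finsupp.linearCombination R' g' (f x) =
      algebraMap R R' (Finsupp.linearCombination R g x) := by
    intro x
    induction x using Finsupp.induction_linear with
    | zero => simp
    | add x y hx hy => rw [map_add, map_add, map_add, map_add, hx, hy]
    | single s a =>
      have hfs : f (Finsupp.single s a) = Finsupp.single s (algebraMap R R' a) := by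
        simp only [f, Finsupp.mapRange.linearMap_apply, Finsupp.mapRange_single, Algebra.linearMap_apply]
      rw [hfs, Finsupp.linearCombination_single, Finsupp.linearCombination_single]
      change algebraMap R R' a • algebraMap R R' (g s) = _
      rw [smul_eq_mul, smul_eq_mul, map_mul]
  have hmem : f q ∈ Triv (Finsupp.linearCombination R' g') := by
    refine mem_triv_of_isWeaklyRegular g' rs hreg (hspan'.trans hrs) (f q) ?_ ?_
    · rw [hj, hq, map_zero]
    · intro s
      rw [hspan']
      have hfq : f q s = algebraMap R R' (q s) := by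
        simp only [f, Finsupp.mapRange.linearMap_apply, Finsupp.mapRange_apply, Algebra.linearMap_apply]
      rw [hfq]
      exact Ideal.mem_map_of_mem _ (hqI s)
  exact exists_smul_mem_triv (Finsupp.linearCombination R g) 𝔫.primeCompl f
    (Finsupp.linearCombination R' g') hj q hmem

end AtPrime

section Reduced

variable {k B : Type u} [Field k] [CommRing B] [Algebra k B] [IsReduced B]
variable {ι : Type u} {σ : Type t} [Finite ι] (P : Algebra.Presentation k B ι σ)

instance : IsRegularRing P.toExtension.Ring :=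
  (inferInstance : IsRegularRing (MvPolynomial ι k))

/-- for a reduced algebra over a field, presented with finitely many variables, relations with
coefficients in the kernel are trivial at the generic points -/
theorem exists_smul_mem_trivRel_of_minimal (𝔮 : Ideal P.toExtension.Ring) [𝔮.IsPrime]
    (h𝔮 : 𝔮 ∈ P.toExtension.ker.minimalPrimes) (q : relMod P) (hq : q ∈ relKer P)
    (hqI : ∀ s, q s ∈ P.toExtension.ker) : ∃ s ∈ 𝔮.primeCompl, s • q ∈ trivRel P := by
  let e : (P.toExtension.Ring ⧸ P.toExtension.ker) ≃ₐ[k] B :=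
    Ideal.quotientKerAlgEquivOfSurjective (f := IsScalarTower.toAlgHom k P.toExtension.Ring B)
      P.toExtension.algebraMap_surjective
  haveI : IsReduced (P.toExtension.Ring ⧸ P.toExtension.ker) :=
    isReduced_of_injective e.toRingEquiv.toRingHom e.injective
  have hspan : Ideal.span (Set.range (rel P)) = P.toExtension.ker := P.span_range_relation_eq_ker
  obtain ⟨rs, hreg, hrs⟩ := exists_isWeaklyRegular_localization_of_minimal P.toExtension.ker 𝔮 h𝔮
  exact exists_smul_mem_triv_of_regular_at (rel P) P.toExtension.ker hspan 𝔮 rs hreg hrs q hq hqI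

open TensorProduct in
/-- elements of `ker d₂` are killed generically -/
theorem exists_smul_eq_zero_of_d2_eq_zero (z : L2 P) (hz : d2 P z = 0) (p : Ideal B)
    (hp : p ∈ minimalPrimes B) : ∃ b : B, b ∉ p ∧ b • z = 0 := by
  haveI := hp.1.1
  obtain ⟨x, rfl⟩ := Submodule.Quotient.mk_surjective _ z
  obtain ⟨q, rfl⟩ := exists_one_tmul P x
  rw [d2_mk_tmul] at hz
  have hcoord : ∀ s, (q : relMod P) s ∈ P.toExtension.ker := by
    intro s
    have h1 := congrArg (L1coord P s) hz
    rw [L1coord_tmul, one_mul, map_zero] at h1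
    exact h1
  let 𝔮 : Ideal P.toExtension.Ring := p.comap (algebraMap P.toExtension.Ring B)
  have h𝔮 : 𝔮 ∈ P.toExtension.ker.minimalPrimes := by
    have h1 := Ideal.comap_minimalPrimes_eq_of_surjective
      (f := algebraMap P.toExtension.Ring B) P.toExtension.algebraMap_surjective (⊥ : Ideal B)
    have h2 : (⊥ : Ideal B).comap (algebraMap P.toExtension.Ring B) = P.toExtension.ker := rfl
    rw [h2] at h1
    rw [h1]
    exact ⟨p, hp, rfl⟩
  obtain ⟨s, hs, hsq⟩ := exists_smul_mem_trivRel_of_minimal P 𝔮 h𝔮 q q.2 hcoord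
  refine ⟨algebraMap P.toExtension.Ring B s, hs, ?_⟩
  rw [← Submodule.Quotient.mk_smul, Submodule.Quotient.mk_eq_zero]
  refine ⟨(1 : B) ⊗ₜ ⟨s • q, hsq⟩, ?_⟩
  rw [LinearMap.baseChange_tmul, TensorProduct.smul_tmul', smul_eq_mul, mul_one,
    ← mul_one (algebraMap P.toExtension.Ring B s), ← Algebra.smul_def, TensorProduct.smul_tmul]
  rfl

/-- every linear form on `L₂` kills `ker d₂` when `B` is reduced -/
theorem map_eq_zero_of_d2_eq_zero (φ : L2 P →ₗ[B] B) (z : L2 P) (hz : d2 P z = 0) : φ z = 0 := by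
  have h1 : φ z ∈ sInf (⊥ : Ideal B).minimalPrimes := by
    rw [Ideal.mem_sInf]
    intro p hp
    haveI := hp.1.1
    obtain ⟨b, hb, hbz⟩ := exists_smul_eq_zero_of_d2_eq_zero P z hz p hp
    have h2 : b * φ z = 0 := by rw [← smul_eq_mul, ← map_smul, hbz, map_zero]
    exact (Ideal.IsPrime.mem_or_mem_of_mul_eq_zero ‹_› h2).resolve_left hb
  rw [Ideal.sInf_minimalPrimes] at h1
  have h3 : (⊥ : Ideal B).radical = ⊥ := nilradical_eq_zero B
  rw [h3] at h1
  exact h1

end Reduced

section Ext

open CategoryTheory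

variable {k B : Type u} [Field k] [CommRing B] [Algebra k B] [IsReduced B]
variable {ι σ : Type u} [Finite ι] (P : Algebra.Presentation k B ι σ)

/-- `T²(P, B) ≅ Ext¹(I/I², B)` for a reduced algebra over a field -/
theorem nonempty_T2_equiv_ext1 :
    Nonempty (T2 P B ≃ₗ[B]
      Abelian.Ext (ModuleCat.of B P.toExtension.Cotangent) (ModuleCat.of B B) 1) := by
  classical
  have hπ : Function.Surjective (toCot P) := toCot_surjective P
  haveI : Module.Free B (L1 P) := by
    change Module.Free B (TensorProduct P.toExtension.Ring B (σ →₀ P.toExtension.Ring))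
    infer_instance
  obtain ⟨d2', hd2'⟩ : ∃ d2' : L2 P →ₗ[B] LinearMap.ker (toCot P),
      ∀ z, (d2' z : L1 P) = d2 P z :=
    ⟨LinearMap.codRestrict (LinearMap.ker (toCot P)) (d2 P) (fun z => by
      rw [LinearMap.mem_ker]
      exact LinearMap.congr_fun (toCot_comp_d2 P) z), fun z => rfl⟩
  have hd2'surj : Function.Surjective d2' := by
    rintro ⟨x, hx⟩
    obtain ⟨z, rfl⟩ := ker_toCot_le_range_d2 P hx
    exact ⟨z, Subtype.ext (hd2' z)⟩
  have hd2'ker : ∀ z, d2' z = 0 → d2 P z = 0 := fun z hz => by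
    rw [← hd2' z, hz]; rfl
  let pull : (LinearMap.ker (toCot P) →ₗ[B] B) →ₗ[B] (L2 P →ₗ[B] B) := LinearMap.lcomp B B d2'
  have hpull_inj : Function.Injective pull := by
    intro φ ψ h
    ext x
    obtain ⟨z, rfl⟩ := hd2'surj x
    exact LinearMap.congr_fun h z
  have hpull_surj : Function.Surjective pull := by
    intro φ
    have hle : LinearMap.ker d2' ≤ LinearMap.ker φ := by
      intro z hz
      rw [LinearMap.mem_ker] at hz ⊢
      exact map_eq_zero_of_d2_eq_zero P φ z (hd2'ker z hz)
    let e := LinearMap.quotKerEquivOfSurjective (R := B) (M := L2 P)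
      (M₂ := LinearMap.ker (toCot P)) d2' hd2'surj
    refine ⟨((LinearMap.ker d2').liftQ φ hle) ∘ₗ e.symm.toLinearMap, ?_⟩
    refine LinearMap.ext fun z => ?_
    change (LinearMap.ker d2').liftQ φ hle (e.symm (d2' z)) = φ z
    have h1 : e.symm (d2' z) = Submodule.Quotient.mk z := by
      rw [LinearEquiv.symm_apply_eq]
      rfl
    rw [h1]
    rfl
  let e₁ : (LinearMap.ker (toCot P) →ₗ[B] B) ≃ₗ[B] (L2 P →ₗ[B] B) :=
    LinearEquiv.ofBijective pull ⟨hpull_inj, hpull_surj⟩
  have hmap : (LinearMap.range (ExtPres.restr (Y := B) (toCot P))).map e₁.toLinearMap =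
      LinearMap.range (d2Star P B) := by
    ext φ
    constructor
    · rintro ⟨_, ⟨ψ, rfl⟩, rfl⟩
      refine ⟨ψ, ?_⟩
      refine LinearMap.ext fun z => ?_
      change ψ (d2 P z) = ψ (d2' z : L1 P)
      rw [hd2']
    · rintro ⟨ψ, rfl⟩
      refine ⟨_, ⟨ψ, rfl⟩, ?_⟩
      refine LinearMap.ext fun z => ?_
      change ψ (d2' z : L1 P) = ψ (d2 P z)
      rw [hd2']
  let e₂ : ((LinearMap.ker (toCot P) →ₗ[B] B) ⧸ LinearMap.range (ExtPres.restr (Y := B) (toCot P))) ≃ₗ[B]
      T2 P B := Submodule.Quotient.equiv _ _ e₁ hmap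
  exact ⟨e₂.symm.trans (ExtPres.ext1Equiv (Y := B) (toCot P) hπ)⟩

end Ext

end Groth.Agent.H61.CotT2
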