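/-
Smoothness away from `τ` versus uniform annihilation of `T¹` by a power of `τ` (helper61).
-/
import Groth.Agent.H61.CotTSmooth

set_option autoImplicit false

noncomputable section

namespace Groth.Agent.H61.CotT2

open TensorProduct CotT

universe u

section PowKill

variable {R : Type*} [CommRing R] {M N : Type*} [AddCommGroup M] [Module R M] [AddCommGroup N] [Module R N]

/-- a finite module all of whose elements are killed by powers of `f` is killed by one power -/
lemma exists_pow_smul_eq_zero_of_finite [Module.Finite R M] (f : R)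
    (h : ∀ m : M, ∃ n : ℕ, f ^ n • m = 0) : ∃ n : ℕ, ∀ m : M, f ^ n • m = 0 := by
  haveI : Subsingleton (LocalizedModule (Submonoid.powers f) M) := by
    rw [LocalizedModule.subsingleton_iff]
    intro m
    obtain ⟨n, hn⟩ := h m
    exact ⟨f ^ n, ⟨n, rfl⟩, hn⟩
  obtain ⟨s, hs⟩ := Module.Finite.exists_smul_of_comp_eq_of_isLocalizedModule (Submonoid.powers f)
    (LocalizedModule.mkLinearMap (Submonoid.powers f) M) (LinearMap.id : M →ₗ[R] M) 0
    (LinearMap.ext fun x => Subsingleton.elim _ _)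
  obtain ⟨n, hn⟩ := s.2
  refine ⟨n, fun m => ?_⟩
  have h1 := LinearMap.congr_fun hs m
  rw [smul_zero, LinearMap.zero_apply, LinearMap.smul_apply, LinearMap.id_apply, Submonoid.smul_def, ← hn] at h1
  exact h1

end PowKill

section Main

variable {A B : Type u} [CommRing A] [CommRing B] [Algebra A B]
variable {n r : ℕ} (P : Algebra.Presentation A B (Fin n) (Fin r))

/-- the uniform annihilation statement is equivalent to a "quasi-retraction" of the conormal map -/
theorem uniform_iff_exists_quasiRetraction (τ : B) :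
    (∃ n₀ : ℕ, ∀ (M : Type u) [AddCommGroup M] [Module B M] [Module.Finite B M],
      ∀ x : CotT.T1 (CotT.canon A B) M, τ ^ n₀ • x = 0) ↔
    ∃ (n₀ : ℕ) (l : P.toExtension.CotangentSpace →ₗ[B] P.toExtension.Cotangent),
      l ∘ₗ P.toExtension.cotangentComplex = τ ^ n₀ • LinearMap.id := by
  haveI : Module.Finite B P.toExtension.Cotangent :=
    Module.Finite.of_surjective (toCot P) (toCot_surjective P)
  constructor
  · rintro ⟨n₀, h⟩
    refine ⟨n₀, ?_⟩
    obtain ⟨e⟩ := nonempty_T1_equiv P.toExtension.Cotangent (CotT.canon A B) P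
    have h1 : ∀ z : C1 P.toExtension.Cotangent P.toExtension, τ ^ n₀ • z = 0 := by
      intro z
      have h2 := h P.toExtension.Cotangent (e.symm ((T1equivC1 P.toExtension.Cotangent P).symm z))
      rw [← map_smul, ← map_smul] at h2
      have h3 := (e.symm.injective.eq_iff' (map_zero _)).mp h2
      exact ((T1equivC1 P.toExtension.Cotangent P).symm.injective.eq_iff' (map_zero _)).mp h3
    have h4 := h1 (Submodule.Quotient.mk LinearMap.id)
    rw [← Submodule.Quotient.mk_smul, Submodule.Quotient.mk_eq_zero] at h4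
    obtain ⟨l, hl⟩ := h4
    exact ⟨l, hl⟩
  · rintro ⟨n₀, l, hl⟩
    refine ⟨n₀, ?_⟩
    intro M _ _ _ x
    obtain ⟨e⟩ := nonempty_T1_equiv M (CotT.canon A B) P
    have h1 : ∀ z : C1 M P.toExtension, τ ^ n₀ • z = 0 := by
      intro z
      obtain ⟨φ, rfl⟩ := Submodule.Quotient.mk_surjective _ z
      rw [← Submodule.Quotient.mk_smul, Submodule.Quotient.mk_eq_zero]
      refine ⟨φ ∘ₗ l, ?_⟩
      rw [LinearMap.lcomp_apply', LinearMap.comp_assoc, hl, LinearMap.comp_smul, LinearMap.comp_id]
    have h2 := h1 (T1equivC1 M P (e x))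
    rw [← map_smul, ← map_smul] at h2
    have h3 := ((T1equivC1 M P).injective.eq_iff' (map_zero _)).mp h2
    exact (e.injective.eq_iff' (map_zero _)).mp h3

/-- from a quasi-retraction of the conormal map, a quasi-section of `CotangentSpace → Ω` -/
lemma exists_quasiSection (τ : B) (n₀ : ℕ)
    (l : P.toExtension.CotangentSpace →ₗ[B] P.toExtension.Cotangent)
    (hl : l ∘ₗ P.toExtension.cotangentComplex = τ ^ n₀ • LinearMap.id) :
    ∃ s : Ω[B⁄A] →ₗ[B] P.toExtension.CotangentSpace,
      P.toExtension.toKaehler ∘ₗ s = τ ^ n₀ • LinearMap.id := by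
  set d := P.toExtension.cotangentComplex
  set κ := P.toExtension.toKaehler
  have hexact : Function.Exact d κ := P.toExtension.exact_cotangentComplex_toKaehler
  have hκ : Function.Surjective κ := P.toExtension.toKaehler_surjective
  let e : P.toExtension.CotangentSpace →ₗ[B] P.toExtension.CotangentSpace :=
    τ ^ n₀ • LinearMap.id - d ∘ₗ l
  have he : LinearMap.ker κ ≤ LinearMap.ker e := by
    intro x hx
    obtain ⟨y, rfl⟩ := (hexact x).mp hx
    rw [LinearMap.mem_ker]
    change τ ^ n₀ • d y - d (l (d y)) = 0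
    have h1 := LinearMap.congr_fun hl y
    change l (d y) = τ ^ n₀ • y at h1
    rw [h1, map_smul, sub_self]
  let s : Ω[B⁄A] →ₗ[B] P.toExtension.CotangentSpace :=
    (LinearMap.ker κ).liftQ e he ∘ₗ (κ.quotKerEquivOfSurjective hκ).symm.toLinearMap
  have hs : ∀ x, s (κ x) = e x := by
    intro x
    change (LinearMap.ker κ).liftQ e he ((κ.quotKerEquivOfSurjective hκ).symm (κ x)) = e x
    rw [LinearMap.quotKerEquivOfSurjective_symm_apply, Submodule.liftQ_apply]
  refine ⟨s, ?_⟩
  refine LinearMap.ext fun ω => ?_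
  obtain ⟨x, rfl⟩ := hκ ω
  change κ (s (κ x)) = τ ^ n₀ • κ x
  rw [hs]
  change κ (τ ^ n₀ • x - d (l x)) = _
  rw [map_sub, map_smul, hexact.apply_apply_eq_zero, sub_zero]

/-- a quasi-retraction of the conormal map gives smoothness away from `τ` -/
theorem mem_smoothLocus_of_quasiRetraction [Algebra.EssFiniteType A B] [Module.Finite B Ω[B⁄A]]
    (τ : B) (n₀ : ℕ)
    (l : P.toExtension.CotangentSpace →ₗ[B] P.toExtension.Cotangent)
    (hl : l ∘ₗ P.toExtension.cotangentComplex = τ ^ n₀ • LinearMap.id)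
    (q : PrimeSpectrum B) (hq : τ ∉ q.asIdeal) : q ∈ Algebra.smoothLocus A B := by
  rw [Algebra.smoothLocus_eq_compl_support_inter]
  have hpow : τ ^ n₀ ∉ q.asIdeal := fun h => hq (q.isPrime.mem_of_pow_mem _ h)
  refine ⟨?_, ?_⟩
  · rw [Set.mem_compl_iff, Module.notMem_support_iff']
    intro m
    refine ⟨τ ^ n₀, hpow, ?_⟩
    obtain ⟨x, rfl⟩ := P.toGenerators.equivH1Cotangent.surjective m
    rw [← map_smul]
    have hx : τ ^ n₀ • x = 0 := by
      apply Algebra.Extension.h1Cotangentι_ext
      rw [Algebra.Extension.H1Cotangent.val_smul, Algebra.Extension.H1Cotangent.val_zero]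
      have h1 := LinearMap.congr_fun hl x.1
      change l (P.toExtension.cotangentComplex x.1) = τ ^ n₀ • x.1 at h1
      rw [← h1]
      have h2 : P.toExtension.cotangentComplex x.1 = 0 := x.2
      rw [h2, map_zero]
    rw [hx, map_zero]
  · rw [Module.mem_freeLocus_iff_tensor q (Localization.AtPrime q.asIdeal)]
    obtain ⟨s, hs⟩ := exists_quasiSection P τ n₀ l hl
    set Bq := Localization.AtPrime q.asIdeal
    have hu : IsUnit (algebraMap B Bq (τ ^ n₀)) :=
      IsLocalization.map_units (M := q.asIdeal.primeCompl) Bq ⟨τ ^ n₀, hpow⟩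
    obtain ⟨u, hu⟩ := hu
    let κ' : Bq ⊗[B] P.toExtension.CotangentSpace →ₗ[Bq] Bq ⊗[B] Ω[B⁄A] :=
      P.toExtension.toKaehler.baseChange Bq
    let i : Bq ⊗[B] Ω[B⁄A] →ₗ[Bq] Bq ⊗[B] P.toExtension.CotangentSpace :=
      (↑u⁻¹ : Bq) • s.baseChange Bq
    have hsplit : κ' ∘ₗ i = LinearMap.id := by
      change (P.toExtension.toKaehler.baseChange Bq) ∘ₗ ((↑u⁻¹ : Bq) • s.baseChange Bq) = _
      rw [LinearMap.comp_smul, ← LinearMap.baseChange_comp, hs, LinearMap.baseChange_smul,
        LinearMap.baseChange_id, ← algebraMap_smul Bq (τ ^ n₀), smul_smul, ← hu, Units.inv_mul, one_smul]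
    haveI : Module.Projective Bq (Bq ⊗[B] Ω[B⁄A]) := Module.Projective.of_split i κ' hsplit
    exact Module.free_of_flat_of_isLocalRing

/-- smoothness away from `τ` gives a quasi-retraction of the conormal map -/
theorem exists_quasiRetraction_of_smoothLocus [IsNoetherianRing B] [Algebra.EssFiniteType A B]
    [Algebra.FinitePresentation A B] (τ : B)
    (h : ∀ q : PrimeSpectrum B, τ ∉ q.asIdeal → q ∈ Algebra.smoothLocus A B) :
    ∃ (n₀ : ℕ) (l : P.toExtension.CotangentSpace →ₗ[B] P.toExtension.Cotangent),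
      l ∘ₗ P.toExtension.cotangentComplex = τ ^ n₀ • LinearMap.id := by
  classical
  rw [Algebra.smoothLocus_eq_compl_support_inter] at h
  set d := P.toExtension.cotangentComplex with hd
  set κ := P.toExtension.toKaehler with hκdef
  have hexact : Function.Exact d κ := P.toExtension.exact_cotangentComplex_toKaehler
  have hκ : Function.Surjective κ := P.toExtension.toKaehler_surjective
  haveI : Module.Finite B P.toExtension.Cotangent :=
    Module.Finite.of_surjective (toCot P) (toCot_surjective P)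
  haveI : IsNoetherian B P.toExtension.Cotangent := isNoetherian_of_isNoetherianRing_of_finite B _
  let S := Submonoid.powers τ
  -- Step a: a power of τ kills ker d
  have ha : ∃ a : ℕ, ∀ x : P.toExtension.Cotangent, d x = 0 → τ ^ a • x = 0 := by
    have h1 : ∀ m : Algebra.H1Cotangent A B, ∃ n : ℕ, τ ^ n • m = 0 := by
      have hsub : Subsingleton (LocalizedModule.Away τ (Algebra.H1Cotangent A B)) := by
        rw [LocalizedModule.subsingleton_iff_support_subset]
        intro q hq
        rw [PrimeSpectrum.mem_zeroLocus, Set.singleton_subset_iff]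
        by_contra hτ
        exact (h q hτ).1 hq
      rw [LocalizedModule.subsingleton_iff] at hsub
      intro m
      obtain ⟨r, ⟨n, rfl⟩, hr⟩ := hsub m
      exact ⟨n, hr⟩
    have h2 : ∀ y : LinearMap.ker d, ∃ n : ℕ, τ ^ n • y = 0 := by
      intro y
      let y' : P.toExtension.H1Cotangent := y
      obtain ⟨n, hn⟩ := h1 (P.toGenerators.equivH1Cotangent y')
      refine ⟨n, ?_⟩
      rw [← map_smul] at hn
      have h3 := (P.toGenerators.equivH1Cotangent.injective.eq_iff' (map_zero _)).mp hn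
      exact h3
    obtain ⟨a, ha⟩ := exists_pow_smul_eq_zero_of_finite (M := LinearMap.ker d) τ h2
    refine ⟨a, fun x hx => ?_⟩
    have := ha ⟨x, hx⟩
    exact congrArg Subtype.val this
  obtain ⟨a, ha⟩ := ha
  -- Step b: Ω is projective after inverting τ
  set Bτ := Localization.Away τ
  have hproj : Module.Projective Bτ (LocalizedModule.Away τ Ω[B⁄A]) := by
    rw [← Module.basicOpen_subset_freeLocus_iff]
    intro q hq
    exact (h q hq).2
  haveI : Module.Projective Bτ (Bτ ⊗[B] Ω[B⁄A]) :=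
    Module.Projective.of_equiv (LocalizedModule.equivTensorProduct S Ω[B⁄A])
  -- Step c: a quasi-section of κ
  let κ' : Bτ ⊗[B] P.toExtension.CotangentSpace →ₗ[Bτ] Bτ ⊗[B] Ω[B⁄A] := κ.baseChange Bτ
  have hκ' : Function.Surjective κ' := LinearMap.lTensor_surjective Bτ hκ
  obtain ⟨s', hs'⟩ := Module.projective_lifting_property κ' LinearMap.id hκ'
  let mkΩ : Ω[B⁄A] →ₗ[B] Bτ ⊗[B] Ω[B⁄A] := TensorProduct.mk B Bτ Ω[B⁄A] 1
  let mkC : P.toExtension.CotangentSpace →ₗ[B] Bτ ⊗[B] P.toExtension.CotangentSpace :=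
    TensorProduct.mk B Bτ P.toExtension.CotangentSpace 1
  let g : Ω[B⁄A] →ₗ[B] Bτ ⊗[B] P.toExtension.CotangentSpace := (s'.restrictScalars B) ∘ₗ mkΩ
  obtain ⟨h0, c, hc⟩ := Module.FinitePresentation.exists_lift_of_isLocalizedModule S mkC g
  have hcomm : (κ'.restrictScalars B) ∘ₗ mkC = mkΩ ∘ₗ κ := by
    refine LinearMap.ext fun x => ?_
    change κ.baseChange Bτ ((1 : Bτ) ⊗ₜ x) = (1 : Bτ) ⊗ₜ κ x
    rw [LinearMap.baseChange_tmul]
  have h4 : mkΩ ∘ₗ (κ ∘ₗ h0) = mkΩ ∘ₗ ((c : B) • LinearMap.id) := by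
    rw [← LinearMap.comp_assoc, ← hcomm, LinearMap.comp_assoc, hc]
    refine LinearMap.ext fun ω => ?_
    change κ' ((c : B) • s' (mkΩ ω)) = mkΩ ((c : B) • ω)
    rw [LinearMap.map_smul_of_tower κ', map_smul mkΩ]
    have := LinearMap.congr_fun hs' (mkΩ ω)
    change κ' (s' (mkΩ ω)) = mkΩ ω at this
    rw [this]
  obtain ⟨c', hc'⟩ := Module.Finite.exists_smul_of_comp_eq_of_isLocalizedModule S mkΩ _ _ h4
  obtain ⟨b1, hb1⟩ := c.2
  obtain ⟨b2, hb2⟩ := c'.2
  -- the quasi-section
  let s : Ω[B⁄A] →ₗ[B] P.toExtension.CotangentSpace := (c' : B) • h0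
  have hs : κ ∘ₗ s = τ ^ (b2 + b1) • LinearMap.id := by
    change κ ∘ₗ ((c' : B) • h0) = _
    rw [LinearMap.comp_smul]
    have : (c' : B) • (κ ∘ₗ h0) = (c' : B) • ((c : B) • LinearMap.id) := hc'
    rw [this, smul_smul, pow_add, ← hb1, ← hb2]
  -- build the quasi-retraction
  let e' : P.toExtension.CotangentSpace →ₗ[B] P.toExtension.CotangentSpace :=
    τ ^ (b2 + b1) • LinearMap.id - s ∘ₗ κ
  have he' : ∀ x, e' x ∈ LinearMap.range d := by
    intro x
    rw [← LinearMap.exact_iff.mp hexact, LinearMap.mem_ker]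
    change κ (τ ^ (b2 + b1) • x - s (κ x)) = 0
    rw [map_sub, map_smul]
    have := LinearMap.congr_fun hs (κ x)
    change κ (s (κ x)) = τ ^ (b2 + b1) • κ x at this
    rw [this, sub_self]
  obtain ⟨l₀, hl₀⟩ := Module.projective_lifting_property d.rangeRestrict
    (LinearMap.codRestrict (LinearMap.range d) e' he') d.surjective_rangeRestrict
  have hl₀' : ∀ x, d (l₀ x) = e' x := by
    intro x
    have := LinearMap.congr_fun hl₀ x
    exact congrArg Subtype.val this
  refine ⟨a + (b2 + b1), τ ^ a • l₀, ?_⟩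
  refine LinearMap.ext fun x => ?_
  change τ ^ a • l₀ (d x) = τ ^ (a + (b2 + b1)) • x
  have h5 : d (l₀ (d x) - τ ^ (b2 + b1) • x) = 0 := by
    rw [map_sub, hl₀', map_smul]
    change τ ^ (b2 + b1) • d x - s (κ (d x)) - τ ^ (b2 + b1) • d x = 0
    rw [hexact.apply_apply_eq_zero, map_zero, sub_zero, sub_self]
  have h6 := ha _ h5
  rw [smul_sub, sub_eq_zero, smul_smul, ← pow_add] at h6
  exact h6

/-- **Main theorem**: smoothness of `B` over `A` away from `τ` is equivalent to uniform annihilation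
of `T¹(B/A, M)` (finite `M`) by a power of `τ`. -/
theorem smoothLocus_away_iff [IsNoetherianRing A] [Algebra.FiniteType A B] (τ : B) :
    (∀ q : PrimeSpectrum B, τ ∉ q.asIdeal → q ∈ Algebra.smoothLocus A B) ↔
    ∃ n₀ : ℕ, ∀ (M : Type u) [AddCommGroup M] [Module B M] [Module.Finite B M],
      ∀ x : CotT.T1 (CotT.canon A B) M, τ ^ n₀ • x = 0 := by
  haveI : Algebra.FinitePresentation A B := Algebra.FinitePresentation.of_finiteType.mp inferInstance
  haveI : IsNoetherianRing B := Algebra.FiniteType.isNoetherianRing A B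
  let P₀ := Algebra.Presentation.ofFinitePresentation A B
  rw [uniform_iff_exists_quasiRetraction P₀ τ]
  constructor
  · intro h
    exact exists_quasiRetraction_of_smoothLocus P₀ τ h
  · rintro ⟨n₀, l, hl⟩ q hq
    exact mem_smoothLocus_of_quasiRetraction P₀ τ n₀ l hl q hq

end Main

end Groth.Agent.H61.CotT2

end
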