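import Mathlib
import Groth.Prelude.Def_W4c5m1nsnscurvesC

/-!
# Easy direction for S18246: linear independence of the monomial family `cmon`
forces the relations `URel` on the assignment `v`.
-/

universe u

open W4c5m1nsnscurves MvPolynomial

namespace Groth.Agent.H61.CurveRelOfIndep

section general

variable {R : Type*} [CommRing R] {ι M : Type*} [AddCommGroup M] [Module R M]

theorem coeff_zero_of_rel {f : ι → M} (h : LinearIndependent R f) {n : ℕ}
    (b : Fin n → ι) (hb : Function.Injective b) (r : Fin n → R)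
    (hr : ∑ i, r i • f (b i) = 0) : ∀ i, r i = 0 :=
  Fintype.linearIndependent_iff.mp (h.comp b hb) r hr

theorem lin4 {f : ι → M} (h : LinearIndependent R f) (b1 b2 b3 b4 : ι)
    (hd : Function.Injective ![b1, b2, b3, b4]) (r1 r2 r3 r4 : R)
    (hr : r1 • f b1 + r2 • f b2 + r3 • f b3 + r4 • f b4 = 0) :
    r1 = 0 ∧ r2 = 0 ∧ r3 = 0 ∧ r4 = 0 := by
  have := coeff_zero_of_rel h ![b1, b2, b3, b4] hd ![r1, r2, r3, r4]
    (by simpa [Fin.sum_univ_four] using hr)
  exact ⟨this 0, this 1, this 2, this 3⟩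

theorem lin5 {f : ι → M} (h : LinearIndependent R f) (b1 b2 b3 b4 b5 : ι)
    (hd : Function.Injective ![b1, b2, b3, b4, b5]) (r1 r2 r3 r4 r5 : R)
    (hr : r1 • f b1 + r2 • f b2 + r3 • f b3 + r4 • f b4 + r5 • f b5 = 0) :
    r1 = 0 ∧ r2 = 0 ∧ r3 = 0 ∧ r4 = 0 ∧ r5 = 0 := by
  have := coeff_zero_of_rel h ![b1, b2, b3, b4, b5] hd ![r1, r2, r3, r4, r5]
    (by simpa [Fin.sum_univ_five] using hr)
  exact ⟨this 0, this 1, this 2, this 3, this 4⟩

end general

variable {R : Type u} [CommRing R] {m : ℕ} {v : UGen m → R}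

local notation "φ" => algebraMap R (CurveAlg R m v)
local notation "𝔮" => Ideal.Quotient.mk (Ideal.span (CRel R m v))

theorem mk_C (r : R) : 𝔮 (C r) = φ r := rfl

theorem hA (i : Fin m) :
    𝔮 (X .x2) * 𝔮 (X (.xi i)) =
      𝔮 (X .x2) * 𝔮 (X .x3) + φ (v (.ci i)) * 𝔮 (X (.xi i)) + φ (v (.cbi i)) * 𝔮 (X .x2)
        - φ (v .c) := by
  have hmem : (X .x2 * X (.xi i) -
      (X .x2 * X .x3 + C (v (.ci i)) * X (.xi i) + C (v (.cbi i)) * X .x2 - C (v .c)) :
        MvPolynomial (CVar m) R) ∈ Ideal.span (CRel R m v) :=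
    Ideal.subset_span (Or.inl (Or.inl ⟨i, rfl⟩))
  have h := Ideal.Quotient.eq_zero_iff_mem.mpr hmem
  simp only [map_sub, map_add, map_mul, mk_C] at h
  exact sub_eq_zero.mp h

theorem hB (i : Fin m) :
    𝔮 (X .x3) * 𝔮 (X (.xi i)) =
      𝔮 (X .x2) * 𝔮 (X .x3) + (φ (v .a) + φ (v (.ci i)) + φ (v (.cbi i))) *
        (𝔮 (X (.xi i)) - φ (v (.cbi i))) + φ (v .cb) - φ (v .c) := by
  have hmem : (X .x3 * X (.xi i) -
      (X .x2 * X .x3 + C (v .a + v (.ci i) + v (.cbi i)) * (X (.xi i) - C (v (.cbi i))) +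
        C (v .cb) - C (v .c)) : MvPolynomial (CVar m) R) ∈ Ideal.span (CRel R m v) :=
    Ideal.subset_span (Or.inl (Or.inr ⟨i, rfl⟩))
  have h := Ideal.Quotient.eq_zero_iff_mem.mpr hmem
  simp only [map_sub, map_add, map_mul, mk_C] at h
  exact sub_eq_zero.mp h

theorem hC (i j : Fin m) (hij : i ≠ j) :
    𝔮 (X (.xi i)) * 𝔮 (X (.xi j)) =
      𝔮 (X .x2) * 𝔮 (X .x3) + φ (v (.cij i j hij)) * 𝔮 (X (.xi j)) +
        φ (v (.cij j i hij.symm)) * 𝔮 (X (.xi i)) - φ (v .c) := by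
  have hmem : (X (.xi i) * X (.xi j) -
      (X .x2 * X .x3 + C (v (.cij i j hij)) * X (.xi j) +
        C (v (.cij j i hij.symm)) * X (.xi i) - C (v .c)) :
        MvPolynomial (CVar m) R) ∈ Ideal.span (CRel R m v) :=
    Ideal.subset_span (Or.inr ⟨⟨(i, j), hij⟩, rfl⟩)
  have h := Ideal.Quotient.eq_zero_iff_mem.mpr hmem
  simp only [map_sub, map_add, map_mul, mk_C] at h
  exact sub_eq_zero.mp h

/-- `w * x_j` in terms of the monomials. -/
theorem hW (j : Fin m) :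
    𝔮 (X .x2) * 𝔮 (X .x3) * 𝔮 (X (.xi j)) =
      𝔮 (X .x2) * (𝔮 (X .x2) * 𝔮 (X .x3)) +
        (φ (v .a) + φ (v (.ci j)) + φ (v (.cbi j))) * (𝔮 (X .x2) * 𝔮 (X .x3)) +
        (φ (v .cb) - φ (v .c)) * 𝔮 (X .x2) +
        φ (v (.ci j)) * (φ (v .a) + φ (v (.ci j)) + φ (v (.cbi j))) * 𝔮 (X (.xi j)) -
        (φ (v .a) + φ (v (.ci j)) + φ (v (.cbi j))) * φ (v .c) := by
  linear_combination 𝔮 (X .x2) * hB (v := v) j +
    (φ (v .a) + φ (v (.ci j)) + φ (v (.cbi j))) * hA (v := v) j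


theorem cmon_w : cmon R m v (some (.inl 0)) = 𝔮 (X .x2) * 𝔮 (X .x3) := by
  show 𝔮 (X .x2 ^ (0 + 1) * X .x3) = _
  rw [zero_add, pow_one, map_mul]

theorem cmon_var (y : CVar m) : cmon R m v (some (.inr (y, 0))) = 𝔮 (X y) := by
  show 𝔮 (X y ^ (0 + 1)) = _
  rw [zero_add, pow_one]

theorem cmon_one : cmon R m v none = 1 := rfl

theorem smul_eq (r : R) (x : CurveAlg R m v) : r • x = φ r * x := Algebra.smul_def r x

theorem pair_rel (h : LinearIndependent R (cmon R m v)) (i j : Fin m) (hij : i ≠ j) :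
    v (.cij i j hij) + v (.cij j i hij.symm) =
        v .a + v (.ci i) + v (.cbi i) + v (.ci j) + v (.cbi j) ∧
      v (.cij j i hij.symm) * v (.ci j) + v (.cij i j hij) * v (.ci i) -
        v (.ci i) * v (.ci j) = v .c ∧
      v (.cij j i hij.symm) * v (.cbi i) + v (.cij i j hij) * v (.cbi j) -
        v (.cbi i) * v (.cbi j) = v .cb := by
  obtain ⟨rw, hrw⟩ : ∃ x : R, x = (v (.cij i j hij) + v (.cij j i hij.symm)) -
    (v .a + v (.ci j) + v (.cbi j) + v (.ci i) + v (.cbi i)) := ⟨_, rfl⟩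
  obtain ⟨rx2, hrx2⟩ : ∃ x : R, x = (v (.cij i j hij) * v (.cbi j) +
    v (.cij j i hij.symm) * v (.cbi i) - v .c) -
    (v .cb - v .c + v (.cbi i) * v (.cbi j)) := ⟨_, rfl⟩
  obtain ⟨rxj, hrxj⟩ : ∃ x : R, x = v (.cij i j hij) * v (.ci j) -
    (v (.ci j) * (v .a + v (.ci j) + v (.cbi j)) + v (.ci i) * v (.cij i j hij) +
      v (.cbi i) * v (.ci j) - v .c) := ⟨_, rfl⟩
  obtain ⟨r1, hr1⟩ : ∃ x : R, x = -(v .c * (v (.cij i j hij) + v (.cij j i hij.symm))) +
    (v .a + v (.ci j) + v (.cbi j) + v (.ci i) + v (.cbi i)) * v .c := ⟨_, rfl⟩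
  have key : rw • cmon R m v (some (.inl 0)) + rx2 • cmon R m v (some (.inr (.x2, 0))) +
      rxj • cmon R m v (some (.inr (.xi j, 0))) + r1 • cmon R m v none = 0 := by
    rw [smul_eq, smul_eq, smul_eq, smul_eq, cmon_w, cmon_var, cmon_var, cmon_one]
    simp only [hrw, hrx2, hrxj, hr1, map_add, map_sub, map_mul, map_neg]
    have P1 := hC (v := v) i j hij
    have P2 := hA (v := v) i
    have P3 := hA (v := v) j
    have P4 := hW (v := v) j
    linear_combination (𝔮 (X (.xi j)) * P2 + P4 + φ (v (.ci i)) * P1 +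
        φ (v (.cbi i)) * P3) - ((𝔮 (X .x2)) * P1 + φ (v (.cij i j hij)) * P3 +
      φ (v (.cij j i hij.symm)) * P2)
  have hinj : Function.Injective
      (![some (.inl 0), some (.inr (.x2, 0)), some (.inr (.xi j, 0)), none] :
        Fin 4 → Option (ℕ ⊕ (CVar m × ℕ))) := by
    intro a b
    fin_cases a <;> fin_cases b <;> simp
  obtain ⟨h0, h1, h2, -⟩ := lin4 h _ _ _ _ hinj _ _ _ _ key
  rw [hrw] at h0
  rw [hrx2] at h1
  rw [hrxj] at h2
  refine ⟨?_, ?_, ?_⟩
  · linear_combination h0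
  · linear_combination (-1 : R) * h2 + v (.ci j) * h0
  · linear_combination h1


theorem triple_rel (h : LinearIndependent R (cmon R m v)) (i j k : Fin m) (hij : i ≠ j)
    (hjk : j ≠ k) (hik : i ≠ k) :
    v (.cij i j hij) * v (.cij j k hjk) + v (.cij j i hij.symm) * v (.cij i k hik) -
      v (.cij i k hik) * v (.cij j k hjk) + (v .a + v (.ci k) + v (.cbi k)) * v (.ci k) =
        v .c := by
  obtain ⟨rw, hrw⟩ : ∃ x : R, x = ((v .a + v (.ci k) + v (.cbi k)) + v (.cij i j hij) +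
      v (.cij j i hij.symm)) -
    ((v .a + v (.ci i) + v (.cbi i)) + v (.cij j k hjk) + v (.cij k j hjk.symm)) := ⟨_, rfl⟩
  obtain ⟨rxk, hrxk⟩ : ∃ x : R, x = (v (.ci k) * (v .a + v (.ci k) + v (.cbi k)) +
      v (.cij i j hij) * v (.cij j k hjk) + v (.cij j i hij.symm) * v (.cij i k hik) - v .c) -
      v (.cij j k hjk) * v (.cij i k hik) := ⟨_, rfl⟩
  obtain ⟨rxi, hrxi⟩ : ∃ x : R, x = v (.cij j i hij.symm) * v (.cij k i hik.symm) -
      (v (.ci i) * (v .a + v (.ci i) + v (.cbi i)) + v (.cij j k hjk) * v (.cij k i hik.symm) +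
        v (.cij k j hjk.symm) * v (.cij j i hij.symm) - v .c) := ⟨_, rfl⟩
  obtain ⟨r1, hr1⟩ : ∃ x : R, x = -(((v .a + v (.ci k) + v (.cbi k)) + v (.cij i j hij) +
      v (.cij j i hij.symm)) * v .c) +
    ((v .a + v (.ci i) + v (.cbi i)) + v (.cij j k hjk) + v (.cij k j hjk.symm)) * v .c :=
    ⟨_, rfl⟩
  have key : rw • cmon R m v (some (.inl 0)) + rxk • cmon R m v (some (.inr (.xi k, 0))) +
      rxi • cmon R m v (some (.inr (.xi i, 0))) + r1 • cmon R m v none = 0 := by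
    rw [smul_eq, smul_eq, smul_eq, smul_eq, cmon_w, cmon_var, cmon_var, cmon_one]
    simp only [hrw, hrxk, hrxi, hr1, map_add, map_sub, map_mul, map_neg]
    have P1 := hC (v := v) i j hij
    have P2 := hC (v := v) j k hjk
    have P3 := hC (v := v) i k hik
    have P4 := hW (v := v) k
    have P5 := hW (v := v) i
    linear_combination (𝔮 (X (.xi i)) * P2 + P5 + φ (v (.cij j k hjk)) * P3 +
        φ (v (.cij k j hjk.symm)) * P1) -
      (𝔮 (X (.xi k)) * P1 + P4 + φ (v (.cij i j hij)) * P2 + φ (v (.cij j i hij.symm)) * P3)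
  have hinj : Function.Injective
      (![some (.inl 0), some (.inr (.xi k, 0)), some (.inr (.xi i, 0)), none] :
        Fin 4 → Option (ℕ ⊕ (CVar m × ℕ))) := by
    intro a b
    fin_cases a <;> fin_cases b <;> simp [hik, hik.symm]
  obtain ⟨-, h1, -, -⟩ := lin4 h _ _ _ _ hinj _ _ _ _ key
  rw [hrxk] at h1
  linear_combination h1

/-- **Easy direction (P4) for S18246**: if the monomial family `cmon` of the curve algebra over
`v` is linearly independent, then `v` satisfies all the relations `URel`. -/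
theorem rel_of_indep (R : Type u) [CommRing R] (m : ℕ) (v : UGen m → R)
    (h : LinearIndependent R (cmon R m v)) : ∀ p ∈ URel R m, MvPolynomial.eval v p = 0 := by
  rintro p (((⟨q, rfl⟩ | ⟨q, rfl⟩) | ⟨q, rfl⟩) | ⟨q, rfl⟩)
  · obtain ⟨⟨i, j⟩, hij⟩ := q
    simp only [map_sub, map_add, map_mul, eval_X]
    linear_combination (pair_rel h i j hij).1
  · obtain ⟨⟨i, j⟩, hij⟩ := q
    simp only [map_sub, map_add, map_mul, eval_X]
    linear_combination (pair_rel h i j hij).2.1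
  · obtain ⟨⟨i, j⟩, hij⟩ := q
    simp only [map_sub, map_add, map_mul, eval_X]
    linear_combination (pair_rel h i j hij).2.2
  · obtain ⟨⟨i, j, k⟩, hij, hjk, hik⟩ := q
    simp only [map_sub, map_add, map_mul, eval_X]
    linear_combination triple_rel h i j k hij hjk hik

end Groth.Agent.H61.CurveRelOfIndep
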