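import Groth.Agent.H61.MinPres
import Groth.Agent.H63.ArtLim

/-!
# Minimal presentations of complete local algebras by power series rings (helper61)

Setting: `Λ` complete Noetherian local with `Λ → k` surjective.  Every coefficient ring `R` is a
quotient `g : Λ[[X_1..X_n]] → R` with `ker g ≤ m_P² + m_Λ P`.
-/

set_option autoImplicit false
set_option linter.unusedSectionVars false
set_option linter.style.haveILetI false
universe u v

namespace Groth.Agent.H61

open CategoryTheory ArtFun ArtFun.Art Groth.Agent.H63 MvPowerSeries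

variable {Λ : Type u} {k : Type u} [CommRing Λ] [Field k] [Algebra Λ k]

section GenA

variable [IsLocalRing Λ]

/-- a generating family of `m_A` modulo `m_A² + m_Λ A` with `n` elements -/
def GenA (A : Type u) [CommRing A] [IsLocalRing A] [Algebra Λ A] (n : ℕ) : Prop :=
  ∃ x : Fin n → A, (∀ i, x i ∈ IsLocalRing.maximalIdeal A) ∧
    IsLocalRing.maximalIdeal A ≤ Ideal.span (Set.range x) ⊔
      (IsLocalRing.maximalIdeal A ^ 2 ⊔ (IsLocalRing.maximalIdeal Λ).map (algebraMap Λ A))

theorem exists_genA (A : Type u) [CommRing A] [IsLocalRing A] [Algebra Λ A] [IsNoetherianRing A] :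
    ∃ n, GenA (Λ := Λ) A n := by
  have hfg : (IsLocalRing.maximalIdeal A).FG := IsNoetherian.noetherian _
  obtain ⟨n, s, hs⟩ := Submodule.fg_iff_exists_fin_generating_family.1 hfg
  refine ⟨n, s, fun i => ?_, ?_⟩
  · rw [← hs]
    exact Submodule.subset_span ⟨i, rfl⟩
  · have : Ideal.span (Set.range s) = IsLocalRing.maximalIdeal A := hs
    rw [this]
    exact le_sup_left

/-- linear independence modulo `m_A² + m_Λ A` of a minimal generating family -/
theorem coeff_mem_of_minimalA (A : Type u) [CommRing A] [IsLocalRing A] [Algebra Λ A] (n : ℕ)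
    (hmin : ∀ m, m < n → ¬ GenA (Λ := Λ) A m)
    (x : Fin n → A) (hx : ∀ i, x i ∈ IsLocalRing.maximalIdeal A)
    (hgen : IsLocalRing.maximalIdeal A ≤ Ideal.span (Set.range x) ⊔
      (IsLocalRing.maximalIdeal A ^ 2 ⊔ (IsLocalRing.maximalIdeal Λ).map (algebraMap Λ A)))
    (a : Fin n → Λ)
    (hs : ∑ i, algebraMap Λ A (a i) * x i ∈ IsLocalRing.maximalIdeal A ^ 2 ⊔
        (IsLocalRing.maximalIdeal Λ).map (algebraMap Λ A)) :
    ∀ j, a j ∈ IsLocalRing.maximalIdeal Λ := by
  intro j
  by_contra hj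
  have hu : IsUnit (a j) := by
    by_contra h
    exact hj ((IsLocalRing.mem_maximalIdeal _).2 h)
  obtain ⟨b, hb⟩ := isUnit_iff_exists_inv'.1 hu
  obtain ⟨n', rfl⟩ : ∃ n', n = n' + 1 := by
    cases n with
    | zero => exact j.elim0
    | succ n' => exact ⟨n', rfl⟩
  set nnR : Ideal A := IsLocalRing.maximalIdeal A ^ 2 ⊔
    (IsLocalRing.maximalIdeal Λ).map (algebraMap Λ A) with hnnR
  set x' : Fin n' → A := fun i' => x (j.succAbove i') with hx'
  set T : Ideal A := Ideal.span (Set.range x') ⊔ nnR with hT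
  refine hmin n' (Nat.lt_succ_self n') ⟨x', fun i' => hx _, ?_⟩
  have hxT : ∀ i, x i ∈ T := by
    intro i
    rcases Fin.eq_self_or_eq_succAbove j i with rfl | ⟨i', rfl⟩
    · have hsum := Fin.sum_univ_succAbove (fun i => algebraMap Λ A (a i) * x i) i
      have h1 : algebraMap Λ A (a i) * x i =
          (∑ i, algebraMap Λ A (a i) * x i) - ∑ i', algebraMap Λ A (a (i.succAbove i')) * x' i' := by
        rw [hsum]
        ring
      have h2 : algebraMap Λ A (a i) * x i ∈ T := by
        rw [h1]
        refine Ideal.sub_mem _ (Ideal.mem_sup_right hs) ?_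
        refine Ideal.sum_mem _ fun i' _ => ?_
        exact Ideal.mul_mem_left _ _ (Ideal.mem_sup_left (Ideal.subset_span ⟨i', rfl⟩))
      have h3 : x i = algebraMap Λ A b * (algebraMap Λ A (a i) * x i) := by
        rw [← mul_assoc, ← map_mul, hb, map_one, one_mul]
      rw [h3]
      exact Ideal.mul_mem_left _ _ h2
    · exact Ideal.mem_sup_left (Ideal.subset_span ⟨i', rfl⟩)
  have hspan : Ideal.span (Set.range x) ≤ T := by
    rw [Ideal.span_le]
    rintro _ ⟨i, rfl⟩
    exact hxT i
  exact hgen.trans (sup_le hspan le_sup_right)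

end GenA

section Pres

variable [IsLocalRing Λ] [IsNoetherianRing Λ] [IsAdicComplete (IsLocalRing.maximalIdeal Λ) Λ]
variable (hΛk : Function.Surjective (algebraMap Λ k))

include hΛk

/-- maps from the power series ring to a coefficient ring with prescribed values on the variables -/
theorem ps_exists_hom_cring (n : ℕ) (R : CRing Λ k) (x : Fin n → R.carrier)
    (hx : ∀ i, x i ∈ IsLocalRing.maximalIdeal R.carrier) :
    ∃ g : (psCRing hΛk n).carrier →ₐ[Λ] R.carrier, R.res.comp g = (psCRing hΛk n).res ∧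
      ∀ i, g (psX hΛk n i) = x i := by
  have hxN : ∀ N i, (R.truncHom N).1 (x i) ∈ IsLocalRing.maximalIdeal (R.trunc N : Art Λ k) :=
    fun N i => homSet_map_maximalIdeal R (R.truncHom N) _ (hx i)
  choose ψ hψ using fun N =>
    ps_exists_hom hΛk n (R.trunc N) (fun i => (R.truncHom N).1 (x i)) (hxN N)
  have hcompat : ∀ N, HomSet.map (R.truncMap N) (ψ (N + 1)) = ψ N := by
    intro N
    apply ps_hom_ext hΛk n
    intro i
    rw [homSet_map_apply, hψ, hψ]
    exact congrArg (fun t => t.1 (x i)) (R.truncMap_truncHom N)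
  obtain ⟨g, hg, hgN⟩ := exists_algHom_of_compatible R (psCRing hΛk n).res ψ hcompat
  refine ⟨g, hg, fun i => ?_⟩
  have hS : IsHausdorff (IsLocalRing.maximalIdeal R.carrier) R.carrier :=
    R.isAdicComplete.toIsHausdorff
  rw [← sub_eq_zero]
  apply hS.haus
  intro N
  have hr : Ideal.Quotient.mk (R.mpow N) (g (psX hΛk n i)) =
      Ideal.Quotient.mk (R.mpow N) (x i) := by
    rw [hgN, hψ]
    rfl
  rw [Ideal.Quotient.eq] at hr
  rw [SModEq.zero, smul_eq_mul, Ideal.mul_top]
  exact Ideal.pow_le_pow_right (Nat.le_succ N) hr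

variable [Module.Finite Λ k]

/-- **Minimal presentation** of a coefficient ring. -/
theorem exists_min_presentation_cring (R : CRing Λ k) :
    ∃ (n : ℕ) (g : (psCRing hΛk n).carrier →ₐ[Λ] R.carrier),
      R.res.comp g = (psCRing hΛk n).res ∧ Function.Surjective g ∧
      RingHom.ker g ≤ IsLocalRing.maximalIdeal (psCRing hΛk n).carrier ^ 2 ⊔
        (IsLocalRing.maximalIdeal Λ).map (algebraMap Λ (psCRing hΛk n).carrier) := by
  classical
  have hex := exists_genA (Λ := Λ) R.carrier
  obtain ⟨n, ⟨x, hx, hgen⟩, hmin⟩ : ∃ n, GenA (Λ := Λ) R.carrier n ∧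
      ∀ m, m < n → ¬ GenA (Λ := Λ) R.carrier m :=
    ⟨Nat.find hex, Nat.find_spec hex, fun m hm => Nat.find_min hex hm⟩
  obtain ⟨g, hg, hgx⟩ := ps_exists_hom_cring hΛk n R x hx
  have hkerΛ := ker_algebraMap_eq hΛk
  have hmapm : Ideal.map g (IsLocalRing.maximalIdeal (psCRing hΛk n).carrier) ≤
      IsLocalRing.maximalIdeal R.carrier :=
    Ideal.map_le_iff_le_comap.2 (CRing.maximalIdeal_le_comap g hg)
  have hmapΛ : Ideal.map (algebraMap Λ R.carrier) (IsLocalRing.maximalIdeal Λ) ≤
      IsLocalRing.maximalIdeal R.carrier := by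
    refine Ideal.map_le_iff_le_comap.2 ?_
    intro l hl
    rw [Ideal.mem_comap, CRing.mem_maximalIdeal_iff, AlgHom.commutes]
    rw [← hkerΛ] at hl
    exact RingHom.mem_ker.1 hl
  refine ⟨n, g, hg, ?_, ?_⟩
  · -- surjectivity
    apply ((Groth.Agent.S12714.result (psCRing hΛk n) R g hg).out 2 0).1
    apply le_antisymm
    · rw [hkerΛ]
      exact sup_le (sup_le hmapΛ hmapm) (Ideal.pow_le_self two_ne_zero)
    · refine hgen.trans (sup_le ?_ (sup_le ?_ ?_))
      · refine Ideal.span_le.2 ?_
        rintro _ ⟨i, rfl⟩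
        refine Ideal.mem_sup_left (Ideal.mem_sup_right ?_)
        rw [← hgx i]
        exact Ideal.mem_map_of_mem _ (psX_mem hΛk n i)
      · exact le_sup_right
      · rw [hkerΛ]
        exact le_sup_of_le_left le_sup_left
  · -- the kernel
    intro f hf
    have hf0 : g f = 0 := RingHom.mem_ker.1 hf
    set c₀ : Λ := constantCoeff (f : MvPowerSeries (Fin n) Λ) with hc₀
    set a : Fin n → Λ := fun i => coeff (Finsupp.single i 1) (f : MvPowerSeries (Fin n) Λ) with ha
    have hg2 := ps_sub_lin_mem (f : MvPowerSeries (Fin n) Λ)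
    have hg' : g ((f : MvPowerSeries (Fin n) Λ) - C c₀ - ∑ i, C (a i) * X i) ∈
        IsLocalRing.maximalIdeal R.carrier ^ 2 := by
      have h1 := Ideal.mem_map_of_mem g (Ideal.pow_right_mono PS.span_X_le 2 hg2)
      rw [Ideal.map_pow] at h1
      exact Ideal.pow_right_mono hmapm 2 h1
    have hC : ∀ c : Λ, g (C c : MvPowerSeries (Fin n) Λ) = algebraMap Λ R.carrier c := by
      intro c
      have : (C c : MvPowerSeries (Fin n) Λ) = algebraMap Λ (MvPowerSeries (Fin n) Λ) c := by
        rw [MvPowerSeries.algebraMap_apply]; rfl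
      rw [this]
      exact g.commutes c
    have hc₀m : c₀ ∈ IsLocalRing.maximalIdeal Λ := by
      rw [← hkerΛ, RingHom.mem_ker]
      have h1 : R.res (g f) = (psCRing hΛk n).res f := CRing.res_comp_apply g hg f
      rw [hf0, map_zero] at h1
      exact h1.symm
    have hexp : g ((f : MvPowerSeries (Fin n) Λ) - C c₀ - ∑ i, C (a i) * X i) =
        - algebraMap Λ R.carrier c₀ - ∑ i, algebraMap Λ R.carrier (a i) * x i := by
      rw [map_sub, map_sub, map_sum, hf0, hC, zero_sub]
      congr 1
      refine Finset.sum_congr rfl fun i _ => ?_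
      rw [map_mul, hC]
      congr 1
      exact hgx i
    have hs : ∑ i, algebraMap Λ R.carrier (a i) * x i ∈ IsLocalRing.maximalIdeal R.carrier ^ 2 ⊔
        (IsLocalRing.maximalIdeal Λ).map (algebraMap Λ R.carrier) := by
      have e : ∑ i, algebraMap Λ R.carrier (a i) * x i =
          - (- algebraMap Λ R.carrier c₀ - ∑ i, algebraMap Λ R.carrier (a i) * x i) -
            algebraMap Λ R.carrier c₀ := by ring
      rw [e, ← hexp]
      refine Ideal.sub_mem _ (neg_mem (Ideal.mem_sup_left hg')) (Ideal.mem_sup_right ?_)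
      exact Ideal.mem_map_of_mem _ hc₀m
    have ham := coeff_mem_of_minimalA R.carrier n hmin x hx hgen a hs
    exact ps_mem_nn (f : MvPowerSeries (Fin n) Λ) hc₀m ham

end Pres

end Groth.Agent.H61
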