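import Groth.Agent.H61.CRingLib

/-!
# The power series ring as a coefficient ring, and its mapping properties (helper61)
-/

set_option autoImplicit false
set_option linter.unusedSectionVars false
set_option linter.style.haveILetI false
universe u v

namespace Groth.Agent.H61

open ArtFun ArtFun.Art MvPowerSeries

variable {Λ : Type u} {k : Type u} [CommRing Λ] [Field k] [Algebra Λ k]

/-- the augmentation of the power series ring -/
noncomputable def psRes (r : ℕ) : MvPowerSeries (Fin r) Λ →ₐ[Λ] k :=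
  { toRingHom := (algebraMap Λ k).comp (constantCoeff (σ := Fin r) (R := Λ))
    commutes' := fun a => by
      change algebraMap Λ k (constantCoeff (algebraMap Λ (MvPowerSeries (Fin r) Λ) a)) = _
      rw [MvPowerSeries.algebraMap_apply, constantCoeff_C]
      rfl }

theorem psRes_apply (r : ℕ) (f : MvPowerSeries (Fin r) Λ) :
    psRes (k := k) r f = algebraMap Λ k (constantCoeff f) := rfl

variable [IsLocalRing Λ] [IsNoetherianRing Λ] [IsAdicComplete (IsLocalRing.maximalIdeal Λ) Λ]

/-- The power series ring in `r` variables as a coefficient ring. -/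
noncomputable abbrev psCRing (hΛk : Function.Surjective (algebraMap Λ k)) (r : ℕ) : CRing Λ k :=
  { carrier := MvPowerSeries (Fin r) Λ
    res := psRes r
    res_surjective := fun c => by
      obtain ⟨a, ha⟩ := hΛk c
      exact ⟨C a, by rw [psRes_apply, constantCoeff_C, ha]⟩
    isAdicComplete := PS.isAdicComplete }

variable (hΛk : Function.Surjective (algebraMap Λ k)) (r : ℕ)

/-- the variables -/
noncomputable def psX (i : Fin r) : (psCRing hΛk r).carrier := (X i : MvPowerSeries (Fin r) Λ)

theorem psX_mem (i : Fin r) : psX hΛk r i ∈ IsLocalRing.maximalIdeal (psCRing hΛk r).carrier :=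
  PS.X_mem_maximalIdeal i

/-- Existence of maps out of the power series ring with prescribed values on the variables. -/
theorem ps_exists_hom (B : Art Λ k) (b : Fin r → B) (hb : ∀ i, b i ∈ IsLocalRing.maximalIdeal B) :
    ∃ ψ : HomSet (psCRing hΛk r).carrier (psCRing hΛk r).res B, ∀ i, ψ.1 (psX hΛk r i) = b i := by
  obtain ⟨M, hM⟩ := art_maximalIdeal_nilpotent B
  set I := MvPolynomial.idealOfVars (Fin r) Λ with hI
  let ev : MvPolynomial (Fin r) Λ →ₐ[Λ] B := MvPolynomial.aeval b
  have hev : ∀ p ∈ I ^ (M + 2), ev p = 0 := by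
    intro p hp
    have h1 : Ideal.map ev.toRingHom I ≤ IsLocalRing.maximalIdeal B := by
      rw [hI, MvPolynomial.idealOfVars, Ideal.map_span, Ideal.span_le]
      rintro _ ⟨_, ⟨i, rfl⟩, rfl⟩
      change MvPolynomial.aeval b (MvPolynomial.X i) ∈ _
      rw [MvPolynomial.aeval_X]
      exact hb i
    have h2 := Ideal.mem_map_of_mem ev.toRingHom hp
    rw [Ideal.map_pow] at h2
    have h3 := Ideal.pow_right_mono h1 (M + 2) h2
    rw [pow_add, hM, Ideal.bot_mul] at h3
    exact h3
  let q : (MvPolynomial (Fin r) Λ ⧸ I ^ (M + 2)) →ₐ[Λ] B :=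
    Ideal.Quotient.liftₐ (I ^ (M + 2)) ev hev
  let t : MvPowerSeries (Fin r) Λ →ₐ[Λ] (MvPolynomial (Fin r) Λ ⧸ I ^ (M + 2)) :=
    (truncTotalAlgHom (Fin r) Λ (M + 2)).restrictScalars Λ
  have ht : ∀ f, t f = Ideal.Quotient.mk _ (truncTotal (M + 2) f) := fun f => rfl
  have hq : ∀ p, q (Ideal.Quotient.mk _ p) = MvPolynomial.aeval b p := fun p => rfl
  refine ⟨⟨q.comp t, ?_⟩, ?_⟩
  · apply AlgHom.ext
    intro (f : MvPowerSeries (Fin r) Λ)
    change B.res (q (t f)) = psRes r f
    rw [ht, hq, psRes_apply, MvPolynomial.comp_aeval_apply]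
    have h0 : (fun i => B.res (b i)) = 0 := by
      funext i
      exact (B.mem_maximalIdeal_iff (b i)).1 (hb i)
    rw [h0, MvPolynomial.aeval_zero, constantCoeff_truncTotal_eq_ite, if_pos (Nat.succ_pos (M + 1))]
  · intro i
    change q (t (X i)) = b i
    rw [ht]
    have : truncTotal (M + 2) (X i : MvPowerSeries (Fin r) Λ) = MvPolynomial.X i := by
      rw [← MvPolynomial.coe_X, truncTotal_coe_eq_self_iff _ (Nat.succ_ne_zero (M + 1)),
        MvPolynomial.totalDegree_X]
      omega
    rw [this, hq, MvPolynomial.aeval_X]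

/-- Maps out of the power series ring are determined by their values on the variables. -/
theorem ps_hom_ext (B : Art Λ k) (ψ ψ' : HomSet (psCRing hΛk r).carrier (psCRing hΛk r).res B)
    (h : ∀ i, ψ.1 (psX hΛk r i) = ψ'.1 (psX hΛk r i)) : ψ = ψ' := by
  obtain ⟨M, hM⟩ := art_maximalIdeal_nilpotent B
  apply Subtype.ext
  apply AlgHom.ext
  intro (f : MvPowerSeries (Fin r) Λ)
  -- agreement on polynomials
  have hpoly : ∀ p : MvPolynomial (Fin r) Λ,
      ψ.1 ((p : MvPowerSeries (Fin r) Λ)) = ψ'.1 ((p : MvPowerSeries (Fin r) Λ)) := by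
    have h1 : ψ.1.toRingHom.comp (MvPolynomial.coeToMvPowerSeries.ringHom (σ := Fin r) (R := Λ)) =
        ψ'.1.toRingHom.comp (MvPolynomial.coeToMvPowerSeries.ringHom (σ := Fin r) (R := Λ)) := by
      apply MvPolynomial.ringHom_ext
      · intro a
        change ψ.1 ((MvPolynomial.C a : MvPolynomial (Fin r) Λ) : MvPowerSeries (Fin r) Λ) =
          ψ'.1 ((MvPolynomial.C a : MvPolynomial (Fin r) Λ) : MvPowerSeries (Fin r) Λ)
        rw [MvPolynomial.coe_C]
        have hC : (C a : MvPowerSeries (Fin r) Λ) = algebraMap Λ (MvPowerSeries (Fin r) Λ) a := by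
          rw [MvPowerSeries.algebraMap_apply]; rfl
        rw [hC]
        exact (ψ.1.commutes a).trans (ψ'.1.commutes a).symm
      · intro i
        change ψ.1 ((MvPolynomial.X i : MvPolynomial (Fin r) Λ) : MvPowerSeries (Fin r) Λ) =
          ψ'.1 ((MvPolynomial.X i : MvPolynomial (Fin r) Λ) : MvPowerSeries (Fin r) Λ)
        rw [MvPolynomial.coe_X]
        exact h i
    intro p
    exact congrArg (fun g => g p) h1
  -- the remainder is killed
  have hrem : ∀ (χ : HomSet (psCRing hΛk r).carrier (psCRing hΛk r).res B),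
      χ.1 (f - ((truncTotal M f : MvPolynomial (Fin r) Λ) : MvPowerSeries (Fin r) Λ)) = 0 := by
    intro χ
    have h1 : (f - ((truncTotal M f : MvPolynomial (Fin r) Λ) : MvPowerSeries (Fin r) Λ)) ∈
        IsLocalRing.maximalIdeal (psCRing hΛk r).carrier ^ M :=
      Ideal.pow_right_mono PS.span_X_le M (PS.sub_truncTotal_mem M f)
    have h2 := homSet_map_pow (psCRing hΛk r) χ M _ h1
    rw [hM] at h2
    exact h2
  have h1 := hrem ψ
  have h2 := hrem ψ'
  rw [map_sub, sub_eq_zero] at h1 h2
  rw [h1, h2]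
  exact hpoly _

end Groth.Agent.H61
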