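import Groth.Agent.H61.SchlessSmall
import Groth.Agent.H61.ArtFunFormal

/-!
# Hulls, `HSq` and pro-representability; left exactness of `h_R` (helper61)
-/

set_option autoImplicit false
set_option linter.unusedSectionVars false
set_option linter.style.haveILetI false
universe u v

namespace Groth.Agent.H61

open CategoryTheory ArtFun ArtFun.Art Groth.Agent.H63

variable {Λ : Type u} {k : Type u} [CommRing Λ] [Field k] [Algebra Λ k]
variable {F : Art Λ k ⥤ Type v} {R : Type u} [CommRing R] [Algebra Λ R] {resR : R →ₐ[Λ] k}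

/-- A versal family which is bijective on tangent spaces is universal when `HSq` holds. -/
theorem isUniversal_of_hsq [IsNoetherianRing Λ] [Module.Finite Λ k] (ξ : Family R resR F)
    (h0 : H0 F) (h4 : HSq F) (hv : IsVersal ξ)
    (ht : Function.Bijective (ξ.app (dual Λ k))) : IsUniversal ξ := by
  intro A
  have hbase : Function.Bijective (ξ.app (base Λ k)) := by
    have h1 := _root_.H61.homSet_base_subsingleton (Λ := Λ) (k := k) (R := R) (resR := resR)
    constructor
    · intro a b _
      exact @Subsingleton.elim _ h1 a b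
    · intro y
      exact ⟨_root_.H61.homSetBasePt, @Subsingleton.elim _ h0.2 _ _⟩
  refine surjective_induction
    (fun (A B : Art Λ k) (_ : B ⟶ A) => Function.Bijective (ξ.app A) → Function.Bijective (ξ.app B))
    ?_ ?_ ?_ (toBase A) A.res_surjective hbase
  · intro A B e he hA
    haveI := he
    constructor
    · intro ψ₁ ψ₂ h
      have h1 : HomSet.map e ψ₁ = HomSet.map e ψ₂ := by
        apply hA.1
        rw [ξ.natural, ξ.natural, h]
      have h2 := congrArg (HomSet.map (inv e)) h1
      rwa [← homSet_map_comp, ← homSet_map_comp, IsIso.hom_inv_id, homSet_map_id,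
        homSet_map_id] at h2
    · intro y
      obtain ⟨φ, hφ⟩ := hA.2 (F.map e y)
      refine ⟨HomSet.map (inv e) φ, ?_⟩
      rw [ξ.natural, hφ, ← Functor.map_comp_apply, IsIso.hom_inv_id, Functor.map_id_apply]
  · intro A B p hp hA
    constructor
    · intro ψ₁ ψ₂ h
      have h1 : HomSet.map p ψ₁ = HomSet.map p ψ₂ := by
        apply hA.1
        rw [ξ.natural, ξ.natural, h]
      exact tangent_inj h4 ξ ht.1 p hp ψ₁ ψ₂ h1 h
    · intro y
      obtain ⟨φ, hφ⟩ := hA.2 (F.map p y)
      obtain ⟨ψ, -, hψ⟩ := hv p hp.1 φ y hφ.symm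
      exact ⟨ψ, hψ⟩
  · intro A B C p q hp hq hA
    exact hp (hq hA)

/-- A functor with a universal family is left exact. -/
theorem isLeftExact_of_isUniversal (ξ : Family R resR F) (hu : IsUniversal ξ) : IsLeftExact F := by
  intro B A A' A'' p' p'' f' f'' h
  constructor
  · intro z₁ z₂ hz
    obtain ⟨χ₁, rfl⟩ := (hu B).2 z₁
    obtain ⟨χ₂, rfl⟩ := (hu B).2 z₂
    have hz1 : F.map p' (ξ.app B χ₁) = F.map p' (ξ.app B χ₂) := congrArg (fun t => t.1.1) hz
    have hz2 : F.map p'' (ξ.app B χ₁) = F.map p'' (ξ.app B χ₂) := congrArg (fun t => t.1.2) hz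
    rw [← ξ.natural, ← ξ.natural] at hz1 hz2
    have e1 := (hu A').1 hz1
    have e2 := (hu A'').1 hz2
    have : χ₁ = χ₂ := by
      apply homSet_ext
      intro r
      apply h.inj
      · exact congrArg (fun t => t.1 r) e1
      · exact congrArg (fun t => t.1 r) e2
    rw [this]
  · rintro ⟨⟨x', x''⟩, hx⟩
    obtain ⟨φ', rfl⟩ := (hu A').2 x'
    obtain ⟨φ'', rfl⟩ := (hu A'').2 x''
    have hx' : F.map f' (ξ.app A' φ') = F.map f'' (ξ.app A'' φ'') := hx
    rw [← ξ.natural, ← ξ.natural] at hx'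
    obtain ⟨χ, hχ1, hχ2⟩ := _root_.H61.fibreProd_lift h φ' φ'' ((hu A).1 hx')
    refine ⟨ξ.app B χ, Subtype.ext (Prod.ext ?_ ?_)⟩
    · change F.map p' (ξ.app B χ) = _
      rw [← ξ.natural, hχ1]
    · change F.map p'' (ξ.app B χ) = _
      rw [← ξ.natural, hχ2]

theorem dfst_mul (x y : dual Λ k) : dfst (x * y) = dfst x * dfst y := rfl

theorem dual_mul_eq {x₁ x₂ d : dual Λ k} (hx : dfst x₁ = dfst x₂) (hd : dfst d = 0) :
    x₁ * d = x₂ * d := by
  apply dual_ext
  · rw [dfst_mul, dfst_mul, hx]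
  · rw [dsnd_mul, dsnd_mul, hx, hd, zero_mul, zero_mul]

theorem dfst_homSet (φ : HomSet R resR (dual Λ k)) (r : R) : dfst (φ.1 r) = resR r :=
  AlgHom.congr_fun φ.2 r

theorem dsnd_scale (c : k) (d : dual Λ k) : dsnd (scale c d) = c * dsnd d := rfl

theorem dsnd_plus (z : dual2 Λ k) : dsnd (plus z) = dsnd (pr₁ z) + dsnd (pr₂ z) := rfl

/-- maps to the dual numbers agreeing on generators of the maximal ideal are equal -/
theorem homSet_dual_ext (hΛk : Function.Surjective (algebraMap Λ k)) {n : ℕ} (g : Fin n → R)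
    (hg0 : ∀ i, resR (g i) = 0)
    (hg : ∀ r : R, resR r = 0 → r ∈ Ideal.span (Set.range g))
    (φ₁ φ₂ : HomSet R resR (dual Λ k)) (h : ∀ i, dsnd (φ₁.1 (g i)) = dsnd (φ₂.1 (g i))) :
    φ₁ = φ₂ := by
  have hgi : ∀ i, φ₁.1 (g i) = φ₂.1 (g i) := fun i =>
    dual_ext (by rw [dfst_homSet, dfst_homSet]) (h i)
  have hm : ∀ m : R, resR m = 0 → φ₁.1 m = φ₂.1 m := by
    intro m hm0
    obtain ⟨c, rfl⟩ := (Submodule.mem_span_range_iff_exists_fun _).1 (hg m hm0)
    rw [map_sum, map_sum]
    refine Finset.sum_congr rfl fun i _ => ?_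
    rw [smul_eq_mul, map_mul, map_mul, hgi i]
    apply dual_mul_eq
    · rw [dfst_homSet, dfst_homSet]
    · rw [dfst_homSet, hg0 i]
  apply homSet_ext
  intro r
  obtain ⟨a, ha⟩ := hΛk (resR r)
  have h1 : resR (r - algebraMap Λ R a) = 0 := by
    rw [map_sub, AlgHom.commutes, ha, sub_self]
  have h2 := hm _ h1
  rw [map_sub, map_sub, AlgHom.commutes, AlgHom.commutes] at h2
  exact sub_left_injective h2

/-- A functor with a universal family over a Noetherian coefficient ring has a finite-dimensional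
tangent space. -/
theorem hfin_of_isUniversal (hΛk : Function.Surjective (algebraMap Λ k)) [T : TangentStr F]
    (S : CRing Λ k) (ξ : Family S.carrier S.res F) (hu : IsUniversal ξ) : Hfin F := by
  obtain ⟨n, g, hg⟩ := Submodule.fg_iff_exists_fin_generating_family.1
    ((isNoetherianRing_iff_ideal_fg S.carrier).1 inferInstance (IsLocalRing.maximalIdeal S.carrier))
  have hg0 : ∀ i, S.res (g i) = 0 := fun i =>
    (S.mem_maximalIdeal_iff _).1 (hg ▸ Submodule.subset_span ⟨i, rfl⟩)
  have hgm : ∀ r, S.res r = 0 → r ∈ Ideal.span (Set.range g) := fun r hr => by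
    change r ∈ Submodule.span S.carrier (Set.range g)
    rw [hg]; exact (S.mem_maximalIdeal_iff r).2 hr
  have hsurj : ∀ x : F.obj (dual Λ k), ∃ φ, ξ.app (dual Λ k) φ = x := (hu (dual Λ k)).2
  choose inv hinv using hsurj
  have hinv' : ∀ φ, inv (ξ.app (dual Λ k) φ) = φ := fun φ => (hu (dual Λ k)).1 (hinv _)
  let Φ : TangentSpace F → (Fin n → k) := fun x i => dsnd ((inv (TangentSpace.val x)).1 (g i))
  have hadd : ∀ x y : TangentSpace F, Φ (x + y) = Φ x + Φ y := by
    intro x y
    obtain ⟨χ, hχ1, hχ2⟩ := _root_.H61.fibreProd_lift isFibreProd_dual2 (inv (TangentSpace.val x))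
      (inv (TangentSpace.val y)) (@Subsingleton.elim _ _root_.H61.homSet_base_subsingleton _ _)
    have hx : F.map pr₁ (ξ.app _ χ) = TangentSpace.val x := by
      rw [← ξ.natural, hχ1, hinv]
    have hy : F.map pr₂ (ξ.app _ χ) = TangentSpace.val y := by
      rw [← ξ.natural, hχ2, hinv]
    have hxy : TangentSpace.val (x + y) = ξ.app _ (HomSet.map plus χ) := by
      rw [ξ.natural, ← T.add_eq, hx, hy]
      rfl
    funext i
    change dsnd ((inv (TangentSpace.val (x + y))).1 (g i)) =
      dsnd ((inv (TangentSpace.val x)).1 (g i)) + dsnd ((inv (TangentSpace.val y)).1 (g i))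
    rw [hxy, hinv', ← hχ1, ← hχ2]
    exact dsnd_plus _
  have hsmul : ∀ (c : k) (x : TangentSpace F), Φ (c • x) = c • Φ x := by
    intro c x
    have hcx : TangentSpace.val (c • x) = ξ.app _ (HomSet.map (scale c) (inv (TangentSpace.val x))) := by
      rw [ξ.natural, hinv]
      exact T.smul_eq c x
    funext i
    change dsnd ((inv (TangentSpace.val (c • x))).1 (g i)) = c • dsnd ((inv (TangentSpace.val x)).1 (g i))
    rw [hcx, hinv']
    exact dsnd_scale _ _
  have hinj : Function.Injective Φ := by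
    intro x y hxy
    have h1 : inv (TangentSpace.val x) = inv (TangentSpace.val y) :=
      homSet_dual_ext hΛk g hg0 hgm _ _ (fun i => congrFun hxy i)
    have h2 := congrArg (ξ.app (dual Λ k)) h1
    rw [hinv, hinv] at h2
    exact h2
  let L : TangentSpace F →ₗ[k] (Fin n → k) :=
    { toFun := Φ, map_add' := hadd, map_smul' := hsmul }
  exact Module.Finite.of_injective L hinj

end Groth.Agent.H61
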