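import Groth.Agent.H61.SchlessSmall

/-!
# Tangent spaces: the objects `k ⊕ k^r` and linearity (helper61)
-/

set_option autoImplicit false
set_option linter.unusedSectionVars false
set_option linter.style.haveILetI false
universe u v

namespace Groth.Agent.H61

open CategoryTheory ArtFun ArtFun.Art

variable {Λ : Type u} {k : Type u} [CommRing Λ] [Field k] [Algebra Λ k]

variable (Λ k) in
/-- `k ⊕ k^r` -/
def EE (r : ℕ) : Art Λ k :=
  { carrier := TrivSqZeroExt k (Fin r → k)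
    isLocalRing := isLocalRing_tsze k (Fin r → k)
    isArtinianRing := isArtinianRing_tsze k (Fin r → k)
    res := TrivSqZeroExt.fstHom Λ k (Fin r → k)
    res_surjective := fun a => ⟨TrivSqZeroExt.inl a, rfl⟩ }

variable {r : ℕ}

/-- the map `k ⊕ k^r → k[ε]` induced by a linear functional -/
def lin (a : (Fin r → k) →ₗ[k] k) : EE Λ k r ⟶ dual Λ k :=
  ⟨tszeMap a, AlgHom.ext fun _ => rfl⟩

/-- the map `k ⊕ k^r → k[ε₁, ε₂]` induced by two linear functionals -/
def lin2 (a a' : (Fin r → k) →ₗ[k] k) : EE Λ k r ⟶ dual2 Λ k :=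
  ⟨tszeMap (a.prod a'), AlgHom.ext fun _ => rfl⟩

theorem lin2_pr₁ (a a' : (Fin r → k) →ₗ[k] k) : lin2 (Λ := Λ) a a' ≫ pr₁ = lin a :=
  hom_ext (AlgHom.ext fun _ => rfl)

theorem lin2_pr₂ (a a' : (Fin r → k) →ₗ[k] k) : lin2 (Λ := Λ) a a' ≫ pr₂ = lin a' :=
  hom_ext (AlgHom.ext fun _ => rfl)

theorem lin2_plus (a a' : (Fin r → k) →ₗ[k] k) : lin2 (Λ := Λ) a a' ≫ plus = lin (a + a') :=
  hom_ext (AlgHom.ext fun _ => rfl)

theorem lin_smul (c : k) (a : (Fin r → k) →ₗ[k] k) : lin (Λ := Λ) (c • a) = lin a ≫ scale c :=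
  hom_ext (AlgHom.ext fun _ => rfl)

theorem lin_zero : lin (Λ := Λ) (0 : (Fin r → k) →ₗ[k] k) = toBase (EE Λ k r) ≫ baseToDual := by
  apply hom_ext
  apply AlgHom.ext
  intro x
  apply TrivSqZeroExt.ext
  · rfl
  · change (0 : k) = TrivSqZeroExt.snd (algebraMap k (DualNumber k) (TrivSqZeroExt.fst x))
    rw [TrivSqZeroExt.algebraMap_eq_inl, TrivSqZeroExt.snd_inl]

theorem scale_zero : scale (Λ := Λ) (k := k) 0 = toBase (dual Λ k) ≫ baseToDual := by
  apply hom_ext
  apply AlgHom.ext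
  intro x
  apply TrivSqZeroExt.ext
  · rfl
  · change (0 : k) • TrivSqZeroExt.snd x =
      TrivSqZeroExt.snd (algebraMap k (DualNumber k) (TrivSqZeroExt.fst x))
    rw [TrivSqZeroExt.algebraMap_eq_inl, TrivSqZeroExt.snd_inl, zero_smul]

section Linear

variable {F : Art Λ k ⥤ Type v} [T : TangentStr F]

theorem map_baseToDual_eq_zero (h0 : H0 F) (y : F.obj (base Λ k)) :
    TangentSpace.mk (F.map baseToDual y) = (0 : TangentSpace F) := by
  have h1 : (0 : k) • (0 : TangentSpace F) =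
      TangentSpace.mk (F.map (scale 0) (TangentSpace.val (0 : TangentSpace F))) :=
    T.smul_eq 0 _
  rw [smul_zero, scale_zero, Functor.map_comp_apply] at h1
  have h2 : y = F.map (toBase (dual Λ k)) (TangentSpace.val (0 : TangentSpace F)) :=
    @Subsingleton.elim _ h0.2 _ _
  rw [h2]
  exact h1.symm

/-- `a ↦ F(lin a) ζ` is linear -/
def tanLin (ζ : F.obj (EE Λ k r)) : ((Fin r → k) →ₗ[k] k) →ₗ[k] TangentSpace F where
  toFun a := TangentSpace.mk (F.map (lin a) ζ)
  map_add' a a' := by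
    have h := T.add_eq (F.map (lin2 a a') ζ)
    rw [← Functor.map_comp_apply, ← Functor.map_comp_apply, ← Functor.map_comp_apply, lin2_pr₁,
      lin2_pr₂, lin2_plus] at h
    exact h.symm
  map_smul' c a := by
    change TangentSpace.mk (F.map (lin (c • a)) ζ) = _
    rw [lin_smul, Functor.map_comp_apply]
    exact (T.smul_eq c _).symm

theorem tanLin_apply (ζ : F.obj (EE Λ k r)) (a : (Fin r → k) →ₗ[k] k) :
    tanLin ζ a = TangentSpace.mk (F.map (lin a) ζ) := rfl

/-- the functional with given coefficients -/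
def fn (c : Fin r → k) : (Fin r → k) →ₗ[k] k := ∑ i, c i • LinearMap.proj i

theorem fn_single (c : Fin r → k) (i : Fin r) : fn c (Pi.single i 1) = c i := by
  classical
  unfold fn
  rw [LinearMap.sum_apply]
  rw [Finset.sum_eq_single i]
  · simp
  · intro j _ hj
    simp [Pi.single_eq_of_ne hj]
  · intro h
    exact absurd (Finset.mem_univ i) h

theorem tan_formula (ζ : F.obj (EE Λ k r)) (c : Fin r → k) :
    TangentSpace.mk (F.map (lin (fn c)) ζ) =
      ∑ i, c i • TangentSpace.mk (F.map (lin (LinearMap.proj i)) ζ) := by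
  rw [← tanLin_apply, fn, map_sum]
  refine Finset.sum_congr rfl fun i _ => ?_
  rw [map_smul, tanLin_apply]

end Linear

section Exists

variable {F : Art Λ k ⥤ Type v}

variable (Λ k) in
/-- `k → k ⊕ k^r` -/
def baseToEE (r : ℕ) : base Λ k ⟶ EE Λ k r :=
  ⟨(Algebra.ofId k (TrivSqZeroExt k (Fin r → k))).restrictScalars Λ, AlgHom.ext fun _ => rfl⟩

/-- drop the last coordinate -/
def dropL (r : ℕ) : (Fin (r + 1) → k) →ₗ[k] (Fin r → k) := LinearMap.funLeft k k Fin.castSucc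

variable (Λ k) in
/-- `k ⊕ k^(r+1) → k ⊕ k^r` -/
def πE (r : ℕ) : EE Λ k (r + 1) ⟶ EE Λ k r := ⟨tszeMap (dropL r), AlgHom.ext fun _ => rfl⟩

variable (Λ k) in
/-- the last coordinate `k ⊕ k^(r+1) → k[ε]` -/
def lastE (r : ℕ) : EE Λ k (r + 1) ⟶ dual Λ k := lin (LinearMap.proj (Fin.last r))

theorem isFibreProd_EE (r : ℕ) :
    IsFibreProd (πE Λ k r) (lastE Λ k r) (toBase (EE Λ k r)) (toBase (dual Λ k)) where
  w := by rw [eq_toBase (πE Λ k r ≫ toBase _), eq_toBase (lastE Λ k r ≫ toBase _)]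
  inj b₁ b₂ h₁ h₂ := by
    have e₁ : b₁.fst = b₂.fst := by have e := congrArg TrivSqZeroExt.fst h₁; exact e
    have e₂ : ∀ j : Fin r, b₁.snd (Fin.castSucc j) = b₂.snd (Fin.castSucc j) := fun j => by
      have e := congrFun (congrArg TrivSqZeroExt.snd h₁) j; exact e
    have e₃ : b₁.snd (Fin.last r) = b₂.snd (Fin.last r) := by
      have e := congrArg TrivSqZeroExt.snd h₂; exact e
    exact TrivSqZeroExt.ext e₁ (funext fun i => Fin.lastCases e₃ e₂ i)
  surj a' a'' h := by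
    have h' : a'.fst = a''.fst := h
    refine ⟨(a'.fst, Fin.snoc (α := fun _ => k) a'.snd a''.snd), TrivSqZeroExt.ext rfl ?_,
      TrivSqZeroExt.ext h' ?_⟩
    · funext j
      change Fin.snoc (α := fun _ => k) a'.snd a''.snd (Fin.castSucc j) = a'.snd j
      simp
    · change Fin.snoc (α := fun _ => k) a'.snd a''.snd (Fin.last r) = a''.snd
      simp

theorem lin_proj_castSucc (j : Fin r) :
    lin (Λ := Λ) (LinearMap.proj (Fin.castSucc j)) = πE Λ k r ≫ lin (LinearMap.proj j) :=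
  hom_ext (AlgHom.ext fun _ => rfl)

theorem exists_tangent_elt (h0 : H0 F) (h2 : Heps F) :
    ∀ (r : ℕ) (e : Fin r → F.obj (dual Λ k)),
      ∃ ζ : F.obj (EE Λ k r), ∀ i, F.map (lin (LinearMap.proj i)) ζ = e i
  | 0, e => by
    obtain ⟨x₀⟩ := h0.1
    exact ⟨F.map (baseToEE Λ k 0) x₀, fun i => i.elim0⟩
  | r + 1, e => by
    obtain ⟨ζ', hζ'⟩ := exists_tangent_elt h0 h2 r (fun j => e (Fin.castSucc j))
    obtain ⟨ζ, hζ⟩ := (h2 (πE Λ k r) (lastE Λ k r) (isFibreProd_EE r)).2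
      ⟨(ζ', e (Fin.last r)), @Subsingleton.elim _ h0.2 _ _⟩
    have h1 : F.map (πE Λ k r) ζ = ζ' := congrArg (fun z => z.1.1) hζ
    have h2' : F.map (lastE Λ k r) ζ = e (Fin.last r) := congrArg (fun z => z.1.2) hζ
    refine ⟨ζ, fun i => ?_⟩
    refine Fin.lastCases ?_ (fun j => ?_) i
    · exact h2'
    · rw [lin_proj_castSucc, Functor.map_comp_apply, h1, hζ']

end Exists

end Groth.Agent.H61
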