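import Groth.Agent.H61.SchlessVersal
import Groth.Agent.H61.SchlessTangent
import Groth.Agent.H61.SchlessProrep
import Groth.Agent.H61.PowerSeriesCRing

/-!
# Schlessinger's theorem: existence of hulls and pro-representability (helper61)

Setting: `Λ` complete Noetherian local with `Λ → k` surjective.
-/

set_option autoImplicit false
set_option linter.unusedSectionVars false
set_option linter.style.haveILetI false
universe u v

namespace Groth.Agent.H61

open CategoryTheory ArtFun ArtFun.Art Groth.Agent.H63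

variable {Λ : Type u} {k : Type u} [CommRing Λ] [Field k] [Algebra Λ k]

section EELemmas

variable {r : ℕ}

/-- the `i`-th basis vector of `k ⊕ k^r` -/
def eps (i : Fin r) : EE Λ k r := (TrivSqZeroExt.inr (Pi.single i 1) : TrivSqZeroExt k (Fin r → k))

theorem eps_mem (i : Fin r) : eps (Λ := Λ) (k := k) i ∈ IsLocalRing.maximalIdeal (EE Λ k r) := by
  rw [mem_maximalIdeal_iff]
  rfl

theorem tsze_decomp (x : TrivSqZeroExt k (Fin r → k)) (a : Λ) (c : Fin r → Λ)
    (ha : algebraMap Λ k a = x.fst) (hc : ∀ i, algebraMap Λ k (c i) = x.snd i) :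
    algebraMap Λ (TrivSqZeroExt k (Fin r → k)) a +
      ∑ i, algebraMap Λ (TrivSqZeroExt k (Fin r → k)) (c i) *
        (TrivSqZeroExt.inr (Pi.single i 1) : TrivSqZeroExt k (Fin r → k)) = x := by
  classical
  simp_rw [TrivSqZeroExt.algebraMap_eq_inl', TrivSqZeroExt.inl_mul_inr]
  apply TrivSqZeroExt.ext
  · rw [TrivSqZeroExt.fst_add, TrivSqZeroExt.fst_inl, TrivSqZeroExt.fst_sum]
    simp only [TrivSqZeroExt.fst_inr, Finset.sum_const_zero, add_zero]
    exact ha
  · rw [TrivSqZeroExt.snd_add, TrivSqZeroExt.snd_inl, zero_add, TrivSqZeroExt.snd_sum]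
    simp only [TrivSqZeroExt.snd_inr]
    funext j
    rw [Finset.sum_apply]
    simp only [Pi.smul_apply, Pi.single_apply, smul_eq_mul, mul_ite, mul_one, mul_zero,
      Finset.sum_ite_eq, Finset.mem_univ, if_true]
    exact hc j

theorem EE_maximalIdeal_sq : IsLocalRing.maximalIdeal (EE Λ k r) ^ 2 = ⊥ := by
  rw [eq_bot_iff, sq, Ideal.mul_le]
  intro a ha b hb
  rw [mem_maximalIdeal_iff] at ha hb
  have ha' : TrivSqZeroExt.fst (show TrivSqZeroExt k (Fin r → k) from a) = 0 := ha
  have hb' : TrivSqZeroExt.fst (show TrivSqZeroExt k (Fin r → k) from b) = 0 := hb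
  rw [Ideal.mem_bot]
  change (show TrivSqZeroExt k (Fin r → k) from a) * (show TrivSqZeroExt k (Fin r → k) from b) = 0
  apply TrivSqZeroExt.ext
  · rw [TrivSqZeroExt.fst_mul, ha', zero_mul, TrivSqZeroExt.fst_zero]
  · rw [TrivSqZeroExt.snd_mul, ha', hb', zero_smul, MulOpposite.op_zero, zero_smul, add_zero,
      TrivSqZeroExt.snd_zero]

theorem lin_eps (a : (Fin r → k) →ₗ[k] k) (i : Fin r) :
    dsnd (lin (Λ := Λ) a (eps i)) = a (Pi.single i 1) := rfl

theorem dfst_lin_eps (a : (Fin r → k) →ₗ[k] k) (i : Fin r) :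
    dfst (lin (Λ := Λ) a (eps i)) = 0 := rfl

end EELemmas

section Main

variable [IsLocalRing Λ] [IsNoetherianRing Λ] [IsAdicComplete (IsLocalRing.maximalIdeal Λ) Λ]
variable (hΛk : Function.Surjective (algebraMap Λ k))

include hΛk

theorem hasLift_ps (r : ℕ) : HasLift (psCRing hΛk r) := by
  intro B A μ hμ φ
  choose b hb using fun i : Fin r => hμ (φ.1 (psX hΛk r i))
  have hbm : ∀ i, b i ∈ IsLocalRing.maximalIdeal B := by
    intro i
    apply mem_maximalIdeal_of_map μ
    rw [hb i]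
    exact homSet_map_maximalIdeal (psCRing hΛk r) φ _ (psX_mem hΛk r i)
  obtain ⟨ψ, hψ⟩ := ps_exists_hom hΛk r B b hbm
  refine ⟨ψ, ?_⟩
  apply ps_hom_ext hΛk r
  intro i
  rw [homSet_map_apply, hψ i, hb i]

/-- the map `P → k ⊕ k^r`, `X i ↦ ε_i`, is surjective -/
theorem surjective_of_eps {r : ℕ}
    (ρE : HomSet (psCRing hΛk r).carrier (psCRing hΛk r).res (EE Λ k r))
    (hρE : ∀ i, ρE.1 (psX hΛk r i) = eps i) : Function.Surjective ρE.1 := by
  intro x
  obtain ⟨a, ha⟩ := hΛk (TrivSqZeroExt.fst (show TrivSqZeroExt k (Fin r → k) from x))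
  choose c hc using fun i : Fin r =>
    hΛk (TrivSqZeroExt.snd (show TrivSqZeroExt k (Fin r → k) from x) i)
  refine ⟨algebraMap Λ _ a + ∑ i, algebraMap Λ _ (c i) * psX hΛk r i, ?_⟩
  rw [map_add, map_sum, AlgHom.commutes]
  simp_rw [map_mul, AlgHom.commutes, hρE]
  exact tsze_decomp (show TrivSqZeroExt k (Fin r → k) from x) a c ha hc

theorem kills_of_EE {F : Art Λ k ⥤ Type v} {r : ℕ} (e : Lev (psCRing hΛk r) F)
    (he : e.R = EE Λ k r) : e.Kills 1 := by
  intro x hx
  rw [RingHom.mem_ker]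
  have h1 := homSet_map_pow (psCRing hΛk r) e.ρ 2 x hx
  obtain ⟨R, ρ, s, ξ⟩ := e
  change R = EE Λ k r at he
  subst he
  rw [EE_maximalIdeal_sq] at h1
  exact h1


variable {F : Art Λ k ⥤ Type v} [TS : TangentStr F]

/-- **Schlessinger**: `H0`, `H̄`, `H_ε`, `H_f` give a hull. -/
theorem exists_hull (h0 : H0 F) (h1 : Hbar F) (h2 : Heps F) (h3 : Hfin F) :
    ∃ (R : CRing Λ k) (ξ : Family R.carrier R.res F),
      IsVersal ξ ∧ Function.Bijective (ξ.app (dual Λ k)) := by
  classical
  haveI : Module.Finite k (TangentSpace F) := h3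
  haveI : Module.Finite Λ k := Module.Finite.of_surjective (Algebra.linearMap Λ k) hΛk
  obtain ⟨r, ⟨bas⟩⟩ : ∃ r : ℕ, Nonempty (Module.Basis (Fin r) k (TangentSpace F)) :=
    ⟨_, ⟨Module.finBasis k (TangentSpace F)⟩⟩
  set P := psCRing hΛk r with hP
  obtain ⟨ζ, hζ⟩ := exists_tangent_elt h0 h2 r (fun i => TangentSpace.val (bas i))
  obtain ⟨ρE, hρE⟩ := ps_exists_hom hΛk r (EE Λ k r) (fun i => eps i) (fun i => eps_mem i)
  have hρEs : Function.Surjective ρE.1 := surjective_of_eps hΛk ρE hρE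
  let eLev : Lev P F := ⟨EE Λ k r, ρE, hρEs, ζ⟩
  have he : eLev.Kills 1 := kills_of_EE hΛk eLev rfl
  obtain ⟨x₀⟩ := h0.1
  let T : Tower P F :=
    { s := Lev.seqS eLev x₀
      kills := Lev.seqS_kills eLev he x₀
      ovr := Lev.seqS_over h0 eLev he x₀
      adic := Lev.seqS_adic eLev he x₀ }
  have hmin : ∀ M, 1 ≤ M → (T.s M).IsMin M := by
    intro M hM
    obtain ⟨j, rfl⟩ : ∃ j, M = j + 1 := ⟨M - 1, by omega⟩
    exact Lev.seqT_isMin eLev he j
  have hlift : HasLift P := hasLift_ps hΛk r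
  -- the level-one comparison
  obtain ⟨g, hg, hgξ⟩ := Lev.seqS_over_e eLev he x₀ h0 (le_refl 1)
  -- coordinates of a tangent vector of the hull ring
  let cc : HomSet T.hull.carrier T.hull.res (dual Λ k) → Fin r → k :=
    fun φ i => dsnd ((T.pull φ).1 (psX hΛk r i))
  have claimA : ∀ φ, T.pull φ = HomSet.map (lin (fn (cc φ))) ρE := by
    intro φ
    apply ps_hom_ext hΛk r
    intro i
    rw [homSet_map_apply, hρE i]
    apply dual_ext
    · rw [dfst_lin_eps, dfst_eq_res]
      have h5 : (dual Λ k).res ((T.pull φ).1 (psX hΛk r i)) = P.res (psX hΛk r i) :=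
        AlgHom.congr_fun (T.pull φ).2 _
      rw [h5]
      exact (P.mem_maximalIdeal_iff _).1 (psX_mem hΛk r i)
    · rw [lin_eps, fn_single]
  have claimB : ∀ φ, TangentSpace.mk (T.family.app (dual Λ k) φ) = ∑ i, cc φ i • bas i := by
    intro φ
    have hf : HomSet.map (g ≫ lin (fn (cc φ))) (T.s 1).ρ = T.pull φ := by
      rw [homSet_map_comp, hg, claimA φ]
    rw [T.family_app φ 1 (g ≫ lin (fn (cc φ))) hf, Functor.map_comp_apply, hgξ]
    change TangentSpace.mk (F.map (lin (fn (cc φ))) ζ) = _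
    rw [tan_formula]
    refine Finset.sum_congr rfl fun i _ => ?_
    rw [hζ i]
    rfl
  have hbij : Function.Bijective (T.family.app (dual Λ k)) := by
    constructor
    · intro φ φ' h
      have h5 : ∑ i, cc φ i • bas i = ∑ i, cc φ' i • bas i := by
        rw [← claimB, ← claimB, h]
      have h6 : cc φ = cc φ' := by
        have := congrArg bas.equivFun h5
        rwa [Module.Basis.equivFun_apply, Module.Basis.equivFun_apply, bas.repr_sum_self,
          bas.repr_sum_self] at this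
      apply T.pull_injective
      rw [claimA φ, claimA φ', h6]
    · intro y
      set c : Fin r → k := bas.equivFun (TangentSpace.mk y) with hc
      set χ : HomSet P.carrier P.res (dual Λ k) := HomSet.map (lin (fn c)) ρE with hχ
      have hJ : T.J ≤ RingHom.ker χ.1 := by
        refine (T.J_le_I 1).trans ?_
        intro x hx
        have hx' : (T.s 1).ρ.1 x = 0 := RingHom.mem_ker.1 hx
        have e0 : ρE.1 x = g ((T.s 1).ρ.1 x) := (congrArg (fun t => t.1 x) hg).symm
        rw [RingHom.mem_ker]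
        change (lin (fn c)) (ρE.1 x) = 0
        rw [e0, hx']
        have e1 : g 0 = 0 := map_zero g.toAlgHom
        rw [e1]
        exact map_zero (lin (fn c)).toAlgHom
      obtain ⟨φ, hφ⟩ := T.exists_descend χ hJ
      refine ⟨φ, ?_⟩
      have h5 : cc φ = c := by
        funext i
        change dsnd ((T.pull φ).1 (psX hΛk r i)) = c i
        rw [hφ, hχ, homSet_map_apply, hρE i, lin_eps, fn_single]
      have h6 := claimB φ
      rw [h5, hc, bas.sum_equivFun] at h6
      exact h6
  exact ⟨T.hull, T.family, T.isVersal hmin hlift h1 h2 hbij.2, hbij⟩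

/-- **Schlessinger**: with `H_4` in addition, the functor is pro-representable. -/
theorem isProrepresentable_of_conditions (h0 : H0 F) (h1 : Hbar F) (h2 : Heps F) (h3 : Hfin F)
    (h4 : HSq F) : IsProrepresentable F := by
  haveI : Module.Finite Λ k := Module.Finite.of_surjective (Algebra.linearMap Λ k) hΛk
  obtain ⟨R, ξ, hv, ht⟩ := exists_hull hΛk h0 h1 h2 h3
  exact ⟨⟨R, ξ, isUniversal_of_hsq ξ h0 h4 hv ht⟩⟩

omit [IsLocalRing Λ] [IsNoetherianRing Λ] [IsAdicComplete (IsLocalRing.maximalIdeal Λ) Λ] in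
/-- the converse -/
theorem conditions_of_isProrepresentable (h : IsProrepresentable F) :
    IsLeftExact F ∧ Hfin F := by
  obtain ⟨⟨R, ξ, hu⟩⟩ := h
  exact ⟨isLeftExact_of_isUniversal ξ hu, hfin_of_isUniversal hΛk R ξ hu⟩

end Main

end Groth.Agent.H61
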