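import Groth.Agent.H61.T1LiftLib
import Groth.Agent.H61.ObsDimMain
import Groth.Agent.H61.SchlessMain
import Groth.Agent.H61.MinPresC
import Mathlib.Algebra.MvPolynomial.Funext
import Mathlib.Algebra.CharZero.Infinite

/-!
# The curvilinear criterion for smoothness in characteristic zero (helper61)

`R = P/I`, `P = k[[x_1..x_d]]`, `I ⊆ m²`.  If the `T¹`-lifting property holds for `h_R` along the
curvilinear test objects `A_n = k[t]/(t^(n+1))`, `B_n = A_n[y]/(y²)`, then `I = 0`.
-/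

set_option autoImplicit false
set_option linter.unusedSectionVars false
set_option linter.style.haveILetI false
universe u v

namespace Groth.Agent.H61.Curv

open CategoryTheory ArtFun ArtFun.Art T1Lift Polynomial Groth.Agent.H61.T1L Groth.Agent.H61.Obs

attribute [local instance] field_isAdicComplete

/-- two local ring maps that differ by an ideal killed by the maximal ideal agree on `m²` -/
theorem agree_on_sq {P C : Type*} [CommRing P] [IsLocalRing P] [CommRing C] [IsLocalRing C]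
    (w₁ w₂ : P →+* C)
    (h₁ : ∀ x ∈ IsLocalRing.maximalIdeal P, w₁ x ∈ IsLocalRing.maximalIdeal C)
    (h₂ : ∀ x ∈ IsLocalRing.maximalIdeal P, w₂ x ∈ IsLocalRing.maximalIdeal C)
    (J : Ideal C) (hJ : ∀ m ∈ IsLocalRing.maximalIdeal C, ∀ j ∈ J, m * j = 0)
    (hδ : ∀ x, w₁ x - w₂ x ∈ J) :
    ∀ x ∈ IsLocalRing.maximalIdeal P ^ 2, w₁ x = w₂ x := by
  intro x hx
  rw [pow_two] at hx
  refine Submodule.smul_induction_on hx ?_ ?_
  · intro c hc d hd
    have e1 := hJ _ (h₁ c hc) _ (hδ d)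
    have e2 := hJ _ (h₂ d hd) _ (hδ c)
    rw [smul_eq_mul, map_mul, map_mul]
    linear_combination e1 + e2
  · intro x y hx hy
    rw [map_add, map_add, hx, hy]

variable {k : Type u} [Field k]

/-- the ideal of `B_{n+1}` killed by `β` and `ξ` is killed by the maximal ideal -/
theorem kill_B (n : ℕ) (m : B k (n + 1)) (hm : m ∈ IsLocalRing.maximalIdeal (B k (n + 1)))
    (j : B k (n + 1)) (hj1 : (β k (n + 1)) j = 0) (hj2 : (ξ k n) j = 0) : m * j = 0 := by
  have hj1' : TrivSqZeroExt.fst (j : DualNumber (Tr k (n + 1))) = 0 := hj1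
  have hj2' : αAlg k n (TrivSqZeroExt.snd (j : DualNumber (Tr k (n + 1)))) = 0 :=
    congrArg TrivSqZeroExt.snd ((ξ_apply k n j).symm.trans hj2)
  obtain ⟨b', hb'⟩ := exists_of_αAlg_eq_zero k n _ hj2'
  have hm' : resA k (n + 1) (TrivSqZeroExt.fst (m : DualNumber (Tr k (n + 1)))) = 0 :=
    ((B k (n + 1)).mem_maximalIdeal_iff m).1 hm
  obtain ⟨b, hb⟩ := exists_of_resA_eq_zero k (n + 1) _ hm'
  apply TrivSqZeroExt.ext
  · change TrivSqZeroExt.fst (m : DualNumber (Tr k (n + 1))) *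
      TrivSqZeroExt.fst (j : DualNumber (Tr k (n + 1))) = 0
    rw [hj1', mul_zero]
  · change TrivSqZeroExt.fst (m : DualNumber (Tr k (n + 1))) •
        TrivSqZeroExt.snd (j : DualNumber (Tr k (n + 1))) +
      MulOpposite.op (TrivSqZeroExt.fst (j : DualNumber (Tr k (n + 1)))) •
        TrivSqZeroExt.snd (m : DualNumber (Tr k (n + 1))) = 0
    rw [hj1', MulOpposite.op_zero, zero_smul, add_zero, smul_eq_mul, hb, hb']
    have e : t k (n + 1) * b * (t k (n + 1) ^ (n + 1) * b') =
        t k (n + 1) ^ (n + 1 + 1) * (b * b') := by ring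
    rw [e, t_pow, zero_mul]

section Lift

variable (P : CRing k k) (hlift : HasLift P) (I : Ideal P.carrier)
  (hI : I ≤ IsLocalRing.maximalIdeal P.carrier ^ 2)

include hlift hI in
/-- the `T¹`-lifting step for a quotient `P/I` of a ring with the lifting property -/
theorem lift_step [CharZero k] (n : ℕ) (w : HomSet P.carrier P.res (A k (n + 1)))
    (hw : ∀ g ∈ I, w.1 g = 0) (v : HomSet P.carrier P.res (B k (n + 1)))
    (hv : ∀ g ∈ I, v.1 g = 0) (hβ : HomSet.map (β k (n + 1)) v = w)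
    (hξ : HomSet.map (ξ k n) v = HomSet.map (ε k n) w) :
    ∃ w' : HomSet P.carrier P.res (A k (n + 2)), HomSet.map (α k (n + 1)) w' = w ∧
      ∀ g ∈ I, w'.1 g = 0 := by
  obtain ⟨w', hw'⟩ := hlift (α k (n + 1)) (α_surjective k (n + 1)) w
  refine ⟨w', hw', ?_⟩
  intro g hg
  have hα : ∀ x, αAlg k (n + 1) (w'.1 x) = w.1 x := fun x => congrArg (fun z => z.1 x) hw'
  have hβ' : ∀ x, TrivSqZeroExt.fst (v.1 x : DualNumber (Tr k (n + 1))) = w.1 x :=
    fun x => congrArg (fun z => z.1 x) hβ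
  have hξ' : ∀ x, (ξ k n) (v.1 x) = (ε k n) (w.1 x) := fun x => congrArg (fun z => z.1 x) hξ
  have key := agree_on_sq (HomSet.map (ε k (n + 1)) w').1.toRingHom v.1.toRingHom
    (fun x hx => homSet_map_maximalIdeal P _ x hx) (fun x hx => homSet_map_maximalIdeal P _ x hx)
    (RingHom.ker (β k (n + 1)).toAlgHom ⊓ RingHom.ker (ξ k n).toAlgHom)
    (fun m hm j hj => kill_B n m hm j (RingHom.mem_ker.1 hj.1) (RingHom.mem_ker.1 hj.2))
    (fun x => by
      refine Ideal.mem_inf.2 ⟨?_, ?_⟩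
      · change (β k (n + 1)).toAlgHom ((ε k (n + 1)).toAlgHom (w'.1 x) - v.1 x) = 0
        rw [map_sub, sub_eq_zero]
        change (ε k (n + 1) ≫ β k (n + 1)) (w'.1 x) = TrivSqZeroExt.fst (v.1 x)
        rw [ε_succ_β, hβ']
        exact hα x
      · change (ξ k n).toAlgHom ((ε k (n + 1)).toAlgHom (w'.1 x) - v.1 x) = 0
        rw [map_sub, sub_eq_zero]
        change (ε k (n + 1) ≫ ξ k n) (w'.1 x) = (ξ k n) (v.1 x)
        rw [← α_ε, hξ']
        change (ε k n) (αAlg k (n + 1) (w'.1 x)) = _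
        rw [hα]) g (hI hg)
  have h1 : εAlg k (n + 1) (w'.1 g) = 0 := key.trans (hv g hg)
  have h2 : αAlg k (n + 1) (w'.1 g) = 0 := (hα g).trans (hw g hg)
  exact εAlg_eq_zero k n _ h2 h1

end Lift

/-! ### Evaluating power series along lines -/

section Line

theorem maximalIdeal_Tr_pow (N : ℕ) : IsLocalRing.maximalIdeal (Tr k N) ^ (N + 1) = ⊥ := by
  have h1 : IsLocalRing.maximalIdeal (Tr k N) ≤ Ideal.span {t k N} := by
    intro x hx
    obtain ⟨b, rfl⟩ := mem_maximalIdeal_A k N x hx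
    exact Ideal.mul_mem_right _ _ (Ideal.subset_span rfl)
  rw [eq_bot_iff]
  refine (Ideal.pow_right_mono h1 (N + 1)).trans ?_
  rw [Ideal.span_singleton_pow, t_pow, Ideal.span_singleton_eq_bot.2 rfl]

theorem maximalIdeal_A_pow (N : ℕ) : IsLocalRing.maximalIdeal (A k N) ^ (N + 1) = ⊥ :=
  maximalIdeal_Tr_pow N

/-- a compatible map out of the power series ring is evaluation of a truncation -/
theorem ps_hom_eq_aeval (d : ℕ) (B : Art k k)
    (ψ : HomSet (psCRing (surj_id k) d).carrier (psCRing (surj_id k) d).res B) (M : ℕ)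
    (hM : IsLocalRing.maximalIdeal B ^ M = ⊥) (f : MvPowerSeries (Fin d) k) :
    ψ.1 f = MvPolynomial.aeval (fun i => ψ.1 (MvPowerSeries.X i : MvPowerSeries (Fin d) k))
      (MvPowerSeries.truncTotal M f) := by
  have hpoly : ∀ p : MvPolynomial (Fin d) k, ψ.1 ((p : MvPowerSeries (Fin d) k)) =
      MvPolynomial.aeval (fun i => ψ.1 (MvPowerSeries.X i : MvPowerSeries (Fin d) k)) p := by
    have h1 : ψ.1.comp (MvPolynomial.coeToMvPowerSeries.algHom (σ := Fin d) (R := k) k) =
        MvPolynomial.aeval (fun i => ψ.1 (MvPowerSeries.X i : MvPowerSeries (Fin d) k)) := by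
      apply MvPolynomial.algHom_ext
      intro i
      rw [MvPolynomial.aeval_X]
      change ψ.1 (MvPolynomial.coeToMvPowerSeries.algHom k (MvPolynomial.X i)) = _
      rw [MvPolynomial.coeToMvPowerSeries.algHom_apply, MvPolynomial.coe_X]
      congr 1
    intro p
    have h2 := AlgHom.congr_fun h1 p
    rw [← h2]
    change ψ.1 _ = ψ.1 (MvPolynomial.coeToMvPowerSeries.algHom k p)
    rw [MvPolynomial.coeToMvPowerSeries.algHom_apply]
    congr 1
  have hrem : ψ.1 (f - ((MvPowerSeries.truncTotal M f : MvPolynomial (Fin d) k) :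
      MvPowerSeries (Fin d) k)) = 0 := by
    have h1 : (f - ((MvPowerSeries.truncTotal M f : MvPolynomial (Fin d) k) :
        MvPowerSeries (Fin d) k)) ∈
        IsLocalRing.maximalIdeal (psCRing (surj_id k) d).carrier ^ M :=
      Ideal.pow_right_mono PS.span_X_le M (PS.sub_truncTotal_mem M f)
    have h2 := homSet_map_pow (psCRing (surj_id k) d) ψ M _ h1
    rw [hM] at h2
    exact h2
  rw [map_sub, sub_eq_zero] at hrem
  rw [hrem]
  exact hpoly _

/-- evaluating a homogeneous polynomial on a line -/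
theorem aeval_line {d : ℕ} {T : Type*} [CommRing T] [Algebra k T] (a : Fin d → k) (τ : T)
    (h : MvPolynomial (Fin d) k) (e : ℕ) (hh : h.IsHomogeneous e) :
    MvPolynomial.aeval (fun i => algebraMap k T (a i) * τ) h =
      algebraMap k T (MvPolynomial.eval a h) * τ ^ e := by
  rw [MvPolynomial.aeval_def, MvPolynomial.eval₂_eq', MvPolynomial.eval_eq', map_sum,
    Finset.sum_mul]
  refine Finset.sum_congr rfl fun m hm => ?_
  have hdeg : ∑ i, m i = e := by
    have h1 := hh (MvPolynomial.mem_support_iff.1 hm)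
    rw [← h1, Finsupp.weight_apply, Finsupp.sum_fintype]
    · simp
    · intro i
      simp
  rw [map_mul, map_prod, mul_assoc]
  congr 1
  rw [← hdeg, ← Finset.prod_pow_eq_pow_sum, ← Finset.prod_mul_distrib]
  refine Finset.prod_congr rfl fun i _ => ?_
  rw [mul_pow, map_pow]

/-- the lowest homogeneous part of a nonzero power series -/
theorem exists_lowest {d : ℕ} (f : MvPowerSeries (Fin d) k) (hf : f ≠ 0) :
    ∃ (e : ℕ) (h : MvPolynomial (Fin d) k), h.IsHomogeneous e ∧ h ≠ 0 ∧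
      MvPowerSeries.truncTotal (e + 1) f = h := by
  classical
  have hex : ∃ e : ℕ, ∃ x : Fin d →₀ ℕ, Finsupp.degree x = e ∧ MvPowerSeries.coeff x f ≠ 0 := by
    by_contra hcon
    apply hf
    ext x
    by_contra hx
    exact hcon ⟨_, x, rfl, hx⟩
  obtain ⟨x₀, hx₀, hx₀f⟩ := Nat.find_spec hex
  have hmin : ∀ x : Fin d →₀ ℕ, Finsupp.degree x < Nat.find hex → MvPowerSeries.coeff x f = 0 := by
    intro x hx
    by_contra hne
    exact Nat.find_min hex hx ⟨x, rfl, hne⟩
  refine ⟨Nat.find hex, _, ?_, ?_, rfl⟩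
  · intro x hx
    rw [MvPowerSeries.coeff_truncTotal_eq_ite] at hx
    split_ifs at hx with hlt
    · have h1 : ¬ Finsupp.degree x < Nat.find hex := fun h2 => hx (hmin x h2)
      have h2 : Finsupp.degree x = Nat.find hex := by omega
      rw [← h2, Finsupp.degree_eq_weight_one]
      rfl
    · exact absurd rfl hx
  · intro h0
    have h1 := congrArg (MvPolynomial.coeff x₀) h0
    rw [MvPowerSeries.coeff_truncTotal _ (by omega), MvPolynomial.coeff_zero] at h1
    exact hx₀f h1

/-- the line `x_i ↦ a_i t` in `A_N` -/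
theorem exists_line (d : ℕ) (a : Fin d → k) (N : ℕ) :
    ∃ ψ : HomSet (psCRing (surj_id k) d).carrier (psCRing (surj_id k) d).res (A k N),
      ∀ i, ψ.1 (psX (surj_id k) d i) = algebraMap k (Tr k N) (a i) * t k N := by
  apply ps_exists_hom (surj_id k) d (A k N)
  intro i
  refine ((A k N).mem_maximalIdeal_iff _).2 ?_
  change resA k N (algebraMap k (Tr k N) (a i) * t k N) = 0
  rw [map_mul, resA_t, mul_zero]

/-- **A nonzero ideal of the power series ring inside `m²` is detected by a curvilinear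
obstruction.** -/
theorem exists_obstructed_curve [Infinite k] (d : ℕ)
    (I : Ideal (psCRing (surj_id k) d).carrier)
    (hI : I ≤ IsLocalRing.maximalIdeal (psCRing (surj_id k) d).carrier ^ 2) (hne : I ≠ ⊥) :
    ∃ (n : ℕ) (w : HomSet (psCRing (surj_id k) d).carrier (psCRing (surj_id k) d).res
        (A k (n + 1))),
      (∀ g ∈ I, w.1 g = 0) ∧
      ∀ w' : HomSet (psCRing (surj_id k) d).carrier (psCRing (surj_id k) d).res (A k (n + 2)),
        HomSet.map (α k (n + 1)) w' = w → ∃ g ∈ I, w'.1 g ≠ 0 := by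
  classical
  obtain ⟨f, hfI, hf0⟩ : ∃ f ∈ I, f ≠ 0 := by
    by_contra hcon
    apply hne
    rw [eq_bot_iff]
    intro f hf
    by_contra hf0
    exact hcon ⟨f, hf, hf0⟩
  obtain ⟨e, h, hhom, hh0, hhf⟩ := exists_lowest (d := d) f hf0
  obtain ⟨a, ha⟩ : ∃ a : Fin d → k, MvPolynomial.eval a h ≠ 0 := by
    by_contra hcon
    apply hh0
    apply MvPolynomial.funext
    intro x
    rw [map_zero]
    by_contra hx
    exact hcon ⟨x, hx⟩
  choose lam hlam using fun N => exists_line d a N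
  -- the value of the line on `f`
  have hlamf : (lam e).1 f ≠ 0 := by
    rw [ps_hom_eq_aeval d (A k e) (lam e) (e + 1) (maximalIdeal_A_pow e) f, hhf]
    have e1 : (fun i => (lam e).1 (MvPowerSeries.X i : MvPowerSeries (Fin d) k)) =
        fun i => algebraMap k (Tr k e) (a i) * t k e := funext fun i => hlam e i
    rw [e1]
    have e2 := aeval_line (T := Tr k e) a (t k e) h e hhom
    intro h0
    exact ha (algebraMap_mul_t_pow_eq_zero k e _ (e2.symm.trans h0))
  -- compatibility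
  have hcompat : ∀ N, HomSet.map (α k N) (lam (N + 1)) = lam N := by
    intro N
    apply ps_hom_ext (surj_id k) d
    intro i
    change αAlg k N ((lam (N + 1)).1 (psX (surj_id k) d i)) = _
    rw [hlam, hlam, map_mul, AlgHom.commutes, αAlg_t]
  -- the first level at which `I` is seen
  have hex : ∃ N, ∃ g ∈ I, (lam N).1 g ≠ 0 := ⟨e, f, hfI, hlamf⟩
  obtain ⟨e₀, ⟨g₀, hg₀I, hg₀⟩, hmin⟩ : ∃ e₀, (∃ g ∈ I, (lam e₀).1 g ≠ 0) ∧
      ∀ N < e₀, ¬ ∃ g ∈ I, (lam N).1 g ≠ 0 :=
    ⟨Nat.find hex, Nat.find_spec hex, fun N hN => Nat.find_min hex hN⟩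
  have hsq : ∀ N, N ≤ 1 → ∀ g ∈ I, (lam N).1 g = 0 := by
    intro N hN g hg
    have h1 := homSet_map_pow (psCRing (surj_id k) d) (lam N) 2 g (hI hg)
    have h2 : IsLocalRing.maximalIdeal (A k N) ^ 2 ≤ ⊥ := by
      rw [← maximalIdeal_A_pow N]
      exact Ideal.pow_le_pow_right (by omega)
    exact (Ideal.mem_bot.1 (h2 h1))
  have he₀ : 2 ≤ e₀ := by
    by_contra hlt
    exact hg₀ (hsq e₀ (by omega) g₀ hg₀I)
  obtain ⟨n, rfl⟩ : ∃ n, e₀ = n + 2 := ⟨e₀ - 2, by omega⟩
  refine ⟨n, lam (n + 1), ?_, ?_⟩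
  · intro g hg
    by_contra hne'
    exact hmin (n + 1) (by omega) ⟨g, hg, hne'⟩
  · intro w' hw'
    refine ⟨g₀, hg₀I, ?_⟩
    have key := agree_on_sq w'.1.toRingHom (lam (n + 2)).1.toRingHom
      (fun x hx => homSet_map_maximalIdeal _ _ x hx)
      (fun x hx => homSet_map_maximalIdeal _ _ x hx)
      (RingHom.ker (α k (n + 1)).toAlgHom)
      (fun m hm j hj => by
        have h1 := Ideal.mul_mem_mul hm hj
        rw [(isSemismallExt_α k (n + 1)).2] at h1
        exact Ideal.mem_bot.1 h1)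
      (fun x => by
        change (α k (n + 1)).toAlgHom (w'.1 x - (lam (n + 2)).1 x) = 0
        rw [map_sub, sub_eq_zero]
        have e1 : (α k (n + 1)).toAlgHom (w'.1 x) = (lam (n + 1)).1 x :=
          congrArg (fun z => z.1 x) hw'
        have e2 : (α k (n + 1)).toAlgHom ((lam (n + 2)).1 x) = (lam (n + 1)).1 x :=
          congrArg (fun z => z.1 x) (hcompat (n + 1))
        rw [e1, e2]) g₀ (hI hg₀I)
    intro h0
    exact hg₀ (key.symm.trans h0)

end Line

/-! ### The criterion -/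

section Core

variable [CharZero k] (R : CRing k k)
  (hT1 : ∀ (n : ℕ) (u : HomSet R.carrier R.res (A k (n + 1))),
    ∃ v : HomSet R.carrier R.res (B k (n + 1)), HomSet.map (β k (n + 1)) v = u ∧
      HomSet.map (ξ k n) v = HomSet.map (ε k n) u)

include hT1 in
theorem ker_eq_bot_of_T1 (d : ℕ) (g : (psCRing (surj_id k) d).carrier →ₐ[k] R.carrier)
    (hg : R.res.comp g = (psCRing (surj_id k) d).res) (hgs : Function.Surjective g)
    (hker : RingHom.ker g ≤ IsLocalRing.maximalIdeal (psCRing (surj_id k) d).carrier ^ 2) :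
    RingHom.ker g = ⊥ := by
  by_contra hne
  obtain ⟨n, w, hw, hw'⟩ := exists_obstructed_curve d (RingHom.ker g) hker hne
  -- `w` descends to `R`
  have hfac : RingHom.ker g.toRingHom ≤ RingHom.ker w.1.toRingHom := fun x hx =>
    RingHom.mem_ker.2 (hw x hx)
  obtain ⟨u, hu⟩ : ∃ u : HomSet R.carrier R.res (A k (n + 1)), ∀ x, u.1 (g x) = w.1 x := by
    refine ⟨⟨AlgHom.liftOfSurjective g hgs w.1 hfac, ?_⟩, fun x =>
      AlgHom.liftOfSurjective_apply g hgs w.1 hfac x⟩
    apply AlgHom.ext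
    intro r
    obtain ⟨x, rfl⟩ := hgs r
    change (A k (n + 1)).res (AlgHom.liftOfSurjective g hgs w.1 hfac (g x)) = R.res (g x)
    rw [AlgHom.liftOfSurjective_apply]
    have h1 : (A k (n + 1)).res (w.1 x) = (psCRing (surj_id k) d).res x :=
      AlgHom.congr_fun w.2 x
    have h2 : R.res (g x) = (psCRing (surj_id k) d).res x := AlgHom.congr_fun hg x
    rw [h1, h2]
  obtain ⟨vR, hvβ, hvξ⟩ := hT1 n u
  -- pull back to `P`
  obtain ⟨v, hv⟩ : ∃ v : HomSet (psCRing (surj_id k) d).carrier (psCRing (surj_id k) d).res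
      (B k (n + 1)), ∀ x, v.1 x = vR.1 (g x) :=
    ⟨⟨vR.1.comp g, by rw [← AlgHom.comp_assoc, vR.2, hg]⟩, fun x => rfl⟩
  obtain ⟨w'', hw''1, hw''2⟩ := lift_step (psCRing (surj_id k) d) (hasLift_ps (surj_id k) d)
    (RingHom.ker g) hker n w hw v
    (fun x hx => by rw [hv, RingHom.mem_ker.1 hx, map_zero])
    (by
      apply Subtype.ext
      apply AlgHom.ext
      intro x
      change (β k (n + 1)) (v.1 x) = w.1 x
      rw [hv, ← hu]
      exact congrArg (fun z => z.1 (g x)) hvβ)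
    (by
      apply Subtype.ext
      apply AlgHom.ext
      intro x
      change (ξ k n) (v.1 x) = (ε k n) (w.1 x)
      rw [hv, ← hu]
      exact congrArg (fun z => z.1 (g x)) hvξ)
  obtain ⟨g₀, hg₀, hg₀'⟩ := hw' w'' hw''1
  exact hg₀' (hw''2 g₀ hg₀)

include hT1 in
/-- under the curvilinear `T¹`-lifting property, `R` is a power series ring -/
theorem exists_ps_iso :
    ∃ (d : ℕ) (g : (psCRing (surj_id k) d).carrier →ₐ[k] R.carrier),
      R.res.comp g = (psCRing (surj_id k) d).res ∧ Function.Bijective g := by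
  haveI : Module.Finite k k := Module.Finite.self k
  obtain ⟨d, g, hg, hgs, hker⟩ := exists_min_presentation_cring (surj_id k) R
  have hker' : RingHom.ker g ≤ IsLocalRing.maximalIdeal (psCRing (surj_id k) d).carrier ^ 2 := by
    refine hker.trans ?_
    rw [IsLocalRing.maximalIdeal_eq_bot (R := k), Ideal.map_bot, sup_bot_eq]
  have h0 := ker_eq_bot_of_T1 R hT1 d g hg hgs hker'
  exact ⟨d, g, hg, (RingHom.injective_iff_ker_eq_bot _).2 h0, hgs⟩

include hT1 in
/-- under the curvilinear `T¹`-lifting property, `h_R` is smooth -/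
theorem hasLift_of_T1 : HasLift R := by
  obtain ⟨d, g, hg, hbij⟩ := exists_ps_iso R hT1
  intro B₀ A₀ μ hμ φ
  obtain ⟨ψ, hψ⟩ := hasLift_ps (surj_id k) d μ hμ
    ⟨φ.1.comp g, by rw [← AlgHom.comp_assoc, φ.2, hg]⟩
  let e := AlgEquiv.ofBijective g hbij
  refine ⟨⟨ψ.1.comp e.symm.toAlgHom, ?_⟩, ?_⟩
  · apply AlgHom.ext
    intro r
    obtain ⟨x, rfl⟩ := hbij.2 r
    change B₀.res (ψ.1 (e.symm (e x))) = R.res (g x)
    rw [AlgEquiv.symm_apply_apply]
    have h1 : B₀.res (ψ.1 x) = (psCRing (surj_id k) d).res x := AlgHom.congr_fun ψ.2 x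
    have h2 : R.res (g x) = (psCRing (surj_id k) d).res x := AlgHom.congr_fun hg x
    rw [h1, h2]
  · apply Subtype.ext
    apply AlgHom.ext
    intro r
    obtain ⟨x, rfl⟩ := hbij.2 r
    change μ (ψ.1 (e.symm (e x))) = φ.1 (g x)
    rw [AlgEquiv.symm_apply_apply]
    exact congrArg (fun z => z.1 x) hψ

end Core

end Groth.Agent.H61.Curv
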