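/-
The obstruction to lifting a flat family of relations along a principal square-zero thickening,
in abstract form (helper61).  Rings `P' → P → P₀` (think `A'[X] → A[X] → k[X]`), an element
`T ∈ P'` generating the kernel of `P' → P` whose annihilator is the kernel of `P' → P₀`, and a
family `F` over `P` all of whose relations over `P₀` lift (flatness).  If every `P₀`-linear map on
the relations of `f = F mod` killing the Koszul relations is a coordinate map (`T² = 0`), then `F`
lifts to a family `F''` over `P'` all of whose relations lift.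
-/
import Mathlib

set_option autoImplicit false

namespace Groth.Agent.H61.DefObs

open Finsupp

section Basic

variable {P Q : Type*} [CommRing P] [CommRing Q] {σ : Type*}

/-- the linear form of a family -/
noncomputable abbrev lc (F : σ → P) : (σ →₀ P) →ₗ[P] P := Finsupp.linearCombination P F

/-- coefficientwise map -/
noncomputable def mr (e : P →+* Q) : (σ →₀ P) →+ (σ →₀ Q) :=
  Finsupp.mapRange.addMonoidHom e.toAddMonoidHom

@[simp] lemma mr_apply (e : P →+* Q) (R : σ →₀ P) (s : σ) : mr e R s = e (R s) := rfl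

lemma mr_smul (e : P →+* Q) (c : P) (R : σ →₀ P) : mr e (c • R) = e c • mr e R := by
  ext s
  simp

lemma mr_single (e : P →+* Q) (s : σ) (c : P) : mr e (Finsupp.single s c) = Finsupp.single s (e c) := by
  ext t
  classical
  simp only [mr_apply, Finsupp.single_apply]
  split_ifs <;> simp

lemma mr_surjective (e : P →+* Q) (he : Function.Surjective e) :
    Function.Surjective (mr (σ := σ) e) := by
  intro r
  obtain ⟨R, hR⟩ := Finsupp.mapRange_surjective e (map_zero e) he r
  exact ⟨R, hR⟩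

lemma mr_comp {Q' : Type*} [CommRing Q'] (e : P →+* Q) (e' : Q →+* Q') (R : σ →₀ P) :
    mr (e'.comp e) R = mr e' (mr e R) := by
  ext s
  simp

lemma map_lc (e : P →+* Q) (F : σ → P) (R : σ →₀ P) :
    e (lc F R) = lc (fun s => e (F s)) (mr e R) := by
  induction R using Finsupp.induction_linear with
  | zero => simp
  | add x y hx hy => rw [map_add, map_add, map_add, map_add, hx, hy]
  | single s c => rw [mr_single]; simp [lc]

lemma lc_mem_span (F : σ → P) (R : σ →₀ P) : lc F R ∈ Ideal.span (Set.range F) := by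
  have h : lc F R ∈ LinearMap.range (lc F) := LinearMap.mem_range_self _ R
  rw [Finsupp.range_linearCombination] at h
  exact h

lemma exists_lc_of_mem_span (F : σ → P) {x : P} (hx : x ∈ Ideal.span (Set.range F)) :
    ∃ R : σ →₀ P, lc F R = x := by
  have h : x ∈ LinearMap.range (lc F) := by
    rw [Finsupp.range_linearCombination]; exact hx
  exact h

lemma lc_sub_mul (F G : σ → P) (T : P) (R : σ →₀ P) :
    lc (fun s => F s - T * G s) R = lc F R - T * lc G R := by
  induction R using Finsupp.induction_linear with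
  | zero => simp
  | add x y hx hy => rw [map_add, map_add, map_add, hx, hy]; ring
  | single s c => simp [lc]; ring

/-- every element of `(σ →₀ P)` with coefficients in `span {T}` is `T • U` -/
lemma exists_smul_of_forall_mem (T : P) (E : σ →₀ P) (hE : ∀ s, E s ∈ Ideal.span {T}) :
    ∃ U : σ →₀ P, E = T • U := by
  classical
  have h : ∀ s, ∃ u, E s = T * u := fun s => by
    obtain ⟨u, hu⟩ := Ideal.mem_span_singleton'.mp (hE s)
    exact ⟨u, by rw [← hu, mul_comm]⟩
  choose g hg using h
  refine ⟨Finsupp.onFinset E.support (fun s => if E s = 0 then 0 else g s) ?_, ?_⟩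
  · intro s hs
    rw [Finsupp.mem_support_iff]
    intro h0
    rw [if_pos h0] at hs
    exact hs rfl
  · ext s
    rw [Finsupp.smul_apply, Finsupp.onFinset_apply, smul_eq_mul]
    split_ifs with h0
    · rw [h0, mul_zero]
    · exact hg s

/-- relations over `Q` lift along `e` -/
def RelLift (e : P →+* Q) (F : σ → P) : Prop :=
  ∀ r : σ →₀ Q, lc (fun s => e (F s)) r = 0 → ∃ R : σ →₀ P, mr e R = r ∧ lc F R = 0

end Basic

section Main

variable {P' P P₀ B₀ : Type*} [CommRing P'] [CommRing P] [CommRing P₀] [CommRing B₀]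
  [Algebra P₀ B₀] {σ : Type*}
  (pp : P' →+* P) (red : P →+* P₀) (hpp : Function.Surjective pp) (hred : Function.Surjective red)
  (T : P') (hT : RingHom.ker pp = Ideal.span {T})
  (hT0 : ∀ H : P', T * H = 0 ↔ red (pp H) = 0)
  (F : σ → P)
  (hker : RingHom.ker (algebraMap P₀ B₀) = Ideal.span (Set.range (fun s => red (F s))))
  (hflat : ∀ D : σ →₀ P, (∀ s, red (D s) = 0) → lc F D = 0 →
    D ∈ (RingHom.ker red) • (LinearMap.ker (lc F)))
  (F' : σ → P') (hF' : ∀ s, pp (F' s) = F s)

include hT in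
lemma exists_T_mul {x : P'} (hx : pp x = 0) : ∃ H, x = T * H := by
  have h : x ∈ Ideal.span {T} := by rw [← hT]; exact hx
  obtain ⟨u, hu⟩ := Ideal.mem_span_singleton'.mp h
  exact ⟨u, by rw [← hu, mul_comm]⟩

include hT in
lemma pp_T : pp T = 0 := by
  have h : T ∈ RingHom.ker pp := by rw [hT]; exact Ideal.mem_span_singleton_self T
  exact h

include hT hT0 hflat hF' hpp in
/-- the key consequence of flatness -/
lemma key (D' : σ →₀ P') (H : P') (hD' : ∀ s, red (pp (D' s)) = 0) (hH : lc F' D' = T * H) :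
    red (pp H) ∈ Ideal.span (Set.range (fun s => red (F s))) := by
  have hppF : ∀ R' : σ →₀ P', pp (lc F' R') = lc F (mr pp R') := fun R' => by
    rw [map_lc]
    have : (fun s => pp (F' s)) = F := funext hF'
    rw [this]
  have hredF : ∀ R' : σ →₀ P', red (pp (lc F' R')) = lc (fun s => red (F s)) (mr red (mr pp R')) := by
    intro R'
    rw [hppF, map_lc]
  -- the statement proved by induction
  have main : ∀ D : σ →₀ P, D ∈ (RingHom.ker red) • (LinearMap.ker (lc F)) →
      lc F D = 0 ∧ ∀ (D' : σ →₀ P') (H : P'), mr pp D' = D → lc F' D' = T * H →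
        red (pp H) ∈ Ideal.span (Set.range (fun s => red (F s))) := by
    intro D hD
    refine Submodule.smul_induction_on hD ?_ ?_
    · intro c hc n hn
      have hn0 : lc F n = 0 := hn
      refine ⟨by rw [map_smul, hn0, smul_zero], ?_⟩
      intro D' H hDD hH
      obtain ⟨c', rfl⟩ := hpp c
      obtain ⟨n', rfl⟩ := mr_surjective pp hpp n
      obtain ⟨H₁, hH₁⟩ := exists_T_mul pp T hT (x := lc F' n') (by rw [hppF, hn0])
      have hE : ∀ s, (D' - c' • n') s ∈ Ideal.span {T} := by
        intro s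
        rw [← hT, RingHom.mem_ker]
        have := congrArg (fun v => v s) hDD
        simp only [mr_apply, Finsupp.smul_apply, smul_eq_mul] at this
        rw [Finsupp.sub_apply, Finsupp.smul_apply, smul_eq_mul, map_sub, map_mul, this, sub_self]
      obtain ⟨U, hU⟩ := exists_smul_of_forall_mem T _ hE
      have hc'T : T * c' = 0 := (hT0 c').mpr hc
      have h1 : lc F' D' = T * lc F' U := by
        have : D' = c' • n' + T • U := by rw [← hU]; abel
        rw [this, map_add, map_smul, map_smul, hH₁, smul_eq_mul, smul_eq_mul, ← mul_assoc,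
          mul_comm c' T, hc'T, zero_mul, zero_add]
      have h2 : T * (H - lc F' U) = 0 := by rw [mul_sub, ← hH, ← h1, sub_self]
      have h3 := (hT0 _).mp h2
      rw [map_sub, map_sub, sub_eq_zero] at h3
      rw [h3, hredF]
      exact lc_mem_span _ _
    · intro x y hx hy
      refine ⟨by rw [map_add, hx.1, hy.1, add_zero], ?_⟩
      intro D' H hDD hH
      obtain ⟨x', rfl⟩ := mr_surjective pp hpp x
      obtain ⟨H₁, hH₁⟩ := exists_T_mul pp T hT (x := lc F' x') (by rw [hppF, hx.1])
      have h1 := hx.2 x' H₁ rfl hH₁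
      have h2 := hy.2 (D' - x') (H - H₁) (by rw [map_sub, hDD, add_sub_cancel_left])
        (by rw [map_sub, hH, hH₁, mul_sub])
      have : red (pp H) = red (pp (H - H₁)) + red (pp H₁) := by
        rw [← map_add, ← map_add, sub_add_cancel]
      rw [this]
      exact Ideal.add_mem _ h2 h1
  have hD0 : lc F (mr pp D') = 0 := by
    rw [← hppF, hH, map_mul, pp_T pp T hT, zero_mul]
  exact (main (mr pp D') (hflat _ (fun s => hD' s) hD0)).2 D' H rfl hH

/-- obstruction datum: `y` is the obstruction value of the relation `r` -/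
def IsOb (r : σ →₀ P₀) (y : B₀) : Prop :=
  ∃ (R' : σ →₀ P') (H : P'), mr red (mr pp R') = r ∧ lc F' R' = T * H ∧
    algebraMap P₀ B₀ (red (pp H)) = y

include hF' in
lemma pp_lc (R' : σ →₀ P') : pp (lc F' R') = lc F (mr pp R') := by
  rw [map_lc]
  have : (fun s => pp (F' s)) = F := funext hF'
  rw [this]

include hF' in
lemma red_pp_lc (R' : σ →₀ P') :
    red (pp (lc F' R')) = lc (fun s => red (F s)) (mr red (mr pp R')) := by
  rw [pp_lc pp F F' hF', map_lc]

include hT hF' hpp in
lemma exists_isOb (hlift : RelLift red F) (r : σ →₀ P₀) (hr : lc (fun s => red (F s)) r = 0) :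
    ∃ y : B₀, IsOb pp red T F' r y := by
  obtain ⟨R, hR, hR0⟩ := hlift r hr
  obtain ⟨R', rfl⟩ := mr_surjective pp hpp R
  obtain ⟨H, hH⟩ := exists_T_mul pp T hT (x := lc F' R') (by rw [pp_lc pp F F' hF', hR0])
  exact ⟨_, R', H, hR, hH, rfl⟩

include hT hT0 hflat hF' hpp hker in
lemma isOb_unique {r : σ →₀ P₀} {y₁ y₂ : B₀} (h₁ : IsOb pp red T F' r y₁)
    (h₂ : IsOb pp red T F' r y₂) : y₁ = y₂ := by
  obtain ⟨R₁, H₁, hr₁, hH₁, rfl⟩ := h₁
  obtain ⟨R₂, H₂, hr₂, hH₂, rfl⟩ := h₂
  have h := key pp red hpp T hT hT0 F hflat F' hF' (R₁ - R₂) (H₁ - H₂) (fun s => by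
    have := congrArg (fun v => v s) (hr₁.trans hr₂.symm)
    simp only [mr_apply] at this
    rw [Finsupp.sub_apply, map_sub, map_sub, this, sub_self]) (by rw [map_sub, hH₁, hH₂, mul_sub])
  rw [← hker, RingHom.mem_ker, map_sub, map_sub, map_sub, sub_eq_zero] at h
  exact h

lemma isOb_add {r₁ r₂ : σ →₀ P₀} {y₁ y₂ : B₀} (h₁ : IsOb pp red T F' r₁ y₁)
    (h₂ : IsOb pp red T F' r₂ y₂) : IsOb pp red T F' (r₁ + r₂) (y₁ + y₂) := by
  obtain ⟨R₁, H₁, hr₁, hH₁, rfl⟩ := h₁
  obtain ⟨R₂, H₂, hr₂, hH₂, rfl⟩ := h₂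
  refine ⟨R₁ + R₂, H₁ + H₂, by rw [map_add, map_add, hr₁, hr₂], by rw [map_add, hH₁, hH₂, mul_add],
    by rw [map_add, map_add, map_add]⟩

include hpp hred in
lemma isOb_smul {r : σ →₀ P₀} {y : B₀} (c : P₀) (h : IsOb pp red T F' r y) :
    IsOb pp red T F' (c • r) (c • y) := by
  obtain ⟨R, H, hr, hH, rfl⟩ := h
  obtain ⟨c₁, rfl⟩ := hred c
  obtain ⟨c', rfl⟩ := hpp c₁
  refine ⟨c' • R, c' * H, by rw [mr_smul, mr_smul, hr], by rw [map_smul, hH, smul_eq_mul]; ring, ?_⟩
  rw [map_mul, map_mul, map_mul, Algebra.smul_def]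

include hpp hred hF' in
lemma isOb_triv (a b : σ →₀ P₀) :
    IsOb pp red T F' (lc (fun s => red (F s)) a • b - lc (fun s => red (F s)) b • a) (0 : B₀) := by
  obtain ⟨a₁, rfl⟩ := mr_surjective red hred a
  obtain ⟨a', rfl⟩ := mr_surjective pp hpp a₁
  obtain ⟨b₁, rfl⟩ := mr_surjective red hred b
  obtain ⟨b', rfl⟩ := mr_surjective pp hpp b₁
  refine ⟨lc F' a' • b' - lc F' b' • a', 0, ?_, ?_, by simp⟩
  · rw [map_sub, map_sub, mr_smul, mr_smul, mr_smul, mr_smul, red_pp_lc pp red F F' hF',
      red_pp_lc pp red F F' hF']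
  · rw [map_sub, map_smul, map_smul, smul_eq_mul, smul_eq_mul, mul_zero, mul_comm, sub_self]

lemma algebraMap_lc (g : σ → P₀) (r : σ →₀ P₀) :
    algebraMap P₀ B₀ (lc g r) = r.sum (fun s c => algebraMap P₀ B₀ c * algebraMap P₀ B₀ (g s)) := by
  rw [Finsupp.linearCombination_apply, map_finsuppSum]
  simp [map_mul]

include hpp hred hT hT0 hflat hker in
/-- **lifting theorem** -/
theorem exists_lift (hlift : RelLift red F) (hπ₀ : Function.Surjective (algebraMap P₀ B₀))
    (hT2 : ∀ ob : LinearMap.ker (lc (fun s => red (F s))) →ₗ[P₀] B₀,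
      (∀ (a b : σ →₀ P₀) (h : lc (fun s => red (F s)) a • b - lc (fun s => red (F s)) b • a ∈
          LinearMap.ker (lc (fun s => red (F s)))), ob ⟨_, h⟩ = 0) →
      ∃ g : σ → B₀, ∀ r : LinearMap.ker (lc (fun s => red (F s))),
        ob r = (r : σ →₀ P₀).sum (fun s c => algebraMap P₀ B₀ c * g s)) :
    ∃ F'' : σ → P', (∀ s, pp (F'' s) = F s) ∧ RelLift (red.comp pp) F'' := by
  classical
  choose F' hF' using fun s => hpp (F s)
  have hex : ∀ r : LinearMap.ker (lc (fun s => red (F s))), ∃ y : B₀, IsOb pp red T F' r.1 y :=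
    fun r => exists_isOb pp red hpp T hT F F' hF' hlift r.1 r.2
  choose obf hobf using hex
  have huniq : ∀ {r : σ →₀ P₀} {y₁ y₂ : B₀}, IsOb pp red T F' r y₁ → IsOb pp red T F' r y₂ →
      y₁ = y₂ := fun h₁ h₂ => isOb_unique pp red hpp T hT hT0 F hker hflat F' hF' h₁ h₂
  let ob : LinearMap.ker (lc (fun s => red (F s))) →ₗ[P₀] B₀ :=
    { toFun := obf
      map_add' := fun r₁ r₂ => huniq (hobf (r₁ + r₂)) (isOb_add pp red T F' (hobf r₁) (hobf r₂))
      map_smul' := fun c r => huniq (hobf (c • r)) (isOb_smul pp red hpp hred T F' c (hobf r)) }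
  obtain ⟨g, hg⟩ := hT2 ob (fun a b h => huniq (hobf ⟨_, h⟩) (isOb_triv pp red hpp hred T F F' hF' a b))
  choose g₀ hg₀ using fun s => hπ₀ (g s)
  choose g₁ hg₁ using fun s => hred (g₀ s)
  choose G hG using fun s => hpp (g₁ s)
  have hppT := pp_T pp T hT
  refine ⟨fun s => F' s - T * G s, fun s => by rw [map_sub, map_mul, hppT, zero_mul, sub_zero, hF'],
    ?_⟩
  have hfam : (fun s => red (pp (F' s - T * G s))) = fun s => red (F s) := by
    funext s
    rw [map_sub, map_mul, hppT, zero_mul, sub_zero, hF']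
  intro r hr0
  have hr : lc (fun s => red (F s)) r = 0 := by rw [← hfam]; exact hr0
  obtain ⟨R', H, hrR0, hH, hy⟩ := hobf ⟨r, hr⟩
  have hrR : mr red (mr pp R') = r := hrR0
  have hobr : obf ⟨r, hr⟩ = r.sum (fun s c => algebraMap P₀ B₀ c * g s) := hg ⟨r, hr⟩
  -- the corrected combination
  have h1 : lc (fun s => F' s - T * G s) R' = T * (H - lc G R') := by
    rw [lc_sub_mul, hH, mul_sub]
  have hredG : red (pp (lc G R')) = lc g₀ r := by
    rw [map_lc, map_lc, hrR]
    have : (fun s => red (pp (G s))) = g₀ := funext fun s => by rw [hG, hg₁]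
    rw [this]
  have h2 : algebraMap P₀ B₀ (red (pp (H - lc G R'))) = 0 := by
    rw [map_sub, map_sub, map_sub, hy, hredG, algebraMap_lc, hobr, sub_eq_zero]
    refine Finsupp.sum_congr fun s _ => ?_
    rw [hg₀]
  have h3 : red (pp (H - lc G R')) ∈ Ideal.span (Set.range (fun s => red (F s))) := by
    rw [← hker]; exact h2
  obtain ⟨u, hu⟩ := exists_lc_of_mem_span _ h3
  obtain ⟨u₁, rfl⟩ := mr_surjective red hred u
  obtain ⟨U, rfl⟩ := mr_surjective pp hpp u₁
  have h4 : red (pp (lc (fun s => F' s - T * G s) U)) = lc (fun s => red (F s)) (mr red (mr pp U)) := by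
    rw [map_lc, map_lc]
    change lc (fun s => red (pp (F' s - T * G s))) _ = _
    rw [hfam]
  have h5 : T * (H - lc G R' - lc (fun s => F' s - T * G s) U) = 0 := by
    rw [hT0, map_sub, map_sub, h4, hu, sub_self]
  refine ⟨R' - T • U, ?_, ?_⟩
  · rw [map_sub, mr_smul, RingHom.comp_apply, hppT, map_zero, zero_smul, sub_zero,
      mr_comp, hrR]
  · rw [map_sub, map_smul, smul_eq_mul, h1, ← mul_sub, h5]

end Main

end Groth.Agent.H61.DefObs
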