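/-
Presentations of flat deformations over local rings with nilpotent maximal ideal (helper61):
a flat deformation `B` of `B₀ = k[X]/(f)` over `A` is `A[X]/(F)` with `F` lifting `f` and all
relations among the `f` lifting to relations among the `F`; conversely such an `F` defines a flat
deformation.
-/
import Mathlib
import Groth.Agent.H61.DefFlat
import Groth.Agent.H61.DefObs

set_option autoImplicit false

namespace Groth.Agent.H61.DefPres

open MvPolynomial IsLocalRing Groth.Agent.H61.DefObs Groth.Agent.H61.DefFlat

universe u w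

section Red

variable {A : Type u} [CommRing A] [IsLocalRing A] {k : Type u} [Field k] (res : A →+* k)
  (hres : Function.Surjective res) {ι : Type w}

include hres in
lemma ker_res : RingHom.ker res = maximalIdeal A := by
  haveI : (RingHom.ker res).IsMaximal := RingHom.ker_isMaximal_of_surjective res hres
  exact IsLocalRing.eq_maximalIdeal inferInstance

include hres in
lemma mem_smul_top_iff (G : MvPolynomial ι A) :
    G ∈ (maximalIdeal A • ⊤ : Submodule A (MvPolynomial ι A)) ↔ map res G = 0 := by
  rw [Ideal.smul_top_eq_map, Submodule.restrictScalars_mem, ← RingHom.mem_ker, MvPolynomial.ker_map,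
    ker_res res hres, MvPolynomial.algebraMap_eq]

include hres in
lemma isNilpotent_ker_map (hnil : IsNilpotent (maximalIdeal A)) :
    IsNilpotent (RingHom.ker (map res : MvPolynomial ι A →+* MvPolynomial ι k)) := by
  obtain ⟨n, hn⟩ := hnil
  refine ⟨n, ?_⟩
  rw [MvPolynomial.ker_map, ker_res res hres, ← Ideal.map_pow, hn, Ideal.zero_eq_bot, Ideal.map_bot]
  rfl

include hres in
lemma C_mem_ker {m : A} (hm : m ∈ maximalIdeal A) :
    (C m : MvPolynomial ι A) ∈ RingHom.ker (map res : MvPolynomial ι A →+* MvPolynomial ι k) := by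
  rw [← ker_res res hres, RingHom.mem_ker] at hm
  rw [RingHom.mem_ker, map_C, hm, map_zero]

include hres in
/-- `𝔪 • N ≤ ker(red) • N'` for an `A`-submodule `N` contained in a `P`-submodule `N'` -/
lemma smul_le_ker_smul {M : Type*} [AddCommGroup M] [Module (MvPolynomial ι A) M] [Module A M]
    [IsScalarTower A (MvPolynomial ι A) M] (N : Submodule A M)
    (N' : Submodule (MvPolynomial ι A) M) (hN : ∀ x ∈ N, x ∈ N') {x : M}
    (hx : x ∈ maximalIdeal A • N) :
    x ∈ (RingHom.ker (map res : MvPolynomial ι A →+* MvPolynomial ι k)) • N' := by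
  refine Submodule.smul_induction_on hx ?_ ?_
  · intro m hm n hn
    have h2 : m • n = (C m : MvPolynomial ι A) • n := by
      rw [← MvPolynomial.algebraMap_eq, algebraMap_smul]
    rw [h2]
    exact Submodule.smul_mem_smul (C_mem_ker res hres hm) (hN n hn)
  · intro x y hx hy
    exact Submodule.add_mem _ hx hy

end Red

section Pres

variable {A : Type u} [CommRing A] [IsLocalRing A] {k : Type u} [Field k] (res : A →+* k)
  (hres : Function.Surjective res) (hnil : IsNilpotent (maximalIdeal A))
  {B : Type u} [CommRing B] [Algebra A B] [Module.Flat A B]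
  {B₀ : Type u} [CommRing B₀] [Algebra k B₀]
  (π : B →+* B₀) (hπ : Function.Surjective π)
  (hπalg : ∀ a, π (algebraMap A B a) = algebraMap k B₀ (res a))
  (hkerπ : RingHom.ker π = (maximalIdeal A).map (algebraMap A B))
  {ι : Type w} (π₀ : MvPolynomial ι k →ₐ[k] B₀) (hπ₀ : Function.Surjective π₀)
  {σ : Type*} (f : σ → MvPolynomial ι k)
  (hf : RingHom.ker π₀.toRingHom = Ideal.span (Set.range f))

include hres hnil hπ hπalg hkerπ hπ₀ hf in
/-- **presentation of a flat deformation** -/
theorem exists_pres :
    ∃ (φ : MvPolynomial ι A →ₐ[A] B) (F : σ → MvPolynomial ι A),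
      Function.Surjective φ ∧ RingHom.ker φ.toRingHom = Ideal.span (Set.range F) ∧
      (∀ s, map res (F s) = f s) ∧ (∀ q, π (φ q) = π₀ (map res q)) ∧
      RelLift (map res : MvPolynomial ι A →+* MvPolynomial ι k) F ∧
      (∀ D : σ →₀ MvPolynomial ι A, (∀ s, map res (D s) = 0) → lc F D = 0 →
        D ∈ (RingHom.ker (map res : MvPolynomial ι A →+* MvPolynomial ι k)) •
          LinearMap.ker (lc F)) := by
  classical
  set 𝔪 := maximalIdeal A with h𝔪
  set red : MvPolynomial ι A →+* MvPolynomial ι k := map res with hred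
  have hredsurj : Function.Surjective red := map_surjective res hres
  choose x hx using fun i => hπ (π₀ (X i))
  let φ : MvPolynomial ι A →ₐ[A] B := aeval x
  have hcomp : ∀ q, π (φ q) = π₀ (red q) := by
    have h : π.comp φ.toRingHom = π₀.toRingHom.comp red := by
      apply MvPolynomial.ringHom_ext
      · intro a
        simp [φ, hπalg, red]
      · intro i
        simp [φ, hx, red]
    intro q
    exact congrArg (fun h => h q) h
  -- surjectivity
  have hφ : Function.Surjective φ := by
    have h1 : LinearMap.range φ.toLinearMap ⊔ 𝔪 • (⊤ : Submodule A B) = ⊤ := by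
      rw [eq_top_iff]
      intro b _
      obtain ⟨q₀, hq₀⟩ := hπ₀ (π b)
      obtain ⟨q, rfl⟩ := hredsurj q₀
      have h2 : b - φ q ∈ RingHom.ker π := by
        rw [RingHom.mem_ker, map_sub, hcomp, hq₀, sub_self]
      rw [hkerπ] at h2
      have h3 : b - φ q ∈ (𝔪 • ⊤ : Submodule A B) := by
        rw [Ideal.smul_top_eq_map]; exact h2
      have h4 : b = φ q + (b - φ q) := by ring
      rw [h4]
      exact Submodule.add_mem_sup ⟨q, rfl⟩ h3
    have h3 := eq_top_of_sup_smul_top 𝔪 hnil _ h1
    rw [LinearMap.range_eq_top] at h3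
    exact h3
  -- the kernel as an `A`-submodule
  set IA : Submodule A (MvPolynomial ι A) := LinearMap.ker φ.toLinearMap with hIA
  have hIAmem : ∀ G, G ∈ IA ↔ φ G = 0 := fun G => Iff.rfl
  have hc : ∀ G, φ G = 0 → red G = 0 → G ∈ 𝔪 • IA := by
    intro G h1 h2
    exact inf_smul_top_le_smul_ker 𝔪 φ.toLinearMap hφ ⟨h1, (mem_smul_top_iff res hres G).mpr h2⟩
  set J : Ideal (MvPolynomial ι A) := RingHom.ker red with hJ
  have hJnil : IsNilpotent J := isNilpotent_ker_map res hres hnil
  -- lifts of the generators
  have hlift1 : ∀ s, ∃ G, φ G = 0 ∧ red G = f s := by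
    intro s
    obtain ⟨G₁, hG₁⟩ := hredsurj (f s)
    have h1 : φ G₁ ∈ RingHom.ker π := by
      rw [RingHom.mem_ker, hcomp, hG₁]
      have : f s ∈ RingHom.ker π₀.toRingHom := by rw [hf]; exact Ideal.subset_span ⟨s, rfl⟩
      exact this
    rw [hkerπ] at h1
    have h2 : φ G₁ ∈ (𝔪 • ⊤ : Submodule A B) := by rw [Ideal.smul_top_eq_map]; exact h1
    have h3 : (𝔪 • ⊤ : Submodule A B) = (𝔪 • (⊤ : Submodule A (MvPolynomial ι A))).map φ.toLinearMap := by
      rw [Submodule.map_smul'', Submodule.map_top, LinearMap.range_eq_top.mpr hφ]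
    rw [h3] at h2
    obtain ⟨H, hH, hHG⟩ := h2
    refine ⟨G₁ - H, ?_, ?_⟩
    · rw [map_sub, sub_eq_zero]; exact hHG.symm
    · rw [map_sub, hG₁, (mem_smul_top_iff res hres H).mp hH, sub_zero]
  choose F hFker hFred using hlift1
  have hfam : (fun s => red (F s)) = f := funext hFred
  have hFmem : ∀ R : σ →₀ MvPolynomial ι A, φ (lc F R) = 0 := by
    intro R
    induction R using Finsupp.induction_linear with
    | zero => simp
    | add x y hx hy => rw [map_add, map_add, hx, hy, add_zero]
    | single s c => simp [lc, hFker]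
  have hkerle : ∀ G, φ G = 0 → G ∈ Ideal.span (Set.range F) := by
    have hle : (RingHom.ker φ.toRingHom) ≤ Ideal.span (Set.range F) ⊔
        J • (RingHom.ker φ.toRingHom) := by
      intro G hG
      have hG0 : φ G = 0 := hG
      have h1 : red G ∈ Ideal.span (Set.range f) := by
        rw [← hf, RingHom.mem_ker]
        change π₀ (red G) = 0
        rw [← hcomp, hG0, map_zero]
      obtain ⟨c, hc'⟩ := exists_lc_of_mem_span f h1
      obtain ⟨C', rfl⟩ := mr_surjective red hredsurj c
      have h2 : red (G - lc F C') = 0 := by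
        rw [map_sub, map_lc, hfam, hc', sub_self]
      have h3 : G - lc F C' ∈ 𝔪 • IA := hc _ (by rw [map_sub, hG0, hFmem, sub_zero]) h2
      have h4 : G - lc F C' ∈ J • (RingHom.ker φ.toRingHom) :=
        smul_le_ker_smul res hres IA (RingHom.ker φ.toRingHom) (fun x hx => hx) h3
      have h5 : G = lc F C' + (G - lc F C') := by ring
      rw [h5]
      exact Submodule.add_mem_sup (lc_mem_span F C') h4
    intro G hG
    exact le_of_le_sup_smul J hJnil hle hG
  have hker : RingHom.ker φ.toRingHom = Ideal.span (Set.range F) := by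
    apply le_antisymm
    · intro G hG; exact hkerle G hG
    · rw [Ideal.span_le]
      rintro _ ⟨s, rfl⟩
      exact hFker s
  -- relations lift
  have hrel : RelLift red F := by
    intro r hr
    rw [hfam] at hr
    obtain ⟨G, rfl⟩ := mr_surjective red hredsurj r
    have h1 : red (lc F G) = 0 := by rw [map_lc, hfam, hr]
    have h2 : lc F G ∈ 𝔪 • IA := hc _ (hFmem G) h1
    have h3 : lc F G ∈ J • (Submodule.span (MvPolynomial ι A) (Set.range F)) := by
      refine smul_le_ker_smul res hres IA _ (fun x hx => ?_) h2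
      exact hkerle x hx
    rw [Submodule.mem_ideal_smul_span_iff_exists_sum] at h3
    obtain ⟨a, ha, hsum⟩ := h3
    have hsum' : lc F a = lc F G := by
      rw [← hsum]; rfl
    refine ⟨G - a, ?_, ?_⟩
    · rw [map_sub, sub_eq_self]
      refine Finsupp.ext fun s => ?_
      rw [mr_apply, Finsupp.zero_apply]
      exact ha s
    · rw [map_sub, hsum', sub_self]
  refine ⟨φ, F, hφ, hker, hFred, hcomp, hrel, ?_⟩
  -- the relation module
  intro D hD hD0
  have hIAflat : Module.Flat A IA :=
    flat_ker IA.subtype φ.toLinearMap (Submodule.injective_subtype _)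
      (LinearMap.exact_subtype_ker_map _) hφ
  let Φ : (σ →₀ MvPolynomial ι A) →ₗ[A] IA :=
    LinearMap.codRestrict IA ((lc F).restrictScalars A) (fun R => hFmem R)
  have hΦ : Function.Surjective Φ := by
    rintro ⟨y, hy⟩
    obtain ⟨R, hR⟩ := exists_lc_of_mem_span F (hkerle y hy)
    exact ⟨R, Subtype.ext hR⟩
  have hDtop : D ∈ 𝔪 • (⊤ : Submodule A (σ →₀ MvPolynomial ι A)) := by
    have hsingle : ∀ s (d : MvPolynomial ι A), d ∈ (𝔪 • ⊤ : Submodule A (MvPolynomial ι A)) →
        Finsupp.single s d ∈ 𝔪 • (⊤ : Submodule A (σ →₀ MvPolynomial ι A)) := by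
      intro s d hd
      refine Submodule.smul_induction_on hd ?_ ?_
      · intro m hm n _
        rw [← Finsupp.smul_single]
        exact Submodule.smul_mem_smul hm Submodule.mem_top
      · intro x y hx hy
        rw [Finsupp.single_add]
        exact Submodule.add_mem _ hx hy
    rw [← Finsupp.sum_single D]
    refine Submodule.sum_mem _ fun s _ => hsingle s _ ?_
    exact (mem_smul_top_iff res hres _).mpr (hD s)
  have hDker : D ∈ LinearMap.ker Φ := by
    rw [LinearMap.mem_ker]
    exact Subtype.ext hD0
  have h1 : D ∈ 𝔪 • LinearMap.ker Φ := inf_smul_top_le_smul_ker 𝔪 Φ hΦ ⟨hDker, hDtop⟩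
  refine smul_le_ker_smul res hres (LinearMap.ker Φ) (LinearMap.ker (lc F)) (fun x hx => ?_) h1
  rw [LinearMap.mem_ker] at hx ⊢
  exact congrArg Subtype.val hx

end Pres

section OfPres

variable {A : Type u} [CommRing A] [IsLocalRing A] {k : Type u} [Field k] (res : A →+* k)
  (hres : Function.Surjective res) (hnil : IsNilpotent (maximalIdeal A)) {ι : Type w} {σ : Type*}
  (F : σ → MvPolynomial ι A)

include hres hnil in
/-- **flatness criterion**: if all relations over `k` lift, the quotient is flat -/
theorem flat_of_relLift (h : RelLift (map res : MvPolynomial ι A →+* MvPolynomial ι k) F) :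
    Module.Flat A (MvPolynomial ι A ⧸ Ideal.span (Set.range F)) := by
  set I := Ideal.span (Set.range F) with hI
  have h1 : Module.Flat A (MvPolynomial ι A ⧸ I.restrictScalars A) := by
    apply flat_quotient_of_inf_le hnil
    rintro x ⟨hxI, hxm⟩
    obtain ⟨G, rfl⟩ := exists_lc_of_mem_span F hxI
    have h2 : map res (lc F G) = 0 := (mem_smul_top_iff res hres _).mp hxm
    rw [map_lc] at h2
    obtain ⟨R, hR, hR0⟩ := h _ h2
    have hD : ∀ s, map res ((G - R) s) = 0 := by
      intro s
      have := congrArg (fun v => v s) hR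
      simp only [mr_apply] at this
      rw [Finsupp.sub_apply, map_sub, this, sub_self]
    have hx : lc F G = lc F (G - R) := by rw [map_sub, hR0, sub_zero]
    rw [hx, Finsupp.linearCombination_apply]
    refine Submodule.sum_mem _ fun s _ => ?_
    have hmem : ∀ d ∈ (maximalIdeal A • ⊤ : Submodule A (MvPolynomial ι A)),
        d • F s ∈ maximalIdeal A • I.restrictScalars A := by
      intro d hd
      refine Submodule.smul_induction_on hd ?_ ?_
      · intro m hm n _
        rw [smul_assoc]
        exact Submodule.smul_mem_smul hm (I.mul_mem_left n (Ideal.subset_span ⟨s, rfl⟩))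
      · intro x y hx hy
        rw [add_smul]
        exact Submodule.add_mem _ hx hy
    exact hmem _ ((mem_smul_top_iff res hres _).mpr (hD s))
  exact Module.Flat.of_linearEquiv (Submodule.Quotient.restrictScalarsEquiv A I).symm

end OfPres

/-- an algebraic deformation of `B₀` over the local ring `A` with residue map `res` -/
structure AlgDef (A : Type u) [CommRing A] [IsLocalRing A] {k : Type u} [Field k] (res : A →+* k)
    (B₀ : Type u) [CommRing B₀] [Algebra k B₀] where
  B : Type u
  [ring : CommRing B]
  [alg : Algebra A B]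
  [flat : Module.Flat A B]
  π : B →+* B₀
  π_surj : Function.Surjective π
  π_alg : ∀ a, π (algebraMap A B a) = algebraMap k B₀ (res a)
  ker_π : RingHom.ker π = (maximalIdeal A).map (algebraMap A B)

attribute [instance] AlgDef.ring AlgDef.alg AlgDef.flat

/-- a base-change datum between algebraic deformations over `p : A' → A` -/
structure AlgDef.BC {A' A : Type u} [CommRing A'] [IsLocalRing A'] [CommRing A] [IsLocalRing A]
    {k : Type u} [Field k] {res' : A' →+* k} {res : A →+* k} {B₀ : Type u} [CommRing B₀]
    [Algebra k B₀] (D' : AlgDef A' res' B₀) (D : AlgDef A res B₀) (p : A' →+* A) where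
  β : D'.B →+* D.B
  β_alg : ∀ a, β (algebraMap A' D'.B a) = algebraMap A D.B (p a)
  π_β : ∀ b, D.π (β b) = D'.π b
  β_surj : Function.Surjective β
  ker_β : RingHom.ker β = (RingHom.ker p).map (algebraMap A' D'.B)

section OfPres2

variable {A : Type (max u w)} [CommRing A] [IsLocalRing A] {k : Type (max u w)} [Field k]
  (res : A →+* k)
  (hres : Function.Surjective res) (hnil : IsNilpotent (maximalIdeal A))
  {B₀ : Type (max u w)} [CommRing B₀] [Algebra k B₀]
  {ι : Type w} (π₀ : MvPolynomial ι k →ₐ[k] B₀) (hπ₀ : Function.Surjective π₀)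
  {σ : Type*} (f : σ → MvPolynomial ι k)
  (hf : RingHom.ker π₀.toRingHom = Ideal.span (Set.range f))
  (F : σ → MvPolynomial ι A) (hF : ∀ s, map res (F s) = f s)
  (h : RelLift (map res : MvPolynomial ι A →+* MvPolynomial ι k) F)

include hf hF in
lemma span_le_ker_comp :
    ∀ a ∈ Ideal.span (Set.range F), (π₀.toRingHom.comp (map res)) a = 0 := by
  have hle : Ideal.span (Set.range F) ≤ RingHom.ker (π₀.toRingHom.comp (map res)) := by
    rw [Ideal.span_le]
    rintro _ ⟨s, rfl⟩
    change π₀.toRingHom (map res (F s)) = 0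
    rw [hF]
    have : f s ∈ RingHom.ker π₀.toRingHom := by rw [hf]; exact Ideal.subset_span ⟨s, rfl⟩
    exact this
  exact fun a ha => hle ha

/-- the algebraic deformation defined by a lifted family of relations -/
noncomputable def ofPres : AlgDef A res B₀ where
  B := MvPolynomial ι A ⧸ Ideal.span (Set.range F)
  flat := flat_of_relLift res hres hnil F h
  π := Ideal.Quotient.lift _ (π₀.toRingHom.comp (map res)) (span_le_ker_comp res π₀ f hf F hF)
  π_surj := by
    apply Ideal.Quotient.lift_surjective_of_surjective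
    exact hπ₀.comp (map_surjective res hres)
  π_alg := fun a => by
    change Ideal.Quotient.lift _ (π₀.toRingHom.comp (map res)) _ (Ideal.Quotient.mk _ (C a)) = _
    rw [Ideal.Quotient.lift_mk]
    change π₀ (map res (C a)) = _
    rw [map_C, ← MvPolynomial.algebraMap_eq, π₀.commutes]
  ker_π := by
    apply le_antisymm
    · intro x hx
      obtain ⟨G, rfl⟩ := Ideal.Quotient.mk_surjective x
      rw [RingHom.mem_ker, Ideal.Quotient.lift_mk] at hx
      have h1 : map res G ∈ Ideal.span (Set.range f) := by rw [← hf]; exact hx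
      obtain ⟨c, hc⟩ := exists_lc_of_mem_span f h1
      obtain ⟨C', rfl⟩ := mr_surjective (map res) (map_surjective res hres) c
      have hfam : (fun s => map res (F s)) = f := funext hF
      have h2 : map res (G - lc F C') = 0 := by rw [map_sub, map_lc, hfam, hc, sub_self]
      have h3 : G - lc F C' ∈ (maximalIdeal A).map (C : A →+* MvPolynomial ι A) := by
        rw [← ker_res res hres, ← MvPolynomial.ker_map]; exact h2
      have h4 : Ideal.Quotient.mk (Ideal.span (Set.range F)) G =
          Ideal.Quotient.mk (Ideal.span (Set.range F)) (G - lc F C') := by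
        rw [map_sub, (Ideal.Quotient.eq_zero_iff_mem).mpr (lc_mem_span F C'), sub_zero]
      rw [h4]
      have h5 := Ideal.mem_map_of_mem (Ideal.Quotient.mk (Ideal.span (Set.range F))) h3
      rw [Ideal.map_map] at h5
      exact h5
    · rw [Ideal.map_le_iff_le_comap]
      intro a ha
      rw [Ideal.mem_comap, RingHom.mem_ker]
      change Ideal.Quotient.lift _ (π₀.toRingHom.comp (map res)) _ (Ideal.Quotient.mk _ (C a)) = _
      rw [Ideal.Quotient.lift_mk]
      change π₀ (map res (C a)) = _
      rw [← ker_res res hres, RingHom.mem_ker] at ha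
      rw [map_C, ha, map_zero, map_zero]

end OfPres2

section Small

variable {A' A : Type (max u w)} [CommRing A'] [IsLocalRing A'] [CommRing A] [IsLocalRing A]
  {k : Type (max u w)} [Field k] (res' : A' →+* k) (res : A →+* k)
  (hres' : Function.Surjective res') (hres : Function.Surjective res)
  (hnil' : IsNilpotent (maximalIdeal A')) (hnil : IsNilpotent (maximalIdeal A))
  (p : A' →+* A) (hp : Function.Surjective p) (hpres : ∀ a, res (p a) = res' a)
  (t : A') (hker : RingHom.ker p = Ideal.span {t}) (ht0 : t ≠ 0)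
  (ht : ∀ m ∈ maximalIdeal A', m * t = 0)

include hker in
lemma ker_map_eq_span {ι : Type w} :
    RingHom.ker (map p : MvPolynomial ι A' →+* MvPolynomial ι A) = Ideal.span {C t} := by
  rw [MvPolynomial.ker_map, hker, Ideal.map_span, Set.image_singleton]

include hres' ht0 ht in
lemma C_mul_eq_zero_iff {ι : Type w} (H : MvPolynomial ι A') :
    C t * H = 0 ↔ map res' H = 0 := by
  have key : ∀ a : A', t * a = 0 ↔ res' a = 0 := by
    intro a
    constructor
    · intro h
      by_contra hne
      have h1 : a ∉ maximalIdeal A' := by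
        rw [← ker_res res' hres', RingHom.mem_ker]; exact hne
      have h2 : IsUnit a := by
        by_contra h3
        exact h1 ((IsLocalRing.mem_maximalIdeal a).mpr h3)
      exact ht0 (by rwa [h2.mul_left_eq_zero] at h)
    · intro h
      have h1 : a ∈ maximalIdeal A' := by
        rw [← ker_res res' hres', RingHom.mem_ker]; exact h
      rw [mul_comm]
      exact ht a h1
  rw [MvPolynomial.ext_iff, MvPolynomial.ext_iff]
  refine forall_congr' fun m => ?_
  rw [coeff_C_mul, coeff_map, coeff_zero, coeff_zero]
  exact key _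

variable {B₀ : Type (max u w)} [CommRing B₀] [Algebra k B₀]
  {ι : Type w} (π₀ : MvPolynomial ι k →ₐ[k] B₀) (hπ₀ : Function.Surjective π₀)
  {σ : Type*} (f : σ → MvPolynomial ι k)
  (hf : RingHom.ker π₀.toRingHom = Ideal.span (Set.range f))

include hres' hres hnil' hnil hp hpres hker ht0 ht hπ₀ hf in
/-- **lifting a flat deformation along a principal small extension when `T² = 0`** -/
theorem exists_small_lift
    (hT2 : ∀ ob : LinearMap.ker (lc f) →+ B₀, (∀ c r, ob (c • r) = π₀ c * ob r) →
      (∀ (a b : σ →₀ MvPolynomial ι k) (h : lc f a • b - lc f b • a ∈ LinearMap.ker (lc f)),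
        ob ⟨_, h⟩ = 0) →
      ∃ g : σ → B₀, ∀ r : LinearMap.ker (lc f),
        ob r = (r : σ →₀ MvPolynomial ι k).sum (fun s c => π₀ c * g s))
    (D : AlgDef A res B₀) : ∃ D' : AlgDef A' res' B₀, Nonempty (AlgDef.BC D' D p) := by
  classical
  obtain ⟨φ, F, hφ, hkerφ, hFred, hcomp, hrel, hflat⟩ :=
    exists_pres res hres hnil D.π D.π_surj D.π_alg D.ker_π π₀ hπ₀ f hf
  obtain rfl : f = fun s => map res (F s) := (funext hFred).symm
  letI : Algebra (MvPolynomial ι k) B₀ := π₀.toRingHom.toAlgebra
  have hcompmap : ∀ H : MvPolynomial ι A', map res (map p H) = map res' H := by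
    intro H
    rw [MvPolynomial.map_map]
    have : res.comp p = res' := RingHom.ext hpres
    rw [this]
  obtain ⟨F'', hF''pp, hrel''⟩ := Groth.Agent.H61.DefObs.exists_lift (B₀ := B₀)
    (map p : MvPolynomial ι A' →+* MvPolynomial ι A)
    (map res : MvPolynomial ι A →+* MvPolynomial ι k) (map_surjective p hp)
    (map_surjective res hres) (C t) (ker_map_eq_span p t hker)
    (fun H => by rw [hcompmap]; exact C_mul_eq_zero_iff res' hres' t ht0 ht H) F hf hflat hrel hπ₀
    (fun ob htriv => by
      obtain ⟨g, hg⟩ := hT2 ob.toAddMonoidHom (fun c r => by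
        change ob (c • r) = _
        rw [map_smul]
        rfl) htriv
      exact ⟨g, hg⟩)
  have hredcomp : (map res : MvPolynomial ι A →+* MvPolynomial ι k).comp
      (map p : MvPolynomial ι A' →+* MvPolynomial ι A) = map res' := RingHom.ext hcompmap
  rw [hredcomp] at hrel''
  have hF''red : ∀ s, map res' (F'' s) = map res (F s) := fun s => by
    rw [← hcompmap, hF''pp]
  refine ⟨ofPres res' hres' hnil' π₀ hπ₀ _ hf F'' hF''red hrel'', ⟨?_⟩⟩
  have hlift : ∀ a ∈ Ideal.span (Set.range F''), (φ.toRingHom.comp (map p)) a = 0 := by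
    have hle : Ideal.span (Set.range F'') ≤ RingHom.ker (φ.toRingHom.comp (map p)) := by
      rw [Ideal.span_le]
      rintro _ ⟨s, rfl⟩
      change φ.toRingHom (map p (F'' s)) = 0
      rw [hF''pp]
      have : F s ∈ RingHom.ker φ.toRingHom := by rw [hkerφ]; exact Ideal.subset_span ⟨s, rfl⟩
      exact this
    exact fun a ha => hle ha
  refine
    { β := Ideal.Quotient.lift _ (φ.toRingHom.comp (map p)) hlift
      β_alg := ?_
      π_β := ?_
      β_surj := ?_
      ker_β := ?_ }
  · intro a
    change Ideal.Quotient.lift _ (φ.toRingHom.comp (map p)) hlift (Ideal.Quotient.mk _ (C a)) = _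
    rw [Ideal.Quotient.lift_mk]
    change φ (map p (C a)) = _
    rw [map_C, ← MvPolynomial.algebraMap_eq, φ.commutes]
  · intro b
    obtain ⟨G, rfl⟩ := Ideal.Quotient.mk_surjective b
    change D.π (Ideal.Quotient.lift _ (φ.toRingHom.comp (map p)) hlift (Ideal.Quotient.mk _ G)) =
      Ideal.Quotient.lift _ (π₀.toRingHom.comp (map res')) _ (Ideal.Quotient.mk _ G)
    rw [Ideal.Quotient.lift_mk, Ideal.Quotient.lift_mk]
    change D.π (φ (map p G)) = π₀ (map res' G)
    rw [hcomp, hcompmap]
  · apply Ideal.Quotient.lift_surjective_of_surjective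
    exact hφ.comp (map_surjective p hp)
  · apply le_antisymm
    · intro x hx
      obtain ⟨G, rfl⟩ := Ideal.Quotient.mk_surjective x
      have hx' : φ.toRingHom (map p G) = 0 := hx
      have h1 : map p G ∈ Ideal.span (Set.range F) := by rw [← hkerφ]; exact hx'
      obtain ⟨c, hc⟩ := exists_lc_of_mem_span F h1
      obtain ⟨C', rfl⟩ := mr_surjective (map p) (map_surjective p hp) c
      have hfam : (fun s => map p (F'' s)) = F := funext hF''pp
      have h2 : map p (G - lc F'' C') = 0 := by rw [map_sub, map_lc, hfam, hc, sub_self]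
      have h3 : G - lc F'' C' ∈ (RingHom.ker p).map (C : A' →+* MvPolynomial ι A') := by
        rw [← MvPolynomial.ker_map]; exact h2
      have h4 : Ideal.Quotient.mk (Ideal.span (Set.range F'')) G =
          Ideal.Quotient.mk (Ideal.span (Set.range F'')) (G - lc F'' C') := by
        rw [map_sub, (Ideal.Quotient.eq_zero_iff_mem).mpr (lc_mem_span F'' C'), sub_zero]
      rw [h4]
      have h5 := Ideal.mem_map_of_mem (Ideal.Quotient.mk (Ideal.span (Set.range F''))) h3
      rw [Ideal.map_map] at h5
      exact h5
    · rw [Ideal.map_le_iff_le_comap]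
      intro a ha
      rw [Ideal.mem_comap, RingHom.mem_ker]
      change Ideal.Quotient.lift _ (φ.toRingHom.comp (map p)) hlift (Ideal.Quotient.mk _ (C a)) = _
      rw [Ideal.Quotient.lift_mk]
      change φ (map p (C a)) = _
      rw [RingHom.mem_ker] at ha
      rw [map_C, ha, map_zero, map_zero]

end Small

end Groth.Agent.H61.DefPres
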