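/-
Dictionary between deformations of an affine scheme `Spec B₀` over Artinian bases and algebraic
deformations (flat algebras) (helper61).
-/
import Mathlib
import Groth.Prelude.Def_ArtFun4
import Groth.Agent.S0440
import Groth.Agent.H61.DefPres

set_option autoImplicit false

namespace Groth.Agent.H61.DefDict

open AlgebraicGeometry CategoryTheory Limits IsLocalRing ArtFun ArtFun.Art
open Groth.Agent.H61.DefPres

universe u

/-- a commutative square of rings with surjective parallel sides and matching kernels is a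
pushout -/
theorem isPushout_of_surjective {A' A B' B : Type u} [CommRing A'] [CommRing A] [CommRing B']
    [CommRing B] (a' : A' →+* B') (p : A' →+* A) (β : B' →+* B) (a : A →+* B)
    (hcomm : ∀ x, β (a' x) = a (p x)) (hp : Function.Surjective p) (hβ : Function.Surjective β)
    (hker : RingHom.ker β = (RingHom.ker p).map a') :
    IsPushout (CommRingCat.ofHom a') (CommRingCat.ofHom p) (CommRingCat.ofHom β)
      (CommRingCat.ofHom a) := by
  have hkerle : ∀ (S : CommRingCat.{u}) (inl : CommRingCat.of B' ⟶ S) (inr : CommRingCat.of A ⟶ S),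
      CommRingCat.ofHom a' ≫ inl = CommRingCat.ofHom p ≫ inr →
      RingHom.ker β ≤ RingHom.ker inl.hom := by
    intro S inl inr hc
    rw [hker, Ideal.map_le_iff_le_comap]
    intro x hx
    rw [Ideal.mem_comap, RingHom.mem_ker]
    have h1 := congrArg (fun f => f.hom x) hc
    simp only [CommRingCat.hom_comp, CommRingCat.hom_ofHom, RingHom.comp_apply] at h1
    rw [h1, (RingHom.mem_ker).mp hx, map_zero]
  refine ⟨⟨?_⟩, ⟨PushoutCocone.IsColimit.mk _ (fun s => CommRingCat.ofHom
    (RingHom.liftOfRightInverse β (Function.surjInv hβ) (Function.rightInverse_surjInv hβ)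
      ⟨s.inl.hom, hkerle _ s.inl s.inr s.condition⟩)) ?_ ?_ ?_⟩⟩
  · ext x
    exact hcomm x
  · intro s
    ext b
    simp only [CommRingCat.hom_comp, CommRingCat.hom_ofHom, RingHom.comp_apply]
    exact RingHom.liftOfRightInverse_comp_apply _ _ _ _ b
  · intro s
    ext y
    obtain ⟨x, rfl⟩ := hp y
    have h1 := congrArg (fun f => f.hom x) s.condition
    simp only [CommRingCat.hom_comp, CommRingCat.hom_ofHom, RingHom.comp_apply] at h1
    simp only [CommRingCat.hom_comp, CommRingCat.hom_ofHom, RingHom.comp_apply]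
    rw [← hcomm, RingHom.liftOfRightInverse_comp_apply]
    exact h1
  · intro s m hm1 hm2
    ext y
    obtain ⟨b, rfl⟩ := hβ y
    have h1 := congrArg (fun f => f.hom b) hm1
    simp only [CommRingCat.hom_comp, CommRingCat.hom_ofHom, RingHom.comp_apply] at h1
    simp only [CommRingCat.hom_ofHom]
    rw [RingHom.liftOfRightInverse_comp_apply]
    exact h1

variable {Λ k : Type u} [CommRing Λ] [Field k] [Algebra Λ k]
variable (B₀ : Type u) [CommRing B₀] [Algebra k B₀]

/-- the closed fibre -/
noncomputable abbrev X₀ : Scheme.{u} := Spec (CommRingCat.of B₀)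

/-- its structure morphism -/
noncomputable abbrev x₀ : X₀ B₀ ⟶ specPt k := Spec.map (CommRingCat.ofHom (algebraMap k B₀))

lemma isNilpotent_maximalIdeal (A : Art Λ k) : IsNilpotent (maximalIdeal A.carrier) := by
  rw [← IsLocalRing.jacobson_eq_maximalIdeal (⊥ : Ideal A.carrier) bot_ne_top]
  exact IsArtinianRing.isNilpotent_jacobson_bot

variable {B₀}

/-- the deformation of `Spec B₀` attached to an algebraic deformation -/
noncomputable def ofAlg (A : Art Λ k) (D : AlgDef A.carrier A.res.toRingHom B₀) :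
    DefSch (X₀ B₀) (x₀ B₀) A where
  total := Spec (CommRingCat.of D.B)
  f := Spec.map (CommRingCat.ofHom (algebraMap A.carrier D.B))
  flat := Flat.SpecMap_iff.mpr (RingHom.flat_algebraMap_iff.mpr inferInstance)
  i := Spec.map (CommRingCat.ofHom D.π)
  isPullback := by
    refine isPullback_SpecMap_of_isPushout _ _ _ _
      (isPushout_of_surjective (algebraMap A.carrier D.B) A.res.toRingHom D.π (algebraMap k B₀)
        D.π_alg A.res_surjective D.π_surj ?_)
    rw [D.ker_π, ker_res A.res.toRingHom A.res_surjective]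

/-- **base change dictionary** -/
theorem iso_of_bc {A' A : Art Λ k} (g : A' ⟶ A) (D' : AlgDef A'.carrier A'.res.toRingHom B₀)
    (D : AlgDef A.carrier A.res.toRingHom B₀) (bc : AlgDef.BC D' D g.toAlgHom.toRingHom)
    (hg : Function.Surjective g) :
    Nonempty (((ofAlg A' D').baseChange g).Iso (ofAlg A D)) := by
  have sq : IsPullback (show (ofAlg A D).total ⟶ (ofAlg A' D').total from
      Spec.map (CommRingCat.ofHom bc.β)) (ofAlg A D).f (ofAlg A' D').f (specMap g) :=
    isPullback_SpecMap_of_isPushout _ _ _ _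
      (isPushout_of_surjective (algebraMap A'.carrier D'.B) g.toAlgHom.toRingHom bc.β
        (algebraMap A.carrier D.B) bc.β_alg hg bc.β_surj bc.ker_β)
  have hP := IsPullback.of_hasPullback (ofAlg A' D').f (specMap g)
  refine ⟨⟨hP.isoIsPullback _ _ sq, hP.isoIsPullback_hom_snd _ _ sq, ?_⟩⟩
  apply sq.hom_ext
  · rw [Category.assoc, hP.isoIsPullback_hom_fst _ _ sq, DefSch.baseChange_i_fst]
    change Spec.map (CommRingCat.ofHom D'.π) = Spec.map (CommRingCat.ofHom D.π) ≫
      Spec.map (CommRingCat.ofHom bc.β)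
    rw [← Spec.map_comp]
    congr 1
    ext b
    exact (bc.π_β b).symm
  · rw [Category.assoc, hP.isoIsPullback_hom_snd _ _ sq]
    exact (DefSch.baseChange_i_f (ofAlg A' D') g).trans (ofAlg A D).isPullback.w.symm

/-- **every deformation of an affine scheme over an Artinian base is algebraic** -/
theorem exists_algDef (A : Art Λ k) (ξ : DefSch (X₀ B₀) (x₀ B₀) A) :
    ∃ D : AlgDef A.carrier A.res.toRingHom B₀, Nonempty (ξ.Iso (ofAlg A D)) := by
  have hesurj : Function.Surjective A.res.toRingHom := A.res_surjective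
  haveI : IsClosedImmersion (specRes A) := IsClosedImmersion.spec_of_surjective _ hesurj
  haveI : IsClosedImmersion ξ.i := MorphismProperty.of_isPullback ξ.isPullback.flip inferInstance
  haveI : Surjective (specRes A) := by
    refine ⟨fun y => ?_⟩
    obtain ⟨x⟩ : Nonempty (Spec (CommRingCat.of k)) := inferInstance
    refine ⟨x, ?_⟩
    have hsub : ∀ y₁ y₂ : Spec (CommRingCat.of A.carrier), y₁ = y₂ := by
      intro y₁ y₂
      apply PrimeSpectrum.ext
      haveI := y₁.isPrime
      haveI := y₂.isPrime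
      rw [IsLocalRing.eq_maximalIdeal (IsArtinianRing.isMaximal_of_isPrime y₁.asIdeal),
        IsLocalRing.eq_maximalIdeal (IsArtinianRing.isMaximal_of_isPrime y₂.asIdeal)]
    exact hsub _ _
  haveI : Surjective ξ.i := MorphismProperty.of_isPullback ξ.isPullback.flip inferInstance
  haveI : IsAffine ξ.total := Groth.Agent.S0440.result ξ.i ξ.i.surjective
  let gA : A.carrier →+* Γ(ξ.total, ⊤) :=
    ((Scheme.ΓSpecIso (CommRingCat.of A.carrier)).inv ≫ ξ.f.appTop).hom
  letI : Algebra A.carrier Γ(ξ.total, ⊤) := gA.toAlgebra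
  have hg : ξ.total.isoSpec.hom ≫
      Spec.map (CommRingCat.ofHom (algebraMap A.carrier Γ(ξ.total, ⊤))) = ξ.f := by
    have : CommRingCat.ofHom (algebraMap A.carrier Γ(ξ.total, ⊤)) =
        (Scheme.ΓSpecIso (CommRingCat.of A.carrier)).inv ≫ ξ.f.appTop := rfl
    rw [this, Spec.map_comp, Scheme.isoSpec_hom_naturality_assoc, Scheme.isoSpec_Spec_hom,
      ← Spec.map_comp, Iso.inv_hom_id, Spec.map_id, Category.comp_id]
  haveI hflat : Module.Flat A.carrier Γ(ξ.total, ⊤) := by
    have h1 : Spec.map (CommRingCat.ofHom (algebraMap A.carrier Γ(ξ.total, ⊤))) =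
        ξ.total.isoSpec.inv ≫ ξ.f := by
      rw [← hg, Iso.inv_hom_id_assoc]
    have h2 : Flat (Spec.map (CommRingCat.ofHom (algebraMap A.carrier Γ(ξ.total, ⊤)))) := by
      rw [h1]; infer_instance
    exact RingHom.flat_algebraMap_iff.mp (Flat.SpecMap_iff.mp h2)
  let i' : X₀ B₀ ⟶ Spec (CommRingCat.of Γ(ξ.total, ⊤)) := ξ.i ≫ ξ.total.isoSpec.hom
  let πc : CommRingCat.of Γ(ξ.total, ⊤) ⟶ CommRingCat.of B₀ := Spec.preimage i'
  have hπc : Spec.map πc = i' := Spec.map_preimage i'
  have hsq' : IsPullback (Spec.map πc) (x₀ B₀)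
      (Spec.map (CommRingCat.ofHom (algebraMap A.carrier Γ(ξ.total, ⊤)))) (specRes A) := by
    rw [hπc]
    exact ξ.isPullback.of_iso (Iso.refl _) ξ.total.isoSpec (Iso.refl _) (Iso.refl _)
      (by simp [i']) (by simp) (by simp [hg]) (by simp)
  -- the quotient by the maximal ideal
  set J : Ideal Γ(ξ.total, ⊤) := (maximalIdeal A.carrier).map (algebraMap A.carrier Γ(ξ.total, ⊤))
    with hJ
  have hkerle : RingHom.ker A.res.toRingHom ≤
      RingHom.ker ((Ideal.Quotient.mk J).comp (algebraMap A.carrier Γ(ξ.total, ⊤))) := by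
    intro a ha
    rw [ker_res A.res.toRingHom hesurj] at ha
    rw [RingHom.mem_ker, RingHom.comp_apply, Ideal.Quotient.eq_zero_iff_mem]
    exact Ideal.mem_map_of_mem _ ha
  let c : k →+* Γ(ξ.total, ⊤) ⧸ J :=
    RingHom.liftOfRightInverse A.res.toRingHom (Function.surjInv hesurj)
      (Function.rightInverse_surjInv hesurj)
      ⟨(Ideal.Quotient.mk J).comp (algebraMap A.carrier Γ(ξ.total, ⊤)), hkerle⟩
  have hc : ∀ a, c (A.res.toRingHom a) =
      Ideal.Quotient.mk J (algebraMap A.carrier Γ(ξ.total, ⊤) a) := fun a =>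
    RingHom.liftOfRightInverse_comp_apply _ _ _ _ a
  have P0 := isPushout_of_surjective (algebraMap A.carrier Γ(ξ.total, ⊤)) A.res.toRingHom
    (Ideal.Quotient.mk J) c (fun a => (hc a).symm) hesurj Ideal.Quotient.mk_surjective
    (by rw [Ideal.mk_ker, ker_res A.res.toRingHom hesurj])
  have P1 := isPullback_SpecMap_of_isPushout _ _ _ _ P0
  let θ : X₀ B₀ ≅ Spec (CommRingCat.of (Γ(ξ.total, ⊤) ⧸ J)) := hsq'.isoIsPullback _ _ P1
  have hθ1 : θ.hom ≫ Spec.map (CommRingCat.ofHom (Ideal.Quotient.mk J)) = Spec.map πc :=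
    hsq'.isoIsPullback_hom_fst _ _ P1
  let ψ : CommRingCat.of (Γ(ξ.total, ⊤) ⧸ J) ⟶ CommRingCat.of B₀ := Spec.preimage θ.hom
  let ψi : CommRingCat.of B₀ ⟶ CommRingCat.of (Γ(ξ.total, ⊤) ⧸ J) := Spec.preimage θ.inv
  have h1 : ψi ≫ ψ = 𝟙 _ := by
    apply Spec.map_injective
    rw [Spec.map_comp, Spec.map_preimage, Spec.map_preimage, Spec.map_id, Iso.hom_inv_id]
  have h2 : ψ ≫ ψi = 𝟙 _ := by
    apply Spec.map_injective
    rw [Spec.map_comp, Spec.map_preimage, Spec.map_preimage, Spec.map_id, Iso.inv_hom_id]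
  have hfac : CommRingCat.ofHom (Ideal.Quotient.mk J) ≫ ψ = πc := by
    apply Spec.map_injective
    rw [Spec.map_comp, Spec.map_preimage, hθ1]
  have hπeq : ∀ b, πc.hom b = ψ.hom (Ideal.Quotient.mk J b) := fun b => by
    rw [← hfac]; rfl
  have hψinj : Function.Injective ψ.hom := by
    intro a b hab
    have ha := congrArg (fun f => f.hom a) h2
    have hb := congrArg (fun f => f.hom b) h2
    simp only [CommRingCat.hom_comp, CommRingCat.hom_id, RingHom.comp_apply,
      RingHom.id_apply] at ha hb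
    rw [← ha, ← hb, hab]
  have hψsurj : Function.Surjective ψ.hom := by
    intro b
    refine ⟨ψi.hom b, ?_⟩
    have hb := congrArg (fun f => f.hom b) h1
    simpa using hb
  have hw : CommRingCat.ofHom (algebraMap A.carrier Γ(ξ.total, ⊤)) ≫ πc =
      CommRingCat.ofHom A.res.toRingHom ≫ CommRingCat.ofHom (algebraMap k B₀) := by
    apply Spec.map_injective
    rw [Spec.map_comp, Spec.map_comp]
    exact hsq'.w
  refine ⟨{ B := Γ(ξ.total, ⊤)
            ring := inferInstance
            alg := inferInstance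
            flat := hflat
            π := πc.hom
            π_surj := ?_
            π_alg := ?_
            ker_π := ?_ }, ⟨⟨ξ.total.isoSpec, hg, hπc.symm⟩⟩⟩
  · intro b
    obtain ⟨y, rfl⟩ := hψsurj b
    obtain ⟨z, rfl⟩ := Ideal.Quotient.mk_surjective y
    exact ⟨z, hπeq z⟩
  · intro a
    have := congrArg (fun f => f.hom a) hw
    simpa using this
  · ext b
    rw [RingHom.mem_ker, hπeq, map_eq_zero_iff ψ.hom hψinj, Ideal.Quotient.eq_zero_iff_mem]

end Groth.Agent.H61.DefDict

namespace Groth.Agent.H61.DefDict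

open AlgebraicGeometry CategoryTheory Limits IsLocalRing ArtFun ArtFun.Art
open Groth.Agent.H61.DefPres

universe u w

variable {Λ k : Type (max u w)} [CommRing Λ] [Field k] [Algebra Λ k]
variable {B₀ : Type (max u w)} [CommRing B₀] [Algebra k B₀]

open Groth.Agent.H61.DefObs in
/-- **unobstructedness along a small extension**: if every module map on the relations of a
presentation of `B₀` killing the Koszul relations is a coordinate map (`T² = 0`), then deformations
of `Spec B₀` lift along small extensions. -/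
theorem surjective_map_of_small {A' A : Art Λ k} (p : A' ⟶ A) (hp : IsSmallExt p)
    {ι : Type w} (π₀ : MvPolynomial ι k →ₐ[k] B₀) (hπ₀ : Function.Surjective π₀) {σ : Type*}
    (f : σ → MvPolynomial ι k) (hf : RingHom.ker π₀.toRingHom = Ideal.span (Set.range f))
    (hT2 : ∀ ob : LinearMap.ker (lc f) →+ B₀, (∀ c r, ob (c • r) = π₀ c * ob r) →
      (∀ (a b : σ →₀ MvPolynomial ι k) (h : lc f a • b - lc f b • a ∈ LinearMap.ker (lc f)),
        ob ⟨_, h⟩ = 0) →
      ∃ g : σ → B₀, ∀ r : LinearMap.ker (lc f),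
        ob r = (r : σ →₀ MvPolynomial ι k).sum (fun s c => π₀ c * g s)) :
    Function.Surjective ((defFunctor (Λ := Λ) (X₀ B₀) (x₀ B₀)).map p) := by
  intro q
  induction q using Quotient.inductionOn with
  | h ξ =>
  obtain ⟨D, ⟨e⟩⟩ := exists_algDef A ξ
  obtain ⟨hsurj, hne, hprin, hm⟩ := hp
  obtain ⟨t, ht⟩ := hprin.principal
  have ht' : RingHom.ker p.toAlgHom.toRingHom = Ideal.span {t} := ht
  have ht0 : t ≠ 0 := by
    rintro rfl
    apply hne
    rw [ht]
    simp
  have htm : ∀ m ∈ maximalIdeal A'.carrier, m * t = 0 := by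
    intro m hm'
    have h1 : m * t ∈ maximalIdeal A'.carrier * RingHom.ker p.toAlgHom :=
      Ideal.mul_mem_mul hm' (by rw [ht]; exact Submodule.mem_span_singleton_self t)
    rw [hm] at h1
    exact h1
  obtain ⟨D', ⟨bc⟩⟩ := exists_small_lift A'.res.toRingHom A.res.toRingHom A'.res_surjective
    A.res_surjective (isNilpotent_maximalIdeal A') (isNilpotent_maximalIdeal A)
    p.toAlgHom.toRingHom hsurj (fun a => Art.res_app p a) t ht' ht0 htm π₀ hπ₀ f hf hT2 D
  obtain ⟨e'⟩ := iso_of_bc p D' D bc hsurj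
  exact ⟨Quotient.mk _ (ofAlg A' D'), Quotient.sound ⟨e'.trans e.symm⟩⟩

end Groth.Agent.H61.DefDict
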