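import Groth.Agent.H61.DefIso

/-!
# Dictionary for liftings of deformations of an affine scheme (helper61)

Pairs (deformation over `A'`, identification of its base change with a given deformation over `A`)
versus algebraic deformations with a base-change datum.
-/

set_option autoImplicit false

open AlgebraicGeometry CategoryTheory Limits IsLocalRing ArtFun ArtFun.Art
open Groth.Agent.H61.DefPres Groth.Agent.H61.DefDict Groth.Agent.H61.DefIso

namespace Groth.Agent.H61.DefDict2

universe u

variable {Λ k : Type u} [CommRing Λ] [Field k] [Algebra Λ k]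
variable {B₀ : Type u} [CommRing B₀] [Algebra k B₀]

section IsoData

variable (A : Art Λ k) (D₁ D₂ : AlgDef A.carrier A.res.toRingHom B₀)

/-- the isomorphism of scheme deformations attached to a ring isomorphism -/
noncomputable def isoOfRingEquiv (φ : D₂.B ≃+* D₁.B)
    (hφ : ∀ a, φ (algebraMap A.carrier D₂.B a) = algebraMap A.carrier D₁.B a)
    (hπ : ∀ b, D₁.π (φ b) = D₂.π b) : (ofAlg A D₁).Iso (ofAlg A D₂) where
  iso :=
    { hom := Spec.map (CommRingCat.ofHom φ.toRingHom)
      inv := Spec.map (CommRingCat.ofHom φ.symm.toRingHom)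
      hom_inv_id := by
        change Spec.map (CommRingCat.ofHom φ.toRingHom) ≫
          Spec.map (CommRingCat.ofHom φ.symm.toRingHom) = 𝟙 (Spec (CommRingCat.of D₁.B))
        rw [← Spec.map_comp]
        have h1 : (CommRingCat.ofHom φ.symm.toRingHom) ≫ (CommRingCat.ofHom φ.toRingHom) =
            𝟙 (CommRingCat.of D₁.B) := by
          ext b
          exact φ.apply_symm_apply b
        rw [h1, Spec.map_id]
      inv_hom_id := by
        change Spec.map (CommRingCat.ofHom φ.symm.toRingHom) ≫
          Spec.map (CommRingCat.ofHom φ.toRingHom) = 𝟙 (Spec (CommRingCat.of D₂.B))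
        rw [← Spec.map_comp]
        have h2 : (CommRingCat.ofHom φ.toRingHom) ≫ (CommRingCat.ofHom φ.symm.toRingHom) =
            𝟙 (CommRingCat.of D₂.B) := by
          ext b
          exact φ.symm_apply_apply b
        rw [h2, Spec.map_id] }
  hom_f := by
    change Spec.map (CommRingCat.ofHom φ.toRingHom) ≫
      Spec.map (CommRingCat.ofHom (algebraMap A.carrier D₂.B)) =
      Spec.map (CommRingCat.ofHom (algebraMap A.carrier D₁.B))
    rw [← Spec.map_comp]
    congr 1
    ext a
    exact hφ a
  i_hom := by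
    change Spec.map (CommRingCat.ofHom D₁.π) ≫ Spec.map (CommRingCat.ofHom φ.toRingHom) =
      Spec.map (CommRingCat.ofHom D₂.π)
    rw [← Spec.map_comp]
    congr 1
    ext b
    exact hπ b

lemma isoOfRingEquiv_hom (φ : D₂.B ≃+* D₁.B)
    (hφ : ∀ a, φ (algebraMap A.carrier D₂.B a) = algebraMap A.carrier D₁.B a)
    (hπ : ∀ b, D₁.π (φ b) = D₂.π b) :
    (isoOfRingEquiv A D₁ D₂ φ hφ hπ).iso.hom = Spec.map (CommRingCat.ofHom φ.toRingHom) := rfl

/-- an isomorphism of scheme deformations comes from a ring isomorphism -/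
theorem ringEquiv_of_iso (e : (ofAlg A D₁).Iso (ofAlg A D₂)) :
    ∃ φ : D₂.B ≃+* D₁.B, (∀ a, φ (algebraMap A.carrier D₂.B a) = algebraMap A.carrier D₁.B a) ∧
      (∀ b, D₁.π (φ b) = D₂.π b) ∧
      (show Spec (CommRingCat.of D₁.B) ⟶ Spec (CommRingCat.of D₂.B) from e.iso.hom) =
        Spec.map (CommRingCat.ofHom φ.toRingHom) := by
  let ψ : CommRingCat.of D₂.B ⟶ CommRingCat.of D₁.B :=
    Spec.preimage (show Spec (CommRingCat.of D₁.B) ⟶ Spec (CommRingCat.of D₂.B) from e.iso.hom)
  let ψ' : CommRingCat.of D₁.B ⟶ CommRingCat.of D₂.B :=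
    Spec.preimage (show Spec (CommRingCat.of D₂.B) ⟶ Spec (CommRingCat.of D₁.B) from e.iso.inv)
  have h1 : Spec.map ψ = e.iso.hom := Spec.map_preimage _
  have h1' : Spec.map ψ' = e.iso.inv := Spec.map_preimage _
  have hc1 : ψ' ≫ ψ = 𝟙 _ := by
    apply Spec.map_injective
    rw [Spec.map_comp, h1, h1', Spec.map_id]
    exact e.iso.hom_inv_id
  have hc2 : ψ ≫ ψ' = 𝟙 _ := by
    apply Spec.map_injective
    rw [Spec.map_comp, h1, h1', Spec.map_id]
    exact e.iso.inv_hom_id
  let φ : D₂.B ≃+* D₁.B := RingEquiv.ofRingHom ψ.hom ψ'.hom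
    (RingHom.ext fun b => congrArg (fun g => g.hom b) hc1)
    (RingHom.ext fun b => congrArg (fun g => g.hom b) hc2)
  have hφψ : CommRingCat.ofHom φ.toRingHom = ψ := rfl
  refine ⟨φ, fun a => ?_, fun b => ?_, ?_⟩
  · have h2 : Spec.map ψ ≫ Spec.map (CommRingCat.ofHom (algebraMap A.carrier D₂.B)) =
        Spec.map (CommRingCat.ofHom (algebraMap A.carrier D₁.B)) := by
      rw [h1]
      exact e.hom_f
    rw [← Spec.map_comp] at h2
    have h3 := Spec.map_injective h2
    exact congrArg (fun g => g.hom a) h3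
  · have h2 : Spec.map (CommRingCat.ofHom D₁.π) ≫ Spec.map ψ =
        Spec.map (CommRingCat.ofHom D₂.π) := by
      rw [h1]
      exact e.i_hom
    rw [← Spec.map_comp] at h2
    have h3 := Spec.map_injective h2
    exact congrArg (fun g => g.hom b) h3
  · rw [hφψ, h1]

end IsoData

section BC

variable {A' A : Art Λ k} (g : A' ⟶ A) (hg : Function.Surjective g)
  (D' : AlgDef A'.carrier A'.res.toRingHom B₀) (D : AlgDef A.carrier A.res.toRingHom B₀)

include hg in
/-- the pullback square of a base-change datum -/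
theorem sq_of_bc (bc : AlgDef.BC D' D g.toAlgHom.toRingHom) :
    IsPullback (show (ofAlg A D).total ⟶ (ofAlg A' D').total from
      Spec.map (CommRingCat.ofHom bc.β)) (ofAlg A D).f (ofAlg A' D').f (specMap g) :=
  isPullback_SpecMap_of_isPushout _ _ _ _
    (isPushout_of_surjective (algebraMap A'.carrier D'.B) g.toAlgHom.toRingHom bc.β
      (algebraMap A.carrier D.B) bc.β_alg hg bc.β_surj bc.ker_β)

/-- the isomorphism of the base change with the target of a base-change datum -/
noncomputable def isoOfBC (bc : AlgDef.BC D' D g.toAlgHom.toRingHom) :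
    ((ofAlg A' D').baseChange g).Iso (ofAlg A D) where
  iso := (IsPullback.of_hasPullback (ofAlg A' D').f (specMap g)).isoIsPullback _ _
    (sq_of_bc g hg D' D bc)
  hom_f := (IsPullback.of_hasPullback (ofAlg A' D').f (specMap g)).isoIsPullback_hom_snd _ _
    (sq_of_bc g hg D' D bc)
  i_hom := by
    have sq := sq_of_bc g hg D' D bc
    have hP := IsPullback.of_hasPullback (ofAlg A' D').f (specMap g)
    apply sq.hom_ext
    · rw [Category.assoc, hP.isoIsPullback_hom_fst _ _ sq, DefSch.baseChange_i_fst]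
      change Spec.map (CommRingCat.ofHom D'.π) = Spec.map (CommRingCat.ofHom D.π) ≫
        Spec.map (CommRingCat.ofHom bc.β)
      rw [← Spec.map_comp]
      congr 1
      ext b
      exact (bc.π_β b).symm
    · rw [Category.assoc, hP.isoIsPullback_hom_snd _ _ sq]
      exact (DefSch.baseChange_i_f (ofAlg A' D') g).trans (ofAlg A D).isPullback.w.symm

lemma isoOfBC_hom_fst (bc : AlgDef.BC D' D g.toAlgHom.toRingHom) :
    (isoOfBC g hg D' D bc).iso.hom ≫ (show (ofAlg A D).total ⟶ (ofAlg A' D').total from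
      Spec.map (CommRingCat.ofHom bc.β)) = pullback.fst (ofAlg A' D').f (specMap g) :=
  (IsPullback.of_hasPullback (ofAlg A' D').f (specMap g)).isoIsPullback_hom_fst _ _
    (sq_of_bc g hg D' D bc)

lemma isoOfBC_hom_snd (bc : AlgDef.BC D' D g.toAlgHom.toRingHom) :
    (isoOfBC g hg D' D bc).iso.hom ≫ (ofAlg A D).f = pullback.snd (ofAlg A' D').f (specMap g) :=
  (isoOfBC g hg D' D bc).hom_f

end BC

end Groth.Agent.H61.DefDict2
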