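import Groth.Agent.H61.DefDict

/-!
# Isomorphisms and base changes of algebraic deformations (helper61)

* `iso_of_ringEquiv` : a ring isomorphism of algebraic deformations (over `A`, compatible with the
  reductions) gives an isomorphism of the corresponding scheme deformations of `Spec B₀`;
* `hom_of_iso` : conversely an isomorphism of the scheme deformations comes from a ring
  homomorphism compatible with the structure maps and the reductions;
* `bcOfPres` : the base-change datum between two deformations given by lifted relations.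
-/

set_option autoImplicit false
universe u w

open MvPolynomial IsLocalRing CategoryTheory AlgebraicGeometry ArtFun ArtFun.Art
open Groth.Agent.H61.DefObs Groth.Agent.H61.DefPres Groth.Agent.H61.DefDict

namespace Groth.Agent.H61.DefIso

section Dict

variable {Λ k : Type u} [CommRing Λ] [Field k] [Algebra Λ k]
variable {B₀ : Type u} [CommRing B₀] [Algebra k B₀]

/-- a ring isomorphism of algebraic deformations gives an isomorphism of scheme deformations -/
theorem iso_of_ringEquiv (A : Art Λ k) (D₁ D₂ : AlgDef A.carrier A.res.toRingHom B₀)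
    (φ : D₂.B ≃+* D₁.B)
    (hφ : ∀ a, φ (algebraMap A.carrier D₂.B a) = algebraMap A.carrier D₁.B a)
    (hπ : ∀ b, D₁.π (φ b) = D₂.π b) : Nonempty ((ofAlg A D₁).Iso (ofAlg A D₂)) := by
  have h1 : (CommRingCat.ofHom φ.symm.toRingHom) ≫ (CommRingCat.ofHom φ.toRingHom) =
      𝟙 (CommRingCat.of D₁.B) := by
    ext b
    exact φ.apply_symm_apply b
  have h2 : (CommRingCat.ofHom φ.toRingHom) ≫ (CommRingCat.ofHom φ.symm.toRingHom) =
      𝟙 (CommRingCat.of D₂.B) := by
    ext b
    exact φ.symm_apply_apply b
  let e : (ofAlg A D₁).total ≅ (ofAlg A D₂).total :=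
    { hom := Spec.map (CommRingCat.ofHom φ.toRingHom)
      inv := Spec.map (CommRingCat.ofHom φ.symm.toRingHom)
      hom_inv_id := by
        change Spec.map (CommRingCat.ofHom φ.toRingHom) ≫
          Spec.map (CommRingCat.ofHom φ.symm.toRingHom) = 𝟙 (Spec (CommRingCat.of D₁.B))
        rw [← Spec.map_comp, h1, Spec.map_id]
      inv_hom_id := by
        change Spec.map (CommRingCat.ofHom φ.symm.toRingHom) ≫
          Spec.map (CommRingCat.ofHom φ.toRingHom) = 𝟙 (Spec (CommRingCat.of D₂.B))
        rw [← Spec.map_comp, h2, Spec.map_id] }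
  refine ⟨⟨e, ?_, ?_⟩⟩
  · change Spec.map (CommRingCat.ofHom φ.toRingHom) ≫
      Spec.map (CommRingCat.ofHom (algebraMap A.carrier D₂.B)) =
      Spec.map (CommRingCat.ofHom (algebraMap A.carrier D₁.B))
    rw [← Spec.map_comp]
    congr 1
    ext a
    exact hφ a
  · change Spec.map (CommRingCat.ofHom D₁.π) ≫ Spec.map (CommRingCat.ofHom φ.toRingHom) =
      Spec.map (CommRingCat.ofHom D₂.π)
    rw [← Spec.map_comp]
    congr 1
    ext b
    exact hπ b

/-- an isomorphism of scheme deformations comes from a ring homomorphism -/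
theorem hom_of_iso (A : Art Λ k) (D₁ D₂ : AlgDef A.carrier A.res.toRingHom B₀)
    (e : (ofAlg A D₁).Iso (ofAlg A D₂)) :
    ∃ φ : D₂.B →+* D₁.B, (∀ a, φ (algebraMap A.carrier D₂.B a) = algebraMap A.carrier D₁.B a) ∧
      (∀ b, D₁.π (φ b) = D₂.π b) := by
  let ψ : CommRingCat.of D₂.B ⟶ CommRingCat.of D₁.B :=
    Spec.preimage (show Spec (CommRingCat.of D₁.B) ⟶ Spec (CommRingCat.of D₂.B) from e.iso.hom)
  have h1 : Spec.map ψ = e.iso.hom := Spec.map_preimage _
  refine ⟨ψ.hom, fun a => ?_, fun b => ?_⟩
  · have h2 : Spec.map ψ ≫ Spec.map (CommRingCat.ofHom (algebraMap A.carrier D₂.B)) =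
        Spec.map (CommRingCat.ofHom (algebraMap A.carrier D₁.B)) := by
      rw [h1]
      exact e.hom_f
    rw [← Spec.map_comp] at h2
    have h3 := Spec.map_injective h2
    exact congrArg (fun g => g.hom a) h3
  · have h2 : Spec.map (CommRingCat.ofHom D₁.π) ≫ Spec.map ψ =
        Spec.map (CommRingCat.ofHom D₂.π) := by
      rw [h1]
      exact e.i_hom
    rw [← Spec.map_comp] at h2
    have h3 := Spec.map_injective h2
    exact congrArg (fun g => g.hom b) h3

end Dict

section BCPres

variable {A' A : Type (max u w)} [CommRing A'] [IsLocalRing A'] [CommRing A] [IsLocalRing A]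
  {k : Type (max u w)} [Field k] (res' : A' →+* k) (res : A →+* k)
  (hres' : Function.Surjective res') (hres : Function.Surjective res)
  (hnil' : IsNilpotent (maximalIdeal A')) (hnil : IsNilpotent (maximalIdeal A))
  (p : A' →+* A) (hp : Function.Surjective p) (hpres : ∀ a, res (p a) = res' a)
  {B₀ : Type (max u w)} [CommRing B₀] [Algebra k B₀]
  {ι : Type w} (π₀ : MvPolynomial ι k →ₐ[k] B₀) (hπ₀ : Function.Surjective π₀)
  {σ : Type*} (f : σ → MvPolynomial ι k)
  (hf : RingHom.ker π₀.toRingHom = Ideal.span (Set.range f))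
  (F' : σ → MvPolynomial ι A') (hF' : ∀ s, map res' (F' s) = f s)
  (h' : RelLift (map res' : MvPolynomial ι A' →+* MvPolynomial ι k) F')
  (F : σ → MvPolynomial ι A) (hF : ∀ s, map res (F s) = f s)
  (h : RelLift (map res : MvPolynomial ι A →+* MvPolynomial ι k) F)
  (hFF : ∀ s, map p (F' s) = F s)

include hFF in
lemma span_le_ker_mk_comp : ∀ a ∈ Ideal.span (Set.range F'),
    ((Ideal.Quotient.mk (Ideal.span (Set.range F))).comp (map p)) a = 0 := by
  have hle : Ideal.span (Set.range F') ≤
      RingHom.ker ((Ideal.Quotient.mk (Ideal.span (Set.range F))).comp (map p)) := by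
    rw [Ideal.span_le]
    rintro _ ⟨s, rfl⟩
    change Ideal.Quotient.mk (Ideal.span (Set.range F)) (map p (F' s)) = 0
    rw [hFF, Ideal.Quotient.eq_zero_iff_mem]
    exact Ideal.subset_span ⟨s, rfl⟩
  exact fun a ha => hle ha

/-- the base-change datum between two deformations given by compatible lifted relations -/
noncomputable def bcOfPres :
    AlgDef.BC (ofPres res' hres' hnil' π₀ hπ₀ f hf F' hF' h')
      (ofPres res hres hnil π₀ hπ₀ f hf F hF h) p where
  β := Ideal.Quotient.lift _ ((Ideal.Quotient.mk (Ideal.span (Set.range F))).comp (map p))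
    (span_le_ker_mk_comp p F' F hFF)
  β_alg := fun a => by
    change Ideal.Quotient.lift _ ((Ideal.Quotient.mk (Ideal.span (Set.range F))).comp (map p)) _
      (Ideal.Quotient.mk _ (C a)) = _
    rw [Ideal.Quotient.lift_mk]
    change Ideal.Quotient.mk _ (map p (C a)) = _
    rw [map_C]
    rfl
  π_β := fun b => by
    obtain ⟨G, rfl⟩ := Ideal.Quotient.mk_surjective b
    change Ideal.Quotient.lift _ (π₀.toRingHom.comp (map res)) _
      (Ideal.Quotient.lift _ ((Ideal.Quotient.mk (Ideal.span (Set.range F))).comp (map p)) _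
        (Ideal.Quotient.mk _ G)) =
      Ideal.Quotient.lift _ (π₀.toRingHom.comp (map res')) _ (Ideal.Quotient.mk _ G)
    rw [Ideal.Quotient.lift_mk, Ideal.Quotient.lift_mk]
    change Ideal.Quotient.lift _ (π₀.toRingHom.comp (map res)) _
      (Ideal.Quotient.mk _ (map p G)) = π₀ (map res' G)
    rw [Ideal.Quotient.lift_mk]
    change π₀ (map res (map p G)) = π₀ (map res' G)
    rw [MvPolynomial.map_map]
    have : res.comp p = res' := RingHom.ext hpres
    rw [this]
  β_surj := by
    apply Ideal.Quotient.lift_surjective_of_surjective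
    exact Ideal.Quotient.mk_surjective.comp (map_surjective p hp)
  ker_β := by
    apply le_antisymm
    · intro x hx
      obtain ⟨G, rfl⟩ := Ideal.Quotient.mk_surjective x
      have hx' : Ideal.Quotient.mk (Ideal.span (Set.range F)) (map p G) = 0 := hx
      have h1 : map p G ∈ Ideal.span (Set.range F) := Ideal.Quotient.eq_zero_iff_mem.mp hx'
      obtain ⟨c, hc⟩ := exists_lc_of_mem_span F h1
      obtain ⟨C', rfl⟩ := mr_surjective (map p) (map_surjective p hp) c
      have hfam : (fun s => map p (F' s)) = F := funext hFF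
      have h2 : map p (G - lc F' C') = 0 := by rw [map_sub, map_lc, hfam, hc, sub_self]
      have h3 : G - lc F' C' ∈ (RingHom.ker p).map (C : A' →+* MvPolynomial ι A') := by
        rw [← MvPolynomial.ker_map]; exact h2
      have h4 : Ideal.Quotient.mk (Ideal.span (Set.range F')) G =
          Ideal.Quotient.mk (Ideal.span (Set.range F')) (G - lc F' C') := by
        rw [map_sub, (Ideal.Quotient.eq_zero_iff_mem).mpr (lc_mem_span F' C'), sub_zero]
      rw [h4]
      have h5 := Ideal.mem_map_of_mem (Ideal.Quotient.mk (Ideal.span (Set.range F'))) h3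
      rw [Ideal.map_map] at h5
      exact h5
    · rw [Ideal.map_le_iff_le_comap]
      intro a ha
      rw [Ideal.mem_comap, RingHom.mem_ker]
      change Ideal.Quotient.lift _ ((Ideal.Quotient.mk (Ideal.span (Set.range F))).comp (map p)) _
        (Ideal.Quotient.mk _ (C a)) = _
      rw [Ideal.Quotient.lift_mk]
      change Ideal.Quotient.mk _ (map p (C a)) = _
      rw [RingHom.mem_ker] at ha
      rw [map_C, ha, map_zero, map_zero]
      rfl

end BCPres

end Groth.Agent.H61.DefIso
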