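import Groth.Agent.H61.DefObs

/-!
# The coefficient map `ρ : J·C'[X] → B₀ ⊗_k J` (helper61)

`C'` a `k`-algebra with an augmentation `res' : C' → k`, `J` an ideal of `C'` killed by `ker res'`.
The `k`-linear map `rho : C'[X] → B₀ ⊗_k J` sends `j · s₀(a)` (`j ∈ J`, `a ∈ k[X]`) to `π₀(a) ⊗ j`.
-/

set_option autoImplicit false

open MvPolynomial TensorProduct Groth.Agent.H61.DefObs

namespace Groth.Agent.H61.DefRho

universe u

variable {k : Type u} [Field k] {C' : Type u} [CommRing C'] [Algebra k C'] (res' : C' →ₐ[k] k)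
  (J : Ideal C')
  {B₀ : Type u} [CommRing B₀] [Algebra k B₀] {ι : Type u} (π₀ : MvPolynomial ι k →ₐ[k] B₀)

/-- the canonical section `k[X] → C'[X]` -/
noncomputable abbrev s₀ : MvPolynomial ι k →+* MvPolynomial ι C' := map (algebraMap k C')

lemma red_s₀ (a : MvPolynomial ι k) : map res'.toRingHom (s₀ (C' := C') a) = a := by
  rw [s₀, MvPolynomial.map_map]
  have : (res'.toRingHom).comp (algebraMap k C') = RingHom.id k := by
    ext c
    exact res'.commutes c
  rw [this, MvPolynomial.map_id]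

variable (k) in
lemma exists_retr : ∃ g : C' →ₗ[k] J, ∀ j : J, g (j : C') = j := by
  obtain ⟨g, hg⟩ := LinearMap.exists_leftInverse_of_injective
    ((Submodule.subtype J).restrictScalars k) (by
      rw [LinearMap.ker_eq_bot]
      exact Subtype.val_injective)
  exact ⟨g, fun j => LinearMap.congr_fun hg j⟩

variable (k) in
/-- a `k`-linear retraction of `C'` onto `J` -/
noncomputable def retr : C' →ₗ[k] J := Classical.choose (exists_retr k J)

variable (k) in
lemma retr_coe (j : J) : retr k J (j : C') = j := Classical.choose_spec (exists_retr k J) j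

/-- the coefficient map -/
noncomputable def rho : MvPolynomial ι C' →ₗ[k] B₀ ⊗[k] J :=
  (TensorProduct.comm k J B₀).toLinearMap ∘ₗ (TensorProduct.map (retr k J) π₀.toLinearMap) ∘ₗ
    ((MvPolynomial.algebraTensorAlgEquiv k C').symm.toLinearMap.restrictScalars k)

lemma rho_smul_map (c : C') (a : MvPolynomial ι k) :
    rho J π₀ (c • s₀ a) = π₀ a ⊗ₜ retr k J c := by
  have h : (MvPolynomial.algebraTensorAlgEquiv (σ := ι) k C').symm (c • s₀ a) = c ⊗ₜ a := by
    rw [← MvPolynomial.algebraTensorAlgEquiv_tmul, AlgEquiv.symm_apply_apply]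
  change (TensorProduct.comm k J B₀) ((TensorProduct.map (retr k J) π₀.toLinearMap)
    ((MvPolynomial.algebraTensorAlgEquiv (σ := ι) k C').symm (c • s₀ a))) = _
  rw [h, TensorProduct.map_tmul, TensorProduct.comm_tmul]
  rfl

lemma rho_monomial (m : ι →₀ ℕ) (c : C') :
    rho J π₀ (monomial m c) = π₀ (monomial m 1) ⊗ₜ retr k J c := by
  have : (monomial m c : MvPolynomial ι C') = c • s₀ (monomial m (1 : k)) := by
    rw [s₀, map_monomial, map_one, smul_monomial, smul_eq_mul, mul_one]
  rw [this, rho_smul_map]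

lemma rho_C_mul_map (j : J) (a : MvPolynomial ι k) :
    rho J π₀ (C (j : C') * s₀ a) = π₀ a ⊗ₜ j := by
  rw [← MvPolynomial.smul_eq_C_mul, rho_smul_map, retr_coe]

variable (hJ : ∀ m ∈ RingHom.ker res'.toRingHom, ∀ j ∈ J, m * j = 0)

include hJ in
lemma mul_eq_smul (c : C') (j : J) : c * (j : C') = ((res' c • j : J) : C') := by
  have h1 : c - algebraMap k C' (res' c) ∈ RingHom.ker res'.toRingHom := by
    rw [RingHom.mem_ker, map_sub]
    change res' c - res' (algebraMap k C' (res' c)) = 0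
    rw [res'.commutes]
    exact sub_self _
  have h2 := hJ _ h1 j j.2
  rw [sub_mul, sub_eq_zero] at h2
  rw [h2, Submodule.coe_smul_of_tower, Algebra.smul_def]

include hJ in
lemma rho_mul_C (a' : MvPolynomial ι C') (j : J) :
    rho J π₀ (a' * C (j : C')) = π₀ (map res'.toRingHom a') • rho J π₀ (C (j : C')) := by
  induction a' using MvPolynomial.induction_on' with
  | monomial m c =>
    have h1 : (monomial m c : MvPolynomial ι C') * C (j : C') =
        monomial m ((res' c • j : J) : C') := by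
      rw [MvPolynomial.C_apply, monomial_mul, add_zero, mul_eq_smul res' J hJ]
    have h2 : (C (j : C') : MvPolynomial ι C') = monomial 0 (j : C') := rfl
    have h3 : (monomial m (res'.toRingHom c) : MvPolynomial ι k) = res' c • monomial m 1 := by
      rw [smul_monomial, smul_eq_mul, mul_one]
      rfl
    have h4 : (monomial 0 1 : MvPolynomial ι k) = 1 := rfl
    rw [h1, h2, rho_monomial, rho_monomial, retr_coe, retr_coe, map_monomial,
      TensorProduct.tmul_smul, h3, map_smul, h4, map_one π₀, TensorProduct.smul_tmul',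
      TensorProduct.smul_tmul', smul_eq_mul, mul_one]
  | add p q hp hq =>
    rw [add_mul, map_add, map_add, map_add, add_smul, hp, hq]

include hJ in
/-- **`ρ` is semilinear on `J·C'[X]`** -/
lemma rho_mul (a' : MvPolynomial ι C') {G : MvPolynomial ι C'} (hG : G ∈ J.map C) :
    rho J π₀ (a' * G) = π₀ (map res'.toRingHom a') • rho J π₀ G := by
  revert a'
  rw [Ideal.map, Ideal.span] at hG
  refine Submodule.span_induction (p := fun G _ => ∀ a' : MvPolynomial ι C',
    rho J π₀ (a' * G) = π₀ (map res'.toRingHom a') • rho J π₀ G) ?_ ?_ ?_ ?_ hG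
  · rintro _ ⟨j, hj, rfl⟩ a'
    exact rho_mul_C res' J π₀ hJ a' ⟨j, hj⟩
  · intro a'
    rw [mul_zero, map_zero, smul_zero]
  · intro x y _ _ hx hy a'
    rw [mul_add, map_add, map_add, hx, hy, smul_add]
  · intro b x _ hx a'
    rw [smul_eq_mul, ← mul_assoc, hx, hx b, map_mul, map_mul, mul_smul]

lemma C_mul_map_mem (j : J) (a : MvPolynomial ι k) :
    C (j : C') * s₀ a ∈ J.map (C : C' →+* MvPolynomial ι C') :=
  Ideal.mul_mem_right _ _ (Ideal.mem_map_of_mem C j.2)

/-- **`ρ` is surjective from `J·C'[X]`** -/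
lemma rho_surj (hπ₀ : Function.Surjective π₀) (y : B₀ ⊗[k] J) :
    ∃ G ∈ J.map (C : C' →+* MvPolynomial ι C'), rho J π₀ G = y := by
  induction y using TensorProduct.induction_on with
  | zero => exact ⟨0, Ideal.zero_mem _, map_zero _⟩
  | tmul b j =>
    obtain ⟨a, rfl⟩ := hπ₀ b
    exact ⟨C (j : C') * s₀ a, C_mul_map_mem J j a, rho_C_mul_map J π₀ j a⟩
  | add x y hx hy =>
    obtain ⟨G₁, h₁, rfl⟩ := hx
    obtain ⟨G₂, h₂, rfl⟩ := hy
    exact ⟨G₁ + G₂, Ideal.add_mem _ h₁ h₂, map_add _ _ _⟩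

/-- the ideal generated by the `j · s₀(a)`, `j ∈ J`, `a ∈ ker π₀` -/
noncomputable def N : Ideal (MvPolynomial ι C') :=
  Ideal.span {G | ∃ j ∈ J, ∃ a : MvPolynomial ι k, π₀ a = 0 ∧ G = C j * s₀ a}

/-- **the kernel of `ρ` on `J·C'[X]`** -/
lemma mem_N_of_rho_eq_zero (hπ₀ : Function.Surjective π₀) {G : MvPolynomial ι C'}
    (hG : G ∈ J.map (C : C' →+* MvPolynomial ι C')) (h0 : rho J π₀ G = 0) : G ∈ N J π₀ := by
  classical
  have hc : ∀ m, coeff m G ∈ J := (MvPolynomial.mem_map_C_iff).mp hG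
  let E := MvPolynomial.algebraTensorAlgEquiv (σ := ι) k C'
  let ιJ : J →ₗ[k] C' := (Submodule.subtype J).restrictScalars k
  let u : J ⊗[k] MvPolynomial ι k :=
    ∑ m ∈ G.support, (⟨coeff m G, hc m⟩ : J) ⊗ₜ[k] (monomial m (1 : k))
  have hu : E.symm G = TensorProduct.map ιJ LinearMap.id u := by
    conv_lhs => rw [← MvPolynomial.support_sum_monomial_coeff G]
    rw [map_sum, map_sum]
    refine Finset.sum_congr rfl fun m _ => ?_
    rw [MvPolynomial.algebraTensorAlgEquiv_symm_monomial, TensorProduct.map_tmul]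
    rfl
  have h1 : (TensorProduct.map (retr k J) π₀.toLinearMap) (E.symm G) =
      LinearMap.lTensor J π₀.toLinearMap u := by
    rw [hu, ← LinearMap.comp_apply, ← TensorProduct.map_comp]
    have : (retr k J) ∘ₗ ιJ = LinearMap.id := LinearMap.ext fun j => retr_coe k J j
    rw [this, LinearMap.comp_id]
    rfl
  have h2 : LinearMap.lTensor J π₀.toLinearMap u = 0 := by
    rw [← h1]
    have h3 : (TensorProduct.comm k J B₀) ((TensorProduct.map (retr k J) π₀.toLinearMap)
        (E.symm G)) = 0 := h0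
    exact (TensorProduct.comm k J B₀).injective (h3.trans (map_zero _).symm)
  have hex : Function.Exact (LinearMap.lTensor J (LinearMap.ker π₀.toLinearMap).subtype)
      (LinearMap.lTensor J π₀.toLinearMap) :=
    lTensor_exact J (LinearMap.exact_subtype_ker_map _) hπ₀
  obtain ⟨v, hv⟩ := (hex u).mp h2
  have hG' : G = E (TensorProduct.map ιJ (LinearMap.ker π₀.toLinearMap).subtype v) := by
    have : E.symm G = TensorProduct.map ιJ (LinearMap.ker π₀.toLinearMap).subtype v := by
      rw [hu, ← hv, ← LinearMap.comp_apply, LinearMap.lTensor, ← TensorProduct.map_comp,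
        LinearMap.id_comp, LinearMap.comp_id]
    rw [← this, AlgEquiv.apply_symm_apply]
  rw [hG']
  have key : ∀ v : J ⊗[k] LinearMap.ker π₀.toLinearMap,
      E (TensorProduct.map ιJ (LinearMap.ker π₀.toLinearMap).subtype v) ∈ N J π₀ := by
    intro v
    induction v using TensorProduct.induction_on with
    | zero => rw [map_zero, map_zero]; exact Ideal.zero_mem _
    | tmul j a =>
      rw [TensorProduct.map_tmul]
      change E ((j : C') ⊗ₜ (a : MvPolynomial ι k)) ∈ _
      rw [MvPolynomial.algebraTensorAlgEquiv_tmul, MvPolynomial.smul_eq_C_mul]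
      exact Ideal.subset_span ⟨j, j.2, a, a.2, rfl⟩
    | add x y hx hy =>
      rw [map_add, map_add]
      exact Ideal.add_mem _ hx hy
  exact key v

include hJ in
/-- `J·C'[X]` is killed by `ker(red')` -/
lemma mul_eq_zero_of_mem {G H : MvPolynomial ι C'} (hG : G ∈ J.map (C : C' →+* MvPolynomial ι C'))
    (hH : map res'.toRingHom H = 0) : G * H = 0 := by
  have hH' : H ∈ (RingHom.ker res'.toRingHom).map (C : C' →+* MvPolynomial ι C') := by
    rw [← MvPolynomial.ker_map]; exact hH
  have h1 : G * H ∈ (J.map (C : C' →+* MvPolynomial ι C')) *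
      ((RingHom.ker res'.toRingHom).map C) := Ideal.mul_mem_mul hG hH'
  rw [← Ideal.map_mul] at h1
  have h2 : J * RingHom.ker res'.toRingHom = ⊥ := by
    rw [eq_bot_iff, Ideal.mul_le]
    intro j hj m hm
    rw [Ideal.mem_bot, mul_comm]
    exact hJ m hm j hj
  rw [h2, Ideal.map_bot] at h1
  exact h1

include hJ in
lemma rho_smul_eq_zero {j : C'} (hj : j ∈ J) (H : MvPolynomial ι C')
    (hH : π₀ (map res'.toRingHom H) = 0) : rho J π₀ (j • H) = 0 := by
  rw [MvPolynomial.smul_eq_C_mul, mul_comm, rho_mul res' J π₀ hJ H (Ideal.mem_map_of_mem C hj), hH,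
    zero_smul]

lemma mul_lc_congr {P : Type*} [CommRing P] {σ : Type*} (x : P) (F G : σ → P)
    (h : ∀ s, x * F s = x * G s) (R : σ →₀ P) : x * lc F R = x * lc G R := by
  induction R using Finsupp.induction_linear with
  | zero => simp
  | add a b ha hb => rw [map_add, map_add, mul_add, mul_add, ha, hb]
  | single s c =>
    simp only [lc, Finsupp.linearCombination_single, smul_eq_mul]
    rw [mul_left_comm, h s, mul_left_comm]

variable {σ : Type*} (f : σ → MvPolynomial ι k)
  (hf : RingHom.ker π₀.toRingHom = Ideal.span (Set.range f))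

include hJ hf in
/-- elements of `N` are `J·C'[X]`-combinations of any lift of the relations -/
lemma exists_lc_of_mem_N (F'' : σ → MvPolynomial ι C')
    (hF'' : ∀ s, map res'.toRingHom (F'' s) = f s) {G : MvPolynomial ι C'} (hG : G ∈ N J π₀) :
    ∃ e : σ →₀ MvPolynomial ι C', (∀ s, e s ∈ J.map (C : C' →+* MvPolynomial ι C')) ∧
      lc F'' e = G := by
  rw [N, Ideal.span] at hG
  refine Submodule.span_induction (p := fun G _ => ∃ e : σ →₀ MvPolynomial ι C',
    (∀ s, e s ∈ J.map (C : C' →+* MvPolynomial ι C')) ∧ lc F'' e = G) ?_ ?_ ?_ ?_ hG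
  · rintro _ ⟨j, hj, a, ha, rfl⟩
    have ha' : a ∈ Ideal.span (Set.range f) := by rw [← hf]; exact ha
    obtain ⟨c, rfl⟩ := exists_lc_of_mem_span f ha'
    refine ⟨(C j : MvPolynomial ι C') • mr (s₀ (C' := C')) c, fun s => ?_, ?_⟩
    · rw [Finsupp.smul_apply, smul_eq_mul]
      exact Ideal.mul_mem_right _ _ (Ideal.mem_map_of_mem C hj)
    · rw [map_smul, smul_eq_mul, map_lc]
      refine mul_lc_congr (C j) F'' (fun s => s₀ (f s)) (fun s => ?_) _
      rw [← sub_eq_zero, ← mul_sub]
      refine mul_eq_zero_of_mem res' J hJ (Ideal.mem_map_of_mem C hj) ?_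
      rw [map_sub, hF'', red_s₀, sub_self]
  · exact ⟨0, fun s => by simp, map_zero _⟩
  · rintro x y _ _ ⟨e₁, h₁, rfl⟩ ⟨e₂, h₂, rfl⟩
    exact ⟨e₁ + e₂, fun s => by rw [Finsupp.add_apply]; exact Ideal.add_mem _ (h₁ s) (h₂ s),
      map_add _ _ _⟩
  · rintro b x _ ⟨e, h, rfl⟩
    exact ⟨b • e, fun s => by
      rw [Finsupp.smul_apply, smul_eq_mul]; exact Ideal.mul_mem_left _ _ (h s), map_smul _ _ _⟩

end Groth.Agent.H61.DefRho
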