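import Groth.Agent.H61.DefPres2
import Groth.Agent.H61.DefRho
import Groth.Agent.H61.DefIso

/-!
# Liftings of an affine deformation along a semismall extension (helper61)

`p : C' → C` a surjection of local Artinian `k`-algebras with kernel `J`, `𝔪' J = 0`; `D` a
deformation of `B₀ = k[X]/(f)` over `C` with a presentation `φ : C[X] → D`, kernel `(F)`.
A *presented lifting* is a family `F'` over `C'` lifting `F` such that relations lift.  The set of
liftings up to isomorphism is a pseudo-torsor under `T¹(B₀/k, B₀ ⊗_k J)`: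
* `exists_pl` : every lifting is isomorphic to a presented one;
* `isCoc_diff` : the difference of two presented liftings is a cocycle;
* `exists_pl_of_coc` : every cocycle is the difference with a given presented lifting;
* `ralg_iff` : two presented liftings are isomorphic iff their difference is `d ∘ f` for a
  derivation `d`.
-/

set_option autoImplicit false
set_option linter.unusedSectionVars false

open MvPolynomial IsLocalRing ArtFun ArtFun.Art TensorProduct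
open Groth.Agent.H61.DefObs Groth.Agent.H61.DefPres Groth.Agent.H61.DefFlat
open Groth.Agent.H61.DefRho Groth.Agent.H61.DefDict Groth.Agent.H61.DefIso

namespace Groth.Agent.H61.DefTorsor

universe u

variable {k : Type u} [Field k] {B₀ : Type u} [CommRing B₀] [Algebra k B₀]
  {A' A : Art k k} (p : A' ⟶ A) (hp : IsSemismallExt p)
  {ι σ : Type u} (π₀ : MvPolynomial ι k →ₐ[k] B₀) (hπ₀ : Function.Surjective π₀)
  (f : σ → MvPolynomial ι k) (hf : RingHom.ker π₀.toRingHom = Ideal.span (Set.range f))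

/-- the kernel of `p` -/
abbrev J : Ideal A'.carrier := RingHom.ker p.toAlgHom

/-- the coefficientwise map `C'[X] → C[X]` -/
noncomputable abbrev pp : MvPolynomial ι A'.carrier →+* MvPolynomial ι A.carrier :=
  map p.toAlgHom.toRingHom

/-- reduction `C'[X] → k[X]` -/
noncomputable abbrev red' : MvPolynomial ι A'.carrier →+* MvPolynomial ι k :=
  map A'.res.toRingHom

/-- reduction `C[X] → k[X]` -/
noncomputable abbrev red : MvPolynomial ι A.carrier →+* MvPolynomial ι k :=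
  map A.res.toRingHom

/-- `J·C'[X]` -/
noncomputable abbrev J' : Ideal (MvPolynomial ι A'.carrier) :=
  (J p).map (C : A'.carrier →+* MvPolynomial ι A'.carrier)

lemma ker_pp : RingHom.ker (pp (ι := ι) p) = J' p := MvPolynomial.ker_map _

lemma mem_J'_iff (G : MvPolynomial ι A'.carrier) : G ∈ J' p ↔ pp p G = 0 := by
  rw [← ker_pp, RingHom.mem_ker]

lemma red_pp (G : MvPolynomial ι A'.carrier) : red (pp p G) = red' G := by
  rw [red, pp, MvPolynomial.map_map]
  have : A.res.toRingHom.comp p.toAlgHom.toRingHom = A'.res.toRingHom :=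
    RingHom.ext fun a => Art.res_app p a
  rw [this]

include hp in
lemma hJ : ∀ m ∈ RingHom.ker A'.res.toRingHom, ∀ j ∈ J p, m * j = 0 := by
  intro m hm j hj
  have h1 : m ∈ maximalIdeal A'.carrier := (A'.mem_maximalIdeal_iff m).2 hm
  have h2 : m * j ∈ maximalIdeal A'.carrier * J p := Ideal.mul_mem_mul h1 hj
  rw [hp.2] at h2
  exact h2

lemma J_le : J p ≤ RingHom.ker A'.res.toRingHom := by
  intro j hj
  rw [RingHom.mem_ker]
  have h1 : p.toAlgHom j = 0 := hj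
  have h2 := Art.res_app p j
  change A.res (p.toAlgHom j) = _ at h2
  rw [h1, map_zero] at h2
  exact h2.symm

lemma red'_eq_zero {G : MvPolynomial ι A'.carrier} (hG : G ∈ J' p) : red' G = 0 := by
  rw [← red_pp p, (mem_J'_iff p G).mp hG, map_zero]

include hp in
lemma J'_mul_J' {G H : MvPolynomial ι A'.carrier} (hG : G ∈ J' p) (hH : H ∈ J' p) : G * H = 0 :=
  mul_eq_zero_of_mem A'.res (J p) (hJ p hp) hG (red'_eq_zero p hH)

/-- the module `B₀ ⊗_k J` -/
abbrev M : Type u := B₀ ⊗[k] (J p)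

/-- the coefficient map -/
noncomputable abbrev ρ : MvPolynomial ι A'.carrier →ₗ[k] (B₀ ⊗[k] (J p)) := rho (J p) π₀

include hp in
lemma ρ_mul (a' : MvPolynomial ι A'.carrier) {G : MvPolynomial ι A'.carrier} (hG : G ∈ J' p) :
    ρ p π₀ (a' * G) = π₀ (red' a') • ρ p π₀ G :=
  rho_mul A'.res (J p) π₀ (hJ p hp) a' hG

include hp in
lemma ρ_lc (δ : σ → MvPolynomial ι A'.carrier) (hδ : ∀ s, δ s ∈ J' p)
    (Q : σ →₀ MvPolynomial ι A'.carrier) :
    ρ p π₀ (lc δ Q) = (mr (red' (ι := ι)) Q).sum (fun s c => π₀ c • ρ p π₀ (δ s)) := by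
  induction Q using Finsupp.induction_linear with
  | zero => simp
  | add x y hx hy =>
    rw [map_add, map_add, map_add, hx, hy, Finsupp.sum_add_index']
    · intro s; rw [map_zero, zero_smul]
    · intro s c₁ c₂; rw [map_add, add_smul]
  | single s c =>
    rw [mr_single, Finsupp.sum_single_index (by rw [map_zero, zero_smul])]
    simp only [lc, Finsupp.linearCombination_single, smul_eq_mul]
    exact ρ_mul p hp π₀ c (hδ s)

/-- the section variables: a presentation of the deformation `D` over `C` -/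
structure Pres (D : AlgDef A.carrier A.res.toRingHom B₀) where
  φ : MvPolynomial ι A.carrier →ₐ[A.carrier] D.B
  F : σ → MvPolynomial ι A.carrier
  hφ : Function.Surjective φ
  hker : RingHom.ker φ.toRingHom = Ideal.span (Set.range F)
  hFred : ∀ s, map A.res.toRingHom (F s) = f s
  hcomp : ∀ q, D.π (φ q) = π₀ (map A.res.toRingHom q)

variable {π₀ f} {D : AlgDef A.carrier A.res.toRingHom B₀} (Pr : Pres (ι := ι) (σ := σ) π₀ f D)

/-- a presented lifting -/
structure PL where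
  F' : σ → MvPolynomial ι A'.carrier
  hpp : ∀ s, pp p (F' s) = Pr.F s
  hrel : RelLift (red' (A' := A') (ι := ι)) F'

variable {p Pr}

lemma PL.hred (L : PL p Pr) (s : σ) : red' (L.F' s) = f s := by
  rw [← red_pp p, L.hpp, Pr.hFred]

/-- the deformation over `C'` of a presented lifting -/
noncomputable def plDef (L : PL p Pr) : AlgDef A'.carrier A'.res.toRingHom B₀ :=
  ofPres.{u, u} A'.res.toRingHom A'.res_surjective (isNilpotent_maximalIdeal A') π₀ hπ₀ f hf L.F'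
    L.hred L.hrel

/-- the class of a polynomial -/
noncomputable def plMk (L : PL p Pr) : MvPolynomial ι A'.carrier →+* (plDef hπ₀ hf L).B :=
  Ideal.Quotient.mk (Ideal.span (Set.range L.F'))

lemma plMk_surj (L : PL p Pr) : Function.Surjective (plMk hπ₀ hf L) := Ideal.Quotient.mk_surjective

lemma plMk_C (L : PL p Pr) (c : A'.carrier) :
    plMk hπ₀ hf L (C c) = algebraMap A'.carrier (plDef hπ₀ hf L).B c := rfl

lemma plMk_eq_zero_iff (L : PL p Pr) (G : MvPolynomial ι A'.carrier) :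
    plMk hπ₀ hf L G = 0 ↔ G ∈ Ideal.span (Set.range L.F') := Ideal.Quotient.eq_zero_iff_mem

lemma π_plMk (L : PL p Pr) (G : MvPolynomial ι A'.carrier) :
    (plDef hπ₀ hf L).π (plMk hπ₀ hf L G) = π₀ (red' G) := rfl

lemma lift_aux (L : PL p Pr) : ∀ a ∈ Ideal.span (Set.range L.F'),
    (Pr.φ.toRingHom.comp (pp p)) a = 0 := by
  have hle : Ideal.span (Set.range L.F') ≤ RingHom.ker (Pr.φ.toRingHom.comp (pp p)) := by
    rw [Ideal.span_le]
    rintro _ ⟨s, rfl⟩
    change Pr.φ.toRingHom (pp p (L.F' s)) = 0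
    rw [L.hpp]
    have : Pr.F s ∈ RingHom.ker Pr.φ.toRingHom := by
      rw [Pr.hker]; exact Ideal.subset_span ⟨s, rfl⟩
    exact this
  exact fun a ha => hle ha

include hp in
/-- the base-change datum of a presented lifting -/
noncomputable def plBC (L : PL p Pr) : AlgDef.BC (plDef hπ₀ hf L) D p.toAlgHom.toRingHom where
  β := Ideal.Quotient.lift _ (Pr.φ.toRingHom.comp (pp p)) (lift_aux L)
  β_alg := fun a => by
    change Ideal.Quotient.lift _ (Pr.φ.toRingHom.comp (pp p)) _ (Ideal.Quotient.mk _ (C a)) = _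
    rw [Ideal.Quotient.lift_mk]
    change Pr.φ (pp p (C a)) = _
    rw [pp, map_C, ← MvPolynomial.algebraMap_eq, Pr.φ.commutes]
  π_β := fun b => by
    obtain ⟨G, rfl⟩ := Ideal.Quotient.mk_surjective b
    change D.π (Ideal.Quotient.lift _ (Pr.φ.toRingHom.comp (pp p)) _ (Ideal.Quotient.mk _ G)) =
      π₀ (red' G)
    rw [Ideal.Quotient.lift_mk]
    change D.π (Pr.φ (pp p G)) = _
    rw [Pr.hcomp]
    exact congrArg π₀ (red_pp p G)
  β_surj := by
    apply Ideal.Quotient.lift_surjective_of_surjective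
    exact Pr.hφ.comp (map_surjective _ hp.1)
  ker_β := by
    apply le_antisymm
    · intro x hx
      obtain ⟨G, rfl⟩ := Ideal.Quotient.mk_surjective x
      have hx' : Pr.φ.toRingHom (pp p G) = 0 := hx
      have h1 : pp p G ∈ Ideal.span (Set.range Pr.F) := by rw [← Pr.hker]; exact hx'
      obtain ⟨c, hc⟩ := exists_lc_of_mem_span Pr.F h1
      obtain ⟨C'', rfl⟩ := mr_surjective (pp (ι := ι) p) (map_surjective _ hp.1) c
      have hfam : (fun s => pp p (L.F' s)) = Pr.F := funext L.hpp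
      have h2 : pp p (G - lc L.F' C'') = 0 := by rw [map_sub, map_lc, hfam, hc, sub_self]
      have h3 : G - lc L.F' C'' ∈ (RingHom.ker p.toAlgHom.toRingHom).map
          (C : A'.carrier →+* MvPolynomial ι A'.carrier) := by
        rw [← MvPolynomial.ker_map]; exact h2
      have h4 : Ideal.Quotient.mk (Ideal.span (Set.range L.F')) G =
          Ideal.Quotient.mk (Ideal.span (Set.range L.F')) (G - lc L.F' C'') := by
        rw [map_sub, (Ideal.Quotient.eq_zero_iff_mem).mpr (lc_mem_span L.F' C''), sub_zero]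
      rw [h4]
      have h5 := Ideal.mem_map_of_mem (Ideal.Quotient.mk (Ideal.span (Set.range L.F'))) h3
      rw [Ideal.map_map] at h5
      exact h5
    · rw [Ideal.map_le_iff_le_comap]
      intro a ha
      rw [Ideal.mem_comap, RingHom.mem_ker]
      change Ideal.Quotient.lift _ (Pr.φ.toRingHom.comp (pp p)) _ (Ideal.Quotient.mk _ (C a)) = _
      rw [Ideal.Quotient.lift_mk]
      change Pr.φ (pp p (C a)) = _
      rw [RingHom.mem_ker] at ha
      rw [pp, map_C, ha, map_zero, map_zero]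

lemma plBC_mk (L : PL p Pr) (G : MvPolynomial ι A'.carrier) :
    (plBC hp hπ₀ hf L).β (plMk hπ₀ hf L G) = Pr.φ (pp p G) := rfl

/-- isomorphism of liftings -/
def RAlg (a b : Σ D' : AlgDef A'.carrier A'.res.toRingHom B₀,
    AlgDef.BC D' D p.toAlgHom.toRingHom) : Prop :=
  ∃ θ : a.1.B ≃+* b.1.B, (∀ c, θ (algebraMap A'.carrier a.1.B c) = algebraMap A'.carrier b.1.B c) ∧
    (∀ x, b.1.π (θ x) = a.1.π x) ∧ (∀ x, b.2.β (θ x) = a.2.β x)

lemma RAlg.refl (a : Σ D' : AlgDef A'.carrier A'.res.toRingHom B₀,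
    AlgDef.BC D' D p.toAlgHom.toRingHom) : RAlg a a :=
  ⟨RingEquiv.refl _, fun _ => rfl, fun _ => rfl, fun _ => rfl⟩

lemma RAlg.symm {a b : Σ D' : AlgDef A'.carrier A'.res.toRingHom B₀,
    AlgDef.BC D' D p.toAlgHom.toRingHom} (h : RAlg a b) : RAlg b a := by
  obtain ⟨θ, h1, h2, h3⟩ := h
  refine ⟨θ.symm, fun c => ?_, fun x => ?_, fun x => ?_⟩
  · rw [← h1 c, RingEquiv.symm_apply_apply]
  · rw [← h2, RingEquiv.apply_symm_apply]
  · rw [← h3, RingEquiv.apply_symm_apply]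

lemma RAlg.trans {a b c : Σ D' : AlgDef A'.carrier A'.res.toRingHom B₀,
    AlgDef.BC D' D p.toAlgHom.toRingHom} (h : RAlg a b) (h' : RAlg b c) : RAlg a c := by
  obtain ⟨θ, h1, h2, h3⟩ := h
  obtain ⟨θ', h1', h2', h3'⟩ := h'
  refine ⟨θ.trans θ', fun x => ?_, fun x => ?_, fun x => ?_⟩
  · rw [RingEquiv.trans_apply, h1, h1']
  · rw [RingEquiv.trans_apply, h2', h2]
  · rw [RingEquiv.trans_apply, h3', h3]

include hp hπ₀ hf in
/-- flatness: elements of `(F') ∩ J·C'[X]` are killed by `ρ` -/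
lemma ρ_eq_zero_of_mem_inf (L : PL p Pr) {X : MvPolynomial ι A'.carrier}
    (hX₁ : X ∈ Ideal.span (Set.range L.F')) (hX₂ : X ∈ J' p) : ρ p π₀ X = 0 := by
  let φ₂ : MvPolynomial ι A'.carrier →ₗ[A'.carrier] (plDef hπ₀ hf L).B :=
    (Algebra.ofId (MvPolynomial ι A'.carrier) (MvPolynomial ι A'.carrier ⧸
      Ideal.span (Set.range L.F'))).toLinearMap.restrictScalars A'.carrier
  have hφ₂ : ∀ G, φ₂ G = plMk hπ₀ hf L G := fun G => rfl
  have hsurj : Function.Surjective φ₂ := plMk_surj hπ₀ hf L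
  have h1 : X ∈ LinearMap.ker φ₂ ⊓ (J p) • (⊤ : Submodule A'.carrier (MvPolynomial ι A'.carrier)) := by
    refine Submodule.mem_inf.mpr ⟨?_, ?_⟩
    · rw [LinearMap.mem_ker, hφ₂]
      exact (plMk_eq_zero_iff hπ₀ hf L X).mpr hX₁
    · rw [Ideal.smul_top_eq_map]
      exact hX₂
  have h2 := inf_smul_top_le_smul_ker (J p) φ₂ hsurj h1
  refine Submodule.smul_induction_on h2 ?_ ?_
  · intro j hj H hH
    refine rho_smul_eq_zero A'.res (J p) π₀ (hJ p hp) hj H ?_
    rw [LinearMap.mem_ker, hφ₂] at hH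
    have := congrArg (plDef hπ₀ hf L).π hH
    rw [π_plMk, map_zero] at this
    exact this
  · intro x y hx hy
    rw [map_add, hx, hy, add_zero]

lemma sub_mem_J' (L₀ L : PL p Pr) (s : σ) : L.F' s - L₀.F' s ∈ J' p := by
  rw [mem_J'_iff, map_sub, L.hpp, L₀.hpp, sub_self]

lemma lc_sub (F G : σ → MvPolynomial ι A'.carrier) (Q : σ →₀ MvPolynomial ι A'.carrier) :
    lc (fun s => F s - G s) Q = lc F Q - lc G Q := by
  induction Q using Finsupp.induction_linear with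
  | zero => simp
  | add x y hx hy => rw [map_add, map_add, map_add, hx, hy]; ring
  | single s c => simp [lc, mul_sub]

lemma lc_add (F G : σ → MvPolynomial ι A'.carrier) (Q : σ →₀ MvPolynomial ι A'.carrier) :
    lc (fun s => F s + G s) Q = lc F Q + lc G Q := by
  induction Q using Finsupp.induction_linear with
  | zero => simp
  | add x y hx hy => rw [map_add, map_add, map_add, hx, hy]; ring
  | single s c => simp [lc, mul_add]

include hp hπ₀ hf in
/-- **the difference of two presented liftings is a cocycle** -/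
theorem isCoc_diff (L₀ L : PL p Pr) (q : σ →₀ MvPolynomial ι k) (hq : lc f q = 0) :
    q.sum (fun s c => π₀ c • ρ p π₀ (L.F' s - L₀.F' s)) = 0 := by
  have hfam : (fun s => red' (L₀.F' s)) = f := funext L₀.hred
  obtain ⟨Q₀, hQ₀, hQ₀'⟩ := L₀.hrel q (by rw [hfam]; exact hq)
  have h1 : lc (fun s => L.F' s - L₀.F' s) Q₀ = lc L.F' Q₀ := by
    rw [lc_sub, hQ₀', sub_zero]
  have h2 : lc (fun s => L.F' s - L₀.F' s) Q₀ ∈ J' p := by
    have : lc (fun s => L.F' s - L₀.F' s) Q₀ ∈ Ideal.span (Set.range fun s => L.F' s - L₀.F' s) :=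
      lc_mem_span _ _
    refine (Ideal.span_le.mpr ?_) this
    rintro _ ⟨s, rfl⟩
    exact sub_mem_J' L₀ L s
  have h3 : ρ p π₀ (lc (fun s => L.F' s - L₀.F' s) Q₀) = 0 := by
    refine ρ_eq_zero_of_mem_inf hp hπ₀ hf L ?_ h2
    rw [h1]
    exact lc_mem_span _ _
  rw [ρ_lc p hp π₀ _ (sub_mem_J' L₀ L) Q₀, hQ₀] at h3
  exact h3

include hp hπ₀ hf in
/-- **every cocycle is the difference with a given presented lifting** -/
theorem exists_pl_of_coc (L₀ : PL p Pr) (g : σ → B₀ ⊗[k] (J p))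
    (hg : ∀ q : σ →₀ MvPolynomial ι k, lc f q = 0 → q.sum (fun s c => π₀ c • g s) = 0) :
    ∃ L : PL p Pr, ∀ s, ρ p π₀ (L.F' s - L₀.F' s) = g s := by
  choose δ hδ hδg using fun s => rho_surj (J p) π₀ hπ₀ (g s)
  have hredδ : ∀ s, red' (L₀.F' s + δ s) = f s := fun s => by
    rw [map_add, L₀.hred, red'_eq_zero p (hδ s), add_zero]
  refine ⟨⟨fun s => L₀.F' s + δ s, fun s => ?_, ?_⟩, fun s => ?_⟩
  · rw [map_add, L₀.hpp, (mem_J'_iff p _).mp (hδ s), add_zero]
  · intro q hq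
    have hfam : (fun s => red' (L₀.F' s + δ s)) = f := funext hredδ
    rw [hfam] at hq
    have hfam₀ : (fun s => red' (L₀.F' s)) = f := funext L₀.hred
    obtain ⟨Q₀, hQ₀, hQ₀'⟩ := L₀.hrel q (by rw [hfam₀]; exact hq)
    have h1 : lc (fun s => L₀.F' s + δ s) Q₀ = lc δ Q₀ := by
      rw [lc_add, hQ₀', zero_add]
    have h2 : lc δ Q₀ ∈ J' p := by
      have : lc δ Q₀ ∈ Ideal.span (Set.range δ) := lc_mem_span _ _
      refine (Ideal.span_le.mpr ?_) this
      rintro _ ⟨s, rfl⟩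
      exact hδ s
    have h3 : ρ p π₀ (lc δ Q₀) = 0 := by
      rw [ρ_lc p hp π₀ δ hδ Q₀, hQ₀]
      have := hg q hq
      simp_rw [hδg]
      exact this
    have h4 := mem_N_of_rho_eq_zero (J p) π₀ hπ₀ h2 h3
    obtain ⟨e, he, hee⟩ := exists_lc_of_mem_N A'.res (J p) π₀ (hJ p hp) f hf
      (fun s => L₀.F' s + δ s) hredδ h4
    refine ⟨Q₀ - e, ?_, ?_⟩
    · rw [map_sub, hQ₀, sub_eq_self]
      refine Finsupp.ext fun s => ?_
      rw [mr_apply, Finsupp.zero_apply]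
      exact red'_eq_zero p (he s)
    · rw [map_sub, h1, hee, sub_self]
  · change ρ p π₀ (L₀.F' s + δ s - L₀.F' s) = g s
    rw [add_sub_cancel_left, hδg]

include hp hπ₀ hf in
/-- **every lifting is isomorphic to a presented lifting** -/
theorem exists_pl (a : Σ D' : AlgDef A'.carrier A'.res.toRingHom B₀,
    AlgDef.BC D' D p.toAlgHom.toRingHom) :
    ∃ L : PL p Pr, RAlg ⟨plDef hπ₀ hf L, plBC hp hπ₀ hf L⟩ a := by
  obtain ⟨D', bc⟩ := a
  choose x' hx' using fun i => bc.β_surj (Pr.φ (X i))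
  let φ' : MvPolynomial ι A'.carrier →ₐ[A'.carrier] D'.B := aeval x'
  have hβφ' : ∀ G, bc.β (φ' G) = Pr.φ (pp p G) := by
    have h : bc.β.comp φ'.toRingHom = Pr.φ.toRingHom.comp (pp p) := by
      apply MvPolynomial.ringHom_ext
      · intro c
        change bc.β (φ' (C c)) = Pr.φ (pp p (C c))
        rw [← MvPolynomial.algebraMap_eq, φ'.commutes, bc.β_alg, pp, MvPolynomial.algebraMap_eq,
          map_C, ← MvPolynomial.algebraMap_eq, Pr.φ.commutes]
      · intro i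
        change bc.β (φ' (X i)) = Pr.φ (pp p (X i))
        rw [aeval_X, hx', pp, map_X]
    exact fun G => congrArg (fun h => h G) h
  have hx : ∀ i, D'.π (x' i) = π₀ (X i) := by
    intro i
    rw [← bc.π_β, hx', Pr.hcomp, map_X]
  have hφ' : Function.Surjective φ' :=
    surj_of_gens A'.res.toRingHom A'.res_surjective (isNilpotent_maximalIdeal A') D'.π D'.π_alg
      D'.ker_π π₀ hπ₀ x' hx
  have hlift : ∀ s, ∃ G, φ' G = 0 ∧ pp p G = Pr.F s := by
    intro s
    obtain ⟨G₀, hG₀⟩ := map_surjective p.toAlgHom.toRingHom hp.1 (Pr.F s)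
    have h1 : φ' G₀ ∈ RingHom.ker bc.β := by
      rw [RingHom.mem_ker, hβφ']
      change Pr.φ (map p.toAlgHom.toRingHom G₀) = 0
      rw [hG₀]
      have : Pr.F s ∈ RingHom.ker Pr.φ.toRingHom := by
        rw [Pr.hker]; exact Ideal.subset_span ⟨s, rfl⟩
      exact this
    rw [bc.ker_β] at h1
    have h2 : (RingHom.ker p.toAlgHom.toRingHom).map (algebraMap A'.carrier D'.B) =
        (J' p).map φ'.toRingHom := by
      rw [J', Ideal.map_map]
      congr 1
      ext c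
      change algebraMap A'.carrier D'.B c = φ' (C c)
      rw [← MvPolynomial.algebraMap_eq, φ'.commutes]
    rw [h2] at h1
    obtain ⟨G₁, hG₁, hG₁'⟩ := (Ideal.mem_map_iff_of_surjective φ'.toRingHom hφ').mp h1
    refine ⟨G₀ - G₁, ?_, ?_⟩
    · rw [map_sub, sub_eq_zero]; exact hG₁'.symm
    · rw [map_sub, (mem_J'_iff p G₁).mp hG₁, sub_zero]
      exact hG₀
  choose F' hF'ker hF'pp using hlift
  have hF'red : ∀ s, red' (F' s) = f s := fun s => by rw [← red_pp p, hF'pp, Pr.hFred]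
  obtain ⟨hker', hrel', -⟩ := pres_of_gens A'.res.toRingHom A'.res_surjective
    (isNilpotent_maximalIdeal A') D'.π D'.π_alg D'.ker_π π₀ hπ₀ f hf x' hx F' hF'ker hF'red
  let L : PL p Pr := ⟨F', hF'pp, hrel'⟩
  refine ⟨L, ?_⟩
  let θ : (plDef hπ₀ hf L).B ≃+* D'.B :=
    (Ideal.quotEquivOfEq hker'.symm).trans (RingHom.quotientKerEquivOfSurjective hφ')
  have hθ : ∀ G, θ (plMk hπ₀ hf L G) = φ' G := fun G => rfl
  refine ⟨θ, fun c => ?_, fun x => ?_, fun x => ?_⟩
  · rw [← plMk_C, hθ, ← MvPolynomial.algebraMap_eq, φ'.commutes]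
  · obtain ⟨G, rfl⟩ := plMk_surj hπ₀ hf L x
    rw [hθ, π_plMk]
    exact comp_of_gens A'.res.toRingHom D'.π D'.π_alg π₀ x' hx G
  · obtain ⟨G, rfl⟩ := plMk_surj hπ₀ hf L x
    rw [hθ, plBC_mk, hβφ']

section Theta

variable (p) (π₀)

/-- derivation-like maps `k[X] → B₀ ⊗ J` -/
structure IsDer (d : MvPolynomial ι k → B₀ ⊗[k] (J p)) : Prop where
  add : ∀ a b, d (a + b) = d a + d b
  mul : ∀ a b, d (a * b) = π₀ a • d b + π₀ b • d a
  const : ∀ c, d (C c) = 0

lemma IsDer.neg {d : MvPolynomial ι k → B₀ ⊗[k] (J p)} (hd : IsDer p π₀ d) :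
    IsDer p π₀ (fun a => - d a) where
  add a b := by rw [hd.add, neg_add]
  mul a b := by rw [hd.mul, neg_add, smul_neg, smul_neg]
  const c := by rw [hd.const, neg_zero]

variable {p π₀}

/-- the substitution `X i ↦ X i + μ i` -/
noncomputable def Θ (μ : ι → MvPolynomial ι A'.carrier) :
    MvPolynomial ι A'.carrier →ₐ[A'.carrier] MvPolynomial ι A'.carrier :=
  aeval (fun i => X i + μ i)

lemma Θ_X (μ : ι → MvPolynomial ι A'.carrier) (i : ι) : Θ μ (X i) = X i + μ i := aeval_X _ _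

lemma Θ_C (μ : ι → MvPolynomial ι A'.carrier) (c : A'.carrier) : Θ μ (C c) = C c := by
  rw [← MvPolynomial.algebraMap_eq, AlgHom.commutes]

variable (μ : ι → MvPolynomial ι A'.carrier) (hμ : ∀ i, μ i ∈ J' p)

include hμ in
lemma pp_Θ (G : MvPolynomial ι A'.carrier) : pp p (Θ μ G) = pp p G := by
  have h : (pp (ι := ι) p).comp (Θ μ).toRingHom = pp p := by
    apply MvPolynomial.ringHom_ext
    · intro c
      change pp p (Θ μ (C c)) = pp p (C c)
      rw [Θ_C]
    · intro i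
      change pp p (Θ μ (X i)) = pp p (X i)
      rw [Θ_X, map_add, (mem_J'_iff p _).mp (hμ i), add_zero]
  exact congrArg (fun h => h G) h

include hμ in
lemma Θ_sub_mem (G : MvPolynomial ι A'.carrier) : Θ μ G - G ∈ J' p := by
  rw [mem_J'_iff, map_sub, pp_Θ μ hμ, sub_self]

include hμ in
lemma red'_Θ (G : MvPolynomial ι A'.carrier) : red' (Θ μ G) = red' G := by
  rw [← red_pp p, pp_Θ μ hμ, red_pp]

include hp hμ in
lemma Θ_eq_of_mem {G : MvPolynomial ι A'.carrier} (hG : G ∈ J' p) : Θ μ G = G := by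
  rw [J', Ideal.map, Ideal.span] at hG
  refine Submodule.span_induction (p := fun G _ => Θ μ G = G) ?_ ?_ ?_ ?_ hG
  · rintro _ ⟨j, _, rfl⟩
    exact Θ_C μ j
  · exact map_zero _
  · intro x y _ _ hx hy
    rw [map_add, hx, hy]
  · intro b x hx' hx
    rw [smul_eq_mul, map_mul, hx]
    have h1 : (Θ μ b - b) * x = 0 := J'_mul_J' p hp (Θ_sub_mem μ hμ b) hx'
    rw [sub_mul, sub_eq_zero] at h1
    exact h1

variable (p π₀) in
/-- the derivation attached to `Θ` -/
noncomputable def DΘ (G : MvPolynomial ι A'.carrier) : B₀ ⊗[k] (J p) := ρ p π₀ (Θ μ G - G)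

lemma DΘ_add (G H : MvPolynomial ι A'.carrier) :
    DΘ p π₀ μ (G + H) = DΘ p π₀ μ G + DΘ p π₀ μ H := by
  unfold DΘ
  rw [← map_add]
  congr 1
  rw [map_add]
  ring

lemma DΘ_sub (G H : MvPolynomial ι A'.carrier) :
    DΘ p π₀ μ (G - H) = DΘ p π₀ μ G - DΘ p π₀ μ H := by
  unfold DΘ
  rw [← map_sub]
  congr 1
  rw [map_sub]
  ring

lemma DΘ_C (c : A'.carrier) : DΘ p π₀ μ (C c) = 0 := by
  unfold DΘ
  rw [Θ_C, sub_self, map_zero]

lemma DΘ_X (i : ι) : DΘ p π₀ μ (X i) = ρ p π₀ (μ i) := by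
  unfold DΘ
  rw [Θ_X, add_sub_cancel_left]

include hp hμ in
lemma DΘ_mul (G H : MvPolynomial ι A'.carrier) :
    DΘ p π₀ μ (G * H) = π₀ (red' H) • DΘ p π₀ μ G + π₀ (red' G) • DΘ p π₀ μ H := by
  unfold DΘ
  have h1 : Θ μ (G * H) - G * H = Θ μ H * (Θ μ G - G) + G * (Θ μ H - H) := by
    rw [map_mul]; ring
  rw [h1, map_add, ρ_mul p hp π₀ _ (Θ_sub_mem μ hμ G), ρ_mul p hp π₀ _ (Θ_sub_mem μ hμ H),
    red'_Θ μ hμ]

include hp hμ in
lemma DΘ_eq_zero_of_red {G : MvPolynomial ι A'.carrier} (hG : red' G = 0) : DΘ p π₀ μ G = 0 := by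
  have hG' : G ∈ (RingHom.ker A'.res.toRingHom).map (C : A'.carrier →+* MvPolynomial ι A'.carrier) := by
    rw [← MvPolynomial.ker_map]; exact hG
  rw [Ideal.map, Ideal.span] at hG'
  refine Submodule.span_induction (p := fun G _ => DΘ p π₀ μ G = 0) ?_ ?_ ?_ ?_ hG'
  · rintro _ ⟨m, _, rfl⟩
    exact DΘ_C μ m
  · unfold DΘ
    rw [map_zero, sub_self, map_zero]
  · intro x y _ _ hx hy
    rw [DΘ_add, hx, hy, add_zero]
  · intro b x hx' hx
    have hxred : red' x = 0 := by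
      have : x ∈ (RingHom.ker A'.res.toRingHom).map
          (C : A'.carrier →+* MvPolynomial ι A'.carrier) := hx'
      rw [← MvPolynomial.ker_map] at this
      exact this
    rw [smul_eq_mul, DΘ_mul hp μ hμ, hx, hxred, map_zero, zero_smul, smul_zero, add_zero]

include hp hμ in
lemma DΘ_eq_of_isDer (d : MvPolynomial ι k → B₀ ⊗[k] (J p)) (hd : IsDer p π₀ d)
    (hμd : ∀ i, ρ p π₀ (μ i) = d (X i)) (G : MvPolynomial ι A'.carrier) :
    DΘ p π₀ μ G = d (red' G) := by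
  induction G using MvPolynomial.induction_on with
  | C c => rw [DΘ_C, red', map_C, hd.const]
  | add G H hG hH => rw [DΘ_add, hG, hH, map_add, hd.add]
  | mul_X G i hG =>
    rw [DΘ_mul hp μ hμ, hG, DΘ_X, hμd, map_mul, hd.mul, red', map_X, add_comm]

include hp hμ in
lemma isDer_DΘ : IsDer p π₀ (fun a => DΘ p π₀ μ (s₀ (C' := A'.carrier) a)) where
  add a b := by rw [map_add, DΘ_add]
  mul a b := by
    rw [map_mul, DΘ_mul hp μ hμ, red_s₀ A'.res, red_s₀ A'.res, add_comm]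
  const c := by
    rw [s₀, map_C, DΘ_C]

end Theta

section Iso

include hp hπ₀ hf in
/-- if the difference of two presented liftings is `d ∘ f`, the substitution attached to `d` maps
the first ideal into the second -/
lemma Θ_mem_span (L₁ L₂ : PL p Pr) (d : MvPolynomial ι k → B₀ ⊗[k] (J p)) (hd : IsDer p π₀ d)
    (μ : ι → MvPolynomial ι A'.carrier) (hμ : ∀ i, μ i ∈ J' p)
    (hμd : ∀ i, ρ p π₀ (μ i) = d (X i))
    (h : ∀ s, ρ p π₀ (L₂.F' s - L₁.F' s) = d (f s)) (s : σ) :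
    Θ μ (L₁.F' s) ∈ Ideal.span (Set.range L₂.F') := by
  have hX : Θ μ (L₁.F' s) - L₂.F' s ∈ J' p := by
    rw [mem_J'_iff, map_sub, pp_Θ μ hμ, L₁.hpp, L₂.hpp, sub_self]
  have hρ : ρ p π₀ (Θ μ (L₁.F' s) - L₂.F' s) = 0 := by
    have e : Θ μ (L₁.F' s) - L₂.F' s = (Θ μ (L₁.F' s) - L₁.F' s) - (L₂.F' s - L₁.F' s) := by ring
    rw [e, map_sub, h s]
    have := DΘ_eq_of_isDer hp μ hμ d hd hμd (L₁.F' s)
    unfold DΘ at this
    rw [this, L₁.hred, sub_self]
  have h4 := mem_N_of_rho_eq_zero (J p) π₀ hπ₀ hX hρ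
  obtain ⟨e, -, hee⟩ := exists_lc_of_mem_N A'.res (J p) π₀ (hJ p hp) f hf L₂.F' L₂.hred h4
  have h5 : Θ μ (L₁.F' s) = lc L₂.F' e + L₂.F' s := by rw [hee]; ring
  rw [h5]
  exact Ideal.add_mem _ (lc_mem_span _ _) (Ideal.subset_span ⟨s, rfl⟩)

/-- the map of quotients induced by a ring endomorphism of `C'[X]` -/
noncomputable def quotMap (L₁ L₂ : PL p Pr)
    (Ψ : MvPolynomial ι A'.carrier →+* MvPolynomial ι A'.carrier)
    (hΨ : ∀ s, Ψ (L₁.F' s) ∈ Ideal.span (Set.range L₂.F')) :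
    (plDef hπ₀ hf L₁).B →+* (plDef hπ₀ hf L₂).B :=
  Ideal.Quotient.lift (Ideal.span (Set.range L₁.F')) ((plMk hπ₀ hf L₂).comp Ψ) (by
    have hle : Ideal.span (Set.range L₁.F') ≤ RingHom.ker ((plMk hπ₀ hf L₂).comp Ψ) := by
      rw [Ideal.span_le]
      rintro _ ⟨s, rfl⟩
      exact (plMk_eq_zero_iff hπ₀ hf L₂ _).mpr (hΨ s)
    exact fun a ha => hle ha)

lemma quotMap_mk (L₁ L₂ : PL p Pr)
    (Ψ : MvPolynomial ι A'.carrier →+* MvPolynomial ι A'.carrier)
    (hΨ : ∀ s, Ψ (L₁.F' s) ∈ Ideal.span (Set.range L₂.F')) (G : MvPolynomial ι A'.carrier) :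
    quotMap hπ₀ hf L₁ L₂ Ψ hΨ (plMk hπ₀ hf L₁ G) = plMk hπ₀ hf L₂ (Ψ G) := rfl

include hp in
lemma Θ_neg_Θ (μ : ι → MvPolynomial ι A'.carrier) (hμ : ∀ i, μ i ∈ J' p)
    (G : MvPolynomial ι A'.carrier) : Θ (fun i => - μ i) (Θ μ G) = G := by
  have hμ' : ∀ i, - μ i ∈ J' p := fun i => Ideal.neg_mem_iff _ |>.mpr (hμ i)
  have h : (Θ (fun i => - μ i)).comp (Θ μ) = AlgHom.id _ _ := by
    apply MvPolynomial.algHom_ext
    intro i
    change Θ (fun i => - μ i) (Θ μ (X i)) = X i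
    rw [Θ_X, map_add, Θ_X, Θ_eq_of_mem hp (fun i => - μ i) hμ' (hμ i)]
    ring
  exact congrArg (fun h => h G) h

include hp hπ₀ hf in
/-- **two presented liftings are isomorphic iff their difference is `d ∘ f` for a derivation** -/
theorem ralg_iff (L₁ L₂ : PL p Pr) :
    RAlg ⟨plDef hπ₀ hf L₁, plBC hp hπ₀ hf L₁⟩ ⟨plDef hπ₀ hf L₂, plBC hp hπ₀ hf L₂⟩ ↔
      ∃ d : MvPolynomial ι k → B₀ ⊗[k] (J p), IsDer p π₀ d ∧
        ∀ s, ρ p π₀ (L₂.F' s - L₁.F' s) = d (f s) := by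
  constructor
  · rintro ⟨θ, h1, h2, h3⟩
    have hker : ∀ i, ∃ μ ∈ J' p, plMk hπ₀ hf L₂ μ =
        θ (plMk hπ₀ hf L₁ (X i)) - plMk hπ₀ hf L₂ (X i) := by
      intro i
      have hm : θ (plMk hπ₀ hf L₁ (X i)) - plMk hπ₀ hf L₂ (X i) ∈
          RingHom.ker (plBC hp hπ₀ hf L₂).β := by
        rw [RingHom.mem_ker, map_sub, h3, plBC_mk, plBC_mk, sub_self]
      rw [(plBC hp hπ₀ hf L₂).ker_β] at hm
      have h4 : (RingHom.ker p.toAlgHom.toRingHom).map
          (algebraMap A'.carrier (plDef hπ₀ hf L₂).B) = (J' p).map (plMk hπ₀ hf L₂) := by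
        rw [J', Ideal.map_map]
        rfl
      rw [h4] at hm
      obtain ⟨μ, hμ, hμ'⟩ := (Ideal.mem_map_iff_of_surjective _ (plMk_surj hπ₀ hf L₂)).mp hm
      exact ⟨μ, hμ, hμ'⟩
    choose μ hμ hμθ using hker
    have hcomm : ∀ G, plMk hπ₀ hf L₂ (Θ μ G) = θ (plMk hπ₀ hf L₁ G) := by
      have h : (plMk hπ₀ hf L₂).comp (Θ μ).toRingHom =
          (θ : (plDef hπ₀ hf L₁).B →+* (plDef hπ₀ hf L₂).B).comp (plMk hπ₀ hf L₁) := by
        apply MvPolynomial.ringHom_ext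
        · intro c
          change plMk hπ₀ hf L₂ (Θ μ (C c)) = θ (plMk hπ₀ hf L₁ (C c))
          rw [Θ_C, plMk_C, plMk_C, h1]
        · intro i
          change plMk hπ₀ hf L₂ (Θ μ (X i)) = θ (plMk hπ₀ hf L₁ (X i))
          rw [Θ_X, map_add, hμθ]
          ring
      exact fun G => congrArg (fun h => h G) h
    refine ⟨fun a => DΘ p π₀ μ (s₀ (C' := A'.carrier) a), isDer_DΘ hp μ hμ, fun s => ?_⟩
    have hmem : Θ μ (L₁.F' s) ∈ Ideal.span (Set.range L₂.F') := by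
      rw [← plMk_eq_zero_iff hπ₀ hf L₂, hcomm]
      have : plMk hπ₀ hf L₁ (L₁.F' s) = 0 :=
        (plMk_eq_zero_iff hπ₀ hf L₁ _).mpr (Ideal.subset_span ⟨s, rfl⟩)
      rw [this, map_zero]
    have hX₁ : Θ μ (L₁.F' s) - L₂.F' s ∈ Ideal.span (Set.range L₂.F') :=
      Ideal.sub_mem _ hmem (Ideal.subset_span ⟨s, rfl⟩)
    have hX₂ : Θ μ (L₁.F' s) - L₂.F' s ∈ J' p := by
      rw [mem_J'_iff, map_sub, pp_Θ μ hμ, L₁.hpp, L₂.hpp, sub_self]
    have hρ := ρ_eq_zero_of_mem_inf hp hπ₀ hf L₂ hX₁ hX₂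
    have e : L₂.F' s - L₁.F' s = (Θ μ (L₁.F' s) - L₁.F' s) - (Θ μ (L₁.F' s) - L₂.F' s) := by ring
    rw [e, map_sub, hρ, sub_zero]
    change DΘ p π₀ μ (L₁.F' s) = DΘ p π₀ μ (s₀ (f s))
    have h5 : DΘ p π₀ μ (L₁.F' s - s₀ (C' := A'.carrier) (f s)) = 0 := by
      apply DΘ_eq_zero_of_red hp μ hμ
      rw [map_sub, L₁.hred, red_s₀ A'.res, sub_self]
    rw [DΘ_sub, sub_eq_zero] at h5
    exact h5
  · rintro ⟨d, hd, h⟩
    choose μ hμ hμd using fun i => rho_surj (J p) π₀ hπ₀ (d (X i))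
    have hμ' : ∀ i, - μ i ∈ J' p := fun i => Ideal.neg_mem_iff _ |>.mpr (hμ i)
    have hA := Θ_mem_span hp hπ₀ hf L₁ L₂ d hd μ hμ hμd h
    have hB := Θ_mem_span hp hπ₀ hf L₂ L₁ (fun a => - d a) (hd.neg p π₀) (fun i => - μ i) hμ'
      (fun i => by rw [map_neg, hμd]) (fun s => by rw [← neg_sub, map_neg, h s])
    let θ₁ := quotMap hπ₀ hf L₁ L₂ (Θ μ).toRingHom hA
    let θ₂ := quotMap hπ₀ hf L₂ L₁ (Θ (fun i => - μ i)).toRingHom hB
    have h12 : θ₁.comp θ₂ = RingHom.id _ := by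
      refine RingHom.ext fun x => ?_
      obtain ⟨G, rfl⟩ := plMk_surj hπ₀ hf L₂ x
      change θ₁ (θ₂ (plMk hπ₀ hf L₂ G)) = plMk hπ₀ hf L₂ G
      rw [quotMap_mk, quotMap_mk]
      congr 1
      have := Θ_neg_Θ hp (fun i => - μ i) hμ' G
      simp only [neg_neg] at this
      exact this
    have h21 : θ₂.comp θ₁ = RingHom.id _ := by
      refine RingHom.ext fun x => ?_
      obtain ⟨G, rfl⟩ := plMk_surj hπ₀ hf L₁ x
      change θ₂ (θ₁ (plMk hπ₀ hf L₁ G)) = plMk hπ₀ hf L₁ G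
      rw [quotMap_mk, quotMap_mk]
      congr 1
      exact Θ_neg_Θ hp μ hμ G
    refine ⟨RingEquiv.ofRingHom θ₁ θ₂ h12 h21, fun c => ?_, fun x => ?_, fun x => ?_⟩
    · change θ₁ (plMk hπ₀ hf L₁ (C c)) = plMk hπ₀ hf L₂ (C c)
      rw [quotMap_mk]
      congr 1
      exact Θ_C μ c
    · obtain ⟨G, rfl⟩ := plMk_surj hπ₀ hf L₁ x
      change (plDef hπ₀ hf L₂).π (θ₁ (plMk hπ₀ hf L₁ G)) = _
      rw [quotMap_mk, π_plMk, π_plMk]
      congr 1
      exact red'_Θ μ hμ G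
    · obtain ⟨G, rfl⟩ := plMk_surj hπ₀ hf L₁ x
      change (plBC hp hπ₀ hf L₂).β (θ₁ (plMk hπ₀ hf L₁ G)) = _
      rw [quotMap_mk, plBC_mk, plBC_mk]
      congr 1
      exact pp_Θ μ hμ G

end Iso

end Groth.Agent.H61.DefTorsor
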