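import Groth.Agent.H61.DefDict2
import Groth.Agent.H61.DefTorsor

/-!
# Extensions of a deformation of an affine scheme: schemes versus algebras (helper61)

For `g : A' → A` surjective and a deformation `𝒳` of `Spec B₀` over `A` identified with the
algebraic deformation `D`: pairs (deformation over `A'`, identification of its base change
with `𝒳`) up to the relation `RSch` correspond to algebraic liftings of `D` up to `RAlg`.
-/

set_option autoImplicit false
set_option linter.unusedSectionVars false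

open AlgebraicGeometry CategoryTheory Limits IsLocalRing ArtFun ArtFun.Art
open Groth.Agent.H61.DefPres Groth.Agent.H61.DefDict Groth.Agent.H61.DefIso
open Groth.Agent.H61.DefDict2 Groth.Agent.H61.DefTorsor

namespace Groth.Agent.H61.DefDict3

universe u

section General

variable {Λ k : Type u} [CommRing Λ] [Field k] [Algebra Λ k]
variable {X : Scheme.{u}} {x : X ⟶ specPt k}
variable {A' A : Art Λ k} (g : A' ⟶ A) (𝒳 : DefSch X x A)

lemma bc_hom_fst {ξ ξ' : DefSch X x A'} (e : ξ.Iso ξ') :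
    (e.baseChange g).iso.hom ≫ pullback.fst ξ'.f (specMap g) =
      pullback.fst ξ.f (specMap g) ≫ e.iso.hom :=
  DefSch.pullMap_fst e.iso.hom e.hom_f g

lemma bc_hom_snd {ξ ξ' : DefSch X x A'} (e : ξ.Iso ξ') :
    (e.baseChange g).iso.hom ≫ pullback.snd ξ'.f (specMap g) = pullback.snd ξ.f (specMap g) :=
  DefSch.pullMap_snd e.iso.hom e.hom_f g

lemma bc_refl_hom (ξ : DefSch X x A') :
    ((DefSch.Iso.refl ξ).baseChange g).iso.hom = 𝟙 _ := by
  apply pullback.hom_ext
  · rw [bc_hom_fst]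
    change _ ≫ 𝟙 _ = _
    rw [Category.comp_id, Category.id_comp]
  · rw [bc_hom_snd, Category.id_comp]

lemma bc_trans_hom {ξ ξ' ξ'' : DefSch X x A'} (e : ξ.Iso ξ') (e' : ξ'.Iso ξ'') :
    ((e.trans e').baseChange g).iso.hom =
      (e.baseChange g).iso.hom ≫ (e'.baseChange g).iso.hom := by
  apply pullback.hom_ext
  · rw [bc_hom_fst, Category.assoc, bc_hom_fst, ← Category.assoc, bc_hom_fst, Category.assoc]
    rfl
  · rw [bc_hom_snd, Category.assoc, bc_hom_snd, bc_hom_snd]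

lemma bc_symm_hom {ξ ξ' : DefSch X x A'} (e : ξ.Iso ξ') :
    (e.symm.baseChange g).iso.hom = (e.baseChange g).iso.inv := rfl

/-- the relation on extensions of `𝒳` -/
def RSch (a b : Σ 𝒳' : DefSch X x A', (𝒳'.baseChange g).Iso 𝒳) : Prop :=
  ∃ ψ : a.1.Iso b.1, ((ψ.baseChange g).trans b.2).iso = a.2.iso

variable {g 𝒳}

lemma rsch_iff (a b : Σ 𝒳' : DefSch X x A', (𝒳'.baseChange g).Iso 𝒳) :
    RSch g 𝒳 a b ↔
      ∃ ψ : a.1.Iso b.1, (ψ.baseChange g).iso.hom ≫ b.2.iso.hom = a.2.iso.hom := by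
  constructor
  · rintro ⟨ψ, h⟩
    exact ⟨ψ, congrArg CategoryTheory.Iso.hom h⟩
  · rintro ⟨ψ, h⟩
    exact ⟨ψ, CategoryTheory.Iso.ext h⟩

lemma RSch.refl (a : Σ 𝒳' : DefSch X x A', (𝒳'.baseChange g).Iso 𝒳) : RSch g 𝒳 a a := by
  rw [rsch_iff]
  exact ⟨DefSch.Iso.refl a.1, by rw [bc_refl_hom, Category.id_comp]⟩

lemma RSch.symm {a b : Σ 𝒳' : DefSch X x A', (𝒳'.baseChange g).Iso 𝒳} (h : RSch g 𝒳 a b) :
    RSch g 𝒳 b a := by
  rw [rsch_iff] at h ⊢
  obtain ⟨ψ, h⟩ := h
  refine ⟨ψ.symm, ?_⟩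
  rw [bc_symm_hom, ← h, ← Category.assoc, (ψ.baseChange g).iso.inv_hom_id, Category.id_comp]

lemma RSch.trans {a b c : Σ 𝒳' : DefSch X x A', (𝒳'.baseChange g).Iso 𝒳} (h : RSch g 𝒳 a b)
    (h' : RSch g 𝒳 b c) : RSch g 𝒳 a c := by
  rw [rsch_iff] at h h' ⊢
  obtain ⟨ψ, h⟩ := h
  obtain ⟨ψ', h'⟩ := h'
  refine ⟨ψ.trans ψ', ?_⟩
  rw [bc_trans_hom, Category.assoc, h', h]

end General

section Affine

variable {k : Type u} [Field k] {B₀ : Type u} [CommRing B₀] [Algebra k B₀]
variable {A' A : Art k k} (g : A' ⟶ A) (hg : Function.Surjective g)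
  {D : AlgDef A.carrier A.res.toRingHom B₀} {𝒳 : DefSch (X₀ B₀) (x₀ B₀) A}
  (e₀ : 𝒳.Iso (ofAlg A D))

/-- the extension of `𝒳` attached to an algebraic lifting of `D` -/
noncomputable def toSch (a : Σ D' : AlgDef A'.carrier A'.res.toRingHom B₀,
    AlgDef.BC D' D g.toAlgHom.toRingHom) :
    Σ 𝒳' : DefSch (X₀ B₀) (x₀ B₀) A', (𝒳'.baseChange g).Iso 𝒳 :=
  ⟨ofAlg A' a.1, (isoOfBC g hg a.1 D a.2).trans e₀.symm⟩

lemma toSch_snd_hom (a : Σ D' : AlgDef A'.carrier A'.res.toRingHom B₀,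
    AlgDef.BC D' D g.toAlgHom.toRingHom) :
    (toSch g hg e₀ a).2.iso.hom = (isoOfBC g hg a.1 D a.2).iso.hom ≫ e₀.iso.inv := rfl

/-- isomorphic algebraic liftings give related extensions -/
theorem rsch_of_ralg {a b : Σ D' : AlgDef A'.carrier A'.res.toRingHom B₀,
    AlgDef.BC D' D g.toAlgHom.toRingHom} (h : RAlg a b) :
    RSch g 𝒳 (toSch g hg e₀ a) (toSch g hg e₀ b) := by
  obtain ⟨θ, h1, h2, h3⟩ := h
  let ψ : (ofAlg A' a.1).Iso (ofAlg A' b.1) := isoOfRingEquiv A' a.1 b.1 θ.symm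
    (fun c => by rw [← h1 c, RingEquiv.symm_apply_apply])
    (fun x => by rw [← h2, RingEquiv.apply_symm_apply])
  refine (rsch_iff _ _).mpr ⟨ψ, ?_⟩
  change (ψ.baseChange g).iso.hom ≫ ((isoOfBC g hg b.1 D b.2).iso.hom ≫ e₀.iso.inv) =
    (isoOfBC g hg a.1 D a.2).iso.hom ≫ e₀.iso.inv
  rw [← Category.assoc]
  congr 1
  have hβ : (show (ofAlg A D).total ⟶ (ofAlg A' b.1).total from
      Spec.map (CommRingCat.ofHom b.2.β)) =
      (show (ofAlg A D).total ⟶ (ofAlg A' a.1).total from Spec.map (CommRingCat.ofHom a.2.β)) ≫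
        ψ.iso.hom := by
    change Spec.map (CommRingCat.ofHom b.2.β) = Spec.map (CommRingCat.ofHom a.2.β) ≫
      Spec.map (CommRingCat.ofHom θ.symm.toRingHom)
    rw [← Spec.map_comp]
    congr 1
    ext y
    change b.2.β y = a.2.β (θ.symm y)
    rw [← h3, RingEquiv.apply_symm_apply]
  apply (sq_of_bc g hg b.1 D b.2).hom_ext
  · rw [Category.assoc, isoOfBC_hom_fst, bc_hom_fst, hβ, ← Category.assoc, isoOfBC_hom_fst]
  · rw [Category.assoc, isoOfBC_hom_snd, bc_hom_snd, isoOfBC_hom_snd]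

/-- related extensions come from isomorphic algebraic liftings -/
theorem ralg_of_rsch {a b : Σ D' : AlgDef A'.carrier A'.res.toRingHom B₀,
    AlgDef.BC D' D g.toAlgHom.toRingHom}
    (h : RSch g 𝒳 (toSch g hg e₀ a) (toSch g hg e₀ b)) : RAlg a b := by
  obtain ⟨ψ₀, h⟩ := (rsch_iff _ _).mp h
  let ψ : (ofAlg A' a.1).Iso (ofAlg A' b.1) := ψ₀
  have h0 : (ψ.baseChange g).iso.hom ≫ ((isoOfBC g hg b.1 D b.2).iso.hom ≫ e₀.iso.inv) =
    (isoOfBC g hg a.1 D a.2).iso.hom ≫ e₀.iso.inv := h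
  rw [← Category.assoc] at h0
  have h' : (ψ.baseChange g).iso.hom ≫ (isoOfBC g hg b.1 D b.2).iso.hom =
      (isoOfBC g hg a.1 D a.2).iso.hom := (cancel_mono e₀.iso.inv).mp h0
  obtain ⟨φ, hφ1, hφ2, hφ3⟩ := ringEquiv_of_iso A' a.1 b.1 ψ
  have e1 : (isoOfBC g hg a.1 D a.2).iso.hom ≫
      ((show (ofAlg A D).total ⟶ (ofAlg A' a.1).total from
        Spec.map (CommRingCat.ofHom a.2.β)) ≫ ψ.iso.hom) =
      (isoOfBC g hg a.1 D a.2).iso.hom ≫ (show (ofAlg A D).total ⟶ (ofAlg A' b.1).total from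
        Spec.map (CommRingCat.ofHom b.2.β)) := by
    rw [← Category.assoc, isoOfBC_hom_fst, ← bc_hom_fst, ← h', Category.assoc, isoOfBC_hom_fst]
  have key := (cancel_epi _).mp e1
  have hφ3' : ψ.iso.hom = Spec.map (CommRingCat.ofHom φ.toRingHom) := hφ3
  rw [hφ3'] at key
  have key2 : (CommRingCat.ofHom φ.toRingHom) ≫ (CommRingCat.ofHom a.2.β) =
      CommRingCat.ofHom b.2.β := by
    apply Spec.map_injective
    rw [Spec.map_comp]
    exact key
  have key3 : ∀ y, a.2.β (φ y) = b.2.β y := fun y => congrArg (fun f => f.hom y) key2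
  refine ⟨φ.symm, fun c => ?_, fun x => ?_, fun x => ?_⟩
  · rw [← hφ1 c, RingEquiv.symm_apply_apply]
  · rw [← hφ2, RingEquiv.apply_symm_apply]
  · rw [← key3, RingEquiv.apply_symm_apply]

include hg in
/-- an identification of the base change of an algebraic deformation with `D` comes from a
base-change datum -/
theorem exists_bc_of_iso (D' : AlgDef A'.carrier A'.res.toRingHom B₀)
    (φ' : ((ofAlg A' D').baseChange g).Iso (ofAlg A D)) :
    ∃ bc : AlgDef.BC D' D g.toAlgHom.toRingHom,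
      (isoOfBC g hg D' D bc).iso.hom = φ'.iso.hom := by
  let βm : (ofAlg A D).total ⟶ (ofAlg A' D').total :=
    φ'.iso.inv ≫ pullback.fst (ofAlg A' D').f (specMap g)
  let β' : CommRingCat.of D'.B ⟶ CommRingCat.of D.B :=
    Spec.preimage (show Spec (CommRingCat.of D.B) ⟶ Spec (CommRingCat.of D'.B) from βm)
  have hβ' : Spec.map β' = βm := Spec.map_preimage _
  let β : D'.B →+* D.B := β'.hom
  have hββ' : CommRingCat.ofHom β = β' := rfl
  have hinv_snd : φ'.iso.inv ≫ pullback.snd (ofAlg A' D').f (specMap g) = (ofAlg A D).f :=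
    φ'.symm.hom_f
  have hw : βm ≫ (ofAlg A' D').f = (ofAlg A D).f ≫ specMap g :=
    calc βm ≫ (ofAlg A' D').f
        = φ'.iso.inv ≫ (pullback.fst (ofAlg A' D').f (specMap g) ≫ (ofAlg A' D').f) :=
          Category.assoc _ _ _
      _ = φ'.iso.inv ≫ (pullback.snd (ofAlg A' D').f (specMap g) ≫ specMap g) := by
          rw [pullback.condition]
      _ = (φ'.iso.inv ≫ pullback.snd (ofAlg A' D').f (specMap g)) ≫ specMap g :=
          (Category.assoc _ _ _).symm
      _ = (ofAlg A D).f ≫ specMap g := by rw [hinv_snd]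
  have sq1 : IsPullback βm (ofAlg A D).f
      (ofAlg A' D').f (specMap g) :=
    IsPullback.of_iso_pullback ⟨hw⟩ φ'.iso.symm rfl hinv_snd
  -- `β` is compatible with the structure maps
  have β_alg : ∀ a, β (algebraMap A'.carrier D'.B a) = algebraMap A.carrier D.B
      (g.toAlgHom.toRingHom a) := by
    have h1 : Spec.map β' ≫ Spec.map (CommRingCat.ofHom (algebraMap A'.carrier D'.B)) =
        Spec.map (CommRingCat.ofHom (algebraMap A.carrier D.B)) ≫
          Spec.map (CommRingCat.ofHom g.toAlgHom.toRingHom) := by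
      rw [hβ']
      exact hw
    rw [← Spec.map_comp, ← Spec.map_comp] at h1
    have h2 := Spec.map_injective h1
    exact fun a => congrArg (fun f => f.hom a) h2
  have π_β : ∀ b, D.π (β b) = D'.π b := by
    have h1 : Spec.map (CommRingCat.ofHom D.π) ≫ Spec.map β' =
        Spec.map (CommRingCat.ofHom D'.π) := by
      rw [hβ']
      change (ofAlg A D).i ≫ φ'.iso.inv ≫ pullback.fst (ofAlg A' D').f (specMap g) =
        (ofAlg A' D').i
      rw [← Category.assoc]
      have h3 : (ofAlg A D).i ≫ φ'.iso.inv = ((ofAlg A' D').baseChange g).i := φ'.symm.i_hom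
      rw [h3, DefSch.baseChange_i_fst]
    rw [← Spec.map_comp] at h1
    have h2 := Spec.map_injective h1
    exact fun b => congrArg (fun f => f.hom b) h2
  -- comparison with the quotient
  let I : Ideal D'.B := (RingHom.ker g.toAlgHom.toRingHom).map (algebraMap A'.carrier D'.B)
  let q : D'.B →+* D'.B ⧸ I := Ideal.Quotient.mk I
  have hle : RingHom.ker g.toAlgHom.toRingHom ≤
      RingHom.ker (q.comp (algebraMap A'.carrier D'.B)) := by
    intro a ha
    rw [RingHom.mem_ker, RingHom.comp_apply]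
    exact (Ideal.Quotient.eq_zero_iff_mem).mpr (Ideal.mem_map_of_mem _ ha)
  let aQ : A.carrier →+* D'.B ⧸ I :=
    RingHom.liftOfRightInverse g.toAlgHom.toRingHom (Function.surjInv hg)
      (Function.rightInverse_surjInv hg) ⟨q.comp (algebraMap A'.carrier D'.B), hle⟩
  have haQ : ∀ a, q (algebraMap A'.carrier D'.B a) = aQ (g.toAlgHom.toRingHom a) := fun a =>
    (RingHom.liftOfRightInverse_comp_apply g.toAlgHom.toRingHom (Function.surjInv hg)
      (Function.rightInverse_surjInv hg) ⟨q.comp (algebraMap A'.carrier D'.B), hle⟩ a).symm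
  have sq2 : IsPullback (Spec.map (CommRingCat.ofHom q)) (Spec.map (CommRingCat.ofHom aQ))
      (ofAlg A' D').f (specMap g) :=
    isPullback_SpecMap_of_isPushout _ _ _ _
      (isPushout_of_surjective (algebraMap A'.carrier D'.B) g.toAlgHom.toRingHom q aQ haQ hg
        Ideal.Quotient.mk_surjective (Ideal.mk_ker))
  let χ := sq1.isoIsPullback _ _ sq2
  have hχ1 : χ.hom ≫ Spec.map (CommRingCat.ofHom q) = βm := sq1.isoIsPullback_hom_fst _ _ sq2
  have hχ2 : χ.inv ≫ βm = Spec.map (CommRingCat.ofHom q) := sq1.isoIsPullback_inv_fst _ _ sq2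
  let t : CommRingCat.of (D'.B ⧸ I) ⟶ CommRingCat.of D.B := Spec.preimage χ.hom
  let t' : CommRingCat.of D.B ⟶ CommRingCat.of (D'.B ⧸ I) := Spec.preimage χ.inv
  have ht : Spec.map t = χ.hom := Spec.map_preimage _
  have ht' : Spec.map t' = χ.inv := Spec.map_preimage _
  have htt' : t' ≫ t = 𝟙 _ := by
    apply Spec.map_injective
    rw [Spec.map_comp, ht, ht', Spec.map_id]
    exact χ.hom_inv_id
  have ht't : t ≫ t' = 𝟙 _ := by
    apply Spec.map_injective
    rw [Spec.map_comp, ht, ht', Spec.map_id]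
    exact χ.inv_hom_id
  have htq : CommRingCat.ofHom q ≫ t = β' := by
    apply Spec.map_injective
    rw [Spec.map_comp, ht, hβ']
    exact hχ1
  have e1 : ∀ y, t.hom (t'.hom y) = y := fun y => congrArg (fun f => f.hom y) htt'
  have e2 : ∀ y, t'.hom (t.hom y) = y := fun y => congrArg (fun f => f.hom y) ht't
  have e3 : ∀ b, t.hom (q b) = β b := fun b => congrArg (fun f => f.hom b) htq
  have β_surj : Function.Surjective β := by
    intro d
    obtain ⟨b, hb⟩ := Ideal.Quotient.mk_surjective (t'.hom d)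
    refine ⟨b, ?_⟩
    rw [← e3]
    change t.hom (Ideal.Quotient.mk I b) = d
    rw [hb, e1]
  have ker_β : RingHom.ker β = I := by
    ext b
    rw [RingHom.mem_ker, ← e3]
    constructor
    · intro h
      have h2 : q b = 0 := by rw [← e2 (q b), h, map_zero]
      exact (Ideal.Quotient.eq_zero_iff_mem).mp h2
    · intro h
      have h2 : q b = 0 := (Ideal.Quotient.eq_zero_iff_mem).mpr h
      rw [h2, map_zero]
  refine ⟨⟨β, β_alg, π_β, β_surj, ker_β⟩, ?_⟩
  apply sq1.hom_ext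
  · have h1 := isoOfBC_hom_fst g hg D' D ⟨β, β_alg, π_β, β_surj, ker_β⟩
    have h2 : (show (ofAlg A D).total ⟶ (ofAlg A' D').total from
        Spec.map (CommRingCat.ofHom β)) = βm := hβ'
    rw [h2] at h1
    rw [h1]
    change _ = φ'.iso.hom ≫ φ'.iso.inv ≫ pullback.fst (ofAlg A' D').f (specMap g)
    rw [← Category.assoc, φ'.iso.hom_inv_id, Category.id_comp]
  · rw [isoOfBC_hom_snd]
    exact φ'.hom_f.symm

include hg in
/-- every extension of `𝒳` is related to one coming from an algebraic lifting -/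
theorem exists_toSch (y : Σ 𝒳' : DefSch (X₀ B₀) (x₀ B₀) A', (𝒳'.baseChange g).Iso 𝒳) :
    ∃ a, RSch g 𝒳 y (toSch g hg e₀ a) := by
  obtain ⟨𝒳', φ⟩ := y
  obtain ⟨D', ⟨e'⟩⟩ := exists_algDef A' 𝒳'
  let φ' : ((ofAlg A' D').baseChange g).Iso (ofAlg A D) :=
    ((e'.symm.baseChange g).trans φ).trans e₀
  obtain ⟨bc, hbc⟩ := exists_bc_of_iso g hg D' φ'
  refine ⟨⟨D', bc⟩, (rsch_iff _ _).mpr ⟨e', ?_⟩⟩
  change (e'.baseChange g).iso.hom ≫ ((isoOfBC g hg D' D bc).iso.hom ≫ e₀.iso.inv) = φ.iso.hom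
  rw [hbc]
  change (e'.baseChange g).iso.hom ≫
    ((((e'.baseChange g).iso.inv ≫ φ.iso.hom) ≫ e₀.iso.hom) ≫ e₀.iso.inv) = φ.iso.hom
  rw [Category.assoc, e₀.iso.hom_inv_id, Category.comp_id, ← Category.assoc,
    (e'.baseChange g).iso.hom_inv_id, Category.id_comp]

end Affine

/-- a quotient by the kernel relation of a surjection -/
theorem nonempty_quot_equiv {α : Type*} {β : Type*} (r : α → α → Prop) (Ψ : α → β)
    (h : ∀ a b, r a b ↔ Ψ a = Ψ b) (hs : Function.Surjective Ψ) : Nonempty (Quot r ≃ β) :=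
  ⟨Equiv.ofBijective (Quot.lift Ψ (fun a b hab => (h a b).mp hab))
    ⟨fun x y => by
      induction x using Quot.ind
      induction y using Quot.ind
      intro hxy
      exact Quot.sound ((h _ _).mpr hxy),
     fun b => by
      obtain ⟨a, rfl⟩ := hs b
      exact ⟨Quot.mk r a, rfl⟩⟩⟩

end Groth.Agent.H61.DefDict3
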