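import Groth.Agent.H61.DefTorsorSch
import Groth.Agent.H61.ArtYoneda

/-!
# First-order deformations of an affine scheme and `T¹` (helper61)

`nonempty_def_dual_equiv` : `Def_{Spec B}(k[ε]) ≃ T¹(P, B)` for any presentation `P` of `B`.
-/

set_option autoImplicit false
set_option linter.unusedSectionVars false

open AlgebraicGeometry CategoryTheory Limits IsLocalRing ArtFun ArtFun.Art TensorProduct CotT
open Groth.Agent.H61.DefPres Groth.Agent.H61.DefDict Groth.Agent.H61.DefIso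
open Groth.Agent.H61.DefDict2 Groth.Agent.H61.DefDict3 Groth.Agent.H61.DefTorsor
open Groth.Agent.H61.DefTorsorMain

namespace Groth.Agent.H61.DefDual

universe u

section OverBase

variable {Λ k : Type u} [CommRing Λ] [Field k] [Algebra Λ k]
variable {X : Scheme.{u}} {x : X ⟶ specPt k}

lemma isIso_i (ξ : DefSch X x (base Λ k)) : IsIso ξ.i :=
  ξ.isPullback.isIso_fst_of_isIso

/-- any two deformations over the base field are isomorphic -/
noncomputable def isoOverBase (ξ ξ' : DefSch X x (base Λ k)) : ξ.Iso ξ' :=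
  haveI := isIso_i ξ
  haveI := isIso_i ξ'
  { iso := (asIso ξ.i).symm ≪≫ asIso ξ'.i
    hom_f := by
      change (inv ξ.i ≫ ξ'.i) ≫ ξ'.f = ξ.f
      rw [Category.assoc, IsIso.inv_comp_eq, ξ'.i_f, ξ.i_f]
    i_hom := by
      change ξ.i ≫ (inv ξ.i ≫ ξ'.i) = ξ'.i
      rw [IsIso.hom_inv_id_assoc] }

/-- isomorphisms of deformations over the base field are unique -/
lemma iso_unique {ξ ξ' : DefSch X x (base Λ k)} (e e' : ξ.Iso ξ') : e.iso = e'.iso := by
  haveI := isIso_i ξ
  apply CategoryTheory.Iso.ext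
  rw [← cancel_epi ξ.i, e.i_hom, e'.i_hom]

end OverBase

section T1congr

variable {A : Type*} [CommRing A] {B : Type*} [CommRing B] [Algebra A B] {ι σ : Type*}
  (P : Algebra.Presentation A B ι σ)
  {M N N' : Type*} [AddCommGroup M] [Module B M] [AddCommGroup N] [Module B N]
  [AddCommGroup N'] [Module B N']

lemma T1map_id (t : T1 P M) : T1map P (LinearMap.id : M →ₗ[B] M) t = t := by
  obtain ⟨c, rfl⟩ := Submodule.Quotient.mk_surjective _ t
  rfl

lemma T1map_comp (g : M →ₗ[B] N) (h : N →ₗ[B] N') (t : T1 P M) :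
    T1map P (h ∘ₗ g) t = T1map P h (T1map P g t) := by
  obtain ⟨c, rfl⟩ := Submodule.Quotient.mk_surjective _ t
  rfl

/-- `T¹` of a linear equivalence -/
noncomputable def T1congr (e : M ≃ₗ[B] N) : T1 P M ≃ T1 P N where
  toFun := T1map P e.toLinearMap
  invFun := T1map P e.symm.toLinearMap
  left_inv t := by
    rw [← T1map_comp, LinearEquiv.symm_comp, T1map_id]
  right_inv t := by
    rw [← T1map_comp, LinearEquiv.comp_symm, T1map_id]

end T1congr

section Kernel

variable {k : Type u} [Field k]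

/-- the kernel of `k[ε] → k` is a line -/
noncomputable def eJ : ↥(J (toBase (dual k k))) ≃ₗ[k] k where
  toFun x := dsnd (x : dual k k)
  map_add' x y := rfl
  map_smul' c x := rfl
  invFun c := ⟨dmk 0 c, (mem_ker_toBase_dual _).mpr rfl⟩
  left_inv x := Subtype.ext (dual_ext
    (by rw [dfst_dmk]; exact ((mem_ker_toBase_dual _).mp x.2).symm) (by rw [dsnd_dmk]))
  right_inv c := rfl

variable (B : Type u) [CommRing B] [Algebra k B]

/-- `B ⊗_k J ≃ B` -/
noncomputable def eBJ : B ⊗[k] ↥(J (toBase (dual k k))) ≃ₗ[B] B :=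
  (TensorProduct.AlgebraTensorModule.congr (LinearEquiv.refl B B) eJ).trans
    (TensorProduct.AlgebraTensorModule.rid k B B)

/-- **first-order deformations of `Spec B` are classified by `T¹(B/k, B)`** -/
theorem nonempty_def_dual_equiv {ι σ : Type u} (P : Algebra.Presentation k B ι σ) :
    Nonempty (Quotient (DefSch.setoid (X₀ B) (x₀ (k := k) B) (dual k k)) ≃ T1 P B) := by
  have hx : Flat (x₀ (k := k) B) :=
    Flat.SpecMap_iff.mpr (RingHom.flat_algebraMap_iff.mpr inferInstance)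
  let 𝒳₀ : DefSch (X₀ B) (x₀ (k := k) B) (base k k) := DefSch.self _ _ hx
  let p : dual k k ⟶ base k k := toBase (dual k k)
  have hp : IsSemismallExt p := isSmallExt_toBase_dual.isSemismallExt
  have hne : ∃ 𝒳' : DefSch (X₀ B) (x₀ (k := k) B) (dual k k),
      Nonempty ((𝒳'.baseChange p).Iso 𝒳₀) :=
    ⟨DefSch.trivial _ _ hx _, ⟨isoOverBase _ _⟩⟩
  obtain ⟨E⟩ := Groth.Agent.H61.DefTorsorSch.nonempty_equiv P p hp 𝒳₀ hne
  let E' := E.trans (T1congr P (eBJ B))
  have hE : Equivalence (RSch p 𝒳₀) := ⟨RSch.refl, RSch.symm, RSch.trans⟩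
  refine nonempty_quot_equiv _ (fun ξ => E' (Quot.mk _ ⟨ξ, isoOverBase _ _⟩))
    (fun ξ ξ' => ?_) (fun t => ?_)
  · rw [E'.apply_eq_iff_eq]
    constructor
    · rintro ⟨ψ⟩
      exact Quot.sound ⟨ψ, iso_unique _ _⟩
    · intro h
      obtain ⟨ψ, -⟩ := hE.eqvGen_iff.mp (Quot.eqvGen_exact h)
      exact ⟨ψ⟩
  · obtain ⟨⟨ξ, φ⟩, ha⟩ := Quot.exists_rep (E'.symm t)
    refine ⟨ξ, ?_⟩
    change E' (Quot.mk _ ⟨ξ, isoOverBase _ _⟩) = t
    have h1 : Quot.mk (RSch p 𝒳₀) ⟨ξ, isoOverBase _ _⟩ = Quot.mk _ ⟨ξ, φ⟩ :=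
      Quot.sound ⟨DefSch.Iso.refl ξ, iso_unique _ _⟩
    rw [h1, ha, Equiv.apply_symm_apply]

end Kernel

end Groth.Agent.H61.DefDual
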