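import Groth.Agent.H61.DefPres2

/-!
# Gluing lifted relations over a fibre product of rings (helper61)

Pure algebra for Schlessinger's conditions for deformations of affine schemes:
* `relLift_map` : lifted relations map to lifted relations along a ring map compatible with the
  reductions;
* `exists_rel_lift` : for a flat quotient `A''[X]/(F'')` and a surjection `g : A'' → A`, relations
  among the `g(F'')` lift to relations among the `F''`;
* `exists_poly`, `poly_inj`, `exists_rel` : polynomials and relations over a fibre product of rings;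
* `relLift_glue` : relations lift for a family over the fibre product.
-/

set_option autoImplicit false

namespace Groth.Agent.H61.DefGlue

open MvPolynomial IsLocalRing Groth.Agent.H61.DefObs Groth.Agent.H61.DefFlat
open Groth.Agent.H61.DefPres

universe u

variable {ι σ : Type u}

section Basic

lemma mem_smul_top_iff' {R : Type u} [CommRing R] (I : Ideal R) (G : MvPolynomial ι R) :
    G ∈ (I • ⊤ : Submodule R (MvPolynomial ι R)) ↔
      G ∈ I.map (C : R →+* MvPolynomial ι R) := by
  rw [Ideal.smul_top_eq_map, Submodule.restrictScalars_mem, MvPolynomial.algebraMap_eq]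

lemma map_comp_eq {A₁ A₂ Q : Type u} [CommRing A₁] [CommRing A₂] [CommRing Q] (g : A₁ →+* A₂)
    (res₁ : A₁ →+* Q) (res₂ : A₂ →+* Q) (hres : res₂.comp g = res₁) :
    (map res₂ : MvPolynomial ι A₂ →+* MvPolynomial ι Q).comp (map g) = map res₁ := by
  rw [← hres]
  ext1
  · ext a; simp
  · simp

lemma relLift_map {A₁ A₂ Q : Type u} [CommRing A₁] [CommRing A₂] [CommRing Q] (g : A₁ →+* A₂)
    (res₁ : A₁ →+* Q) (res₂ : A₂ →+* Q) (hres : res₂.comp g = res₁)
    (F₁ : σ → MvPolynomial ι A₁)
    (h : RelLift (map res₁ : MvPolynomial ι A₁ →+* MvPolynomial ι Q) F₁) :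
    RelLift (map res₂ : MvPolynomial ι A₂ →+* MvPolynomial ι Q) (fun s => map g (F₁ s)) := by
  intro r hr
  have h1 : (fun s => map res₂ (map g (F₁ s))) = fun s => map res₁ (F₁ s) := by
    funext s
    rw [MvPolynomial.map_map, hres]
  rw [h1] at hr
  obtain ⟨R₁, hR₁, hR₁0⟩ := h r hr
  refine ⟨mr (map g) R₁, ?_, ?_⟩
  · rw [← mr_comp, ← hR₁, map_comp_eq g res₁ res₂ hres]
  · have := map_lc (map g) F₁ R₁
    rw [← this, hR₁0, map_zero]

lemma exists_rel_lift {A'' A : Type u} [CommRing A''] [CommRing A] (g : A'' →+* A)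
    (hg : Function.Surjective g) (F'' : σ → MvPolynomial ι A'')
    [Module.Flat A'' (MvPolynomial ι A'' ⧸ Ideal.span (Set.range F''))]
    (R : σ →₀ MvPolynomial ι A) (hR : lc (fun s => map g (F'' s)) R = 0) :
    ∃ R'' : σ →₀ MvPolynomial ι A'', mr (map g) R'' = R ∧ lc F'' R'' = 0 := by
  obtain ⟨S, rfl⟩ := mr_surjective (map g) (map_surjective g hg) R
  set I'' := Ideal.span (Set.range F'') with hI''
  let φ : MvPolynomial ι A'' →ₗ[A''] (MvPolynomial ι A'' ⧸ I'') :=
    (Ideal.Quotient.mkₐ A'' I'').toLinearMap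
  have hφ : Function.Surjective φ := Ideal.Quotient.mk_surjective
  have hkerφ : ∀ x, x ∈ LinearMap.ker φ ↔ x ∈ I'' := by
    intro x
    rw [LinearMap.mem_ker]
    exact Ideal.Quotient.eq_zero_iff_mem
  have hx1 : lc F'' S ∈ LinearMap.ker φ := (hkerφ _).mpr (lc_mem_span F'' S)
  have hx2 : lc F'' S ∈ (RingHom.ker g • ⊤ : Submodule A'' (MvPolynomial ι A'')) := by
    rw [mem_smul_top_iff', ← MvPolynomial.ker_map, RingHom.mem_ker, map_lc]
    exact hR
  have hx3 := inf_smul_top_le_smul_ker (RingHom.ker g) φ hφ ⟨hx1, hx2⟩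
  have key : ∀ x ∈ RingHom.ker g • LinearMap.ker φ,
      ∃ T : σ →₀ MvPolynomial ι A'', lc F'' T = x ∧ mr (map g) T = 0 := by
    intro x hx
    refine Submodule.smul_induction_on hx ?_ ?_
    · intro j hj n hn
      obtain ⟨T₀, hT₀⟩ := exists_lc_of_mem_span F'' ((hkerφ n).mp hn)
      refine ⟨(C j : MvPolynomial ι A'') • T₀, ?_, ?_⟩
      · rw [map_smul, hT₀, smul_eq_mul, MvPolynomial.smul_eq_C_mul]
      · rw [mr_smul, map_C, (RingHom.mem_ker).mp hj, map_zero, zero_smul]
    · rintro x y ⟨T₁, h1, h1'⟩ ⟨T₂, h2, h2'⟩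
      exact ⟨T₁ + T₂, by rw [map_add, h1, h2], by rw [map_add, h1', h2', add_zero]⟩
  obtain ⟨T, hT, hT0⟩ := key _ hx3
  exact ⟨S - T, by rw [map_sub, hT0, sub_zero], by rw [map_sub, hT, sub_self]⟩

end Basic

section FibreProd

variable {E A' A'' A : Type u} [CommRing E] [CommRing A'] [CommRing A''] [CommRing A]
  (p' : E →+* A') (p'' : E →+* A'') (f' : A' →+* A) (f'' : A'' →+* A)
  (hinj : ∀ b₁ b₂ : E, p' b₁ = p' b₂ → p'' b₁ = p'' b₂ → b₁ = b₂)
  (hsurj : ∀ (a' : A') (a'' : A''), f' a' = f'' a'' → ∃ b : E, p' b = a' ∧ p'' b = a'')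

include hinj in
lemma poly_inj (G₁ G₂ : MvPolynomial ι E) (h1 : map p' G₁ = map p' G₂)
    (h2 : map p'' G₁ = map p'' G₂) : G₁ = G₂ := by
  ext m
  apply hinj
  · have := congrArg (coeff m) h1
    rwa [coeff_map, coeff_map] at this
  · have := congrArg (coeff m) h2
    rwa [coeff_map, coeff_map] at this

include hsurj in
lemma exists_poly (G' : MvPolynomial ι A') (G'' : MvPolynomial ι A'')
    (h : map f' G' = map f'' G'') :
    ∃ G : MvPolynomial ι E, map p' G = G' ∧ map p'' G = G'' := by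
  classical
  have hc : ∀ m, f' (coeff m G') = f'' (coeff m G'') := by
    intro m
    have := congrArg (coeff m) h
    rwa [coeff_map, coeff_map] at this
  choose c hc1 hc2 using fun m => hsurj _ _ (hc m)
  refine ⟨∑ m ∈ G'.support ∪ G''.support, monomial m (c m), ?_, ?_⟩
  · ext n
    rw [map_sum, coeff_sum]
    simp only [map_monomial, coeff_monomial, hc1]
    rw [Finset.sum_ite_eq']
    split_ifs with hn
    · rfl
    · rw [Finset.mem_union, not_or] at hn
      exact (notMem_support_iff.mp hn.1).symm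
  · ext n
    rw [map_sum, coeff_sum]
    simp only [map_monomial, coeff_monomial, hc2]
    rw [Finset.sum_ite_eq']
    split_ifs with hn
    · rfl
    · rw [Finset.mem_union, not_or] at hn
      exact (notMem_support_iff.mp hn.2).symm

include hsurj in
lemma exists_rel (R' : σ →₀ MvPolynomial ι A') (R'' : σ →₀ MvPolynomial ι A'')
    (h : mr (map f') R' = mr (map f'') R'') :
    ∃ R : σ →₀ MvPolynomial ι E, mr (map p') R = R' ∧ mr (map p'') R = R'' := by
  classical
  have hc : ∀ s, map f' (R' s) = map f'' (R'' s) := by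
    intro s
    have := congrArg (fun v => v s) h
    simpa using this
  choose c hc1 hc2 using fun s => exists_poly p' p'' f' f'' hsurj _ _ (hc s)
  refine ⟨∑ s ∈ R'.support ∪ R''.support, Finsupp.single s (c s), ?_, ?_⟩
  · ext1 t
    rw [map_sum]
    simp only [mr_single, hc1]
    rw [Finsupp.finsetSum_apply]
    simp only [Finsupp.single_apply]
    rw [Finset.sum_ite_eq']
    split_ifs with hn
    · rfl
    · rw [Finset.mem_union, not_or] at hn
      exact (Finsupp.notMem_support_iff.mp hn.1).symm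
  · ext1 t
    rw [map_sum]
    simp only [mr_single, hc2]
    rw [Finsupp.finsetSum_apply]
    simp only [Finsupp.single_apply]
    rw [Finset.sum_ite_eq']
    split_ifs with hn
    · rfl
    · rw [Finset.mem_union, not_or] at hn
      exact (Finsupp.notMem_support_iff.mp hn.2).symm

variable {Q : Type u} [CommRing Q] (resE : E →+* Q) (res' : A' →+* Q) (res'' : A'' →+* Q)
  (res : A →+* Q) (h1 : res'.comp p' = resE) (h3 : res.comp f' = res')
  (hf'' : Function.Surjective f'')
  (F' : σ → MvPolynomial ι A') (F'' : σ → MvPolynomial ι A'')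
  (hFF : ∀ s, map f' (F' s) = map f'' (F'' s))
  (hrel' : RelLift (map res' : MvPolynomial ι A' →+* MvPolynomial ι Q) F')
  [Module.Flat A'' (MvPolynomial ι A'' ⧸ Ideal.span (Set.range F''))]
  (Ft : σ → MvPolynomial ι E) (hF1 : ∀ s, map p' (Ft s) = F' s)
  (hF2 : ∀ s, map p'' (Ft s) = F'' s)

include hinj hsurj h1 hf'' hFF hrel' hF1 hF2 in
/-- **relations lift for the glued family** -/
theorem relLift_glue : RelLift (map resE : MvPolynomial ι E →+* MvPolynomial ι Q) Ft := by
  intro r hr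
  have e1 : (fun s => map resE (Ft s)) = fun s => map res' (F' s) := by
    funext s
    rw [← hF1, MvPolynomial.map_map, h1]
  rw [e1] at hr
  obtain ⟨R', hR', hR'0⟩ := hrel' r hr
  have e2 : lc (fun s => map f'' (F'' s)) (mr (map f') R') = 0 := by
    have e3 : (fun s => map f'' (F'' s)) = fun s => map f' (F' s) := funext fun s => (hFF s).symm
    rw [e3, ← map_lc, hR'0, map_zero]
  obtain ⟨R'', hR'', hR''0⟩ := exists_rel_lift f'' hf'' F'' _ e2
  obtain ⟨R, hR1, hR2⟩ := exists_rel p' p'' f' f'' hsurj R' R'' hR''.symm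
  refine ⟨R, ?_, ?_⟩
  · rw [← hR', ← hR1, ← mr_comp, map_comp_eq p' resE res' h1]
  · apply poly_inj p' p'' hinj
    · rw [map_lc, hR1, map_zero]
      have : (fun s => map p' (Ft s)) = F' := funext hF1
      rw [this, hR'0]
    · rw [map_lc, hR2, map_zero]
      have : (fun s => map p'' (Ft s)) = F'' := funext hF2
      rw [this, hR''0]

end FibreProd

section FlatInf

open TensorProduct

/-- for a flat algebra, extension of ideals preserves trivial intersections -/
lemma map_inf_map_eq_bot {R M : Type u} [CommRing R] [CommRing M] [Algebra R M] [Module.Flat R M]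
    (I J : Ideal R) (hIJ : I ⊓ J = ⊥) :
    I.map (algebraMap R M) ⊓ J.map (algebraMap R M) = ⊥ := by
  rw [eq_bot_iff]
  rintro x ⟨hxI, hxJ⟩
  let ψ : R →ₗ[R] (R ⧸ I) × (R ⧸ J) := (Submodule.mkQ I).prod (Submodule.mkQ J)
  have hψ : Function.Injective ψ := by
    rw [← LinearMap.ker_eq_bot, eq_bot_iff]
    intro r hr
    rw [LinearMap.mem_ker] at hr
    have h1 : r ∈ I := (Submodule.Quotient.mk_eq_zero I).mp (congrArg Prod.fst hr)
    have h2 : r ∈ J := (Submodule.Quotient.mk_eq_zero J).mp (congrArg Prod.snd hr)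
    have : r ∈ I ⊓ J := ⟨h1, h2⟩
    rw [hIJ] at this
    exact this
  have hinj := Module.Flat.lTensor_preserves_injective_linearMap (M := M) ψ hψ
  have key : ∀ (K : Ideal R) (e : (R ⧸ I) × (R ⧸ J)), (∀ r ∈ K, r • e = 0) →
      ∀ x ∈ K.map (algebraMap R M), x ⊗ₜ[R] e = 0 := by
    intro K e he x hx
    have hx' : x ∈ (K • ⊤ : Submodule R M) := by
      rw [Ideal.smul_top_eq_map]
      exact hx
    refine Submodule.smul_induction_on hx' ?_ ?_
    · intro r hr m _
      rw [TensorProduct.smul_tmul, he r hr, TensorProduct.tmul_zero]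
    · intro a b ha hb
      rw [TensorProduct.add_tmul, ha, hb, add_zero]
  have hsmulI : ∀ r : R, r • (1 : R ⧸ I) = Ideal.Quotient.mk I r := fun r => by
    rw [Algebra.smul_def, mul_one]; rfl
  have hsmulJ : ∀ r : R, r • (1 : R ⧸ J) = Ideal.Quotient.mk J r := fun r => by
    rw [Algebra.smul_def, mul_one]; rfl
  have h1 : x ⊗ₜ[R] (((1 : R ⧸ I), (0 : R ⧸ J)) : (R ⧸ I) × (R ⧸ J)) = 0 :=
    key I _ (fun r hr => by
      rw [Prod.smul_mk, smul_zero, hsmulI, Ideal.Quotient.eq_zero_iff_mem.mpr hr]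
      rfl) x hxI
  have h2 : x ⊗ₜ[R] (((0 : R ⧸ I), (1 : R ⧸ J)) : (R ⧸ I) × (R ⧸ J)) = 0 :=
    key J _ (fun r hr => by
      rw [Prod.smul_mk, smul_zero, hsmulJ, Ideal.Quotient.eq_zero_iff_mem.mpr hr]
      rfl) x hxJ
  have h3 : (ψ.lTensor M) (x ⊗ₜ[R] (1 : R)) = 0 := by
    rw [LinearMap.lTensor_tmul]
    have : ψ 1 = (((1 : R ⧸ I), (0 : R ⧸ J)) : (R ⧸ I) × (R ⧸ J)) + ((0 : R ⧸ I), (1 : R ⧸ J)) := by
      rw [Prod.mk_add_mk, add_zero, zero_add]
      rfl
    rw [this, TensorProduct.tmul_add, h1, h2, add_zero]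
  have h4 : x ⊗ₜ[R] (1 : R) = 0 := hinj (h3.trans (map_zero _).symm)
  have h5 := congrArg (TensorProduct.rid R M) h4
  rw [TensorProduct.rid_tmul, one_smul, map_zero] at h5
  exact h5

end FlatInf

end Groth.Agent.H61.DefGlue
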