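import Groth.Agent.H61.DefIso

/-!
# Base change of presented algebras along an arbitrary ring map (helper61)

`isPushout_pres` : `A₂ ⊗_{A₁} A₁[X]/(F₁) = A₂[X]/(g F₁)` as a pushout square of commutative rings.
`iso_of_isPushout` : the corresponding isomorphism of scheme deformations.
-/

set_option autoImplicit false
universe u

open MvPolynomial IsLocalRing CategoryTheory AlgebraicGeometry ArtFun ArtFun.Art Limits
open Groth.Agent.H61.DefObs Groth.Agent.H61.DefPres Groth.Agent.H61.DefDict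

namespace Groth.Agent.H61.DefPresBC

section Alg

variable {ι σ : Type u} {A₁ A₂ : Type u} [CommRing A₁] [CommRing A₂] (g : A₁ →+* A₂)
  (F₁ : σ → MvPolynomial ι A₁) (F₂ : σ → MvPolynomial ι A₂) (hF : ∀ s, map g (F₁ s) = F₂ s)

include hF in
lemma span_le_ker : ∀ a ∈ Ideal.span (Set.range F₁),
    ((Ideal.Quotient.mk (Ideal.span (Set.range F₂))).comp (map g)) a = 0 := by
  have hle : Ideal.span (Set.range F₁) ≤
      RingHom.ker ((Ideal.Quotient.mk (Ideal.span (Set.range F₂))).comp (map g)) := by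
    rw [Ideal.span_le]
    rintro _ ⟨s, rfl⟩
    change Ideal.Quotient.mk (Ideal.span (Set.range F₂)) (map g (F₁ s)) = 0
    rw [hF, Ideal.Quotient.eq_zero_iff_mem]
    exact Ideal.subset_span ⟨s, rfl⟩
  exact fun a ha => hle ha

/-- the map `A₁[X]/(F₁) → A₂[X]/(F₂)` -/
noncomputable def presMap : (MvPolynomial ι A₁ ⧸ Ideal.span (Set.range F₁)) →+*
    (MvPolynomial ι A₂ ⧸ Ideal.span (Set.range F₂)) :=
  Ideal.Quotient.lift _ ((Ideal.Quotient.mk (Ideal.span (Set.range F₂))).comp (map g))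
    (span_le_ker g F₁ F₂ hF)

lemma presMap_mk (G : MvPolynomial ι A₁) :
    presMap g F₁ F₂ hF (Ideal.Quotient.mk _ G) = Ideal.Quotient.mk _ (map g G) := rfl

variable {S : Type u} [CommRing S] (u : (MvPolynomial ι A₁ ⧸ Ideal.span (Set.range F₁)) →+* S)
  (v : A₂ →+* S)
  (huv : ∀ a, u (algebraMap A₁ _ a) = v (g a))

/-- the polynomial-level descent map -/
noncomputable def descPoly : MvPolynomial ι A₂ →+* S :=
  eval₂Hom v (fun i => u (Ideal.Quotient.mk _ (X i)))

include huv in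
lemma descPoly_map (G : MvPolynomial ι A₁) :
    descPoly F₁ u v (map g G) = u (Ideal.Quotient.mk _ G) := by
  have h : (descPoly F₁ u v).comp (map g) = u.comp (Ideal.Quotient.mk _) := by
    apply MvPolynomial.ringHom_ext
    · intro a
      change descPoly F₁ u v (map g (C a)) = u (Ideal.Quotient.mk _ (C a))
      rw [map_C, descPoly, coe_eval₂Hom, eval₂_C, ← huv]
      rfl
    · intro i
      change descPoly F₁ u v (map g (X i)) = u (Ideal.Quotient.mk _ (X i))
      rw [map_X, descPoly, coe_eval₂Hom, eval₂_X]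
  exact congrArg (fun h => h G) h

include hF huv in
lemma descPoly_span : ∀ a ∈ Ideal.span (Set.range F₂), descPoly F₁ u v a = 0 := by
  have hle : Ideal.span (Set.range F₂) ≤ RingHom.ker (descPoly F₁ u v) := by
    rw [Ideal.span_le]
    rintro _ ⟨s, rfl⟩
    change descPoly F₁ u v (F₂ s) = 0
    rw [← hF, descPoly_map g F₁ u v huv]
    have : Ideal.Quotient.mk (Ideal.span (Set.range F₁)) (F₁ s) = 0 :=
      Ideal.Quotient.eq_zero_iff_mem.mpr (Ideal.subset_span ⟨s, rfl⟩)
    rw [this, map_zero]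
  exact fun a ha => hle ha

/-- the descent map -/
noncomputable def desc : (MvPolynomial ι A₂ ⧸ Ideal.span (Set.range F₂)) →+* S :=
  Ideal.Quotient.lift _ (descPoly F₁ u v) (descPoly_span g F₁ F₂ hF u v huv)

lemma desc_presMap (b : MvPolynomial ι A₁ ⧸ Ideal.span (Set.range F₁)) :
    desc g F₁ F₂ hF u v huv (presMap g F₁ F₂ hF b) = u b := by
  obtain ⟨G, rfl⟩ := Ideal.Quotient.mk_surjective b
  rw [presMap_mk]
  change descPoly F₁ u v (map g G) = _
  rw [descPoly_map g F₁ u v huv]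

lemma desc_algebraMap (a : A₂) :
    desc g F₁ F₂ hF u v huv (algebraMap A₂ _ a) = v a := by
  change descPoly F₁ u v (C a) = _
  rw [descPoly, coe_eval₂Hom, eval₂_C]

lemma desc_unique (m : (MvPolynomial ι A₂ ⧸ Ideal.span (Set.range F₂)) →+* S)
    (hm1 : ∀ b, m (presMap g F₁ F₂ hF b) = u b) (hm2 : ∀ a, m (algebraMap A₂ _ a) = v a)
    (y : MvPolynomial ι A₂ ⧸ Ideal.span (Set.range F₂)) :
    m y = desc g F₁ F₂ hF u v huv y := by
  obtain ⟨G, rfl⟩ := Ideal.Quotient.mk_surjective y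
  have h : m.comp (Ideal.Quotient.mk _) = descPoly F₁ u v := by
    apply MvPolynomial.ringHom_ext
    · intro a
      change m (Ideal.Quotient.mk _ (C a)) = descPoly F₁ u v (C a)
      rw [descPoly, coe_eval₂Hom, eval₂_C]
      exact hm2 a
    · intro i
      change m (Ideal.Quotient.mk _ (X i)) = descPoly F₁ u v (X i)
      rw [descPoly, coe_eval₂Hom, eval₂_X, ← hm1, presMap_mk, map_X]
  exact congrArg (fun h => h G) h

/-- **base change of a presented algebra** -/
theorem isPushout_pres :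
    IsPushout
      (CommRingCat.ofHom (algebraMap A₁ (MvPolynomial ι A₁ ⧸ Ideal.span (Set.range F₁))))
      (CommRingCat.ofHom g) (CommRingCat.ofHom (presMap g F₁ F₂ hF))
      (CommRingCat.ofHom (algebraMap A₂ (MvPolynomial ι A₂ ⧸ Ideal.span (Set.range F₂)))) := by
  have hcomm : ∀ a, presMap g F₁ F₂ hF (algebraMap A₁ _ a) = algebraMap A₂ _ (g a) := by
    intro a
    change presMap g F₁ F₂ hF (Ideal.Quotient.mk _ (C a)) = _
    rw [presMap_mk, map_C]
    rfl
  have hcond : ∀ (s : PushoutCocone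
      (CommRingCat.ofHom (algebraMap A₁ (MvPolynomial ι A₁ ⧸ Ideal.span (Set.range F₁))))
      (CommRingCat.ofHom g)) (a : A₁),
      s.inl.hom (algebraMap A₁ _ a) = s.inr.hom (g a) := by
    intro s a
    have h1 := congrArg (fun f => f.hom a) s.condition
    simpa only [CommRingCat.hom_comp, CommRingCat.hom_ofHom, RingHom.comp_apply] using h1
  refine ⟨⟨?_⟩, ⟨PushoutCocone.IsColimit.mk _ (fun s => CommRingCat.ofHom
    (desc g F₁ F₂ hF s.inl.hom s.inr.hom (hcond s))) ?_ ?_ ?_⟩⟩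
  · exact CommRingCat.hom_ext (RingHom.ext fun a => hcomm a)
  · intro s
    exact CommRingCat.hom_ext (RingHom.ext fun b =>
      desc_presMap g F₁ F₂ hF s.inl.hom s.inr.hom (hcond s) b)
  · intro s
    exact CommRingCat.hom_ext (RingHom.ext fun a =>
      desc_algebraMap g F₁ F₂ hF s.inl.hom s.inr.hom (hcond s) a)
  · intro s m hm1 hm2
    refine CommRingCat.hom_ext (RingHom.ext fun y => ?_)
    refine desc_unique g F₁ F₂ hF s.inl.hom s.inr.hom (hcond s) m.hom (fun b => ?_) (fun a => ?_) y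
    · have h1 := congrArg (fun f => f.hom b) hm1
      simpa only [CommRingCat.hom_comp, CommRingCat.hom_ofHom, RingHom.comp_apply] using h1
    · have h1 := congrArg (fun f => f.hom a) hm2
      simpa only [CommRingCat.hom_comp, CommRingCat.hom_ofHom, RingHom.comp_apply] using h1

end Alg

section Sch

variable {Λ k : Type u} [CommRing Λ] [Field k] [Algebra Λ k]
variable {B₀ : Type u} [CommRing B₀] [Algebra k B₀]

/-- a pushout square of rings gives an identification of the base change -/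
theorem iso_of_isPushout {A₁ A₂ : Art Λ k} (g : A₁ ⟶ A₂)
    (D₁ : AlgDef A₁.carrier A₁.res.toRingHom B₀) (D₂ : AlgDef A₂.carrier A₂.res.toRingHom B₀)
    (β : D₁.B →+* D₂.B) (hπ : ∀ b, D₂.π (β b) = D₁.π b)
    (hpo : IsPushout (CommRingCat.ofHom (algebraMap A₁.carrier D₁.B))
      (CommRingCat.ofHom g.toAlgHom.toRingHom) (CommRingCat.ofHom β)
      (CommRingCat.ofHom (algebraMap A₂.carrier D₂.B))) :
    Nonempty (((ofAlg A₁ D₁).baseChange g).Iso (ofAlg A₂ D₂)) := by
  have sq : IsPullback (show (ofAlg A₂ D₂).total ⟶ (ofAlg A₁ D₁).total from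
      Spec.map (CommRingCat.ofHom β)) (ofAlg A₂ D₂).f (ofAlg A₁ D₁).f (specMap g) :=
    isPullback_SpecMap_of_isPushout _ _ _ _ hpo
  have hP := IsPullback.of_hasPullback (ofAlg A₁ D₁).f (specMap g)
  refine ⟨⟨hP.isoIsPullback _ _ sq, hP.isoIsPullback_hom_snd _ _ sq, ?_⟩⟩
  apply sq.hom_ext
  · rw [Category.assoc, hP.isoIsPullback_hom_fst _ _ sq, DefSch.baseChange_i_fst]
    change Spec.map (CommRingCat.ofHom D₁.π) = Spec.map (CommRingCat.ofHom D₂.π) ≫
      Spec.map (CommRingCat.ofHom β)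
    rw [← Spec.map_comp]
    congr 1
    ext b
    exact (hπ b).symm
  · rw [Category.assoc, hP.isoIsPullback_hom_snd _ _ sq]
    exact (DefSch.baseChange_i_f (ofAlg A₁ D₁) g).trans (ofAlg A₂ D₂).isPullback.w.symm

variable {ι σ : Type u} (π₀ : MvPolynomial ι k →ₐ[k] B₀) (hπ₀ : Function.Surjective π₀)
  (f : σ → MvPolynomial ι k) (hf : RingHom.ker π₀.toRingHom = Ideal.span (Set.range f))

/-- the deformation over `A` presented by a family `F` -/
noncomputable abbrev presDef (A : Art Λ k) (F : σ → MvPolynomial ι A.carrier)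
    (hF : ∀ s, map A.res.toRingHom (F s) = f s)
    (h : RelLift (map A.res.toRingHom : MvPolynomial ι A.carrier →+* MvPolynomial ι k) F) :
    AlgDef A.carrier A.res.toRingHom B₀ :=
  ofPres.{u, u} A.res.toRingHom A.res_surjective (isNilpotent_maximalIdeal A) π₀ hπ₀ f hf F hF h

/-- **base change of a presented deformation along any morphism** -/
theorem iso_bc_presDef {A₁ A₂ : Art Λ k} (g : A₁ ⟶ A₂) (F₁ : σ → MvPolynomial ι A₁.carrier)
    (hF₁ : ∀ s, map A₁.res.toRingHom (F₁ s) = f s)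
    (h₁ : RelLift (map A₁.res.toRingHom : MvPolynomial ι A₁.carrier →+* MvPolynomial ι k) F₁)
    (F₂ : σ → MvPolynomial ι A₂.carrier)
    (hF₂ : ∀ s, map A₂.res.toRingHom (F₂ s) = f s)
    (h₂ : RelLift (map A₂.res.toRingHom : MvPolynomial ι A₂.carrier →+* MvPolynomial ι k) F₂)
    (hF : ∀ s, map g.toAlgHom.toRingHom (F₁ s) = F₂ s) :
    Nonempty (((ofAlg A₁ (presDef π₀ hπ₀ f hf A₁ F₁ hF₁ h₁)).baseChange g).Iso
      (ofAlg A₂ (presDef π₀ hπ₀ f hf A₂ F₂ hF₂ h₂))) := by
  refine iso_of_isPushout g _ _ (presMap g.toAlgHom.toRingHom F₁ F₂ hF) (fun b => ?_)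
    (isPushout_pres g.toAlgHom.toRingHom F₁ F₂ hF)
  obtain ⟨G, rfl⟩ := Ideal.Quotient.mk_surjective b
  change π₀ (map A₂.res.toRingHom (map g.toAlgHom.toRingHom G)) = π₀ (map A₁.res.toRingHom G)
  rw [MvPolynomial.map_map]
  have : A₂.res.toRingHom.comp g.toAlgHom.toRingHom = A₁.res.toRingHom := by
    ext a
    exact res_app g a
  rw [this]

end Sch

end Groth.Agent.H61.DefPresBC
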