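import Groth.Agent.H61.DefDict2
import Groth.Agent.H61.DefPresBC
import Groth.Agent.H61.DefGlueAlg

/-!
# Gluing deformations of an affine scheme over a fibre product of Artinian rings (helper61)

* `exists_bc_of_iso` (general `Λ`): an identification of the base change along a surjection comes
  from a base-change datum;
* `exists_presDef`, `iso_presDef_of_gens` : every deformation is presented;
* `exists_glue` : Schlessinger's gluing over `A' ×_A A''` with `A'' → A` surjective.
-/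

set_option autoImplicit false
set_option linter.unusedSectionVars false

open MvPolynomial AlgebraicGeometry CategoryTheory Limits IsLocalRing ArtFun ArtFun.Art
open Groth.Agent.H61.DefObs Groth.Agent.H61.DefPres Groth.Agent.H61.DefDict Groth.Agent.H61.DefIso
open Groth.Agent.H61.DefDict2 Groth.Agent.H61.DefPresBC Groth.Agent.H61.DefGlue

namespace Groth.Agent.H61.DefGlueSch

universe u

variable {Λ k : Type u} [CommRing Λ] [Field k] [Algebra Λ k]
variable {B₀ : Type u} [CommRing B₀] [Algebra k B₀]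

section BC

variable {A' A : Art Λ k} (g : A' ⟶ A) (hg : Function.Surjective g)
  {D : AlgDef A.carrier A.res.toRingHom B₀}

include hg in
/-- an identification of the base change of an algebraic deformation with `D` comes from a
base-change datum -/
theorem exists_bc_of_iso (D' : AlgDef A'.carrier A'.res.toRingHom B₀)
    (φ' : ((ofAlg A' D').baseChange g).Iso (ofAlg A D)) :
    ∃ bc : AlgDef.BC D' D g.toAlgHom.toRingHom,
      (isoOfBC g hg D' D bc).iso.hom = φ'.iso.hom := by
  let βm : (ofAlg A D).total ⟶ (ofAlg A' D').total :=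
    φ'.iso.inv ≫ pullback.fst (ofAlg A' D').f (specMap g)
  let β' : CommRingCat.of D'.B ⟶ CommRingCat.of D.B :=
    Spec.preimage (show Spec (CommRingCat.of D.B) ⟶ Spec (CommRingCat.of D'.B) from βm)
  have hβ' : Spec.map β' = βm := Spec.map_preimage _
  let β : D'.B →+* D.B := β'.hom
  have hββ' : CommRingCat.ofHom β = β' := rfl
  have hinv_snd : φ'.iso.inv ≫ pullback.snd (ofAlg A' D').f (specMap g) = (ofAlg A D).f :=
    φ'.symm.hom_f
  have hw : βm ≫ (ofAlg A' D').f = (ofAlg A D).f ≫ specMap g :=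
    calc βm ≫ (ofAlg A' D').f
        = φ'.iso.inv ≫ (pullback.fst (ofAlg A' D').f (specMap g) ≫ (ofAlg A' D').f) :=
          Category.assoc _ _ _
      _ = φ'.iso.inv ≫ (pullback.snd (ofAlg A' D').f (specMap g) ≫ specMap g) := by
          rw [pullback.condition]
      _ = (φ'.iso.inv ≫ pullback.snd (ofAlg A' D').f (specMap g)) ≫ specMap g :=
          (Category.assoc _ _ _).symm
      _ = (ofAlg A D).f ≫ specMap g := by rw [hinv_snd]
  have sq1 : IsPullback βm (ofAlg A D).f
      (ofAlg A' D').f (specMap g) :=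
    IsPullback.of_iso_pullback ⟨hw⟩ φ'.iso.symm rfl hinv_snd
  -- `β` is compatible with the structure maps
  have β_alg : ∀ a, β (algebraMap A'.carrier D'.B a) = algebraMap A.carrier D.B
      (g.toAlgHom.toRingHom a) := by
    have h1 : Spec.map β' ≫ Spec.map (CommRingCat.ofHom (algebraMap A'.carrier D'.B)) =
        Spec.map (CommRingCat.ofHom (algebraMap A.carrier D.B)) ≫
          Spec.map (CommRingCat.ofHom g.toAlgHom.toRingHom) := by
      rw [hβ']
      exact hw
    rw [← Spec.map_comp, ← Spec.map_comp] at h1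
    have h2 := Spec.map_injective h1
    exact fun a => congrArg (fun f => f.hom a) h2
  have π_β : ∀ b, D.π (β b) = D'.π b := by
    have h1 : Spec.map (CommRingCat.ofHom D.π) ≫ Spec.map β' =
        Spec.map (CommRingCat.ofHom D'.π) := by
      rw [hβ']
      change (ofAlg A D).i ≫ φ'.iso.inv ≫ pullback.fst (ofAlg A' D').f (specMap g) =
        (ofAlg A' D').i
      rw [← Category.assoc]
      have h3 : (ofAlg A D).i ≫ φ'.iso.inv = ((ofAlg A' D').baseChange g).i := φ'.symm.i_hom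
      rw [h3, DefSch.baseChange_i_fst]
    rw [← Spec.map_comp] at h1
    have h2 := Spec.map_injective h1
    exact fun b => congrArg (fun f => f.hom b) h2
  -- comparison with the quotient
  let I : Ideal D'.B := (RingHom.ker g.toAlgHom.toRingHom).map (algebraMap A'.carrier D'.B)
  let q : D'.B →+* D'.B ⧸ I := Ideal.Quotient.mk I
  have hle : RingHom.ker g.toAlgHom.toRingHom ≤
      RingHom.ker (q.comp (algebraMap A'.carrier D'.B)) := by
    intro a ha
    rw [RingHom.mem_ker, RingHom.comp_apply]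
    exact (Ideal.Quotient.eq_zero_iff_mem).mpr (Ideal.mem_map_of_mem _ ha)
  let aQ : A.carrier →+* D'.B ⧸ I :=
    RingHom.liftOfRightInverse g.toAlgHom.toRingHom (Function.surjInv hg)
      (Function.rightInverse_surjInv hg) ⟨q.comp (algebraMap A'.carrier D'.B), hle⟩
  have haQ : ∀ a, q (algebraMap A'.carrier D'.B a) = aQ (g.toAlgHom.toRingHom a) := fun a =>
    (RingHom.liftOfRightInverse_comp_apply g.toAlgHom.toRingHom (Function.surjInv hg)
      (Function.rightInverse_surjInv hg) ⟨q.comp (algebraMap A'.carrier D'.B), hle⟩ a).symm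
  have sq2 : IsPullback (Spec.map (CommRingCat.ofHom q)) (Spec.map (CommRingCat.ofHom aQ))
      (ofAlg A' D').f (specMap g) :=
    isPullback_SpecMap_of_isPushout _ _ _ _
      (isPushout_of_surjective (algebraMap A'.carrier D'.B) g.toAlgHom.toRingHom q aQ haQ hg
        Ideal.Quotient.mk_surjective (Ideal.mk_ker))
  let χ := sq1.isoIsPullback _ _ sq2
  have hχ1 : χ.hom ≫ Spec.map (CommRingCat.ofHom q) = βm := sq1.isoIsPullback_hom_fst _ _ sq2
  have hχ2 : χ.inv ≫ βm = Spec.map (CommRingCat.ofHom q) := sq1.isoIsPullback_inv_fst _ _ sq2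
  let t : CommRingCat.of (D'.B ⧸ I) ⟶ CommRingCat.of D.B := Spec.preimage χ.hom
  let t' : CommRingCat.of D.B ⟶ CommRingCat.of (D'.B ⧸ I) := Spec.preimage χ.inv
  have ht : Spec.map t = χ.hom := Spec.map_preimage _
  have ht' : Spec.map t' = χ.inv := Spec.map_preimage _
  have htt' : t' ≫ t = 𝟙 _ := by
    apply Spec.map_injective
    rw [Spec.map_comp, ht, ht', Spec.map_id]
    exact χ.hom_inv_id
  have ht't : t ≫ t' = 𝟙 _ := by
    apply Spec.map_injective
    rw [Spec.map_comp, ht, ht', Spec.map_id]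
    exact χ.inv_hom_id
  have htq : CommRingCat.ofHom q ≫ t = β' := by
    apply Spec.map_injective
    rw [Spec.map_comp, ht, hβ']
    exact hχ1
  have e1 : ∀ y, t.hom (t'.hom y) = y := fun y => congrArg (fun f => f.hom y) htt'
  have e2 : ∀ y, t'.hom (t.hom y) = y := fun y => congrArg (fun f => f.hom y) ht't
  have e3 : ∀ b, t.hom (q b) = β b := fun b => congrArg (fun f => f.hom b) htq
  have β_surj : Function.Surjective β := by
    intro d
    obtain ⟨b, hb⟩ := Ideal.Quotient.mk_surjective (t'.hom d)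
    refine ⟨b, ?_⟩
    rw [← e3]
    change t.hom (Ideal.Quotient.mk I b) = d
    rw [hb, e1]
  have ker_β : RingHom.ker β = I := by
    ext b
    rw [RingHom.mem_ker, ← e3]
    constructor
    · intro h
      have h2 : q b = 0 := by rw [← e2 (q b), h, map_zero]
      exact (Ideal.Quotient.eq_zero_iff_mem).mp h2
    · intro h
      have h2 : q b = 0 := (Ideal.Quotient.eq_zero_iff_mem).mpr h
      rw [h2, map_zero]
  refine ⟨⟨β, β_alg, π_β, β_surj, ker_β⟩, ?_⟩
  apply sq1.hom_ext
  · have h1 := isoOfBC_hom_fst g hg D' D ⟨β, β_alg, π_β, β_surj, ker_β⟩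
    have h2 : (show (ofAlg A D).total ⟶ (ofAlg A' D').total from
        Spec.map (CommRingCat.ofHom β)) = βm := hβ'
    rw [h2] at h1
    rw [h1]
    change _ = φ'.iso.hom ≫ φ'.iso.inv ≫ pullback.fst (ofAlg A' D').f (specMap g)
    rw [← Category.assoc, φ'.iso.hom_inv_id, Category.id_comp]
  · rw [isoOfBC_hom_snd]
    exact φ'.hom_f.symm

end BC

section Pres

variable {ι σ : Type u} (π₀ : MvPolynomial ι k →ₐ[k] B₀) (hπ₀ : Function.Surjective π₀)
  (f : σ → MvPolynomial ι k) (hf : RingHom.ker π₀.toRingHom = Ideal.span (Set.range f))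

/-- a deformation with chosen generators and relations is presented by them -/
theorem iso_presDef_of_gens (A : Art Λ k) (D : AlgDef A.carrier A.res.toRingHom B₀)
    (x : ι → D.B) (hx : ∀ i, D.π (x i) = π₀ (X i)) (F : σ → MvPolynomial ι A.carrier)
    (hFker : ∀ s, aeval x (F s) = 0) (hFred : ∀ s, map A.res.toRingHom (F s) = f s) :
    ∃ h : RelLift (map A.res.toRingHom : MvPolynomial ι A.carrier →+* MvPolynomial ι k) F,
      Nonempty ((ofAlg A D).Iso (ofAlg A (presDef π₀ hπ₀ f hf A F hFred h))) := by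
  obtain ⟨hker, hrel, -⟩ := pres_of_gens A.res.toRingHom A.res_surjective
    (isNilpotent_maximalIdeal A) D.π D.π_alg D.ker_π π₀ hπ₀ f hf x hx F hFker hFred
  have hsurj := surj_of_gens A.res.toRingHom A.res_surjective
    (isNilpotent_maximalIdeal A) D.π D.π_alg D.ker_π π₀ hπ₀ x hx
  have hcomp := comp_of_gens A.res.toRingHom D.π D.π_alg π₀ x hx
  refine ⟨hrel, ?_⟩
  let φ : MvPolynomial ι A.carrier →ₐ[A.carrier] D.B := aeval x
  let ψ : (MvPolynomial ι A.carrier ⧸ Ideal.span (Set.range F)) ≃+* D.B :=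
    (Ideal.quotEquivOfEq hker.symm).trans
      (RingHom.quotientKerEquivOfSurjective (f := φ.toRingHom) hsurj)
  have hψ : ∀ G, ψ (Ideal.Quotient.mk _ G) = φ G := fun G => rfl
  refine ⟨isoOfRingEquiv A D (presDef π₀ hπ₀ f hf A F hFred hrel) ψ (fun a => ?_) (fun b => ?_)⟩
  · change ψ (Ideal.Quotient.mk _ (C a)) = _
    rw [hψ]
    change φ (algebraMap _ _ a) = _
    rw [φ.commutes]
  · obtain ⟨G, rfl⟩ := Ideal.Quotient.mk_surjective b
    change D.π (φ G) = π₀ (map A.res.toRingHom G)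
    exact hcomp G

/-- every deformation of `Spec B₀` is presented -/
theorem exists_presDef (A : Art Λ k) (ξ : DefSch (X₀ B₀) (x₀ B₀) A) :
    ∃ (F : σ → MvPolynomial ι A.carrier) (hF : ∀ s, map A.res.toRingHom (F s) = f s)
      (h : RelLift (map A.res.toRingHom : MvPolynomial ι A.carrier →+* MvPolynomial ι k) F),
      Nonempty (ξ.Iso (ofAlg A (presDef π₀ hπ₀ f hf A F hF h))) := by
  obtain ⟨D, ⟨e⟩⟩ := exists_algDef A ξ
  obtain ⟨φ, F, hφ, hker, hFred, hcomp, -, -⟩ :=
    exists_pres A.res.toRingHom A.res_surjective (isNilpotent_maximalIdeal A) D.π D.π_surj D.π_alg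
      D.ker_π π₀ hπ₀ f hf
  have hx : ∀ i, D.π (φ (X i)) = π₀ (X i) := by
    intro i
    rw [hcomp, map_X]
  have hφx : (aeval (fun i => φ (X i)) : MvPolynomial ι A.carrier →ₐ[A.carrier] D.B) = φ := by
    apply MvPolynomial.algHom_ext
    intro i
    rw [aeval_X]
  have hFker : ∀ s, aeval (fun i => φ (X i)) (F s) = 0 := by
    intro s
    rw [hφx]
    have : F s ∈ RingHom.ker φ.toRingHom := by rw [hker]; exact Ideal.subset_span ⟨s, rfl⟩
    exact this
  obtain ⟨h, ⟨j⟩⟩ := iso_presDef_of_gens π₀ hπ₀ f hf A D _ hx F hFker hFred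
  exact ⟨F, hFred, h, ⟨e.trans j⟩⟩

variable {E A' A'' A : Art Λ k} {p' : E ⟶ A'} {p'' : E ⟶ A''} {f' : A' ⟶ A} {f'' : A'' ⟶ A}

include hπ₀ hf in
/-- **Schlessinger's gluing**: deformations over `A'` and `A''` with isomorphic images over `A`
glue to a deformation over the fibre product `A' ×_A A''` (for `A'' → A` surjective) -/
theorem exists_glue (h : IsFibreProd p' p'' f' f'') (hf'' : Function.Surjective f'')
    (𝒳' : DefSch (X₀ B₀) (x₀ B₀) A') (𝒳'' : DefSch (X₀ B₀) (x₀ B₀) A'')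
    (θ : (𝒳'.baseChange f').Iso (𝒳''.baseChange f'')) :
    ∃ 𝒵 : DefSch (X₀ B₀) (x₀ B₀) E,
      Nonempty ((𝒵.baseChange p').Iso 𝒳') ∧ Nonempty ((𝒵.baseChange p'').Iso 𝒳'') := by
  obtain ⟨F', hF', h', ⟨e'⟩⟩ := exists_presDef π₀ hπ₀ f hf A' 𝒳'
  have hres_f' : A.res.toRingHom.comp f'.toAlgHom.toRingHom = A'.res.toRingHom :=
    RingHom.ext (res_app f')
  have hres_f'' : A.res.toRingHom.comp f''.toAlgHom.toRingHom = A''.res.toRingHom :=
    RingHom.ext (res_app f'')
  have hres_p' : A'.res.toRingHom.comp p'.toAlgHom.toRingHom = E.res.toRingHom :=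
    RingHom.ext (res_app p')
  let F : σ → MvPolynomial ι A.carrier := fun s => map f'.toAlgHom.toRingHom (F' s)
  have hF : ∀ s, map A.res.toRingHom (F s) = f s := fun s => by
    change map A.res.toRingHom (map f'.toAlgHom.toRingHom (F' s)) = f s
    rw [MvPolynomial.map_map, hres_f', hF']
  have hrel : RelLift (map A.res.toRingHom : MvPolynomial ι A.carrier →+* MvPolynomial ι k) F :=
    relLift_map _ _ _ hres_f' F' h'
  obtain ⟨i₁⟩ := iso_bc_presDef π₀ hπ₀ f hf f' F' hF' h' F hF hrel (fun s => rfl)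
  obtain ⟨D'', ⟨e''⟩⟩ := exists_algDef A'' 𝒳''
  let φ'' : ((ofAlg A'' D'').baseChange f'').Iso (ofAlg A (presDef π₀ hπ₀ f hf A F hF hrel)) :=
    ((e''.symm.baseChange f'').trans θ.symm).trans ((e'.baseChange f').trans i₁)
  obtain ⟨bc'', -⟩ := exists_bc_of_iso f'' hf'' D'' φ''
  let β : D''.B →+* (MvPolynomial ι A.carrier ⧸ Ideal.span (Set.range F)) := bc''.β
  have hβsurj : Function.Surjective β := bc''.β_surj
  choose x'' hx'' using fun i => hβsurj (Ideal.Quotient.mk _ (X i))
  have hx''π : ∀ i, D''.π (x'' i) = π₀ (X i) := by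
    intro i
    rw [← bc''.π_β]
    change (presDef π₀ hπ₀ f hf A F hF hrel).π (β (x'' i)) = _
    rw [hx'']
    change π₀ (map A.res.toRingHom (X i)) = _
    rw [map_X]
  let φa : MvPolynomial ι A''.carrier →ₐ[A''.carrier] D''.B := aeval x''
  have hφa_surj : Function.Surjective φa := surj_of_gens A''.res.toRingHom A''.res_surjective
    (isNilpotent_maximalIdeal A'') D''.π D''.π_alg D''.ker_π π₀ hπ₀ x'' hx''π
  have hβφ : ∀ G : MvPolynomial ι A''.carrier,
      β (φa G) = Ideal.Quotient.mk _ (map f''.toAlgHom.toRingHom G) := by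
    have hh : β.comp φa.toRingHom =
        (Ideal.Quotient.mk (Ideal.span (Set.range F))).comp (map f''.toAlgHom.toRingHom) := by
      apply MvPolynomial.ringHom_ext
      · intro a
        change β (φa (C a)) = Ideal.Quotient.mk _ (map f''.toAlgHom.toRingHom (C a))
        rw [map_C]
        have e1 : φa (C a) = algebraMap A''.carrier D''.B a := by
          rw [← MvPolynomial.algebraMap_eq, AlgHom.commutes]
        rw [e1]
        exact bc''.β_alg a
      · intro i
        change β (φa (X i)) = Ideal.Quotient.mk _ (map f''.toAlgHom.toRingHom (X i))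
        rw [aeval_X, hx'', map_X]
    exact fun G => congrArg (fun h => h G) hh
  have hex : ∀ s, ∃ F''s : MvPolynomial ι A''.carrier,
      φa F''s = 0 ∧ map f''.toAlgHom.toRingHom F''s = F s := by
    intro s
    obtain ⟨G, hG⟩ := map_surjective f''.toAlgHom.toRingHom hf'' (F s)
    have h1 : φa G ∈ RingHom.ker bc''.β := by
      rw [RingHom.mem_ker]
      change β (φa G) = 0
      rw [hβφ, hG]
      exact Ideal.Quotient.eq_zero_iff_mem.mpr (Ideal.subset_span ⟨s, rfl⟩)
    rw [bc''.ker_β] at h1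
    have h2 : (RingHom.ker f''.toAlgHom.toRingHom).map (algebraMap A''.carrier D''.B) =
        ((RingHom.ker f''.toAlgHom.toRingHom).map
          (C : A''.carrier →+* MvPolynomial ι A''.carrier)).map φa.toRingHom := by
      rw [Ideal.map_map]
      congr 1
      ext a
      change algebraMap A''.carrier D''.B a = φa (C a)
      rw [← MvPolynomial.algebraMap_eq, AlgHom.commutes]
    rw [h2] at h1
    obtain ⟨H, hH, hHG⟩ := (Ideal.mem_map_iff_of_surjective φa.toRingHom hφa_surj).mp h1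
    have hH0 : map f''.toAlgHom.toRingHom H = 0 := by
      rw [← RingHom.mem_ker, MvPolynomial.ker_map]
      exact hH
    refine ⟨G - H, ?_, ?_⟩
    · rw [map_sub]
      change φa G - φa.toRingHom H = 0
      rw [hHG, sub_self]
    · rw [map_sub, hH0, sub_zero, hG]
  choose F'' hF''ker hF''map using hex
  have hF''red : ∀ s, map A''.res.toRingHom (F'' s) = f s := by
    intro s
    rw [← hres_f'', ← MvPolynomial.map_map, hF''map, hF]
  obtain ⟨h'', ⟨j''⟩⟩ := iso_presDef_of_gens π₀ hπ₀ f hf A'' D'' x'' hx''π F'' hF''ker hF''red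
  -- glue
  have hsurjE : ∀ (a' : A'.carrier) (a'' : A''.carrier),
      f'.toAlgHom.toRingHom a' = f''.toAlgHom.toRingHom a'' →
      ∃ b : E.carrier, p'.toAlgHom.toRingHom b = a' ∧ p''.toAlgHom.toRingHom b = a'' := h.surj
  have hinjE : ∀ b₁ b₂ : E.carrier, p'.toAlgHom.toRingHom b₁ = p'.toAlgHom.toRingHom b₂ →
      p''.toAlgHom.toRingHom b₁ = p''.toAlgHom.toRingHom b₂ → b₁ = b₂ := h.inj
  have hFF : ∀ s, map f'.toAlgHom.toRingHom (F' s) = map f''.toAlgHom.toRingHom (F'' s) :=
    fun s => (hF''map s).symm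
  choose Ft hFt1 hFt2 using fun s => exists_poly p'.toAlgHom.toRingHom p''.toAlgHom.toRingHom
    f'.toAlgHom.toRingHom f''.toAlgHom.toRingHom hsurjE (F' s) (F'' s) (hFF s)
  haveI : Module.Flat A''.carrier (MvPolynomial ι A''.carrier ⧸ Ideal.span (Set.range F'')) :=
    (presDef π₀ hπ₀ f hf A'' F'' hF''red h'').flat
  have hrelE : RelLift (map E.res.toRingHom : MvPolynomial ι E.carrier →+* MvPolynomial ι k) Ft :=
    relLift_glue p'.toAlgHom.toRingHom p''.toAlgHom.toRingHom f'.toAlgHom.toRingHom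
      f''.toAlgHom.toRingHom hinjE hsurjE E.res.toRingHom A'.res.toRingHom hres_p' hf'' F' F'' hFF
      h' Ft hFt1 hFt2
  have hFtred : ∀ s, map E.res.toRingHom (Ft s) = f s := by
    intro s
    rw [← hres_p', ← MvPolynomial.map_map, hFt1, hF']
  obtain ⟨a₁⟩ := iso_bc_presDef π₀ hπ₀ f hf p' Ft hFtred hrelE F' hF' h' hFt1
  obtain ⟨a₂⟩ := iso_bc_presDef π₀ hπ₀ f hf p'' Ft hFtred hrelE F'' hF''red h'' hFt2
  exact ⟨ofAlg E (presDef π₀ hπ₀ f hf E Ft hFtred hrelE), ⟨a₁.trans e'.symm⟩,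
    ⟨a₂.trans (j''.symm.trans e''.symm)⟩⟩

end Pres

section Uniq

variable {E A' A'' : Art Λ k} {p' : E ⟶ A'} {p'' : E ⟶ A''}

lemma surjective_fst_of_base (h : IsFibreProd p' p'' (toBase A') (toBase A'')) :
    Function.Surjective p' := by
  intro a'
  obtain ⟨a'', ha''⟩ := A''.res_surjective (A'.res a')
  obtain ⟨b, hb, -⟩ := h.surj a' a'' ha''.symm
  exact ⟨b, hb⟩

lemma surjective_snd_of_base (h : IsFibreProd p' p'' (toBase A') (toBase A'')) :
    Function.Surjective p'' := by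
  intro a''
  obtain ⟨a', ha'⟩ := A'.res_surjective (A''.res a'')
  obtain ⟨b, -, hb⟩ := h.surj a' a'' ha'
  exact ⟨b, hb⟩

lemma ker_inf_ker_eq_bot {A : Art Λ k} {f' : A' ⟶ A} {f'' : A'' ⟶ A}
    (h : IsFibreProd p' p'' f' f'') :
    RingHom.ker p'.toAlgHom.toRingHom ⊓ RingHom.ker p''.toAlgHom.toRingHom = ⊥ := by
  rw [eq_bot_iff]
  rintro b ⟨h1, h2⟩
  rw [SetLike.mem_coe, RingHom.mem_ker] at h1 h2
  have := h.inj b 0 (h1.trans (map_zero _).symm) (h2.trans (map_zero _).symm)
  exact this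

lemma maximalIdeal_le_ker_sup_ker (h : IsFibreProd p' p'' (toBase A') (toBase A'')) :
    maximalIdeal E.carrier ≤
      RingHom.ker p'.toAlgHom.toRingHom ⊔ RingHom.ker p''.toAlgHom.toRingHom := by
  intro m hm
  rw [mem_maximalIdeal_iff] at hm
  have h1 : A'.res (p' m) = 0 := by rw [res_app, hm]
  obtain ⟨b, hb1, hb2⟩ := h.surj (p' m) 0 (by
    change A'.res (p' m) = A''.res 0
    rw [h1, map_zero])
  have h2 : m = (m - b) + b := by ring
  rw [h2]
  refine Submodule.add_mem_sup ?_ ?_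
  · rw [RingHom.mem_ker, map_sub]
    change p' m - p' b = 0
    rw [hb1, sub_self]
  · rw [RingHom.mem_ker]
    exact hb2

/-- Chinese remainder for the two base changes of a deformation over `A' ×_k A''` -/
lemma exists_of_bc_pair (hm : maximalIdeal E.carrier ≤
      RingHom.ker p'.toAlgHom.toRingHom ⊔ RingHom.ker p''.toAlgHom.toRingHom)
    (D : AlgDef E.carrier E.res.toRingHom B₀) (D' : AlgDef A'.carrier A'.res.toRingHom B₀)
    (D'' : AlgDef A''.carrier A''.res.toRingHom B₀) (bc' : AlgDef.BC D D' p'.toAlgHom.toRingHom)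
    (bc'' : AlgDef.BC D D'' p''.toAlgHom.toRingHom) (u' : D'.B) (u'' : D''.B)
    (hu : D'.π u' = D''.π u'') : ∃ y : D.B, bc'.β y = u' ∧ bc''.β y = u'' := by
  obtain ⟨y₁, hy₁⟩ := bc'.β_surj u'
  obtain ⟨y₂, hy₂⟩ := bc''.β_surj u''
  have h1 : y₁ - y₂ ∈ RingHom.ker D.π := by
    rw [RingHom.mem_ker, map_sub, ← bc'.π_β, ← bc''.π_β, hy₁, hy₂, hu, sub_self]
  rw [D.ker_π] at h1
  have h2 : y₁ - y₂ ∈ RingHom.ker bc'.β ⊔ RingHom.ker bc''.β := by
    rw [bc'.ker_β, bc''.ker_β, ← Ideal.map_sup]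
    exact Ideal.map_mono hm h1
  obtain ⟨n', hn', n'', hn'', hsum⟩ := Submodule.mem_sup.mp h2
  refine ⟨y₁ - n', ?_, ?_⟩
  · rw [map_sub, (RingHom.mem_ker).mp hn', sub_zero, hy₁]
  · have : y₁ - n' = y₂ + n'' := by
      rw [sub_eq_iff_eq_add, add_assoc, add_comm n'' n', hsum]
      ring
    rw [this, map_add, (RingHom.mem_ker).mp hn'', add_zero, hy₂]

variable {ι σ : Type u} (π₀ : MvPolynomial ι k →ₐ[k] B₀) (hπ₀ : Function.Surjective π₀)
  (f : σ → MvPolynomial ι k) (hf : RingHom.ker π₀.toRingHom = Ideal.span (Set.range f))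

include hπ₀ hf in
/-- **uniqueness of gluing over `A' ×_k A''`**: deformations over the fibre product with
isomorphic base changes to both factors are isomorphic -/
theorem iso_of_bc_iso (h : IsFibreProd p' p'' (toBase A') (toBase A''))
    (𝒵₁ 𝒵₂ : DefSch (X₀ B₀) (x₀ B₀) E) (a : (𝒵₁.baseChange p').Iso (𝒵₂.baseChange p'))
    (b : (𝒵₁.baseChange p'').Iso (𝒵₂.baseChange p'')) : Nonempty (𝒵₁.Iso 𝒵₂) := by
  have hp' := surjective_fst_of_base h
  have hp'' := surjective_snd_of_base h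
  have hres_p' : A'.res.toRingHom.comp p'.toAlgHom.toRingHom = E.res.toRingHom :=
    RingHom.ext (res_app p')
  have hres_p'' : A''.res.toRingHom.comp p''.toAlgHom.toRingHom = E.res.toRingHom :=
    RingHom.ext (res_app p'')
  obtain ⟨G₁, hG₁, hrel₁, ⟨e₁⟩⟩ := exists_presDef π₀ hπ₀ f hf E 𝒵₁
  obtain ⟨D₂, ⟨e₂⟩⟩ := exists_algDef E 𝒵₂
  -- the base changes of the presented deformation
  let G' : σ → MvPolynomial ι A'.carrier := fun s => map p'.toAlgHom.toRingHom (G₁ s)
  have hG' : ∀ s, map A'.res.toRingHom (G' s) = f s := fun s => by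
    change map A'.res.toRingHom (map p'.toAlgHom.toRingHom (G₁ s)) = f s
    rw [MvPolynomial.map_map, hres_p', hG₁]
  have hrel' : RelLift (map A'.res.toRingHom : MvPolynomial ι A'.carrier →+* MvPolynomial ι k) G' :=
    relLift_map _ _ _ hres_p' G₁ hrel₁
  obtain ⟨i'⟩ := iso_bc_presDef π₀ hπ₀ f hf p' G₁ hG₁ hrel₁ G' hG' hrel' (fun s => rfl)
  let G'' : σ → MvPolynomial ι A''.carrier := fun s => map p''.toAlgHom.toRingHom (G₁ s)
  have hG'' : ∀ s, map A''.res.toRingHom (G'' s) = f s := fun s => by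
    change map A''.res.toRingHom (map p''.toAlgHom.toRingHom (G₁ s)) = f s
    rw [MvPolynomial.map_map, hres_p'', hG₁]
  have hrel'' : RelLift (map A''.res.toRingHom :
      MvPolynomial ι A''.carrier →+* MvPolynomial ι k) G'' :=
    relLift_map _ _ _ hres_p'' G₁ hrel₁
  obtain ⟨i''⟩ := iso_bc_presDef π₀ hπ₀ f hf p'' G₁ hG₁ hrel₁ G'' hG'' hrel'' (fun s => rfl)
  -- the base changes of `D₂`
  obtain ⟨D₂', ⟨t'⟩⟩ := exists_algDef A' ((ofAlg E D₂).baseChange p')
  obtain ⟨bc', -⟩ := exists_bc_of_iso p' hp' D₂ t'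
  obtain ⟨D₂'', ⟨t''⟩⟩ := exists_algDef A'' ((ofAlg E D₂).baseChange p'')
  obtain ⟨bc'', -⟩ := exists_bc_of_iso p'' hp'' D₂ t''
  -- the comparison isomorphisms
  let c' : (ofAlg A' (presDef π₀ hπ₀ f hf A' G' hG' hrel')).Iso (ofAlg A' D₂') :=
    i'.symm.trans ((e₁.symm.baseChange p').trans (a.trans ((e₂.baseChange p').trans t')))
  let c'' : (ofAlg A'' (presDef π₀ hπ₀ f hf A'' G'' hG'' hrel'')).Iso (ofAlg A'' D₂'') :=
    i''.symm.trans ((e₁.symm.baseChange p'').trans (b.trans ((e₂.baseChange p'').trans t'')))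
  obtain ⟨α', hα'1, hα'2, -⟩ := ringEquiv_of_iso A' _ _ c'
  obtain ⟨α'', hα''1, hα''2, -⟩ := ringEquiv_of_iso A'' _ _ c''
  -- the comparison ring isomorphisms on the explicit quotients
  let γ' : (MvPolynomial ι A'.carrier ⧸ Ideal.span (Set.range G')) ≃+* D₂'.B := α'.symm
  let γ'' : (MvPolynomial ι A''.carrier ⧸ Ideal.span (Set.range G'')) ≃+* D₂''.B := α''.symm
  have hγ'1 : ∀ c : A'.carrier, γ' (Ideal.Quotient.mk _ (C c)) = algebraMap A'.carrier D₂'.B c :=
    fun c => (α'.symm_apply_eq).mpr (hα'1 c).symm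
  have hγ''1 : ∀ c : A''.carrier,
      γ'' (Ideal.Quotient.mk _ (C c)) = algebraMap A''.carrier D₂''.B c :=
    fun c => (α''.symm_apply_eq).mpr (hα''1 c).symm
  have hγ'2 : ∀ G : MvPolynomial ι A'.carrier,
      D₂'.π (γ' (Ideal.Quotient.mk _ G)) = π₀ (map A'.res.toRingHom G) := by
    intro G
    have h1 := hα'2 (α'.symm (Ideal.Quotient.mk (Ideal.span (Set.range G')) G))
    rw [RingEquiv.apply_symm_apply] at h1
    exact h1.symm
  have hγ''2 : ∀ G : MvPolynomial ι A''.carrier,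
      D₂''.π (γ'' (Ideal.Quotient.mk _ G)) = π₀ (map A''.res.toRingHom G) := by
    intro G
    have h1 := hα''2 (α''.symm (Ideal.Quotient.mk (Ideal.span (Set.range G'')) G))
    rw [RingEquiv.apply_symm_apply] at h1
    exact h1.symm
  -- generators of `D₂`
  have hu : ∀ i, D₂'.π (γ' (Ideal.Quotient.mk _ (X i))) =
      D₂''.π (γ'' (Ideal.Quotient.mk _ (X i))) := by
    intro i
    rw [hγ'2, hγ''2, map_X, map_X]
  choose y hy1 hy2 using fun i => exists_of_bc_pair (maximalIdeal_le_ker_sup_ker h) D₂ D₂' D₂''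
    bc' bc'' _ _ (hu i)
  have hyπ : ∀ i, D₂.π (y i) = π₀ (X i) := by
    intro i
    rw [← bc'.π_β, hy1, hγ'2, map_X]
  let φ₂ : MvPolynomial ι E.carrier →ₐ[E.carrier] D₂.B := aeval y
  have hβ' : ∀ G : MvPolynomial ι E.carrier,
      bc'.β (φ₂ G) = γ' (Ideal.Quotient.mk _ (map p'.toAlgHom.toRingHom G)) := by
    have hh : bc'.β.comp φ₂.toRingHom = (γ'.toRingHom.comp
        (Ideal.Quotient.mk (Ideal.span (Set.range G')))).comp (map p'.toAlgHom.toRingHom) := by
      apply MvPolynomial.ringHom_ext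
      · intro c
        change bc'.β (φ₂ (C c)) = γ' (Ideal.Quotient.mk _ (map p'.toAlgHom.toRingHom (C c)))
        rw [map_C, hγ'1]
        have e1 : φ₂ (C c) = algebraMap E.carrier D₂.B c := by
          rw [← MvPolynomial.algebraMap_eq, AlgHom.commutes]
        rw [e1, bc'.β_alg]
      · intro i
        change bc'.β (φ₂ (X i)) = γ' (Ideal.Quotient.mk _ (map p'.toAlgHom.toRingHom (X i)))
        rw [aeval_X, hy1, map_X]
    exact fun G => congrArg (fun h => h G) hh
  have hβ'' : ∀ G : MvPolynomial ι E.carrier,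
      bc''.β (φ₂ G) = γ'' (Ideal.Quotient.mk _ (map p''.toAlgHom.toRingHom G)) := by
    have hh : bc''.β.comp φ₂.toRingHom = (γ''.toRingHom.comp
        (Ideal.Quotient.mk (Ideal.span (Set.range G'')))).comp (map p''.toAlgHom.toRingHom) := by
      apply MvPolynomial.ringHom_ext
      · intro c
        change bc''.β (φ₂ (C c)) = γ'' (Ideal.Quotient.mk _ (map p''.toAlgHom.toRingHom (C c)))
        rw [map_C, hγ''1]
        have e1 : φ₂ (C c) = algebraMap E.carrier D₂.B c := by
          rw [← MvPolynomial.algebraMap_eq, AlgHom.commutes]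
        rw [e1, bc''.β_alg]
      · intro i
        change bc''.β (φ₂ (X i)) = γ'' (Ideal.Quotient.mk _ (map p''.toAlgHom.toRingHom (X i)))
        rw [aeval_X, hy2, map_X]
    exact fun G => congrArg (fun h => h G) hh
  have hinf := map_inf_map_eq_bot (M := D₂.B) _ _ (ker_inf_ker_eq_bot h)
  have hker : ∀ s, aeval y (G₁ s) = 0 := by
    intro s
    have h1 : φ₂ (G₁ s) ∈ RingHom.ker bc'.β := by
      rw [RingHom.mem_ker, hβ']
      have : Ideal.Quotient.mk (Ideal.span (Set.range G')) (map p'.toAlgHom.toRingHom (G₁ s)) = 0 :=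
        Ideal.Quotient.eq_zero_iff_mem.mpr (Ideal.subset_span ⟨s, rfl⟩)
      rw [this, map_zero]
    have h2 : φ₂ (G₁ s) ∈ RingHom.ker bc''.β := by
      rw [RingHom.mem_ker, hβ'']
      have : Ideal.Quotient.mk (Ideal.span (Set.range G''))
          (map p''.toAlgHom.toRingHom (G₁ s)) = 0 :=
        Ideal.Quotient.eq_zero_iff_mem.mpr (Ideal.subset_span ⟨s, rfl⟩)
      rw [this, map_zero]
    rw [bc'.ker_β] at h1
    rw [bc''.ker_β] at h2
    have h3 : φ₂ (G₁ s) ∈ (⊥ : Ideal D₂.B) := by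
      rw [← hinf]
      exact ⟨h1, h2⟩
    exact h3
  obtain ⟨hrel₂, ⟨j⟩⟩ := iso_presDef_of_gens π₀ hπ₀ f hf E D₂ y hyπ G₁ hker hG₁
  exact ⟨e₁.trans (j.symm.trans e₂.symm)⟩

end Uniq

end Groth.Agent.H61.DefGlueSch
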