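import Groth.Agent.H61.CotTSmoothLocus

/-!
# Finiteness of `T¹` for isolated singularities (helper61)

`finite_T1` : for a finite type `k`-algebra `B` whose non-smooth locus is finite and a finite
`B`-module `M`, `T¹(B/k, M)` is finite-dimensional over `k`.
-/

set_option autoImplicit false

open CotT

namespace Groth.Agent.H61.T1Finite

universe u

section Jac

/-- a Jacobson ring with finitely many primes is zero-dimensional -/
theorem krullDimLE_zero_of_finite {R : Type*} [CommRing R] [IsJacobsonRing R]
    (h : Finite (PrimeSpectrum R)) : Ring.KrullDimLE 0 R := by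
  rw [Ring.krullDimLE_zero_iff]
  intro 𝔮 h𝔮
  have hj : 𝔮.jacobson = 𝔮 := IsJacobsonRing.out' 𝔮 h𝔮.isRadical
  let S : Set (Ideal R) := {J | 𝔮 ≤ J ∧ J.IsMaximal}
  have hS : S.Finite := by
    have hinj : Set.InjOn (fun J : Ideal R => J) S := fun _ _ _ _ h => h
    let g : S → PrimeSpectrum R := fun J => ⟨J.1, J.2.2.isPrime⟩
    have hg : Function.Injective g := by
      intro a b hab
      exact Subtype.ext (congrArg PrimeSpectrum.asIdeal hab)
    exact Set.finite_coe_iff.mp (Finite.of_injective g hg)
  have h1 : hS.toFinset.inf id ≤ 𝔮 := by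
    rw [Finset.inf_id_eq_sInf, Set.Finite.coe_toFinset]
    exact hj.le
  obtain ⟨J, hJ, hJ𝔮⟩ := (Ideal.IsPrime.inf_le' h𝔮).mp h1
  rw [Set.Finite.mem_toFinset] at hJ
  have : J = 𝔮 := le_antisymm hJ𝔮 hJ.1
  rw [← this]
  exact hJ.2

end Jac

section Main

variable {k B : Type u} [Field k] [CommRing B] [Algebra k B] [Algebra.FiniteType k B]

/-- `T¹` of a finite presentation with finite coefficients is a finite module -/
theorem finite_T1_of_fin {n r : ℕ} (P₀ : Algebra.Presentation k B (Fin n) (Fin r))
    (M : Type u) [AddCommGroup M] [Module B M] [Module.Finite B M] :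
    Module.Finite B (T1 P₀ M) := by
  haveI : IsNoetherianRing B := Algebra.FiniteType.isNoetherianRing k B
  haveI : Module.Free B (L1 P₀) := Module.Free.of_basis (L1basis P₀)
  haveI : Module.Finite B (L1 P₀) := Module.Finite.of_basis (L1basis P₀)
  haveI : IsNoetherian B (L1 P₀ →ₗ[B] M) := isNoetherian_of_isNoetherianRing_of_finite B _
  infer_instance

theorem finite_T1_canon (M : Type u) [AddCommGroup M] [Module B M] [Module.Finite B M] :
    Module.Finite B (T1 (canon k B) M) := by
  haveI : Algebra.FinitePresentation k B := Algebra.FinitePresentation.of_finiteType.mp inferInstance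
  let P₀ := Algebra.Presentation.ofFinitePresentation k B
  obtain ⟨e⟩ := Groth.Agent.H61.CotT2.nonempty_T1_equiv M (canon k B) P₀
  haveI := finite_T1_of_fin P₀ M
  exact Module.Finite.equiv e.symm

variable (hfin : (Algebra.smoothLocus k B)ᶜ.Finite)

include hfin in
/-- the annihilator of `T¹` cuts out a finite set -/
theorem finite_zeroLocus_annihilator (M : Type u) [AddCommGroup M] [Module B M]
    [Module.Finite B M] :
    (PrimeSpectrum.zeroLocus (Module.annihilator B (T1 (canon k B) M) : Set B)).Finite := by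
  haveI : Algebra.FinitePresentation k B := Algebra.FinitePresentation.of_finiteType.mp inferInstance
  refine hfin.subset ?_
  intro 𝔭 h𝔭 hsm
  have hopen : IsOpen (Algebra.smoothLocus k B) := Algebra.isOpen_smoothLocus
  obtain ⟨_, ⟨τ, rfl⟩, hτ𝔭, hτU⟩ :=
    PrimeSpectrum.isTopologicalBasis_basic_opens.exists_subset_of_mem_open hsm hopen
  have h1 : ∀ q : PrimeSpectrum B, τ ∉ q.asIdeal → q ∈ Algebra.smoothLocus k B :=
    fun q hq => hτU hq
  obtain ⟨n₀, hn₀⟩ := (Groth.Agent.H61.CotT2.smoothLocus_away_iff τ).mp h1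
  have h2 : τ ^ n₀ ∈ Module.annihilator B (T1 (canon k B) M) := by
    rw [Module.mem_annihilator]
    exact hn₀ M
  have h3 : τ ^ n₀ ∈ 𝔭.asIdeal := h𝔭 h2
  exact hτ𝔭 (𝔭.isPrime.mem_of_pow_mem n₀ h3)

include hfin in
/-- **`T¹` of an algebra with isolated singularities is finite-dimensional** -/
theorem finite_T1 (M : Type u) [AddCommGroup M] [Module B M] [Module.Finite B M] :
    letI := Module.compHom (T1 (canon k B) M) (algebraMap k B)
    Module.Finite k (T1 (canon k B) M) := by
  classical
  letI : Module k (T1 (canon k B) M) := Module.compHom (T1 (canon k B) M) (algebraMap k B)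
  set T := T1 (canon k B) M with hT
  set 𝔞 : Ideal B := Module.annihilator B T with h𝔞
  haveI hTfin : Module.Finite B T := finite_T1_canon M
  -- the quotient ring is finite over `k`
  have hZ := finite_zeroLocus_annihilator hfin M
  haveI : Finite (PrimeSpectrum (B ⧸ 𝔞)) := by
    let g : PrimeSpectrum (B ⧸ 𝔞) → PrimeSpectrum.zeroLocus (𝔞 : Set B) := fun q =>
      ⟨PrimeSpectrum.comap (Ideal.Quotient.mk 𝔞) q, by
        intro b hb
        change Ideal.Quotient.mk 𝔞 b ∈ q.asIdeal
        rw [Ideal.Quotient.eq_zero_iff_mem.mpr hb]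
        exact q.asIdeal.zero_mem⟩
    have hg : Function.Injective g := by
      intro a b hab
      have := congrArg Subtype.val hab
      exact PrimeSpectrum.comap_injective_of_surjective _ Ideal.Quotient.mk_surjective this
    haveI : Finite (PrimeSpectrum.zeroLocus (𝔞 : Set B)) := Set.finite_coe_iff.mpr hZ
    exact Finite.of_injective g hg
  haveI : Algebra.FiniteType k (B ⧸ 𝔞) :=
    Algebra.FiniteType.of_surjective (Ideal.Quotient.mkₐ k 𝔞) Ideal.Quotient.mk_surjective
  haveI : IsJacobsonRing (B ⧸ 𝔞) := isJacobsonRing_of_finiteType (A := k)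
  haveI : Ring.KrullDimLE 0 (B ⧸ 𝔞) := krullDimLE_zero_of_finite inferInstance
  haveI hRfin : Module.Finite k (B ⧸ 𝔞) := (Module.finite_iff_krullDimLE_zero k (B ⧸ 𝔞)).mpr inferInstance
  -- spanning set
  obtain ⟨s, hs⟩ := hTfin.fg_top
  obtain ⟨r, hr⟩ := hRfin.fg_top
  choose lift hlift using fun y : B ⧸ 𝔞 => Ideal.Quotient.mk_surjective y
  refine ⟨⟨Finset.image₂ (fun y t => lift y • t) r s, ?_⟩⟩
  rw [eq_top_iff]
  intro t _
  have ht : t ∈ Submodule.span B (s : Set T) := by rw [hs]; trivial
  -- `B`-multiples of generators lie in the `k`-span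
  have key : ∀ (b : B) (t₀ : T), t₀ ∈ s →
      b • t₀ ∈ Submodule.span k (Finset.image₂ (fun y t => lift y • t) r s : Set T) := by
    intro b t₀ ht₀
    have hb : Ideal.Quotient.mk 𝔞 b ∈ Submodule.span k (r : Set (B ⧸ 𝔞)) := by rw [hr]; trivial
    -- induct on the span
    have : ∀ y ∈ Submodule.span k (r : Set (B ⧸ 𝔞)), ∀ b' : B, Ideal.Quotient.mk 𝔞 b' = y →
        b' • t₀ ∈ Submodule.span k (Finset.image₂ (fun y t => lift y • t) r s : Set T) := by
      intro y hy
      refine Submodule.span_induction (p := fun y _ => ∀ b' : B, Ideal.Quotient.mk 𝔞 b' = y →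
        b' • t₀ ∈ Submodule.span k (Finset.image₂ (fun y t => lift y • t) r s : Set T))
        ?_ ?_ ?_ ?_ hy
      · intro y hy b' hb'
        have h1 : b' - lift y ∈ 𝔞 := by
          rw [← Ideal.Quotient.eq, hb', hlift]
        have h2 : (b' - lift y) • t₀ = 0 := Module.mem_annihilator.mp h1 t₀
        rw [sub_smul, sub_eq_zero] at h2
        rw [h2]
        exact Submodule.subset_span (Finset.mem_image₂_of_mem hy ht₀)
      · intro b' hb'
        have h1 : b' ∈ 𝔞 := Ideal.Quotient.eq_zero_iff_mem.mp hb'
        rw [Module.mem_annihilator.mp h1 t₀]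
        exact Submodule.zero_mem _
      · intro y₁ y₂ _ _ h₁ h₂ b' hb'
        have e : b' • t₀ = lift y₁ • t₀ + lift y₂ • t₀ := by
          have h1 : b' - (lift y₁ + lift y₂) ∈ 𝔞 := by
            rw [← Ideal.Quotient.eq, hb', map_add, hlift, hlift]
          have h2 := Module.mem_annihilator.mp h1 t₀
          rw [sub_smul, sub_eq_zero, add_smul] at h2
          exact h2
        rw [e]
        exact Submodule.add_mem _ (h₁ _ (hlift y₁)) (h₂ _ (hlift y₂))
      · intro c y _ h₁ b' hb'
        have e : b' • t₀ = c • (lift y • t₀) := by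
          have h1 : b' - algebraMap k B c * lift y ∈ 𝔞 := by
            rw [← Ideal.Quotient.eq, hb', map_mul, hlift, Algebra.smul_def]
            rfl
          have h2 := Module.mem_annihilator.mp h1 t₀
          rw [sub_smul, sub_eq_zero, mul_smul] at h2
          exact h2
        rw [e]
        exact Submodule.smul_mem _ c (h₁ _ (hlift y))
    exact this _ hb b rfl
  refine Submodule.span_induction (p := fun t _ =>
    t ∈ Submodule.span k (Finset.image₂ (fun y t => lift y • t) r s : Set T)) ?_ ?_ ?_ ?_ ht
  · intro t₀ ht₀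
    have := key 1 t₀ ht₀
    rwa [one_smul] at this
  · exact Submodule.zero_mem _
  · intro x y _ _ hx hy
    exact Submodule.add_mem _ hx hy
  · intro b x _ hx
    -- `b • x` for `x` in the `k`-span
    refine Submodule.span_induction (p := fun x _ =>
      b • x ∈ Submodule.span k (Finset.image₂ (fun y t => lift y • t) r s : Set T)) ?_ ?_ ?_ ?_ hx
    · rintro _ hx'
      obtain ⟨y, hy, t₀, ht₀, rfl⟩ := Finset.mem_image₂.mp hx'
      rw [← mul_smul]
      exact key _ t₀ ht₀
    · rw [smul_zero]; exact Submodule.zero_mem _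
    · intro x y _ _ hx hy
      rw [smul_add]; exact Submodule.add_mem _ hx hy
    · intro c x _ hx
      have e : b • (c • x) = c • (b • x) := by
        change b • (algebraMap k B c • x) = algebraMap k B c • (b • x)
        rw [smul_comm]
      rw [e]
      exact Submodule.smul_mem _ c hx

end Main

end Groth.Agent.H61.T1Finite
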