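import Groth.Agent.H61.DefTangent
import Groth.Agent.H61.T1Finite

/-!
# Finite-dimensionality of the tangent space of `Def_{Spec B₀}` (helper61)

`hfin_defF` : for `B₀` of finite type over `k` with finite non-smooth locus, the tangent space of
the deformation functor of `Spec B₀` (over any `Λ`, for any tangent structure) is
finite-dimensional.
-/

set_option autoImplicit false
set_option linter.unusedSectionVars false

open MvPolynomial AlgebraicGeometry CategoryTheory Limits IsLocalRing ArtFun ArtFun.Art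
open TensorProduct CotT
open Groth.Agent.H61.DefDict Groth.Agent.H61.DefTorsor Groth.Agent.H61.DefTorsorMain
open Groth.Agent.H61.DefTangent Groth.Agent.H61.DefSchless

namespace Groth.Agent.H61.DefHfin

universe u v

section Abstract

variable {Λ k : Type u} [CommRing Λ] [Field k] [Algebra Λ k]

/-- a semilinear surjection from a finite-dimensional space gives `Hfin` -/
theorem hfin_of_surj {F : Art Λ k ⥤ Type v} [T : TangentStr F] {V : Type*} [AddCommGroup V]
    [Module k V] [Module.Finite k V] (Ψ : V → F.obj (dual Λ k)) (hs : Function.Surjective Ψ)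
    (hadd : ∀ t₁ t₂, ∃ z : F.obj (dual2 Λ k),
      F.map pr₁ z = Ψ t₁ ∧ F.map pr₂ z = Ψ t₂ ∧ F.map plus z = Ψ (t₁ + t₂))
    (hsm : ∀ (c : k) t, F.map (scale c) (Ψ t) = Ψ (c • t)) : Hfin F := by
  let Ψ' : V →ₗ[k] TangentSpace F :=
    { toFun := Ψ
      map_add' := fun t₁ t₂ => by
        obtain ⟨z, h1, h2, h3⟩ := hadd t₁ t₂
        rw [← h3, ← h1, ← h2]
        exact (T.add_eq z).symm
      map_smul' := fun c t => by
        rw [RingHom.id_apply, ← hsm]
        exact (T.smul_eq c (Ψ t)).symm }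
  exact Module.Finite.of_surjective Ψ' hs

end Abstract

section Conv

variable {Λ k : Type u} [CommRing Λ] [Field k] [Algebra Λ k]
variable {X : Scheme.{u}} {x : X ⟶ specPt k}

/-- a deformation over `k[ε]` in `Art k k`, regarded over `Λ` -/
noncomputable def unconv (ξ : DefSch (Λ := k) X x (dual k k)) : DefSch (Λ := Λ) X x (dual Λ k) :=
  ⟨ξ.total, ξ.f, ξ.flat, ξ.i, ξ.isPullback⟩

/-- a deformation over `k[ε]` in `Art Λ k`, regarded over `k` -/
noncomputable def conv (ξ : DefSch (Λ := Λ) X x (dual Λ k)) : DefSch (Λ := k) X x (dual k k) :=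
  ⟨ξ.total, ξ.f, ξ.flat, ξ.i, ξ.isPullback⟩

/-- the same over `k[ε₁, ε₂]` -/
noncomputable def unconv2 (ξ : DefSch (Λ := k) X x (dual2 k k)) :
    DefSch (Λ := Λ) X x (dual2 Λ k) :=
  ⟨ξ.total, ξ.f, ξ.flat, ξ.i, ξ.isPullback⟩

/-- classes -/
noncomputable def qunconv (y : (defFunctor (Λ := k) X x).obj (dual k k)) :
    (defFunctor (Λ := Λ) X x).obj (dual Λ k) :=
  Quotient.map' (s₁ := DefSch.setoid X x (dual k k)) (s₂ := DefSch.setoid X x (dual Λ k))
    (unconv (Λ := Λ)) (fun _ _ ⟨e⟩ => ⟨⟨e.iso, e.hom_f, e.i_hom⟩⟩) y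

/-- classes over `k[ε₁, ε₂]` -/
noncomputable def qunconv2 (y : (defFunctor (Λ := k) X x).obj (dual2 k k)) :
    (defFunctor (Λ := Λ) X x).obj (dual2 Λ k) :=
  Quotient.map' (s₁ := DefSch.setoid X x (dual2 k k)) (s₂ := DefSch.setoid X x (dual2 Λ k))
    (unconv2 (Λ := Λ)) (fun _ _ ⟨e⟩ => ⟨⟨e.iso, e.hom_f, e.i_hom⟩⟩) y

lemma qunconv_surjective : Function.Surjective (qunconv (Λ := Λ) (X := X) (x := x)) := by
  intro y
  induction y using Quotient.inductionOn with
  | h ξ => exact ⟨(conv ξ).cl, rfl⟩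

lemma qunconv_scale (c : k) (y : (defFunctor (Λ := k) X x).obj (dual k k)) :
    (defFunctor (Λ := Λ) X x).map (scale c) (qunconv y) =
      qunconv ((defFunctor (Λ := k) X x).map (scale c) y) := by
  induction y using Quotient.inductionOn with
  | h ξ => rfl

lemma qunconv_pr₁ (z : (defFunctor (Λ := k) X x).obj (dual2 k k)) :
    (defFunctor (Λ := Λ) X x).map pr₁ (qunconv2 z) =
      qunconv ((defFunctor (Λ := k) X x).map pr₁ z) := by
  induction z using Quotient.inductionOn with
  | h ξ => rfl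

lemma qunconv_pr₂ (z : (defFunctor (Λ := k) X x).obj (dual2 k k)) :
    (defFunctor (Λ := Λ) X x).map pr₂ (qunconv2 z) =
      qunconv ((defFunctor (Λ := k) X x).map pr₂ z) := by
  induction z using Quotient.inductionOn with
  | h ξ => rfl

lemma qunconv_plus (z : (defFunctor (Λ := k) X x).obj (dual2 k k)) :
    (defFunctor (Λ := Λ) X x).map plus (qunconv2 z) =
      qunconv ((defFunctor (Λ := k) X x).map plus z) := by
  induction z using Quotient.inductionOn with
  | h ξ => rfl

end Conv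

section Main

variable {Λ k : Type u} [CommRing Λ] [Field k] [Algebra Λ k]
variable (B₀ : Type u) [CommRing B₀] [Algebra k B₀] [Algebra.FiniteType k B₀]

/-- **`H_f` for the deformation functor of an affine scheme with isolated singularities** -/
theorem hfin_defF (hfin : (Algebra.smoothLocus k B₀)ᶜ.Finite)
    [T : TangentStr (DefF (Λ := Λ) (k := k) B₀)] : Hfin (DefF (Λ := Λ) (k := k) B₀) := by
  let P := CotT.canon k B₀
  letI : Module k (T1 P (B₀ ⊗[k] (J (pD (k := k))))) :=
    Module.compHom (T1 P (B₀ ⊗[k] (J (pD (k := k))))) (algebraMap k B₀)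
  haveI : Module.Finite B₀ (B₀ ⊗[k] (J (pD (k := k)))) :=
    Module.Finite.equiv (Groth.Agent.H61.DefDual.eBJ B₀).symm
  haveI : Module.Finite k (T1 P (B₀ ⊗[k] (J (pD (k := k))))) :=
    Groth.Agent.H61.T1Finite.finite_T1 hfin (B₀ ⊗[k] (J (pD (k := k))))
  refine hfin_of_surj (F := DefF (Λ := Λ) (k := k) B₀) (fun t => qunconv (Ψ P t)) ?_ ?_ ?_
  · exact qunconv_surjective.comp (Ψ_surjective P)
  · intro t₁ t₂
    obtain ⟨z, h1, h2, h3⟩ := Ψ_add P t₁ t₂
    exact ⟨qunconv2 z, by rw [qunconv_pr₁, h1], by rw [qunconv_pr₂, h2],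
      by rw [qunconv_plus, h3]⟩
  · intro c t
    rw [qunconv_scale, Ψ_scale]
    rfl

end Main

end Groth.Agent.H61.DefHfin
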