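import Mathlib
import Groth.Prelude.Def_ArtFun4

/-!
# Transport of deformation functors and hulls along isomorphisms (helper61)

* `hasHull_of_equiv` : a natural family of bijections transports hulls;
* `defEquiv` : an isomorphism `(X, x) ≅ (X', x')` of `k`-schemes induces natural bijections of the
  deformation functors;
* `hasHull_defFunctor_of_iso`.
-/

set_option autoImplicit false

open AlgebraicGeometry CategoryTheory Limits ArtFun ArtFun.Art

namespace Groth.Agent.H61.DefTransport

universe u v

variable {Λ k : Type u} [CommRing Λ] [Field k] [Algebra Λ k]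

section Hull

variable {F G : Art Λ k ⥤ Type v}

theorem hasHull_of_equiv (t : ∀ A, F.obj A ≃ G.obj A)
    (hnat : ∀ {A B : Art Λ k} (f : A ⟶ B) (y : F.obj A), t B (F.map f y) = G.map f (t A y)) :
    HasHull F → HasHull G := by
  rintro ⟨H⟩
  refine ⟨⟨H.ring, ⟨fun A φ => t A (H.family.app A φ), fun f φ => by
    rw [H.family.natural, hnat]⟩, ?_, ?_⟩⟩
  · intro B A μ hμ φ y hy
    have h1 : F.map μ ((t B).symm y) = H.family.app A φ := by
      apply (t A).injective
      rw [hnat, Equiv.apply_symm_apply]
      exact hy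
    obtain ⟨ψ, hψ1, hψ2⟩ := H.miniversal.1 μ hμ φ ((t B).symm y) h1
    refine ⟨ψ, hψ1, ?_⟩
    change t B (H.family.app B ψ) = y
    rw [hψ2, Equiv.apply_symm_apply]
  · exact (t _).bijective.comp H.miniversal.2

end Hull

section Def

variable {X X' : Scheme.{u}} {x : X ⟶ specPt k} {x' : X' ⟶ specPt k} (e : X ≅ X')
  (he : e.hom ≫ x' = x)

include he in
lemma he_symm : e.symm.hom ≫ x = x' := by
  rw [← he, Iso.symm_hom, Iso.inv_hom_id_assoc]

/-- transport of a deformation along an isomorphism of the special fibre -/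
noncomputable def tr {A : Art Λ k} (ξ : DefSch X x A) : DefSch X' x' A where
  total := ξ.total
  f := ξ.f
  flat := ξ.flat
  i := e.inv ≫ ξ.i
  isPullback := ξ.isPullback.of_iso e (Iso.refl _) (Iso.refl _) (Iso.refl _)
    (by simp) (by simp [he]) (by simp) (by simp)

/-- transport of isomorphisms -/
noncomputable def trIso {A : Art Λ k} {ξ ξ' : DefSch X x A} (a : ξ.Iso ξ') :
    (tr e he ξ).Iso (tr e he ξ') where
  iso := a.iso
  hom_f := a.hom_f
  i_hom := by
    change (e.inv ≫ ξ.i) ≫ a.iso.hom = e.inv ≫ ξ'.i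
    rw [Category.assoc, a.i_hom]

/-- transport commutes with base change -/
noncomputable def trBC {A B : Art Λ k} (ξ : DefSch X x A) (f : A ⟶ B) :
    (tr e he (ξ.baseChange f)).Iso ((tr e he ξ).baseChange f) where
  iso := Iso.refl _
  hom_f := Category.id_comp _
  i_hom := by
    change (e.inv ≫ (ξ.baseChange f).i) ≫ 𝟙 _ = ((tr e he ξ).baseChange f).i
    rw [Category.comp_id]
    apply pullback.hom_ext
    · rw [Category.assoc]
      have h1 : (ξ.baseChange f).i ≫ pullback.fst ξ.f (specMap f) = ξ.i :=
        DefSch.baseChange_i_fst ξ f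
      have h2 : ((tr e he ξ).baseChange f).i ≫ pullback.fst ξ.f (specMap f) = e.inv ≫ ξ.i :=
        DefSch.baseChange_i_fst (tr e he ξ) f
      rw [h1]
      exact h2.symm
    · rw [Category.assoc]
      have h1 : (ξ.baseChange f).i ≫ pullback.snd ξ.f (specMap f) = x ≫ specRes B :=
        DefSch.baseChange_i_f ξ f
      have h2 : ((tr e he ξ).baseChange f).i ≫ pullback.snd ξ.f (specMap f) = x' ≫ specRes B :=
        DefSch.baseChange_i_f (tr e he ξ) f
      rw [h1]
      have h3 : e.inv ≫ x ≫ specRes B = x' ≫ specRes B := by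
        rw [← Category.assoc]
        congr 1
        rw [← he, Iso.inv_hom_id_assoc]
      rw [h3]
      exact h2.symm

/-- the map on classes -/
noncomputable def qtr (A : Art Λ k) (y : (defFunctor (Λ := Λ) X x).obj A) :
    (defFunctor (Λ := Λ) X' x').obj A :=
  Quotient.map' (s₁ := DefSch.setoid X x A) (s₂ := DefSch.setoid X' x' A) (tr e he)
    (fun _ _ ⟨a⟩ => ⟨trIso e he a⟩) y

lemma qtr_cl {A : Art Λ k} (ξ : DefSch X x A) : qtr e he A ξ.cl = (tr e he ξ).cl := rfl

/-- the bijection on classes -/
noncomputable def defEquiv (A : Art Λ k) :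
    (defFunctor (Λ := Λ) X x).obj A ≃ (defFunctor (Λ := Λ) X' x').obj A where
  toFun := qtr e he A
  invFun := qtr e.symm (he_symm e he) A
  left_inv y := by
    induction y using Quotient.inductionOn with
    | h ξ =>
      refine Quotient.sound ⟨⟨Iso.refl _, Category.id_comp _, ?_⟩⟩
      change (e.symm.inv ≫ (e.inv ≫ ξ.i)) ≫ 𝟙 _ = ξ.i
      rw [Category.comp_id, Iso.symm_inv, Iso.hom_inv_id_assoc]
  right_inv y := by
    induction y using Quotient.inductionOn with
    | h ξ =>
      refine Quotient.sound ⟨⟨Iso.refl _, Category.id_comp _, ?_⟩⟩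
      change (e.inv ≫ (e.symm.inv ≫ ξ.i)) ≫ 𝟙 _ = ξ.i
      rw [Category.comp_id, Iso.symm_inv, Iso.inv_hom_id_assoc]

lemma defEquiv_natural {A B : Art Λ k} (f : A ⟶ B) (y : (defFunctor (Λ := Λ) X x).obj A) :
    defEquiv e he B ((defFunctor (Λ := Λ) X x).map f y) =
      (defFunctor (Λ := Λ) X' x').map f (defEquiv e he A y) := by
  induction y using Quotient.inductionOn with
  | h ξ => exact Quotient.sound ⟨trBC e he ξ f⟩

include he in
/-- **hulls transport along isomorphisms of the special fibre** -/
theorem hasHull_defFunctor_of_iso (h : HasHull (defFunctor (Λ := Λ) X' x')) :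
    HasHull (defFunctor (Λ := Λ) X x) :=
  hasHull_of_equiv (fun A => (defEquiv e he A).symm) (fun {A B} f y => by
    apply (defEquiv e he B).injective
    rw [Equiv.apply_symm_apply, defEquiv_natural, Equiv.apply_symm_apply]) h

end Def

end Groth.Agent.H61.DefTransport
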