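import Groth.Agent.H61.SchlessTangent
import Mathlib.Algebra.Group.MinimalAxioms
import Mathlib.Algebra.Module.MinimalAxioms

/-!
# Construction of the vector space structure on `t_F = F(k[ε])` from `H0` and `Heps` (helper61)
-/

set_option autoImplicit false
set_option linter.unusedSectionVars false
set_option linter.style.haveILetI false
set_option warn.classDefReducibility false
universe u v

namespace Groth.Agent.H61.TS

open CategoryTheory ArtFun ArtFun.Art

variable {Λ : Type u} {k : Type u} [CommRing Λ] [Field k] [Algebra Λ k]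
variable {F : Art Λ k ⥤ Type v}

theorem exists_pair (h0 : H0 F) (h2 : Heps F) (x y : F.obj (dual Λ k)) :
    ∃ z : F.obj (dual2 Λ k), F.map pr₁ z = x ∧ F.map pr₂ z = y := by
  obtain ⟨z, hz⟩ := (h2 pr₁ pr₂ isFibreProd_dual2).2 ⟨(x, y), @Subsingleton.elim _ h0.2 _ _⟩
  exact ⟨z, congrArg (fun t => t.1.1) hz, congrArg (fun t => t.1.2) hz⟩

/-- the element of `F(k[ε₁,ε₂])` with given projections -/
noncomputable def pairElt (h0 : H0 F) (h2 : Heps F) (x y : F.obj (dual Λ k)) : F.obj (dual2 Λ k) :=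
  Classical.choose (exists_pair h0 h2 x y)

theorem pairElt_pr₁ (h0 : H0 F) (h2 : Heps F) (x y : F.obj (dual Λ k)) :
    F.map pr₁ (pairElt h0 h2 x y) = x := (Classical.choose_spec (exists_pair h0 h2 x y)).1

theorem pairElt_pr₂ (h0 : H0 F) (h2 : Heps F) (x y : F.obj (dual Λ k)) :
    F.map pr₂ (pairElt h0 h2 x y) = y := (Classical.choose_spec (exists_pair h0 h2 x y)).2

theorem pairElt_eq (h0 : H0 F) (h2 : Heps F) (z : F.obj (dual2 Λ k)) :
    pairElt h0 h2 (F.map pr₁ z) (F.map pr₂ z) = z := by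
  apply (h2 pr₁ pr₂ isFibreProd_dual2).1
  apply FibProd.ext
  · exact pairElt_pr₁ h0 h2 _ _
  · exact pairElt_pr₂ h0 h2 _ _

/-- the addition -/
noncomputable def add (h0 : H0 F) (h2 : Heps F) (x y : F.obj (dual Λ k)) : F.obj (dual Λ k) :=
  F.map plus (pairElt h0 h2 x y)

theorem add_spec (h0 : H0 F) (h2 : Heps F) (z : F.obj (dual2 Λ k)) :
    add h0 h2 (F.map pr₁ z) (F.map pr₂ z) = F.map plus z := by
  unfold add
  rw [pairElt_eq]

/-- the scalar multiplication -/
def smul (c : k) (x : F.obj (dual Λ k)) : F.obj (dual Λ k) := F.map (scale c) x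

/-- the zero -/
noncomputable def zero (h0 : H0 F) : F.obj (dual Λ k) := F.map baseToDual (Classical.choice h0.1)

section Fn

variable {r : ℕ}

theorem fn_apply (c v : Fin r → k) : fn c v = ∑ i, c i * v i := by
  simp [fn, LinearMap.sum_apply]

theorem fn_single_one (i : Fin r) : fn (Pi.single i (1 : k)) = LinearMap.proj i := by
  classical
  apply LinearMap.ext
  intro v
  rw [fn_apply, Finset.sum_eq_single i]
  · simp
  · intro j _ hj
    simp [Pi.single_eq_of_ne hj]
  · intro h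
    exact absurd (Finset.mem_univ i) h

theorem fn_add (c c' : Fin r → k) : fn (c + c') = fn c + fn c' := by
  apply LinearMap.ext
  intro v
  simp [fn_apply, add_mul, Finset.sum_add_distrib]

theorem fn_smul (a : k) (c : Fin r → k) : fn (a • c) = a • fn c := by
  apply LinearMap.ext
  intro v
  simp [fn_apply, Finset.mul_sum, mul_assoc]

theorem fn_zero : fn (0 : Fin r → k) = 0 := by
  apply LinearMap.ext
  intro v
  simp [fn_apply]

/-- evaluation of an element of `F(k ⊕ k^r)` on a coefficient vector -/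
def E (ζ : F.obj (EE Λ k r)) (c : Fin r → k) : F.obj (dual Λ k) := F.map (lin (fn c)) ζ

theorem E_single (ζ : F.obj (EE Λ k r)) (i : Fin r) :
    E ζ (Pi.single i 1) = F.map (lin (LinearMap.proj i)) ζ := by
  unfold E
  rw [fn_single_one]

theorem E_add (h0 : H0 F) (h2 : Heps F) (ζ : F.obj (EE Λ k r)) (c c' : Fin r → k) :
    add h0 h2 (E ζ c) (E ζ c') = E ζ (c + c') := by
  have h := add_spec h0 h2 (F.map (lin2 (fn c) (fn c')) ζ)
  rw [← Functor.map_comp_apply, ← Functor.map_comp_apply, ← Functor.map_comp_apply,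
    lin2_pr₁, lin2_pr₂, lin2_plus, ← fn_add] at h
  exact h

theorem E_smul (ζ : F.obj (EE Λ k r)) (a : k) (c : Fin r → k) :
    smul a (E ζ c) = E ζ (a • c) := by
  unfold smul E
  rw [← Functor.map_comp_apply, ← lin_smul, ← fn_smul]

theorem E_zero (h0 : H0 F) (ζ : F.obj (EE Λ k r)) : zero h0 = E ζ 0 := by
  unfold zero E
  rw [fn_zero, lin_zero, Functor.map_comp_apply]
  congr 1
  exact @Subsingleton.elim _ h0.2 _ _

end Fn

theorem exists1 (h0 : H0 F) (h2 : Heps F) (x : F.obj (dual Λ k)) :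
    ∃ ζ : F.obj (EE Λ k 1), E ζ (Pi.single 0 1) = x := by
  obtain ⟨ζ, hζ⟩ := exists_tangent_elt h0 h2 1 ![x]
  exact ⟨ζ, by rw [E_single, hζ]; rfl⟩

theorem exists2 (h0 : H0 F) (h2 : Heps F) (x y : F.obj (dual Λ k)) :
    ∃ ζ : F.obj (EE Λ k 2), E ζ (Pi.single 0 1) = x ∧ E ζ (Pi.single 1 1) = y := by
  obtain ⟨ζ, hζ⟩ := exists_tangent_elt h0 h2 2 ![x, y]
  exact ⟨ζ, by rw [E_single, hζ]; rfl, by rw [E_single, hζ]; rfl⟩

theorem exists3 (h0 : H0 F) (h2 : Heps F) (x y z : F.obj (dual Λ k)) :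
    ∃ ζ : F.obj (EE Λ k 3), E ζ (Pi.single 0 1) = x ∧ E ζ (Pi.single 1 1) = y ∧
      E ζ (Pi.single 2 1) = z := by
  obtain ⟨ζ, hζ⟩ := exists_tangent_elt h0 h2 3 ![x, y, z]
  exact ⟨ζ, by rw [E_single, hζ]; rfl, by rw [E_single, hζ]; rfl, by rw [E_single, hζ]; rfl⟩

theorem add_assoc' (h0 : H0 F) (h2 : Heps F) (x y z : F.obj (dual Λ k)) :
    add h0 h2 (add h0 h2 x y) z = add h0 h2 x (add h0 h2 y z) := by
  obtain ⟨ζ, rfl, rfl, rfl⟩ := exists3 h0 h2 x y z
  rw [E_add, E_add, E_add, E_add, add_assoc]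

theorem add_comm' (h0 : H0 F) (h2 : Heps F) (x y : F.obj (dual Λ k)) :
    add h0 h2 x y = add h0 h2 y x := by
  obtain ⟨ζ, rfl, rfl⟩ := exists2 h0 h2 x y
  rw [E_add, E_add, add_comm]

theorem zero_add' (h0 : H0 F) (h2 : Heps F) (x : F.obj (dual Λ k)) :
    add h0 h2 (zero h0) x = x := by
  obtain ⟨ζ, rfl⟩ := exists1 h0 h2 x
  rw [E_zero h0 ζ, E_add, zero_add]

theorem neg_add' (h0 : H0 F) (h2 : Heps F) (x : F.obj (dual Λ k)) :
    add h0 h2 (smul (-1) x) x = zero h0 := by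
  obtain ⟨ζ, rfl⟩ := exists1 h0 h2 x
  rw [E_smul, E_add, E_zero h0 ζ, neg_one_smul, neg_add_cancel]

theorem smul_add' (h0 : H0 F) (h2 : Heps F) (a : k) (x y : F.obj (dual Λ k)) :
    smul a (add h0 h2 x y) = add h0 h2 (smul a x) (smul a y) := by
  obtain ⟨ζ, rfl, rfl⟩ := exists2 h0 h2 x y
  rw [E_add, E_smul, E_smul, E_smul, E_add, smul_add]

theorem add_smul' (h0 : H0 F) (h2 : Heps F) (a b : k) (x : F.obj (dual Λ k)) :
    smul (a + b) x = add h0 h2 (smul a x) (smul b x) := by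
  obtain ⟨ζ, rfl⟩ := exists1 h0 h2 x
  rw [E_smul, E_smul, E_smul, E_add, add_smul]

theorem mul_smul' (h0 : H0 F) (h2 : Heps F) (a b : k) (x : F.obj (dual Λ k)) :
    smul (a * b) x = smul a (smul b x) := by
  obtain ⟨ζ, rfl⟩ := exists1 h0 h2 x
  rw [E_smul, E_smul, E_smul, mul_smul]

theorem one_smul' (h0 : H0 F) (h2 : Heps F) (x : F.obj (dual Λ k)) :
    smul (1 : k) x = x := by
  obtain ⟨ζ, rfl⟩ := exists1 h0 h2 x
  rw [E_smul, one_smul]

/-- the additive group structure on `t_F` -/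
noncomputable def addCommGroup (h0 : H0 F) (h2 : Heps F) : AddCommGroup (F.obj (dual Λ k)) :=
  letI : Add (F.obj (dual Λ k)) := ⟨add h0 h2⟩
  letI : Zero (F.obj (dual Λ k)) := ⟨zero h0⟩
  letI : Neg (F.obj (dual Λ k)) := ⟨smul (-1)⟩
  letI G : AddGroup (F.obj (dual Λ k)) :=
    AddGroup.ofLeftAxioms (add_assoc' h0 h2) (zero_add' h0 h2) (neg_add' h0 h2)
  { G with add_comm := add_comm' h0 h2 }

/-- the vector space structure on `t_F` -/
noncomputable def module (h0 : H0 F) (h2 : Heps F) :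
    @Module k (F.obj (dual Λ k)) _ (addCommGroup h0 h2).toAddCommMonoid :=
  letI := addCommGroup h0 h2
  letI : SMul k (F.obj (dual Λ k)) := ⟨smul⟩
  Module.ofMinimalAxioms (smul_add' h0 h2) (add_smul' h0 h2) (mul_smul' h0 h2) (one_smul' h0 h2)

/-- the tangent structure -/
noncomputable def tangentStr (h0 : H0 F) (h2 : Heps F) : TangentStr F where
  addCommGroup := addCommGroup h0 h2
  module := module h0 h2
  smul_eq := fun _ _ => rfl
  add_eq := add_spec h0 h2

end Groth.Agent.H61.TS
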