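import Groth.Agent.H61.DefHfin
import Groth.Agent.H61.DefTransport
import Groth.Agent.H61.SchlessMain
import Groth.Agent.H61.TangentStrBuild

/-!
# Hulls for deformations of affine schemes with isolated singularities (helper61)
-/

set_option autoImplicit false
set_option linter.unusedSectionVars false
set_option linter.style.haveILetI false

open AlgebraicGeometry CategoryTheory Limits IsLocalRing ArtFun ArtFun.Art
open Groth.Agent.H61.DefDict Groth.Agent.H61.DefSchless

namespace Groth.Agent.H61.DefIsolated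

universe u

variable {Λ k : Type u} [CommRing Λ] [Field k] [Algebra Λ k]

section Hull

variable [IsLocalRing Λ] [IsNoetherianRing Λ] [IsAdicComplete (IsLocalRing.maximalIdeal Λ) Λ]
  (hΛk : Function.Surjective (algebraMap Λ k))
  (B₀ : Type u) [CommRing B₀] [Algebra k B₀] [Algebra.FiniteType k B₀]

include hΛk in
/-- **hull for an affine scheme with finitely many non-smooth points (algebraic form)** -/
theorem hasHull_defF (hfin : (Algebra.smoothLocus k B₀)ᶜ.Finite) :
    HasHull (DefF (Λ := Λ) (k := k) B₀) := by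
  have h0 := h0_defF (Λ := Λ) (k := k) B₀
  have h1 := hbar_defF (Λ := Λ) (k := k) B₀
  have h2 := heps_defF (Λ := Λ) (k := k) B₀
  letI : TangentStr (DefF (Λ := Λ) (k := k) B₀) := Groth.Agent.H61.TS.tangentStr h0 h2
  have h3 := Groth.Agent.H61.DefHfin.hfin_defF (Λ := Λ) B₀ hfin
  obtain ⟨R, ξ, hv, hb⟩ := Groth.Agent.H61.exists_hull hΛk h0 h1 h2 h3
  exact ⟨⟨R, ξ, hv, hb⟩⟩

end Hull

section Smooth

variable (B₀ : Type u) [CommRing B₀] [Algebra k B₀] [Algebra.FiniteType k B₀]

/-- the non-smooth locus is finite if the complement of a smooth open is -/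
theorem finite_compl_smoothLocus (U : (Spec (CommRingCat.of B₀)).Opens)
    (hU : Smooth (U.ι ≫ x₀ (k := k) B₀)) (hfin : ((U : Set (Spec (CommRingCat.of B₀)))ᶜ).Finite) :
    (Algebra.smoothLocus k B₀)ᶜ.Finite := by
  haveI : Algebra.FinitePresentation k B₀ :=
    Algebra.FinitePresentation.of_finiteType.mp inferInstance
  refine hfin.subset ?_
  intro 𝔭 h𝔭 h𝔭U
  apply h𝔭
  have h𝔭U' : 𝔭 ∈ (U : Set (Spec (CommRingCat.of B₀))) := h𝔭U
  obtain ⟨_, ⟨τ, rfl⟩, hτ𝔭, hτU⟩ :=
    PrimeSpectrum.isTopologicalBasis_basic_opens.exists_subset_of_mem_open h𝔭U' U.isOpen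
  refine (Algebra.basicOpen_subset_smoothLocus_iff_smooth (f := τ)).mpr ?_ hτ𝔭
  -- the open immersion `Spec B₀[1/τ] → Spec B₀`
  let j : Spec (CommRingCat.of (Localization.Away τ)) ⟶ Spec (CommRingCat.of B₀) :=
    Spec.map (CommRingCat.ofHom (algebraMap B₀ (Localization.Away τ)))
  haveI : IsOpenImmersion j := inferInstance
  have hrange : Set.range j ⊆ Set.range U.ι := by
    rw [Scheme.Opens.range_ι]
    rintro _ ⟨y, rfl⟩
    apply hτU
    have h1 : (j y : PrimeSpectrum B₀) ∈
        Set.range (PrimeSpectrum.comap (algebraMap B₀ (Localization.Away τ))) := ⟨y, rfl⟩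
    rw [PrimeSpectrum.localization_away_comap_range (Localization.Away τ) τ] at h1
    exact h1
  let l := IsOpenImmersion.lift U.ι j hrange
  have hl : l ≫ U.ι = j := IsOpenImmersion.lift_fac U.ι j hrange
  haveI : IsOpenImmersion (l ≫ U.ι) := by rw [hl]; infer_instance
  haveI : IsOpenImmersion l := IsOpenImmersion.of_comp l U.ι
  have hsm : Smooth (l ≫ (U.ι ≫ x₀ (k := k) B₀)) :=
    MorphismProperty.RespectsLeft.precomp (P := @Smooth) (Q := @IsOpenImmersion) l
      inferInstance _ hU
  rw [← Category.assoc, hl] at hsm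
  have hj : j ≫ x₀ (k := k) B₀ =
      Spec.map (CommRingCat.ofHom (algebraMap k (Localization.Away τ))) := by
    change Spec.map _ ≫ Spec.map _ = _
    rw [← Spec.map_comp, ← CommRingCat.ofHom_comp, ← IsScalarTower.algebraMap_eq]
  rw [hj] at hsm
  have h2 := (HasRingHomProperty.Spec_iff (P := @Smooth)).mp hsm
  exact RingHom.smooth_algebraMap.mp h2

end Smooth

section Final

variable [IsLocalRing Λ] [IsNoetherianRing Λ] [IsAdicComplete (IsLocalRing.maximalIdeal Λ) Λ]
  (hΛk : Function.Surjective (algebraMap Λ k))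

include hΛk in
/-- **an affine scheme of finite type with finitely many non-smooth points has a hull** -/
theorem hasHull_affine (X : Scheme.{u}) [IsAffine X] (x : X ⟶ Spec (CommRingCat.of k))
    [LocallyOfFiniteType x] (U : X.Opens) (hU : Smooth (U.ι ≫ x))
    (hfin : ((U : Set X)ᶜ).Finite) : HasHull (defFunctor (Λ := Λ) X x) := by
  let gk : k →+* Γ(X, ⊤) := ((Scheme.ΓSpecIso (CommRingCat.of k)).inv ≫ x.appTop).hom
  letI : Algebra k Γ(X, ⊤) := gk.toAlgebra
  have he : X.isoSpec.hom ≫ x₀ (k := k) Γ(X, ⊤) = x := by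
    have : CommRingCat.ofHom (algebraMap k Γ(X, ⊤)) =
        (Scheme.ΓSpecIso (CommRingCat.of k)).inv ≫ x.appTop := rfl
    change X.isoSpec.hom ≫ Spec.map (CommRingCat.ofHom (algebraMap k Γ(X, ⊤))) = x
    rw [this, Spec.map_comp, Scheme.isoSpec_hom_naturality_assoc, Scheme.isoSpec_Spec_hom,
      ← Spec.map_comp, Iso.inv_hom_id, Spec.map_id, Category.comp_id]
  have he' : X.isoSpec.inv ≫ x = x₀ (k := k) Γ(X, ⊤) := by
    rw [← he, Iso.inv_hom_id_assoc]
  haveI : Algebra.FiniteType k Γ(X, ⊤) := by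
    have h1 : LocallyOfFiniteType (x₀ (k := k) Γ(X, ⊤)) := by
      rw [← he']
      infer_instance
    have h2 := (HasRingHomProperty.Spec_iff (P := @LocallyOfFiniteType)).mp h1
    exact RingHom.finiteType_algebraMap.mp h2
  -- the smooth open on `Spec`
  let U' : (Spec (CommRingCat.of Γ(X, ⊤))).Opens := X.isoSpec.inv ⁻¹ᵁ U
  have hrange : Set.range (U'.ι ≫ X.isoSpec.inv) ⊆ Set.range U.ι := by
    rw [Scheme.Opens.range_ι]
    rintro _ ⟨y, rfl⟩
    exact y.2
  let l := IsOpenImmersion.lift U.ι (U'.ι ≫ X.isoSpec.inv) hrange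
  have hl : l ≫ U.ι = U'.ι ≫ X.isoSpec.inv := IsOpenImmersion.lift_fac _ _ hrange
  haveI : IsOpenImmersion (l ≫ U.ι) := by rw [hl]; infer_instance
  haveI : IsOpenImmersion l := IsOpenImmersion.of_comp l U.ι
  have hsm : Smooth (l ≫ (U.ι ≫ x)) :=
    MorphismProperty.RespectsLeft.precomp (P := @Smooth) (Q := @IsOpenImmersion) l
      inferInstance _ hU
  rw [← Category.assoc, hl, Category.assoc, he'] at hsm
  have hfin' : ((U' : Set (Spec (CommRingCat.of Γ(X, ⊤))))ᶜ).Finite := by
    have hinj : Function.Injective X.isoSpec.inv := by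
      intro a b hab
      have := congrArg X.isoSpec.hom hab
      rwa [← Scheme.Hom.comp_apply, ← Scheme.Hom.comp_apply, Iso.inv_hom_id] at this
    exact hfin.preimage hinj.injOn
  have hZ := finite_compl_smoothLocus (k := k) Γ(X, ⊤) U' hsm hfin'
  have hH := hasHull_defF (Λ := Λ) hΛk Γ(X, ⊤) hZ
  exact Groth.Agent.H61.DefTransport.hasHull_defFunctor_of_iso X.isoSpec he hH

end Final

end Groth.Agent.H61.DefIsolated
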