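import Groth.Prelude.Def_ArtFun3
import Groth.Prelude.Def_W4c5t1liftcy3defoArt
import Groth.Agent.H63.ArtFibre
import Groth.Agent.H63.ArtCmp
import Mathlib.RingTheory.Flat.Basic

/-!
# The `T¹`-lifting criterion (helper61)

`X ∈ F(A_{n+1})` lifts to `A_{n+2}` iff `F(ε) X ∈ F(B_n)` lifts to `B_{n+1}` over `X`.
-/

set_option autoImplicit false
set_option linter.unusedSectionVars false
set_option linter.style.haveILetI false
universe u v

namespace Groth.Agent.H61.T1L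

open CategoryTheory ArtFun ArtFun.Art T1Lift Polynomial TensorProduct

variable (k : Type u) [Field k]

/-! ### The truncated polynomial rings -/

theorem αAlg_mk (n : ℕ) (p : k[X]) :
    αAlg k n (AdjoinRoot.mk _ p) = AdjoinRoot.mk _ p := by
  have h : (αAlg k n).comp (AdjoinRoot.mkₐ ((X : k[X]) ^ (n + 1 + 1))) =
      AdjoinRoot.mkₐ ((X : k[X]) ^ (n + 1)) := by
    apply Polynomial.algHom_ext
    change αAlg k n (AdjoinRoot.mk _ X) = AdjoinRoot.mk _ X
    rw [AdjoinRoot.mk_X, AdjoinRoot.mk_X]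
    exact αAlg_t k n
  exact AlgHom.congr_fun h p

theorem αAlg_surjective (n : ℕ) : Function.Surjective (αAlg k n) := by
  intro x
  obtain ⟨p, rfl⟩ := AdjoinRoot.mk_surjective x
  exact ⟨AdjoinRoot.mk _ p, αAlg_mk k n p⟩

theorem exists_of_αAlg_eq_zero (n : ℕ) (x : Tr k (n + 1)) (hx : αAlg k n x = 0) :
    ∃ b : Tr k (n + 1), x = t k (n + 1) ^ (n + 1) * b := by
  obtain ⟨p, rfl⟩ := AdjoinRoot.mk_surjective x
  rw [αAlg_mk, AdjoinRoot.mk_eq_zero] at hx
  obtain ⟨q, rfl⟩ := hx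
  refine ⟨AdjoinRoot.mk _ q, ?_⟩
  rw [map_mul, map_pow, AdjoinRoot.mk_X]

theorem exists_of_resA_eq_zero (n : ℕ) (x : Tr k n) (hx : resA k n x = 0) :
    ∃ b : Tr k n, x = t k n * b := by
  obtain ⟨b, hb⟩ := eq_algebraMap_add_t_mul k n x
  rw [hx, map_zero, zero_add] at hb
  exact ⟨b, hb⟩

/-- elements of the kernel of `α` are scalar multiples of `t^(n+1)` -/
theorem exists_scalar_of_αAlg_eq_zero (n : ℕ) (x : Tr k (n + 1)) (hx : αAlg k n x = 0) :
    ∃ c : k, x = algebraMap k _ c * t k (n + 1) ^ (n + 1) := by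
  obtain ⟨b, rfl⟩ := exists_of_αAlg_eq_zero k n x hx
  obtain ⟨b', hb'⟩ := eq_algebraMap_add_t_mul k (n + 1) b
  refine ⟨resA k (n + 1) b, ?_⟩
  have h0 : t k (n + 1) ^ (n + 1) * (t k (n + 1) * b') = 0 := by
    rw [← mul_assoc, ← pow_succ, t_pow, zero_mul]
  conv_lhs => rw [hb', mul_add, h0, add_zero]
  rw [mul_comm]

theorem algebraMap_mul_t_pow_eq_zero (n : ℕ) (d : k)
    (h : algebraMap k (Tr k n) d * t k n ^ n = 0) : d = 0 := by
  have e : algebraMap k (Tr k n) d * t k n ^ n = AdjoinRoot.mk _ (C d * X ^ n) := by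
    rw [map_mul, map_pow, AdjoinRoot.mk_X, AdjoinRoot.mk_C, AdjoinRoot.algebraMap_eq]
  rw [e, AdjoinRoot.mk_eq_zero] at h
  obtain ⟨q, hq⟩ := h
  have h1 := congrArg (fun p => Polynomial.coeff p n) hq
  simp only [Polynomial.coeff_C_mul_X_pow, if_true] at h1
  rw [Polynomial.coeff_X_pow_mul', if_neg (by omega)] at h1
  exact h1

/-! ### The maps of `Art k k` -/

theorem α_apply (n : ℕ) (x : Tr k (n + 1)) : (α k n) x = αAlg k n x := rfl

theorem β_apply (n : ℕ) (x : DualNumber (Tr k n)) : (β k n) x = x.fst := rfl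

theorem ξ_apply (n : ℕ) (x : DualNumber (Tr k (n + 1))) :
    (ξ k n) x = (αAlg k n x.fst, αAlg k n x.snd) := rfl

theorem ε_apply (n : ℕ) (x : Tr k (n + 1)) : (ε k n) x = εAlg k n x := rfl

theorem α_surjective (n : ℕ) : Function.Surjective (α k n) := αAlg_surjective k n

theorem A_hom_ext {n : ℕ} {D : Art k k} (f g : A k n ⟶ D) (h : f (t k n) = g (t k n)) : f = g :=
  hom_ext (AdjoinRoot.algHom_ext h)

theorem mem_maximalIdeal_A (n : ℕ) (x : Tr k n)
    (hx : x ∈ IsLocalRing.maximalIdeal (A k n)) : ∃ b : Tr k n, x = t k n * b :=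
  exists_of_resA_eq_zero k n x (((A k n).mem_maximalIdeal_iff x).1 hx)

theorem isSemismallExt_α (n : ℕ) : IsSemismallExt (α k n) := by
  refine ⟨α_surjective k n, ?_⟩
  rw [eq_bot_iff, Ideal.mul_le]
  intro m hm j hj
  obtain ⟨b, rfl⟩ := mem_maximalIdeal_A k (n + 1) m hm
  obtain ⟨b', rfl⟩ := exists_of_αAlg_eq_zero k n j (RingHom.mem_ker.1 hj)
  rw [Ideal.mem_bot]
  have e : t k (n + 1) * b * (t k (n + 1) ^ (n + 1) * b') =
      t k (n + 1) ^ (n + 1 + 1) * (b * b') := by ring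
  have e' : t k (n + 1) ^ (n + 1 + 1) * (b * b') = (0 : Tr k (n + 1)) := by
    rw [t_pow, zero_mul]
  exact e.trans e'

/-! ### The fibre product `B_n ×_{A_n} A_{n+1}` -/

/-- `C = B_n ×_{A_n} A_{n+1}` -/
noncomputable def Cn (n : ℕ) : Art k k :=
  Groth.Agent.H63.fibreProd (β k n) (α k n) (α_surjective k n)

noncomputable def cFst (n : ℕ) : Cn k n ⟶ B k n :=
  Groth.Agent.H63.fibreProdFst (β k n) (α k n) (α_surjective k n)

noncomputable def cSnd (n : ℕ) : Cn k n ⟶ A k (n + 1) :=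
  Groth.Agent.H63.fibreProdSnd (β k n) (α k n) (α_surjective k n)

theorem isFibreProd_Cn (n : ℕ) : IsFibreProd (cFst k n) (cSnd k n) (β k n) (α k n) :=
  Groth.Agent.H63.isFibreProd_fibreProd (β k n) (α k n) (α_surjective k n)

theorem ξ_β (n : ℕ) : ξ k n ≫ β k n = β k (n + 1) ≫ α k n :=
  hom_ext (AlgHom.ext fun _ => rfl)

theorem ε_β (n : ℕ) : ε k n ≫ β k n = 𝟙 (A k (n + 1)) ≫ α k n := by
  apply A_hom_ext
  change ((ε k n) (t k (n + 1))).fst = αAlg k n (t k (n + 1))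
  rw [ε_apply, εAlg_t, αAlg_t, TrivSqZeroExt.fst_add, TrivSqZeroExt.fst_inl, DualNumber.fst_eps,
    add_zero]

/-- `q : B_{n+1} → C` -/
noncomputable def qn (n : ℕ) : B k (n + 1) ⟶ Cn k n :=
  Groth.Agent.H63.fibreProdLift (β k n) (α k n) (α_surjective k n) (ξ k n) (β k (n + 1)) (ξ_β k n)

/-- `A_{n+1} → C`, `t ↦ (t + y, t)` -/
noncomputable def botn (n : ℕ) : A k (n + 1) ⟶ Cn k n :=
  Groth.Agent.H63.fibreProdLift (β k n) (α k n) (α_surjective k n) (ε k n) (𝟙 _) (ε_β k n)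

theorem qn_fst (n : ℕ) : qn k n ≫ cFst k n = ξ k n :=
  Groth.Agent.H63.fibreProdLift_fst _ _ _ _ _ _

theorem qn_snd (n : ℕ) : qn k n ≫ cSnd k n = β k (n + 1) :=
  Groth.Agent.H63.fibreProdLift_snd _ _ _ _ _ _

theorem botn_fst (n : ℕ) : botn k n ≫ cFst k n = ε k n :=
  Groth.Agent.H63.fibreProdLift_fst _ _ _ _ _ _

theorem botn_snd (n : ℕ) : botn k n ≫ cSnd k n = 𝟙 _ :=
  Groth.Agent.H63.fibreProdLift_snd _ _ _ _ _ _

theorem Cn_hom_ext {n : ℕ} {D : Art k k} (f g : D ⟶ Cn k n) (h₁ : f ≫ cFst k n = g ≫ cFst k n)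
    (h₂ : f ≫ cSnd k n = g ≫ cSnd k n) : f = g := by
  apply hom_ext
  apply AlgHom.ext
  intro d
  apply (isFibreProd_Cn k n).inj
  · exact congrArg (fun φ : D ⟶ B k n => φ d) h₁
  · exact congrArg (fun φ : D ⟶ A k (n + 1) => φ d) h₂

theorem α_ε (n : ℕ) : α k (n + 1) ≫ ε k n = ε k (n + 1) ≫ ξ k n := by
  apply A_hom_ext
  change (ε k n) (αAlg k (n + 1) (t k (n + 1 + 1))) = (ξ k n) (εAlg k (n + 1) (t k (n + 1 + 1)))
  rw [αAlg_t, ε_apply, εAlg_t, εAlg_t, ξ_apply]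
  apply TrivSqZeroExt.ext
  · change _ = αAlg k n _
    rw [TrivSqZeroExt.fst_add, TrivSqZeroExt.fst_inl, DualNumber.fst_eps, add_zero,
      TrivSqZeroExt.fst_add, TrivSqZeroExt.fst_inl, DualNumber.fst_eps, add_zero, αAlg_t]
  · change _ = αAlg k n _
    rw [TrivSqZeroExt.snd_add, TrivSqZeroExt.snd_inl, DualNumber.snd_eps, zero_add,
      TrivSqZeroExt.snd_add, TrivSqZeroExt.snd_inl, DualNumber.snd_eps, zero_add, map_one]

theorem ε_β' (n : ℕ) : ε k n ≫ β k n = α k n := by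
  rw [ε_β, Category.id_comp]

/-- the main square -/
theorem square (n : ℕ) : α k (n + 1) ≫ botn k n = ε k (n + 1) ≫ qn k n := by
  apply Cn_hom_ext
  · rw [Category.assoc, Category.assoc, botn_fst, qn_fst, α_ε]
  · rw [Category.assoc, Category.assoc, botn_snd, qn_snd, Category.comp_id, ε_β']

theorem qn_apply_fst (n : ℕ) (x : B k (n + 1)) : (cFst k n) ((qn k n) x) = (ξ k n) x := rfl

theorem qn_apply_snd (n : ℕ) (x : B k (n + 1)) : (cSnd k n) ((qn k n) x) = (β k (n + 1)) x := rfl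

theorem qn_surjective (n : ℕ) : Function.Surjective (qn k n) := by
  intro c
  have hc := (isFibreProd_Cn k n).w_apply c
  obtain ⟨b'', hb''⟩ := αAlg_surjective k n ((cFst k n c : DualNumber (Tr k n))).snd
  refine ⟨((cSnd k n c : Tr k (n + 1)), b''), ?_⟩
  apply (isFibreProd_Cn k n).inj
  · refine (qn_apply_fst k n _).trans ((ξ_apply k n _).trans ?_)
    apply TrivSqZeroExt.ext
    · exact hc.symm
    · exact hb''
  · exact (qn_apply_snd k n _).trans (β_apply k (n + 1) _)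

theorem ker_qn (n : ℕ) (j : DualNumber (Tr k (n + 1)))
    (hj : j ∈ RingHom.ker (qn k n).toAlgHom) : j.fst = 0 ∧ αAlg k n j.snd = 0 := by
  have h0 : (qn k n) j = 0 := RingHom.mem_ker.1 hj
  have h1 : (ξ k n) j = 0 := (qn_apply_fst k n j).symm.trans (by rw [h0, map_zero])
  have h2 : (β k (n + 1)) j = 0 := (qn_apply_snd k n j).symm.trans (by rw [h0, map_zero])
  have h1' := (ξ_apply k n j).symm.trans h1
  exact ⟨h2, congrArg TrivSqZeroExt.snd h1'⟩

theorem isSemismallExt_qn (n : ℕ) : IsSemismallExt (qn k n) := by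
  refine ⟨qn_surjective k n, ?_⟩
  rw [eq_bot_iff, Ideal.mul_le]
  intro m hm j hj
  rw [Ideal.mem_bot]
  obtain ⟨hj1, hj2⟩ := ker_qn k n j hj
  obtain ⟨b', hb'⟩ := exists_of_αAlg_eq_zero k n _ hj2
  have hm' : resA k (n + 1) (TrivSqZeroExt.fst (m : DualNumber (Tr k (n + 1)))) = 0 :=
    ((B k (n + 1)).mem_maximalIdeal_iff m).1 hm
  obtain ⟨b, hb⟩ := exists_of_resA_eq_zero k (n + 1) _ hm'
  apply TrivSqZeroExt.ext
  · change TrivSqZeroExt.fst (m : DualNumber (Tr k (n + 1))) *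
      TrivSqZeroExt.fst (j : DualNumber (Tr k (n + 1))) = 0
    rw [hj1, mul_zero]
  · change TrivSqZeroExt.fst (m : DualNumber (Tr k (n + 1))) •
        TrivSqZeroExt.snd (j : DualNumber (Tr k (n + 1))) +
      MulOpposite.op (TrivSqZeroExt.fst (j : DualNumber (Tr k (n + 1)))) •
        TrivSqZeroExt.snd (m : DualNumber (Tr k (n + 1))) = 0
    rw [hj1, MulOpposite.op_zero, zero_smul, add_zero, smul_eq_mul, hb, hb']
    have e : t k (n + 1) * b * (t k (n + 1) ^ (n + 1) * b') =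
        t k (n + 1) ^ (n + 1 + 1) * (b * b') := by ring
    rw [e, t_pow, zero_mul]

/-- the map induced by `ε` on the kernels -/
noncomputable def ℓn (n : ℕ) :
    ↥(RingHom.ker (α k (n + 1)).toAlgHom) →ₗ[k] ↥(RingHom.ker (qn k n).toAlgHom) where
  toFun j := ⟨(ε k (n + 1)) j.1, by
    rw [RingHom.mem_ker]
    change (ε k (n + 1) ≫ qn k n) j.1 = 0
    rw [← square]
    change (botn k n) ((α k (n + 1)) j.1) = 0
    have h : (α k (n + 1)) j.1 = 0 := RingHom.mem_ker.1 j.2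
    rw [h, map_zero]⟩
  map_add' x y := Subtype.ext (map_add (ε k (n + 1)).toAlgHom _ _)
  map_smul' c x := Subtype.ext (map_smul (ε k (n + 1)).toAlgHom _ _)

theorem ℓn_apply (n : ℕ) (j : ↥(RingHom.ker (α k (n + 1)).toAlgHom)) :
    (ℓn k n j).1 = (ε k (n + 1)) j.1 := rfl

theorem εAlg_t_pow_snd (n m : ℕ) :
    TrivSqZeroExt.snd (εAlg k n (t k (n + 1) ^ m)) = m • t k n ^ m.pred := by
  rw [map_pow, εAlg_t, TrivSqZeroExt.snd_pow, TrivSqZeroExt.fst_add, TrivSqZeroExt.fst_inl,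
    DualNumber.fst_eps, add_zero, TrivSqZeroExt.snd_add, TrivSqZeroExt.snd_inl, DualNumber.snd_eps,
    zero_add, smul_eq_mul, mul_one]

theorem εAlg_eq_zero [CharZero k] (n : ℕ) (x : Tr k (n + 1 + 1)) (hx : αAlg k (n + 1) x = 0)
    (h0 : εAlg k (n + 1) x = 0) : x = 0 := by
  obtain ⟨c, hc⟩ := exists_scalar_of_αAlg_eq_zero k (n + 1) x hx
  have h1 := congrArg TrivSqZeroExt.snd h0
  rw [hc, map_mul, AlgHom.commutes, TrivSqZeroExt.algebraMap_eq_inl', TrivSqZeroExt.snd_mul,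
    TrivSqZeroExt.fst_inl, TrivSqZeroExt.snd_inl, smul_zero, add_zero, εAlg_t_pow_snd,
    TrivSqZeroExt.snd_zero, Nat.pred_succ, smul_eq_mul, nsmul_eq_mul, ← mul_assoc] at h1
  have h2 : algebraMap k (Tr k (n + 1)) (c * ((n + 1 + 1 : ℕ) : k)) * t k (n + 1) ^ (n + 1) = 0 := by
    rw [map_mul, map_natCast]
    exact h1
  have h3 := algebraMap_mul_t_pow_eq_zero k (n + 1) _ h2
  have h4 : ((n + 1 + 1 : ℕ) : k) ≠ 0 := Nat.cast_ne_zero.2 (Nat.succ_ne_zero _)
  have h5 : c = 0 := (mul_eq_zero.1 h3).resolve_right h4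
  rw [hc, h5, map_zero, zero_mul]

theorem ℓn_injective [CharZero k] (n : ℕ) : Function.Injective (ℓn k n) := by
  rw [← LinearMap.ker_eq_bot, LinearMap.ker_eq_bot']
  intro j hj
  have h0 : εAlg k (n + 1) j.1 = 0 := congrArg Subtype.val hj
  exact Subtype.ext (εAlg_eq_zero k n j.1 (RingHom.mem_ker.1 j.2) h0)

/-! ### The criterion -/

theorem ε_succ_β (n : ℕ) : ε k (n + 1) ≫ β k (n + 1) = α k (n + 1) := ε_β' k (n + 1)

theorem lift_iff [CharZero k] (F : Art k k ⥤ Type v)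
    (hinj : ∀ ⦃P A A' A'' : Art k k⦄ (p' : P ⟶ A') (p'' : P ⟶ A'') (f' : A' ⟶ A) (f'' : A'' ⟶ A)
      (h : IsFibreProd p' p'' f' f''), Function.Surjective f'' → Function.Injective (cmp F h))
    (V : Type u) [AddCommGroup V] [Module k V] (O : ObsTheory F V)
    (hnat : ∀ ⦃A' A C' C : Art k k⦄ (φ : A' ⟶ A) (hφ : IsSemismallExt φ)
      (ψ : C' ⟶ C) (hψ : IsSemismallExt ψ) (g' : A' ⟶ C') (g : A ⟶ C), φ ≫ g = g' ≫ ψ →
      ∀ (ℓ : ↥(RingHom.ker φ.toAlgHom) →ₗ[k] ↥(RingHom.ker ψ.toAlgHom)),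
        (∀ j : ↥(RingHom.ker φ.toAlgHom), ((ℓ j : ↥(RingHom.ker ψ.toAlgHom)) : C') = g' (j : A')) →
        ∀ u : F.obj A, O.obs ψ hψ (F.map g u) = LinearMap.lTensor V ℓ (O.obs φ hφ u))
    (n : ℕ) (X : F.obj (A k (n + 1))) :
    (∃ X' : F.obj (A k (n + 2)), F.map (α k (n + 1)) X' = X) ↔
      ∃ Y : F.obj (B k (n + 1)), F.map (β k (n + 1)) Y = X ∧
        F.map (ξ k n) Y = F.map (ε k n) X := by
  constructor
  · rintro ⟨X', rfl⟩
    refine ⟨F.map (ε k (n + 1)) X', ?_, ?_⟩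
    · rw [← Functor.map_comp_apply, ε_succ_β]
    · rw [← Functor.map_comp_apply, ← Functor.map_comp_apply, α_ε]
  · rintro ⟨Y, hY1, hY2⟩
    have hq : F.map (qn k n) Y = F.map (botn k n) X := by
      apply hinj _ _ _ _ (isFibreProd_Cn k n) (α_surjective k n)
      apply FibProd.ext
      · change F.map (cFst k n) (F.map (qn k n) Y) = F.map (cFst k n) (F.map (botn k n) X)
        rw [← Functor.map_comp_apply, ← Functor.map_comp_apply, qn_fst, botn_fst, hY2]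
      · change F.map (cSnd k n) (F.map (qn k n) Y) = F.map (cSnd k n) (F.map (botn k n) X)
        rw [← Functor.map_comp_apply, ← Functor.map_comp_apply, qn_snd, botn_snd, hY1,
          Functor.map_id_apply]
    have h0 : O.obs (qn k n) (isSemismallExt_qn k n) (F.map (botn k n) X) = 0 :=
      (O.obs_eq_zero_iff _ _ _).2 ⟨Y, hq⟩
    rw [hnat (α k (n + 1)) (isSemismallExt_α k (n + 1)) (qn k n) (isSemismallExt_qn k n)
      (ε k (n + 1)) (botn k n) (square k n) (ℓn k n) (fun j => rfl) X] at h0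
    have hinjℓ : Function.Injective (LinearMap.lTensor V (ℓn k n)) :=
      Module.Flat.lTensor_preserves_injective_linearMap _ (ℓn_injective k n)
    have h1 : O.obs (α k (n + 1)) (isSemismallExt_α k (n + 1)) X = 0 :=
      hinjℓ (h0.trans (map_zero _).symm)
    exact (O.obs_eq_zero_iff _ _ _).1 h1

end Groth.Agent.H61.T1L
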