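import Groth.Agent.H61.DefIso
import Groth.Agent.H61.T1LiftLib
import Groth.Agent.H61.SchlessProrep

/-!
# Deformations `xy = a` of the node (helper61)
-/

set_option autoImplicit false
universe u

open MvPolynomial IsLocalRing CategoryTheory AlgebraicGeometry ArtFun ArtFun.Art
open Groth.Agent.H61.DefObs Groth.Agent.H61.DefPres Groth.Agent.H61.DefDict
open Groth.Agent.H61.DefIso

namespace Groth.Agent.H61.DefNode

variable (k : Type u) [Field k]

/-- the node -/
abbrev N : Type u := MvPolynomial (Fin 2) k ⧸ Ideal.span {(X 0 * X 1 : MvPolynomial (Fin 2) k)}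

/-- the presentation of the node -/
noncomputable def π₀ : MvPolynomial (Fin 2) k →ₐ[k] N k := Ideal.Quotient.mkₐ k _

lemma π₀_surj : Function.Surjective (π₀ k) := Ideal.Quotient.mkₐ_surjective k _

/-- the relation -/
noncomputable def f₀ : Unit → MvPolynomial (Fin 2) k := fun _ => X 0 * X 1

lemma hf₀ : RingHom.ker (π₀ k).toRingHom = Ideal.span (Set.range (f₀ k)) := by
  have : Set.range (f₀ k) = {X 0 * X 1} := Set.range_const
  rw [this]
  exact Ideal.mk_ker

variable {k}

/-- the lifted relation `xy - a` -/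
noncomputable def FF (A : Art k k) (a : A.carrier) : Unit → MvPolynomial (Fin 2) A.carrier :=
  fun _ => X 0 * X 1 - C a

lemma map_FF (A : Art k k) (a : A.carrier) (ha : a ∈ maximalIdeal A.carrier) (s : Unit) :
    map A.res.toRingHom (FF A a s) = f₀ k s := by
  have h0 : A.res.toRingHom a = 0 := (A.mem_maximalIdeal_iff a).1 ha
  simp only [FF, f₀, map_sub, map_mul, map_X, map_C, h0, map_zero, sub_zero]

lemma relLift_FF (A : Art k k) (a : A.carrier) (ha : a ∈ maximalIdeal A.carrier) :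
    RelLift (map A.res.toRingHom : MvPolynomial (Fin 2) A.carrier →+* MvPolynomial (Fin 2) k)
      (FF A a) := by
  intro r hr
  have hfam : (fun s => map A.res.toRingHom (FF A a s)) = f₀ k := funext (map_FF A a ha)
  rw [hfam] at hr
  have h1 : r () * (X 0 * X 1 : MvPolynomial (Fin 2) k) = 0 := by
    have := Finsupp.linearCombination_unique (MvPolynomial (Fin 2) k) r (f₀ k)
    rw [show lc (f₀ k) r = Finsupp.linearCombination _ (f₀ k) r from rfl] at hr
    rw [this] at hr
    exact hr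
  have h2 : r () = 0 := by
    rcases mul_eq_zero.mp h1 with h | h
    · exact h
    · exfalso
      rcases mul_eq_zero.mp h with h | h
      · exact X_ne_zero _ h
      · exact X_ne_zero _ h
  have h3 : r = 0 := by
    ext s
    cases s
    rw [h2]
    rfl
  refine ⟨0, ?_, ?_⟩
  · rw [map_zero, h3]
  · exact map_zero _

/-- the deformation `A[x,y]/(xy - a)` of the node -/
noncomputable def node (A : Art k k) (a : A.carrier) (ha : a ∈ maximalIdeal A.carrier) :
    AlgDef A.carrier A.res.toRingHom (N k) :=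
  ofPres.{u, 0} A.res.toRingHom A.res_surjective (isNilpotent_maximalIdeal A) (π₀ k) (π₀_surj k)
    (f₀ k) (hf₀ k) (FF A a) (map_FF A a ha) (relLift_FF A a ha)

lemma node_congr (A : Art k k) {a a' : A.carrier} (h : a = a') (ha : a ∈ maximalIdeal A.carrier)
    (ha' : a' ∈ maximalIdeal A.carrier) : node A a ha = node A a' ha' := by
  subst h
  rfl

/-- base change of the deformations `xy = a` -/
theorem map_node {A' A : Art k k} (g : A' ⟶ A) (hg : Function.Surjective g) (a : A'.carrier)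
    (ha : a ∈ maximalIdeal A'.carrier) (ha' : g a ∈ maximalIdeal A.carrier) :
    (defFunctor (Λ := k) (X₀ (N k)) (x₀ (N k))).map g (Quotient.mk _ (ofAlg A' (node A' a ha))) =
      Quotient.mk _ (ofAlg A (node A (g a) ha')) := by
  have bc := bcOfPres.{u, 0} A'.res.toRingHom A.res.toRingHom A'.res_surjective A.res_surjective
    (isNilpotent_maximalIdeal A') (isNilpotent_maximalIdeal A) g.toAlgHom.toRingHom hg
    (fun a => Art.res_app g a) (π₀ k) (π₀_surj k) (f₀ k) (hf₀ k) (FF A' a) (map_FF A' a ha)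
    (relLift_FF A' a ha) (FF A (g a)) (map_FF A (g a) ha') (relLift_FF A (g a) ha')
    (fun s => by
      simp only [FF, map_sub, map_mul, map_X, map_C]
      rfl)
  obtain ⟨e⟩ := iso_of_bc g _ _ bc hg
  exact Quotient.sound ⟨e⟩

section UnitIso

variable (A : Art k k)

/-- the substitution `x ↦ c x`, `y ↦ y` -/
noncomputable def sc (c : A.carrier) :
    MvPolynomial (Fin 2) A.carrier →ₐ[A.carrier] MvPolynomial (Fin 2) A.carrier :=
  aeval ![C c * X 0, X 1]

lemma sc_X0 (c : A.carrier) : sc A c (X 0) = C c * X 0 := by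
  rw [sc, aeval_X]
  rfl

lemma sc_X1 (c : A.carrier) : sc A c (X 1) = X 1 := by
  rw [sc, aeval_X]
  rfl

lemma sc_C (c b : A.carrier) : sc A c (C b) = C b := by
  rw [sc, ← MvPolynomial.algebraMap_eq, AlgHom.commutes]

lemma sc_FF (c b b' : A.carrier) (h : b = c * b') (s : Unit) :
    sc A c (FF A b s) = C c * FF A b' s := by
  simp only [FF, map_sub, map_mul, sc_X0, sc_X1, sc_C, h]
  ring

lemma sc_mem (c b b' : A.carrier) (h : b = c * b') :
    ∀ G ∈ Ideal.span (Set.range (FF A b)),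
      ((Ideal.Quotient.mk (Ideal.span (Set.range (FF A b')))).comp (sc A c).toRingHom) G = 0 := by
  have hle : Ideal.span (Set.range (FF A b)) ≤
      RingHom.ker ((Ideal.Quotient.mk (Ideal.span (Set.range (FF A b')))).comp
        (sc A c).toRingHom) := by
    rw [Ideal.span_le]
    rintro _ ⟨s, rfl⟩
    change Ideal.Quotient.mk _ (sc A c (FF A b s)) = 0
    rw [sc_FF A c b b' h, Ideal.Quotient.eq_zero_iff_mem]
    exact Ideal.mul_mem_left _ _ (Ideal.subset_span ⟨s, rfl⟩)
  exact fun G hG => hle hG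

/-- the map `A[x,y]/(xy - b) → A[x,y]/(xy - b')`, `x ↦ c x`, when `b = c b'` -/
noncomputable def qmap (c b b' : A.carrier) (h : b = c * b') :
    (MvPolynomial (Fin 2) A.carrier ⧸ Ideal.span (Set.range (FF A b))) →+*
      (MvPolynomial (Fin 2) A.carrier ⧸ Ideal.span (Set.range (FF A b'))) :=
  Ideal.Quotient.lift _ _ (sc_mem A c b b' h)

lemma qmap_mk (c b b' : A.carrier) (h : b = c * b') (G : MvPolynomial (Fin 2) A.carrier) :
    qmap A c b b' h (Ideal.Quotient.mk _ G) = Ideal.Quotient.mk _ (sc A c G) := rfl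

lemma sc_sc (c c' : A.carrier) (h : c * c' = 1) (G : MvPolynomial (Fin 2) A.carrier) :
    sc A c (sc A c' G) = G := by
  have : ((sc A c).comp (sc A c')) = AlgHom.id _ _ := by
    apply MvPolynomial.algHom_ext
    intro i
    fin_cases i
    · change sc A c (sc A c' (X 0)) = X 0
      rw [sc_X0, map_mul, sc_C, sc_X0, ← mul_assoc, ← C_mul, mul_comm c' c, h, C_1, one_mul]
    · change sc A c (sc A c' (X 1)) = X 1
      rw [sc_X1, sc_X1]
  exact congrArg (fun g => g G) this

lemma qmap_qmap (c c' b b' : A.carrier) (h : b = c * b') (h' : b' = c' * b) (hcc : c' * c = 1)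
    (z : MvPolynomial (Fin 2) A.carrier ⧸ Ideal.span (Set.range (FF A b))) :
    qmap A c' b' b h' (qmap A c b b' h z) = z := by
  obtain ⟨G, rfl⟩ := Ideal.Quotient.mk_surjective z
  rw [qmap_mk, qmap_mk, sc_sc A c' c hcc]

lemma map_res_sc (c : A.carrier) (hc : A.res c = 1) (G : MvPolynomial (Fin 2) A.carrier) :
    map A.res.toRingHom (sc A c G) = map A.res.toRingHom G := by
  have : (map A.res.toRingHom : MvPolynomial (Fin 2) A.carrier →+* _).comp (sc A c).toRingHom =
      map A.res.toRingHom := by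
    apply MvPolynomial.ringHom_ext
    · intro b
      change map A.res.toRingHom (sc A c (C b)) = _
      rw [sc_C]
    · intro i
      fin_cases i
      · change map A.res.toRingHom (sc A c (X 0)) = map A.res.toRingHom (X 0)
        rw [sc_X0, map_mul, map_C]
        change C (A.res c) * _ = _
        rw [hc, C_1, one_mul]
      · change map A.res.toRingHom (sc A c (X 1)) = map A.res.toRingHom (X 1)
        rw [sc_X1]
  exact congrArg (fun g => g G) this

/-- `xy = u a` and `xy = a` are isomorphic deformations for a unit `u ≡ 1` -/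
theorem node_unit_iso (a u v : A.carrier) (huv : u * v = 1) (hu : A.res u = 1)
    (ha : a ∈ maximalIdeal A.carrier) (hua : u * a ∈ maximalIdeal A.carrier) :
    Nonempty ((ofAlg A (node A (u * a) hua)).Iso (ofAlg A (node A a ha))) := by
  have hv : A.res v = 1 := by
    have := congrArg A.res huv
    rwa [map_mul, hu, one_mul, map_one] at this
  have h1 : a = v * (u * a) := by rw [← mul_assoc, mul_comm v u, huv, one_mul]
  let φ : (node A a ha).B ≃+* (node A (u * a) hua).B :=
    RingEquiv.ofRingHom (qmap A v a (u * a) h1) (qmap A u (u * a) a rfl)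
      (RingHom.ext fun z => qmap_qmap A u v (u * a) a rfl h1 (by rw [mul_comm]; exact huv) z)
      (RingHom.ext fun z => qmap_qmap A v u a (u * a) h1 rfl huv z)
  refine iso_of_ringEquiv A (node A (u * a) hua) (node A a ha) φ ?_ ?_
  · intro b
    change qmap A v a (u * a) h1 (Ideal.Quotient.mk _ (C b)) = Ideal.Quotient.mk _ (C b)
    rw [qmap_mk, sc_C]
  · intro z
    obtain ⟨G, rfl⟩ := Ideal.Quotient.mk_surjective z
    change (node A (u * a) hua).π (qmap A v a (u * a) h1 (Ideal.Quotient.mk _ G)) =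
      (node A a ha).π (Ideal.Quotient.mk _ G)
    rw [qmap_mk]
    change π₀ k (map A.res.toRingHom (sc A v G)) = π₀ k (map A.res.toRingHom G)
    rw [map_res_sc A v hv]

end UnitIso

section NoHom

variable (A : Art k k)

/-- the class of a polynomial in the deformation `xy = a` -/
noncomputable def cls (a : A.carrier) (ha : a ∈ maximalIdeal A.carrier) :
    MvPolynomial (Fin 2) A.carrier →+* (node A a ha).B :=
  Ideal.Quotient.mk (Ideal.span (Set.range (FF A a)))

lemma cls_C (a : A.carrier) (ha : a ∈ maximalIdeal A.carrier) (b : A.carrier) :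
    cls A a ha (C b) = algebraMap A.carrier (node A a ha).B b := rfl

lemma π_cls (a : A.carrier) (ha : a ∈ maximalIdeal A.carrier) (G : MvPolynomial (Fin 2) A.carrier) :
    (node A a ha).π (cls A a ha G) = π₀ k (map A.res.toRingHom G) := rfl

lemma cls_rel (a : A.carrier) (ha : a ∈ maximalIdeal A.carrier) :
    cls A a ha (X 0) * cls A a ha (X 1) = algebraMap A.carrier (node A a ha).B a := by
  have h1 : (X 0 * X 1 - C a : MvPolynomial (Fin 2) A.carrier) ∈
      Ideal.span (Set.range (FF A a)) := Ideal.subset_span ⟨(), rfl⟩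
  have h2 : cls A a ha (X 0 * X 1 - C a) = 0 := Ideal.Quotient.eq_zero_iff_mem.mpr h1
  rw [map_sub, sub_eq_zero, map_mul] at h2
  exact h2

/-- ring homs out of the deformation `xy = a` -/
noncomputable def nodeLift (a : A.carrier) (ha : a ∈ maximalIdeal A.carrier) {E : Type*}
    [CommRing E] (χ₀ : MvPolynomial (Fin 2) A.carrier →+* E) (h : χ₀ (X 0 * X 1 - C a) = 0) :
    (node A a ha).B →+* E :=
  Ideal.Quotient.lift (Ideal.span (Set.range (FF A a))) χ₀ (by
    have hle : Ideal.span (Set.range (FF A a)) ≤ RingHom.ker χ₀ := by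
      rw [Ideal.span_le]
      rintro _ ⟨s, rfl⟩
      exact h
    exact fun G hG => hle hG)

lemma nodeLift_cls (a : A.carrier) (ha : a ∈ maximalIdeal A.carrier) {E : Type*}
    [CommRing E] (χ₀ : MvPolynomial (Fin 2) A.carrier →+* E) (h : χ₀ (X 0 * X 1 - C a) = 0)
    (G : MvPolynomial (Fin 2) A.carrier) : nodeLift A a ha χ₀ h (cls A a ha G) = χ₀ G := rfl

variable (T S : A.carrier) (hT : T ∈ maximalIdeal A.carrier)
  (hTS : T + S ∈ maximalIdeal A.carrier)

/-- the key computation: a morphism of deformations `xy = T + S` to `xy = T` forces `S ∈ (T)`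
when `𝔪² ⊆ (T)` -/
theorem mem_span_of_hom
    (hsq : ∀ m₁ ∈ maximalIdeal A.carrier, ∀ m₂ ∈ maximalIdeal A.carrier,
      m₁ * m₂ ∈ Ideal.span {T})
    (Θ : (node A (T + S) hTS).B →+* (node A T hT).B)
    (hΘ : ∀ a, Θ (algebraMap A.carrier _ a) = algebraMap A.carrier _ a)
    (hπ : ∀ b, (node A T hT).π (Θ b) = (node A (T + S) hTS).π b) :
    S ∈ Ideal.span {T} := by
  let mkE : A.carrier →+* A.carrier ⧸ Ideal.span {T} := Ideal.Quotient.mk _
  let χ₀ : MvPolynomial (Fin 2) A.carrier →+* A.carrier ⧸ Ideal.span {T} :=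
    eval₂Hom mkE (fun _ => 0)
  have hχ₀X : ∀ i, χ₀ (X i) = 0 := fun i => eval₂Hom_X' _ _ i
  have hχ₀C : ∀ a, χ₀ (C a) = mkE a := fun a => eval₂Hom_C _ _ a
  have hmkT : mkE T = 0 := Ideal.Quotient.eq_zero_iff_mem.mpr (Ideal.mem_span_singleton_self T)
  have hχ₀ : χ₀ (X 0 * X 1 - C T) = 0 := by
    rw [map_sub, map_mul, hχ₀X, hχ₀C, hmkT, zero_mul, sub_zero]
  let χ : (node A T hT).B →+* A.carrier ⧸ Ideal.span {T} := nodeLift A T hT χ₀ hχ₀
  have hχalg : ∀ a, χ (algebraMap A.carrier (node A T hT).B a) = mkE a := fun a => by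
    rw [← cls_C, nodeLift_cls]
    exact hχ₀C a
  have h𝔫 : ∀ z₁ ∈ (maximalIdeal A.carrier).map mkE, ∀ z₂ ∈ (maximalIdeal A.carrier).map mkE,
      z₁ * z₂ = 0 := by
    have hbot : (maximalIdeal A.carrier).map mkE * (maximalIdeal A.carrier).map mkE = ⊥ := by
      rw [← Ideal.map_mul, eq_bot_iff, Ideal.map_le_iff_le_comap, Ideal.mul_le]
      intro m₁ h₁ m₂ h₂
      rw [Ideal.mem_comap, Ideal.mem_bot]
      exact Ideal.Quotient.eq_zero_iff_mem.mpr (hsq m₁ h₁ m₂ h₂)
    intro z₁ h₁ z₂ h₂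
    have := Ideal.mul_mem_mul h₁ h₂
    rwa [hbot, Ideal.mem_bot] at this
  have hx : ∀ i : Fin 2, χ (Θ (cls A (T + S) hTS (X i))) ∈ (maximalIdeal A.carrier).map mkE := by
    intro i
    have h1 : Θ (cls A (T + S) hTS (X i)) - cls A T hT (X i) ∈ RingHom.ker (node A T hT).π := by
      rw [RingHom.mem_ker, map_sub, hπ, π_cls, π_cls]
      exact sub_self _
    rw [(node A T hT).ker_π] at h1
    have h2 := Ideal.mem_map_of_mem χ h1
    rw [Ideal.map_map] at h2
    have h3 : χ.comp (algebraMap A.carrier (node A T hT).B) = mkE := RingHom.ext hχalg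
    rw [h3] at h2
    have h4 : χ (cls A T hT (X i)) = 0 := by
      rw [nodeLift_cls]
      exact hχ₀X i
    rwa [map_sub, h4, sub_zero] at h2
  have h5 : χ (Θ (cls A (T + S) hTS (X 0) * cls A (T + S) hTS (X 1))) =
      χ (Θ (algebraMap A.carrier (node A (T + S) hTS).B (T + S))) :=
    congrArg (fun z => χ (Θ z)) (cls_rel A (T + S) hTS)
  rw [map_mul, map_mul, hΘ, hχalg] at h5
  have h6 := h𝔫 _ (hx 0) _ (hx 1)
  rw [h5] at h6
  have h7 : T + S ∈ Ideal.span {T} := Ideal.Quotient.eq_zero_iff_mem.mp h6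
  exact (Ideal.add_mem_iff_right _ (Ideal.mem_span_singleton_self T)).mp h7

end NoHom

section Fibre

open T1Lift Groth.Agent.H63 Groth.Agent.H61.T1L

variable (k)

/-- `k[t]/t³ ×_{k[t]/t²} k[t]/t³` -/
noncomputable def Bk : Art k k := fibreProd (α k 1) (α k 1) (α_surjective k 1)

/-- first projection -/
noncomputable def p₁ : Bk k ⟶ T1Lift.A k (1 + 1) := fibreProdFst (α k 1) (α k 1) (α_surjective k 1)

/-- second projection -/
noncomputable def p₂ : Bk k ⟶ T1Lift.A k (1 + 1) := fibreProdSnd (α k 1) (α k 1) (α_surjective k 1)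

theorem hfp : IsFibreProd (p₁ k) (p₂ k) (α k 1) (α k 1) :=
  isFibreProd_fibreProd (α k 1) (α k 1) (α_surjective k 1)

theorem p₁_surj : Function.Surjective (p₁ k) := fun a => by
  obtain ⟨b, hb, -⟩ := (hfp k).surj a a rfl
  exact ⟨b, hb⟩

theorem p₂_surj : Function.Surjective (p₂ k) := fun a => by
  obtain ⟨b, -, hb⟩ := (hfp k).surj a a rfl
  exact ⟨b, hb⟩

/-- first projection as an algebra map to `k[t]/t³` -/
noncomputable def P₁ : (Bk k).carrier →ₐ[k] Tr k (1 + 1) := (p₁ k).toAlgHom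

/-- second projection as an algebra map to `k[t]/t³` -/
noncomputable def P₂ : (Bk k).carrier →ₐ[k] Tr k (1 + 1) := (p₂ k).toAlgHom

theorem hw (b : (Bk k).carrier) : αAlg k 1 (P₁ k b) = αAlg k 1 (P₂ k b) := (hfp k).w_apply b

theorem hinj (b₁ b₂ : (Bk k).carrier) (h1 : P₁ k b₁ = P₁ k b₂) (h2 : P₂ k b₁ = P₂ k b₂) :
    b₁ = b₂ := (hfp k).inj b₁ b₂ h1 h2

theorem hsurj (a' a'' : Tr k (1 + 1)) (h : αAlg k 1 a' = αAlg k 1 a'') :
    ∃ b : (Bk k).carrier, P₁ k b = a' ∧ P₂ k b = a'' := (hfp k).surj a' a'' h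

theorem t_cube : t k (1 + 1) ^ 2 * t k (1 + 1) = 0 := by
  have := t_pow k (1 + 1)
  rw [pow_succ] at this
  exact this

theorem t_sq_ne : t k (1 + 1) ^ 2 ≠ 0 := by
  intro h
  have := algebraMap_mul_t_pow_eq_zero k (1 + 1) 1 (by rw [map_one, one_mul]; exact h)
  exact one_ne_zero this

theorem mem_max_Bk (b : (Bk k).carrier) :
    b ∈ maximalIdeal (Bk k).carrier ↔ resA k (1 + 1) (P₁ k b) = 0 := by
  rw [(Bk k).mem_maximalIdeal_iff]
  have : resA k (1 + 1) (P₁ k b) = (Bk k).res b := Art.res_app (p₁ k) b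
  rw [this]

/-- the facts about the elements `T = (t, t)` and `S = (0, t²)` -/
theorem facts (T S : (Bk k).carrier) (hT1 : P₁ k T = t k (1 + 1)) (hT2 : P₂ k T = t k (1 + 1))
    (hS1 : P₁ k S = 0) (hS2 : P₂ k S = t k (1 + 1) ^ 2) :
    (∀ m₁ ∈ maximalIdeal (Bk k).carrier, ∀ m₂ ∈ maximalIdeal (Bk k).carrier,
      m₁ * m₂ ∈ Ideal.span {T}) ∧ S ∉ Ideal.span {T} := by
  have hSS : S * S = 0 := by
    apply hinj k
    · rw [map_mul, hS1, zero_mul, map_zero]
    · have e : t k (1 + 1) ^ 2 * t k (1 + 1) ^ 2 =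
          t k (1 + 1) ^ 2 * t k (1 + 1) * t k (1 + 1) := by ring
      rw [map_mul, hS2, map_zero, e, t_cube, zero_mul]
  have hdec : ∀ m ∈ maximalIdeal (Bk k).carrier, ∃ (a : (Bk k).carrier) (c : k),
      m = T * a + algebraMap k (Bk k).carrier c * S := by
    intro m hm
    rw [mem_max_Bk] at hm
    obtain ⟨a, ha⟩ := exists_of_resA_eq_zero k (1 + 1) _ hm
    obtain ⟨a', ha'1, ha'2⟩ := hsurj k a a rfl
    have hd1 : P₁ k (m - T * a') = 0 := by
      rw [map_sub, map_mul, hT1, ha'1, ha, sub_self]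
    have hd2 : αAlg k 1 (P₂ k (m - T * a')) = 0 := by
      rw [← hw, hd1, map_zero]
    obtain ⟨c, hc⟩ := exists_scalar_of_αAlg_eq_zero k 1 _ hd2
    refine ⟨a', c, ?_⟩
    have : m - T * a' = algebraMap k (Bk k).carrier c * S := by
      apply hinj k
      · rw [hd1, map_mul, hS1, mul_zero]
      · rw [hc, map_mul, hS2, AlgHom.commutes]
    rw [← this]
    ring
  refine ⟨?_, ?_⟩
  · intro m₁ h₁ m₂ h₂
    obtain ⟨a₁, c₁, rfl⟩ := hdec m₁ h₁
    obtain ⟨a₂, c₂, rfl⟩ := hdec m₂ h₂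
    rw [Ideal.mem_span_singleton']
    refine ⟨a₁ * (T * a₂ + algebraMap k _ c₂ * S) + algebraMap k _ c₁ * S * a₂, ?_⟩
    have : (T * a₁ + algebraMap k (Bk k).carrier c₁ * S) *
        (T * a₂ + algebraMap k (Bk k).carrier c₂ * S) =
        (a₁ * (T * a₂ + algebraMap k _ c₂ * S) + algebraMap k _ c₁ * S * a₂) * T +
          algebraMap k _ c₁ * algebraMap k _ c₂ * (S * S) := by ring
    rw [this, hSS, mul_zero, add_zero]
  · intro hmem
    rw [Ideal.mem_span_singleton'] at hmem
    obtain ⟨b, hb⟩ := hmem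
    have h1 : P₁ k b * t k (1 + 1) = 0 := by
      rw [← hT1, ← map_mul, hb, hS1]
    have h2 : P₂ k b * t k (1 + 1) = t k (1 + 1) ^ 2 := by
      rw [← hT2, ← map_mul, hb, hS2, hT2]
    have h3 : αAlg k 1 (P₂ k b - P₁ k b) = 0 := by
      rw [map_sub, hw, sub_self]
    obtain ⟨c, hc⟩ := exists_scalar_of_αAlg_eq_zero k 1 _ h3
    have h4 : (P₂ k b - P₁ k b) * t k (1 + 1) = 0 := by
      rw [hc, mul_assoc, t_cube, mul_zero]
    rw [sub_mul, h1, h2, sub_zero] at h4
    exact t_sq_ne k h4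

end Fibre

section Main

open T1Lift Groth.Agent.H63 Groth.Agent.H61.T1L

theorem map_node' {A' A : Art k k} (g : A' ⟶ A) (hg : Function.Surjective g) (a : A'.carrier)
    (ha : a ∈ maximalIdeal A'.carrier) (a' : A.carrier) (ha' : a' ∈ maximalIdeal A.carrier)
    (h : g a = a') :
    (defFunctor (Λ := k) (X₀ (N k)) (x₀ (N k))).map g (Quotient.mk _ (ofAlg A' (node A' a ha))) =
      Quotient.mk _ (ofAlg A (node A a' ha')) := by
  subst h
  exact map_node g hg a ha ha'

variable (k)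

/-- `t` as an element of the Art object `k[t]/t³` -/
noncomputable def tA : (T1Lift.A k (1 + 1)).carrier := t k (1 + 1)

lemma tA_mem : tA k ∈ maximalIdeal (T1Lift.A k (1 + 1)).carrier :=
  (Art.mem_maximalIdeal_iff (T1Lift.A k (1 + 1)) (tA k)).2 (resA_t k (1 + 1))

lemma utA_mem : (1 + tA k) * tA k ∈ maximalIdeal (T1Lift.A k (1 + 1)).carrier :=
  Ideal.mul_mem_left _ _ (tA_mem k)

lemma huv : (1 + tA k) * (1 - tA k + tA k ^ 2) = 1 := by
  have e : ((1 + t k (1 + 1)) * (1 - t k (1 + 1) + t k (1 + 1) ^ 2) : Tr k (1 + 1)) = 1 := by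
    have e' : ((1 + t k (1 + 1)) * (1 - t k (1 + 1) + t k (1 + 1) ^ 2) : Tr k (1 + 1)) =
        1 + t k (1 + 1) ^ 2 * t k (1 + 1) := by ring
    rw [e', t_cube, add_zero]
  exact e

lemma hu : (T1Lift.A k (1 + 1)).res (1 + tA k) = 1 := by
  have e : resA k (1 + 1) (1 + t k (1 + 1)) = 1 := by
    rw [map_add, map_one, resA_t, add_zero]
  exact e

/-- **the deformation functor of the node is not left exact** -/
theorem not_isLeftExact :
    ¬ IsLeftExact (defFunctor (Λ := k) (X₀ (N k)) (x₀ (k := k) (N k))) := by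
  intro hLE
  have hbij := hLE (p₁ k) (p₂ k) (α k 1) (α k 1) (hfp k)
  obtain ⟨T, hT1, hT2⟩ := hsurj k (t k (1 + 1)) (t k (1 + 1)) rfl
  obtain ⟨S, hS1, hS2⟩ := hsurj k 0 (t k (1 + 1) ^ 2) (by
    rw [map_zero, map_pow, αAlg_t]
    exact (t_pow k 1).symm)
  obtain ⟨hsq, hST⟩ := facts k T S hT1 hT2 hS1 hS2
  have hTm : T ∈ maximalIdeal (Bk k).carrier := by rw [mem_max_Bk, hT1, resA_t]
  have hSm : S ∈ maximalIdeal (Bk k).carrier := by rw [mem_max_Bk, hS1, map_zero]
  have hTSm : T + S ∈ maximalIdeal (Bk k).carrier := Ideal.add_mem _ hTm hSm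
  have e1 := map_node' (p₁ k) (p₁_surj k) (T + S) hTSm (tA k) (tA_mem k) (by
    have e : P₁ k (T + S) = t k (1 + 1) := by
      rw [map_add, hT1, hS1, add_zero]
    exact e)
  have e2 := map_node' (p₁ k) (p₁_surj k) T hTm (tA k) (tA_mem k) hT1
  have e3 := map_node' (p₂ k) (p₂_surj k) (T + S) hTSm ((1 + tA k) * tA k) (utA_mem k) (by
    have e : P₂ k (T + S) = (1 + t k (1 + 1)) * t k (1 + 1) := by
      rw [map_add, hT2, hS2]
      ring
    exact e)
  have e4 := map_node' (p₂ k) (p₂_surj k) T hTm (tA k) (tA_mem k) hT2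
  have e5 : (Quotient.mk _ (ofAlg _ (node (T1Lift.A k (1 + 1)) _ (utA_mem k))) :
      (defFunctor (Λ := k) (X₀ (N k)) (x₀ (k := k) (N k))).obj (T1Lift.A k (1 + 1))) =
      Quotient.mk _ (ofAlg _ (node (T1Lift.A k (1 + 1)) _ (tA_mem k))) :=
    Quotient.sound (node_unit_iso (T1Lift.A k (1 + 1)) (tA k) (1 + tA k)
      (1 - tA k + tA k ^ 2) (huv k) (hu k) (tA_mem k) (utA_mem k))
  have heq : cmp (defFunctor (Λ := k) (X₀ (N k)) (x₀ (k := k) (N k))) (hfp k)
      (Quotient.mk _ (ofAlg _ (node (Bk k) (T + S) hTSm))) =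
      cmp (defFunctor (Λ := k) (X₀ (N k)) (x₀ (k := k) (N k))) (hfp k)
      (Quotient.mk _ (ofAlg _ (node (Bk k) T hTm))) :=
    FibProd.ext (e1.trans e2.symm) ((e3.trans e5).trans e4.symm)
  have h1 := hbij.1 heq
  obtain ⟨e⟩ := Quotient.exact h1
  obtain ⟨Θ, hΘ, hπ⟩ := hom_of_iso (Bk k) (node (Bk k) T hTm) (node (Bk k) (T + S) hTSm) e.symm
  exact hST (mem_span_of_hom (Bk k) T S hTm hTSm hsq Θ hΘ hπ)

end Main

end Groth.Agent.H61.DefNode
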