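import Groth.Agent.H61.T1Coord

/-!
# Linearity of the coordinate description of `T¹` (helper61)
-/

set_option autoImplicit false

namespace Groth.Agent.H61.T1Coord

open CotT TensorProduct

universe u v w t m

variable {A : Type u} {B : Type v} {ι : Type w} {σ : Type t}
variable [CommRing A] [CommRing B] [Algebra A B]
variable (P : Algebra.Presentation A B ι σ) {M : Type m} [AddCommGroup M] [Module B M]

lemma ofCoord_add (g g' : σ → M) : ofCoord P (g + g') = ofCoord P g + ofCoord P g' :=
  map_add ((L1basis P).constr B) g g'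

lemma ofCoord_smul (b : B) (g : σ → M) : ofCoord P (b • g) = b • ofCoord P g :=
  map_smul ((L1basis P).constr B) b g

lemma isCoc_add {g g' : σ → M} (hg : IsCoc P g) (hg' : IsCoc P g') : IsCoc P (g + g') := by
  intro q
  have h1 := ofCoord_one_tmul P (g + g') (q : relMod P)
  rw [← h1, ofCoord_add, LinearMap.add_apply, ofCoord_one_tmul, ofCoord_one_tmul, hg q, hg' q,
    add_zero]

lemma isCoc_smul (b : B) {g : σ → M} (hg : IsCoc P g) : IsCoc P (b • g) := by
  intro q
  have h1 := ofCoord_one_tmul P (b • g) (q : relMod P)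
  rw [← h1, ofCoord_smul, LinearMap.smul_apply, ofCoord_one_tmul, hg q, smul_zero]

lemma mkT1_add {g g' : σ → M} (hg : IsCoc P g) (hg' : IsCoc P g') :
    mkT1 P (g + g') (isCoc_add P hg hg') = mkT1 P g hg + mkT1 P g' hg' := by
  rw [mkT1, mkT1, mkT1, ← Submodule.Quotient.mk_add]
  congr 1
  exact Subtype.ext (ofCoord_add P g g')

lemma mkT1_smul (b : B) {g : σ → M} (hg : IsCoc P g) :
    mkT1 P (b • g) (isCoc_smul P b hg) = b • mkT1 P g hg := by
  rw [mkT1, mkT1, ← Submodule.Quotient.mk_smul]
  congr 1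
  exact Subtype.ext (ofCoord_smul P b g)

lemma mkT1_congr {g g' : σ → M} (h : g = g') (hg : IsCoc P g) (hg' : IsCoc P g') :
    mkT1 P g hg = mkT1 P g' hg' := by
  subst h
  rfl

end Groth.Agent.H61.T1Coord
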