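import Groth.Agent.H61.DefSchless
import Groth.Agent.H61.T1Coord2

/-!
# The tangent space of the deformation functor of an affine scheme (helper61)

Over `Art k k`: a surjection `Ψ : T¹(P, B₀ ⊗ J) → Def(k[ε])` compatible with the operations
defining the vector space structure of the tangent space.
-/

set_option autoImplicit false
set_option linter.unusedSectionVars false

open MvPolynomial AlgebraicGeometry CategoryTheory Limits IsLocalRing ArtFun ArtFun.Art
open TensorProduct CotT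
open Groth.Agent.H61.DefObs Groth.Agent.H61.DefPres Groth.Agent.H61.DefDict Groth.Agent.H61.DefIso
open Groth.Agent.H61.DefDict2 Groth.Agent.H61.DefPresBC Groth.Agent.H61.DefGlue
open Groth.Agent.H61.DefGlueSch Groth.Agent.H61.DefTorsor Groth.Agent.H61.DefTorsorMain
open Groth.Agent.H61.T1Coord Groth.Agent.H61

namespace Groth.Agent.H61.DefTangent

universe u

variable {k : Type u} [Field k] {B₀ : Type u} [CommRing B₀] [Algebra k B₀]
  {ι σ : Type u} (P : Algebra.Presentation k B₀ ι σ)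

/-- `k[ε] → k` -/
abbrev pD : dual k k ⟶ base k k := toBase (dual k k)

lemma hpD : IsSemismallExt (pD (k := k)) := isSmallExt_toBase_dual.isSemismallExt

/-- the relations as polynomials over the base object -/
abbrev f₀ : σ → MvPolynomial ι (base k k).carrier := fun s => P.relation s

lemma map_res_base (G : MvPolynomial ι (base k k).carrier) :
    map (base k k).res.toRingHom G = G := by
  have : (base k k).res.toRingHom = RingHom.id k := rfl
  rw [this]
  exact MvPolynomial.map_id G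

lemma hF₀ (s : σ) : map (base k k).res.toRingHom (f₀ P s) = P.relation s := map_res_base _

lemma hrel₀ : RelLift (map (base k k).res.toRingHom :
    MvPolynomial ι (base k k).carrier →+* MvPolynomial ι k) (f₀ P) := by
  intro r hr
  refine ⟨r, ?_, ?_⟩
  · ext1 s
    rw [mr_apply]
    exact map_res_base _
  · have h1 : (fun s => map (base k k).res.toRingHom (f₀ P s)) = f₀ P := funext (hF₀ P)
    rw [h1] at hr
    exact hr

/-- the trivial deformation over the base object -/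
noncomputable abbrev D₀ : AlgDef (base k k).carrier (base k k).res.toRingHom B₀ :=
  presDef (π₀ P) (hπ₀ P) P.relation (hf P) (base k k) (f₀ P) (hF₀ P) (hrel₀ P)

/-- its presentation -/
noncomputable def Pr₀ : Pres (ι := ι) (σ := σ) (π₀ P) P.relation (D₀ P) where
  φ := Ideal.Quotient.mkₐ _ _
  F := f₀ P
  hφ := Ideal.Quotient.mk_surjective
  hker := Ideal.mk_ker
  hFred := hF₀ P
  hcomp := fun _ => rfl

/-- the structure map `k → k[ε]` as a ring map -/
noncomputable abbrev ι₀ : k →+* (dual k k).carrier := algebraMap k (dual k k).carrier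

lemma res_ι₀ : (dual k k).res.toRingHom.comp (ι₀ (k := k)) = RingHom.id k := by
  ext c
  exact (dual k k).res.commutes c

/-- the trivial lifting -/
noncomputable def L₀ : PL pD (Pr₀ P) where
  F' := fun s => map ι₀ (P.relation s)
  hpp := fun s => by
    change map (dual k k).res.toRingHom (map ι₀ (P.relation s)) = P.relation s
    rw [MvPolynomial.map_map, res_ι₀, MvPolynomial.map_id]
  hrel := by
    have h := relLift_map (ι := ι) (σ := σ) (ι₀ (k := k)) (RingHom.id k) (dual k k).res.toRingHom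
      res_ι₀ (fun s => (P.relation s : MvPolynomial ι k)) (by
        intro r hr
        refine ⟨r, ?_, ?_⟩
        · ext1 s
          rw [mr_apply, MvPolynomial.map_id]
        · simpa only [MvPolynomial.map_id] using hr)
    exact h

/-- the class of a presented first-order deformation -/
noncomputable abbrev cl₁ (L : PL pD (Pr₀ P)) : T1 P (B₀ ⊗[k] (J (pD (k := k)))) :=
  cls pD hpD (Pr₀ P) (L₀ P) L

/-- the deformation of a presented lifting, as a class -/
noncomputable abbrev dcl (L : PL pD (Pr₀ P)) :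
    Quotient (DefSch.setoid (X₀ B₀) (x₀ (k := k) B₀) (dual k k)) :=
  (ofAlg (dual k k) (plDef (hπ₀ P) (hf P) L)).cl

theorem dcl_eq_of_cl₁_eq (L₁ L₂ : PL pD (Pr₀ P)) (h : cl₁ P L₁ = cl₁ P L₂) :
    dcl P L₁ = dcl P L₂ := by
  obtain ⟨θ, h1, h2, -⟩ := (cls_eq_iff pD hpD (Pr₀ P) (L₀ P) L₁ L₂).mp h
  refine Quotient.sound ⟨isoOfRingEquiv (dual k k) _ _ θ.symm (fun c => ?_) (fun x => ?_)⟩
  · rw [← h1 c, RingEquiv.symm_apply_apply]
  · rw [← h2, RingEquiv.apply_symm_apply]

/-- the first-order deformation attached to a class in `T¹` -/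
noncomputable def Ψ (t : T1 P (B₀ ⊗[k] (J (pD (k := k))))) :
    Quotient (DefSch.setoid (X₀ B₀) (x₀ (k := k) B₀) (dual k k)) :=
  dcl P (Classical.choose (cls_surj pD hpD (Pr₀ P) (L₀ P) t))

theorem Ψ_cl₁ (L : PL pD (Pr₀ P)) : Ψ P (cl₁ P L) = dcl P L :=
  dcl_eq_of_cl₁_eq P _ _ (Classical.choose_spec (cls_surj pD hpD (Pr₀ P) (L₀ P) (cl₁ P L)))

/-- a family over `k[ε]` reducing to the relations, with lifting relations, as a presented
lifting -/
noncomputable def plOf (F' : σ → MvPolynomial ι (dual k k).carrier)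
    (hF' : ∀ s, map (dual k k).res.toRingHom (F' s) = P.relation s)
    (h' : RelLift (map (dual k k).res.toRingHom :
      MvPolynomial ι (dual k k).carrier →+* MvPolynomial ι k) F') : PL pD (Pr₀ P) where
  F' := F'
  hpp := hF'
  hrel := h'

theorem Ψ_surjective : Function.Surjective (Ψ P) := by
  intro ξ
  induction ξ using Quotient.inductionOn with
  | h 𝒳 =>
    obtain ⟨F', hF', h', ⟨e⟩⟩ := exists_presDef (π₀ P) (hπ₀ P) P.relation (hf P) (dual k k) 𝒳
    refine ⟨cl₁ P (plOf P F' hF' h'), ?_⟩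
    rw [Ψ_cl₁]
    have h1 : (DefSch.setoid (X₀ B₀) (x₀ (k := k) B₀) (dual k k)).r 𝒳
        (ofAlg (dual k k) (plDef (hπ₀ P) (hf P) (plOf P F' hF' h'))) := ⟨e⟩
    exact (Quotient.sound h1).symm

section Scale

lemma scale_of_mem (c : k) {a : (dual k k).carrier} (ha : a ∈ J (pD (k := k))) :
    (scale c : dual k k ⟶ dual k k).toAlgHom.toRingHom a = c • a := by
  have h0 : dfst a = 0 := (mem_ker_toBase_dual a).mp ha
  apply dual_ext
  · change dfst a = c * dfst a
    rw [h0, mul_zero]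
  · rfl

lemma map_scale_of_mem (c : k) {G : MvPolynomial ι (dual k k).carrier}
    (hG : G ∈ J' (ι := ι) (pD (k := k))) :
    map (scale c : dual k k ⟶ dual k k).toAlgHom.toRingHom G = c • G := by
  rw [J', MvPolynomial.mem_map_C_iff] at hG
  ext m
  rw [coeff_map, coeff_smul]
  exact scale_of_mem c (hG m)

lemma scale_comp_ι₀ (c : k) :
    (scale c : dual k k ⟶ dual k k).toAlgHom.toRingHom.comp (ι₀ (k := k)) = ι₀ := by
  ext a
  exact (scale c : dual k k ⟶ dual k k).toAlgHom.commutes a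

lemma sub_mem_J' (L : PL pD (Pr₀ P)) (s : σ) : L.F' s - (L₀ P).F' s ∈ J' (ι := ι) (pD (k := k)) := by
  rw [mem_J'_iff, map_sub, L.hpp, (L₀ P).hpp, sub_self]

theorem Ψ_scale (c : k) (t : T1 P (B₀ ⊗[k] (J (pD (k := k))))) :
    (defFunctor (Λ := k) (X₀ B₀) (x₀ (k := k) B₀)).map (scale c) (Ψ P t) =
      Ψ P (algebraMap k B₀ c • t) := by
  obtain ⟨L, rfl⟩ := cls_surj pD hpD (Pr₀ P) (L₀ P) t
  change (defFunctor (Λ := k) (X₀ B₀) (x₀ (k := k) B₀)).map (scale c) (Ψ P (cl₁ P L)) =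
    Ψ P (algebraMap k B₀ c • cl₁ P L)
  rw [Ψ_cl₁]
  have hres : (dual k k).res.toRingHom.comp (scale c : dual k k ⟶ dual k k).toAlgHom.toRingHom =
      (dual k k).res.toRingHom := RingHom.ext (res_app (scale c))
  let Fc : σ → MvPolynomial ι (dual k k).carrier :=
    fun s => map (scale c : dual k k ⟶ dual k k).toAlgHom.toRingHom (L.F' s)
  have hFc : ∀ s, map (dual k k).res.toRingHom (Fc s) = P.relation s := fun s => by
    change MvPolynomial.map (dual k k).res.toRingHom (MvPolynomial.map _ (L.F' s)) = _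
    rw [MvPolynomial.map_map, hres]
    exact L.hred s
  have hrelc : RelLift (map (dual k k).res.toRingHom :
      MvPolynomial ι (dual k k).carrier →+* MvPolynomial ι k) Fc :=
    relLift_map _ _ _ hres L.F' L.hrel
  obtain ⟨i⟩ := iso_bc_presDef (π₀ P) (hπ₀ P) P.relation (hf P) (scale c) L.F' L.hred L.hrel
    Fc hFc hrelc (fun s => rfl)
  have h1 : (defFunctor (Λ := k) (X₀ B₀) (x₀ (k := k) B₀)).map (scale c) (dcl P L) =
      dcl P (plOf P Fc hFc hrelc) := Quotient.sound ⟨i⟩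
  rw [h1, ← Ψ_cl₁]
  congr 1
  -- the classes
  change mkT1 P _ _ = algebraMap k B₀ c • mkT1 P _ _
  rw [← mkT1_smul]
  apply mkT1_congr
  funext s
  change ρ pD (π₀ P) (Fc s - (L₀ P).F' s) =
    algebraMap k B₀ c • ρ pD (π₀ P) (L.F' s - (L₀ P).F' s)
  have e1 : (L₀ P).F' s = map (scale c : dual k k ⟶ dual k k).toAlgHom.toRingHom ((L₀ P).F' s) := by
    change MvPolynomial.map ι₀ (P.relation s) =
      MvPolynomial.map _ (MvPolynomial.map ι₀ (P.relation s))
    rw [MvPolynomial.map_map, scale_comp_ι₀]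
  have e2 : Fc s - (L₀ P).F' s = c • (L.F' s - (L₀ P).F' s) := by
    rw [← map_scale_of_mem c (sub_mem_J' P L s), map_sub, ← e1]
  rw [e2, map_smul, algebraMap_smul]

end Scale

section Add

lemma plus_identity_coeff (b : (dual2 k k).carrier) :
    (plus : dual2 k k ⟶ dual k k).toAlgHom.toRingHom b +
      (ι₀ (k := k)).comp (dual2 k k).res.toRingHom b =
    (pr₁ : dual2 k k ⟶ dual k k).toAlgHom.toRingHom b +
      (pr₂ : dual2 k k ⟶ dual k k).toAlgHom.toRingHom b := by
  apply TrivSqZeroExt.ext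
  · rfl
  · change (b.snd.1 + b.snd.2) + (algebraMap k (DualNumber k) b.fst).snd = b.snd.1 + b.snd.2
    rw [TrivSqZeroExt.algebraMap_eq_inl, TrivSqZeroExt.snd_inl, add_zero]

lemma plus_identity (G : MvPolynomial ι (dual2 k k).carrier) :
    MvPolynomial.map (plus : dual2 k k ⟶ dual k k).toAlgHom.toRingHom G +
      MvPolynomial.map ((ι₀ (k := k)).comp (dual2 k k).res.toRingHom) G =
    MvPolynomial.map (pr₁ : dual2 k k ⟶ dual k k).toAlgHom.toRingHom G +
      MvPolynomial.map (pr₂ : dual2 k k ⟶ dual k k).toAlgHom.toRingHom G := by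
  ext m
  rw [coeff_add, coeff_add, coeff_map, coeff_map, coeff_map, coeff_map]
  exact plus_identity_coeff _

theorem Ψ_add (t₁ t₂ : T1 P (B₀ ⊗[k] (J (pD (k := k))))) :
    ∃ z : (defFunctor (Λ := k) (X₀ B₀) (x₀ (k := k) B₀)).obj (dual2 k k),
      (defFunctor (Λ := k) (X₀ B₀) (x₀ (k := k) B₀)).map pr₁ z = Ψ P t₁ ∧
      (defFunctor (Λ := k) (X₀ B₀) (x₀ (k := k) B₀)).map pr₂ z = Ψ P t₂ ∧
      (defFunctor (Λ := k) (X₀ B₀) (x₀ (k := k) B₀)).map plus z = Ψ P (t₁ + t₂) := by
  obtain ⟨L₁, rfl⟩ := cls_surj pD hpD (Pr₀ P) (L₀ P) t₁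
  obtain ⟨L₂, rfl⟩ := cls_surj pD hpD (Pr₀ P) (L₀ P) t₂
  change ∃ z, _ = Ψ P (cl₁ P L₁) ∧ _ = Ψ P (cl₁ P L₂) ∧ _ = Ψ P (cl₁ P L₁ + cl₁ P L₂)
  rw [Ψ_cl₁, Ψ_cl₁]
  have hfp := isFibreProd_dual2 (Λ := k) (k := k)
  have hres₁ : (dual k k).res.toRingHom.comp (pr₁ : dual2 k k ⟶ dual k k).toAlgHom.toRingHom =
      (dual2 k k).res.toRingHom := RingHom.ext (res_app pr₁)
  have hres₂ : (dual k k).res.toRingHom.comp (pr₂ : dual2 k k ⟶ dual k k).toAlgHom.toRingHom =
      (dual2 k k).res.toRingHom := RingHom.ext (res_app pr₂)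
  have hresp : (dual k k).res.toRingHom.comp (plus : dual2 k k ⟶ dual k k).toAlgHom.toRingHom =
      (dual2 k k).res.toRingHom := RingHom.ext (res_app plus)
  have hsurjE : ∀ (a' a'' : (dual k k).carrier),
      (toBase (dual k k)).toAlgHom.toRingHom a' = (toBase (dual k k)).toAlgHom.toRingHom a'' →
      ∃ b : (dual2 k k).carrier, (pr₁ : dual2 k k ⟶ dual k k).toAlgHom.toRingHom b = a' ∧
        (pr₂ : dual2 k k ⟶ dual k k).toAlgHom.toRingHom b = a'' := hfp.surj
  have hinjE : ∀ b₁ b₂ : (dual2 k k).carrier,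
      (pr₁ : dual2 k k ⟶ dual k k).toAlgHom.toRingHom b₁ =
        (pr₁ : dual2 k k ⟶ dual k k).toAlgHom.toRingHom b₂ →
      (pr₂ : dual2 k k ⟶ dual k k).toAlgHom.toRingHom b₁ =
        (pr₂ : dual2 k k ⟶ dual k k).toAlgHom.toRingHom b₂ → b₁ = b₂ := hfp.inj
  have hFF : ∀ s, MvPolynomial.map (toBase (dual k k)).toAlgHom.toRingHom (L₁.F' s) =
      MvPolynomial.map (toBase (dual k k)).toAlgHom.toRingHom (L₂.F' s) := fun s =>
    (L₁.hpp s).trans (L₂.hpp s).symm
  choose Ft hFt1 hFt2 using fun s => exists_poly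
    (pr₁ : dual2 k k ⟶ dual k k).toAlgHom.toRingHom (pr₂ : dual2 k k ⟶ dual k k).toAlgHom.toRingHom
    (toBase (dual k k)).toAlgHom.toRingHom (toBase (dual k k)).toAlgHom.toRingHom hsurjE
    (L₁.F' s) (L₂.F' s) (hFF s)
  haveI : Module.Flat (dual k k).carrier
      (MvPolynomial ι (dual k k).carrier ⧸ Ideal.span (Set.range L₂.F')) :=
    (plDef (hπ₀ P) (hf P) L₂).flat
  have hrelE : RelLift (MvPolynomial.map (dual2 k k).res.toRingHom :
      MvPolynomial ι (dual2 k k).carrier →+* MvPolynomial ι k) Ft :=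
    relLift_glue (pr₁ : dual2 k k ⟶ dual k k).toAlgHom.toRingHom
      (pr₂ : dual2 k k ⟶ dual k k).toAlgHom.toRingHom
      (toBase (dual k k)).toAlgHom.toRingHom (toBase (dual k k)).toAlgHom.toRingHom hinjE hsurjE
      (dual2 k k).res.toRingHom (dual k k).res.toRingHom hres₁ (dual k k).res_surjective
      L₁.F' L₂.F' hFF L₁.hrel Ft hFt1 hFt2
  have hFtred : ∀ s, MvPolynomial.map (dual2 k k).res.toRingHom (Ft s) = P.relation s := by
    intro s
    rw [← hres₁, ← MvPolynomial.map_map, hFt1]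
    exact L₁.hred s
  obtain ⟨a₁⟩ := iso_bc_presDef (π₀ P) (hπ₀ P) P.relation (hf P) pr₁ Ft hFtred hrelE
    L₁.F' L₁.hred L₁.hrel hFt1
  obtain ⟨a₂⟩ := iso_bc_presDef (π₀ P) (hπ₀ P) P.relation (hf P) pr₂ Ft hFtred hrelE
    L₂.F' L₂.hred L₂.hrel hFt2
  let Fp : σ → MvPolynomial ι (dual k k).carrier :=
    fun s => MvPolynomial.map (plus : dual2 k k ⟶ dual k k).toAlgHom.toRingHom (Ft s)
  have hFp : ∀ s, MvPolynomial.map (dual k k).res.toRingHom (Fp s) = P.relation s := fun s => by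
    change MvPolynomial.map (dual k k).res.toRingHom (MvPolynomial.map _ (Ft s)) = _
    rw [MvPolynomial.map_map, hresp, hFtred]
  have hrelp : RelLift (MvPolynomial.map (dual k k).res.toRingHom :
      MvPolynomial ι (dual k k).carrier →+* MvPolynomial ι k) Fp :=
    relLift_map _ _ _ hresp Ft hrelE
  obtain ⟨a₃⟩ := iso_bc_presDef (π₀ P) (hπ₀ P) P.relation (hf P) plus Ft hFtred hrelE
    Fp hFp hrelp (fun s => rfl)
  refine ⟨(ofAlg (dual2 k k) (presDef (π₀ P) (hπ₀ P) P.relation (hf P) (dual2 k k) Ft hFtred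
    hrelE)).cl, Quotient.sound ⟨a₁⟩, Quotient.sound ⟨a₂⟩, ?_⟩
  have h1 : (defFunctor (Λ := k) (X₀ B₀) (x₀ (k := k) B₀)).map plus
      (ofAlg (dual2 k k) (presDef (π₀ P) (hπ₀ P) P.relation (hf P) (dual2 k k) Ft hFtred
        hrelE)).cl = dcl P (plOf P Fp hFp hrelp) := Quotient.sound ⟨a₃⟩
  rw [h1, ← Ψ_cl₁]
  congr 1
  change mkT1 P _ _ = mkT1 P _ _ + mkT1 P _ _
  rw [← mkT1_add]
  apply mkT1_congr
  funext s
  change ρ pD (π₀ P) (Fp s - (L₀ P).F' s) =
    ρ pD (π₀ P) (L₁.F' s - (L₀ P).F' s) + ρ pD (π₀ P) (L₂.F' s - (L₀ P).F' s)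
  rw [← map_add]
  congr 1
  have e0 : (L₀ P).F' s =
      MvPolynomial.map ((ι₀ (k := k)).comp (dual2 k k).res.toRingHom) (Ft s) := by
    rw [← MvPolynomial.map_map, hFtred]
    rfl
  have e1 := plus_identity (Ft s)
  rw [← e0, hFt1, hFt2] at e1
  have e2 : Fp s = L₁.F' s + L₂.F' s - (L₀ P).F' s := by
    rw [← e1]
    change Fp s = Fp s + (L₀ P).F' s - (L₀ P).F' s
    ring
  rw [e2]
  ring

end Add

end Groth.Agent.H61.DefTangent
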