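import Groth.Agent.H61.ObsDim
import Groth.Agent.H63.ArtFibre

/-!
# Obstructions lie in the span of the obstructions of tiny extensions (helper61)
-/

set_option autoImplicit false
set_option linter.unusedSectionVars false
set_option linter.style.haveILetI false
universe u v

namespace Groth.Agent.H61.ObsTiny

open CategoryTheory ArtFun ArtFun.Art TensorProduct

variable {k : Type u} [Field k]

/-- decomposition of a tensor along a finite basis of the right factor -/
theorem eq_sum_coord {V J : Type*} [AddCommGroup V] [Module k V] [AddCommGroup J] [Module k J]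
    {ι : Type*} [Fintype ι] (b : Module.Basis ι k J) (t : V ⊗[k] J) :
    t = ∑ i, (TensorProduct.rid k V (LinearMap.lTensor V (b.coord i) t)) ⊗ₜ[k] b i := by
  induction t using TensorProduct.induction_on with
  | zero => simp
  | tmul v j =>
    simp only [LinearMap.lTensor_tmul, TensorProduct.rid_tmul]
    conv_lhs => rw [← b.sum_repr j, TensorProduct.tmul_sum]
    refine Finset.sum_congr rfl fun i _ => ?_
    rw [TensorProduct.smul_tmul, Module.Basis.coord_apply]
  | add x y hx hy =>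
    conv_lhs => rw [hx, hy]
    rw [← Finset.sum_add_distrib]
    refine Finset.sum_congr rfl fun i _ => ?_
    rw [map_add, map_add, TensorProduct.add_tmul]

/-- a tensor all of whose contractions lie in `Ω` comes from `Ω ⊗ J` -/
theorem mem_range_rTensor {V J : Type*} [AddCommGroup V] [Module k V] [AddCommGroup J]
    [Module k J] [Module.Finite k J] (Ω : Submodule k V) (t : V ⊗[k] J)
    (h : ∀ f : J →ₗ[k] k, TensorProduct.rid k V (LinearMap.lTensor V f t) ∈ Ω) :
    t ∈ LinearMap.range (LinearMap.rTensor J Ω.subtype) := by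
  have e := eq_sum_coord (Module.finBasis k J) t
  rw [e]
  refine Submodule.sum_mem _ fun i _ => ?_
  exact ⟨⟨_, h ((Module.finBasis k J).coord i)⟩ ⊗ₜ[k] (Module.finBasis k J) i, rfl⟩

section Art

variable {C' C : Art k k} (p : C' ⟶ C) (hp : IsSemismallExt p)

instance finite_art (A : Art k k) : Module.Finite k A := by
  haveI : IsNoetherian k A :=
    ((isFiniteLength_iff_isNoetherian_isArtinian).1 (Groth.Agent.H63.isFiniteLength_base A)).1
  infer_instance

instance finite_ker : Module.Finite k ↥(RingHom.ker p.toAlgHom) :=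
  Module.Finite.of_injective ((Submodule.subtype (RingHom.ker p.toAlgHom)).restrictScalars k)
    Subtype.val_injective

include hp in
theorem mul_eq_smul (c : C') (x : C') (hx : x ∈ RingHom.ker p.toAlgHom) :
    c * x = C'.res c • x := by
  have h1 : c - algebraMap k C' (C'.res c) ∈ IsLocalRing.maximalIdeal (C' : Type u) := by
    rw [mem_maximalIdeal_iff, map_sub, AlgHom.commutes]
    exact sub_self _
  have h2 := Ideal.mul_mem_mul h1 hx
  rw [hp.2, Ideal.mem_bot, sub_mul, sub_eq_zero] at h2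
  rw [h2, Algebra.smul_def]

/-- the kernel of a functional on `J`, as an ideal of `C'` -/
def kerIdeal (f : ↥(RingHom.ker p.toAlgHom) →ₗ[k] k) : Ideal C' where
  carrier := {x | ∃ h : x ∈ RingHom.ker p.toAlgHom, f ⟨x, h⟩ = 0}
  add_mem' := by
    rintro a b ⟨ha, ha'⟩ ⟨hb, hb'⟩
    refine ⟨Ideal.add_mem _ ha hb, ?_⟩
    have e : (⟨a + b, Ideal.add_mem _ ha hb⟩ : ↥(RingHom.ker p.toAlgHom)) = ⟨a, ha⟩ + ⟨b, hb⟩ := rfl
    rw [e, map_add, ha', hb', add_zero]
  zero_mem' := ⟨Ideal.zero_mem _, map_zero f⟩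
  smul_mem' := by
    rintro c x ⟨hx, hx'⟩
    refine ⟨Ideal.mul_mem_left _ c hx, ?_⟩
    have e : (⟨c • x, Ideal.mul_mem_left _ c hx⟩ : ↥(RingHom.ker p.toAlgHom)) =
        C'.res c • ⟨x, hx⟩ := Subtype.ext (mul_eq_smul p hp c x hx)
    rw [e, map_smul, hx', smul_zero]

theorem mem_kerIdeal (f : ↥(RingHom.ker p.toAlgHom) →ₗ[k] k) (x : ↥(RingHom.ker p.toAlgHom)) :
    (x : C') ∈ kerIdeal p hp f ↔ f x = 0 :=
  ⟨fun ⟨_, h⟩ => h, fun h => ⟨x.2, h⟩⟩

theorem kerIdeal_le (f : ↥(RingHom.ker p.toAlgHom) →ₗ[k] k) :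
    kerIdeal p hp f ≤ RingHom.ker p.toAlgHom := fun _ ⟨h, _⟩ => h

section Tiny

variable (f : ↥(RingHom.ker p.toAlgHom) →ₗ[k] k)

theorem kerIdeal_le_max : kerIdeal p hp f ≤ IsLocalRing.maximalIdeal (C' : Type u) :=
  (kerIdeal_le p hp f).trans (Groth.Agent.H63.ker_le_maximalIdeal p)

/-- the tiny extension `C'/ker f → C` -/
noncomputable abbrev qf : quot C' (kerIdeal p hp f) (kerIdeal_le_max p hp f) ⟶ C :=
  quotFactor (kerIdeal_le_max p hp f) p (kerIdeal_le p hp f)

/-- `J → J/ker f` -/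
noncomputable abbrev κ : ↥(RingHom.ker p.toAlgHom) →ₗ[k] ↥(RingHom.ker (qf p hp f).toAlgHom) :=
  (kerToQuot (kerIdeal_le_max p hp f) p (kerIdeal_le p hp f)).restrictScalars k

theorem κ_eq_zero_iff (j : ↥(RingHom.ker p.toAlgHom)) : κ p hp f j = 0 ↔ f j = 0 := by
  rw [← mem_kerIdeal p hp f j, ← Ideal.Quotient.eq_zero_iff_mem]
  constructor
  · intro h
    exact congrArg Subtype.val h
  · intro h
    exact Subtype.ext h

theorem κ_surjective : Function.Surjective (κ p hp f) := by
  rintro ⟨x, hx⟩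
  obtain ⟨c, rfl⟩ := Ideal.Quotient.mk_surjective x
  have hc : c ∈ RingHom.ker p.toAlgHom := by
    rw [RingHom.mem_ker]
    exact RingHom.mem_ker.1 hx
  exact ⟨⟨c, hc⟩, rfl⟩

variable (j₀ : ↥(RingHom.ker p.toAlgHom)) (hj₀ : f j₀ = 1)

include hj₀ in
theorem κ_eq (j : ↥(RingHom.ker p.toAlgHom)) : κ p hp f j = f j • κ p hp f j₀ := by
  rw [← map_smul, ← sub_eq_zero, ← map_sub, κ_eq_zero_iff, map_sub, map_smul, hj₀, smul_eq_mul,
    mul_one, sub_self]

include hj₀ in
theorem ψ_bijective :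
    Function.Bijective (LinearMap.toSpanSingleton k _ (κ p hp f j₀)) := by
  constructor
  · rw [← LinearMap.ker_eq_bot, LinearMap.ker_eq_bot']
    intro c hc
    rw [LinearMap.toSpanSingleton_apply, ← map_smul, κ_eq_zero_iff, map_smul, hj₀, smul_eq_mul,
      mul_one] at hc
    exact hc
  · intro x
    obtain ⟨j, rfl⟩ := κ_surjective p hp f x
    exact ⟨f j, (κ_eq p hp f j₀ hj₀ j).symm⟩

/-- `J/ker f ≃ k` -/
noncomputable def φf : ↥(RingHom.ker (qf p hp f).toAlgHom) ≃ₗ[k] k :=
  (LinearEquiv.ofBijective _ (ψ_bijective p hp f j₀ hj₀)).symm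

theorem φf_κ (j : ↥(RingHom.ker p.toAlgHom)) : φf p hp f j₀ hj₀ (κ p hp f j) = f j := by
  rw [φf, LinearEquiv.symm_apply_eq, LinearEquiv.ofBijective_apply,
    LinearMap.toSpanSingleton_apply]
  exact κ_eq p hp f j₀ hj₀ j

include hj₀ in
theorem isSmallExt_qf : IsSmallExt (qf p hp f) := by
  have hss := Obs.isSemismallExt_quotFactor p hp (kerIdeal p hp f) (kerIdeal_le_max p hp f)
    (kerIdeal_le p hp f)
  have hne : κ p hp f j₀ ≠ 0 := by
    rw [Ne, κ_eq_zero_iff, hj₀]
    exact one_ne_zero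
  refine ⟨hss.1, ?_, ?_, hss.2⟩
  · intro h
    apply hne
    apply Subtype.ext
    have h1 : ((κ p hp f j₀ : ↥(RingHom.ker (qf p hp f).toAlgHom)) :
        quot C' (kerIdeal p hp f) (kerIdeal_le_max p hp f)) ∈ (⊥ : Ideal _) :=
      h ▸ (κ p hp f j₀).2
    exact (Ideal.mem_bot.1 h1)
  · refine ⟨⟨((κ p hp f j₀ : ↥(RingHom.ker (qf p hp f).toAlgHom)) :
      quot C' (kerIdeal p hp f) (kerIdeal_le_max p hp f)), ?_⟩⟩
    apply le_antisymm
    · intro x hx
      obtain ⟨j, hj⟩ := κ_surjective p hp f ⟨x, hx⟩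
      have h1 := congrArg Subtype.val ((κ_eq p hp f j₀ hj₀ j).symm.trans hj)
      change f j • ((κ p hp f j₀ : ↥(RingHom.ker (qf p hp f).toAlgHom)) :
        quot C' (kerIdeal p hp f) (kerIdeal_le_max p hp f)) = x at h1
      rw [← h1, Algebra.smul_def]
      exact Ideal.mul_mem_left _ _ (Ideal.subset_span rfl)
    · rw [Ideal.submodule_span_eq, Ideal.span_le, Set.singleton_subset_iff]
      exact (κ p hp f j₀).2

end Tiny

end Art

/-- **Obstructions lie in `Ω ⊗ J`, `Ω` the span of the obstructions of tiny extensions.** -/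
theorem obs_mem {F : Art k k ⥤ Type v} {V : Type u} [AddCommGroup V] [Module k V]
    (T : ObsTheory F V) {C' C : Art k k} (p : C' ⟶ C) (hp : IsSemismallExt p) (u : F.obj C) :
    T.obs p hp u ∈ LinearMap.range (LinearMap.rTensor (↥(RingHom.ker p.toAlgHom))
      (Submodule.span k {v : V | ∃ (B' B : Art k k) (t : B' ⟶ B) (ht : IsSmallExt t)
          (w : F.obj B) (φ : ↥(RingHom.ker t.toAlgHom) ≃ₗ[k] k),
          v = TensorProduct.rid k V (LinearMap.lTensor V φ.toLinearMap
            (T.obs t ht.isSemismallExt w))}).subtype) := by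
  apply mem_range_rTensor
  intro f
  by_cases hf : f = 0
  · rw [hf, LinearMap.lTensor_zero, LinearMap.zero_apply, map_zero]
    exact Submodule.zero_mem _
  · obtain ⟨j₁, hj₁⟩ : ∃ j₁, f j₁ ≠ 0 := by
      by_contra h
      exact hf (LinearMap.ext fun j => by
        by_contra h'
        exact h ⟨j, h'⟩)
    have hj₀ : f ((f j₁)⁻¹ • j₁) = 1 := by
      rw [map_smul, smul_eq_mul, inv_mul_cancel₀ hj₁]
    apply Submodule.subset_span
    refine ⟨_, _, qf p hp f, isSmallExt_qf p hp f _ hj₀, u, φf p hp f _ hj₀, ?_⟩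
    rw [T.obs_quot p hp (kerIdeal p hp f) (kerIdeal_le_max p hp f) (kerIdeal_le p hp f)
      (isSmallExt_qf p hp f _ hj₀).isSemismallExt u, ← LinearMap.comp_apply,
      ← LinearMap.lTensor_comp]
    congr 3
    apply LinearMap.ext
    intro j
    exact (φf_κ p hp f _ hj₀ j).symm

end Groth.Agent.H61.ObsTiny
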