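/-
The class in `T²(P, B)` of a module map on the relation module killing the Koszul relations
(helper61): `B`-linear in the map, and zero exactly for coordinate maps.
-/
import Mathlib
import Groth.Prelude.Def_CotT

set_option autoImplicit false

namespace Groth.Agent.H61.T2Cls

open CotT TensorProduct

universe u v w t

variable {A : Type u} {B : Type v} {ι : Type w} {σ : Type t}
variable [CommRing A] [CommRing B] [Algebra A B]
variable (P : Algebra.Presentation A B ι σ)

/-- the `R`-linear maps `Q → B` on the relation module killing the trivial relations -/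
def Z : Submodule B (relKer P →ₗ[P.toExtension.Ring] B) where
  carrier := {ob | ∀ q : relKer P, (q : relMod P) ∈ trivRel P → ob q = 0}
  add_mem' := fun {a b} ha hb q hq => by
    rw [LinearMap.add_apply, ha q hq, hb q hq, add_zero]
  zero_mem' := fun q _ => rfl
  smul_mem' := fun c a ha q hq => by
    rw [LinearMap.smul_apply, ha q hq, smul_zero]

lemma mem_Z (ob : relKer P →ₗ[P.toExtension.Ring] B) :
    ob ∈ Z P ↔ ∀ q : relKer P, (q : relMod P) ∈ trivRel P → ob q = 0 := Iff.rfl

lemma range_le_ker (ob : Z P) :
    LinearMap.range ((trivRelKer P).subtype.baseChange B) ≤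
      LinearMap.ker (LinearMap.liftBaseChange B ob.1) := by
  rw [LinearMap.range_le_ker_iff]
  refine TensorProduct.AlgebraTensorModule.ext fun b q => ?_
  simp only [LinearMap.coe_comp, Function.comp_apply, LinearMap.baseChange_tmul,
    Submodule.coe_subtype, LinearMap.zero_apply, LinearMap.liftBaseChange_tmul]
  rw [ob.2 (q : relKer P) q.2, smul_zero]

/-- the induced map on `L₂` -/
noncomputable def toL2 : Z P →ₗ[B] (L2 P →ₗ[B] B) where
  toFun ob := Submodule.liftQ _ (LinearMap.liftBaseChange B ob.1) (range_le_ker P ob)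
  map_add' ob₁ ob₂ := by
    refine Submodule.linearMap_qext _ ?_
    refine TensorProduct.AlgebraTensorModule.ext fun b q => ?_
    simp [LinearMap.liftBaseChange_tmul]
  map_smul' c ob := by
    refine Submodule.linearMap_qext _ ?_
    refine TensorProduct.AlgebraTensorModule.ext fun b q => ?_
    simp only [LinearMap.coe_comp, Function.comp_apply, Submodule.mkQ_apply,
      Submodule.liftQ_apply, LinearMap.liftBaseChange_tmul, RingHom.id_apply,
      LinearMap.smul_apply, Submodule.coe_smul, smul_eq_mul]
    ring

@[simp] lemma toL2_mk (ob : Z P) (b : B) (q : relKer P) :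
    toL2 P ob (Submodule.Quotient.mk (b ⊗ₜ q)) = b * ob.1 q := by
  simp [toL2, LinearMap.liftBaseChange_tmul]

/-- **the class in `T²`** -/
noncomputable def cls : Z P →ₗ[B] T2 P B := toT2 P B ∘ₗ toL2 P

lemma sum_coord (φ₁ : L1 P →ₗ[B] B) (x : relMod P) : φ₁ ((1 : B) ⊗ₜ x) =
      x.sum (fun s c => algebraMap P.toExtension.Ring B c *
        φ₁ ((1 : B) ⊗ₜ Finsupp.single s (1 : P.toExtension.Ring))) := by
  classical
  induction x using Finsupp.induction_linear with
  | zero => simp
  | add x y hx hy =>
    rw [TensorProduct.tmul_add, map_add, hx, hy, Finsupp.sum_add_index']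
    · intro s; simp
    · intro s c₁ c₂; rw [map_add, add_mul]
  | single s c =>
    rw [Finsupp.sum_single_index (by simp)]
    have : Finsupp.single s c = c • Finsupp.single s (1 : P.toExtension.Ring) := by
      rw [Finsupp.smul_single, smul_eq_mul, mul_one]
    rw [this, TensorProduct.tmul_smul, ← algebraMap_smul B c, map_smul, smul_eq_mul]

/-- **the class vanishes exactly for coordinate maps** -/
theorem cls_eq_zero_iff (ob : Z P) :
    cls P ob = 0 ↔ ∃ g : σ → B, ∀ q : relKer P,
      ob.1 q = (q : relMod P).sum (fun s c => algebraMap P.toExtension.Ring B c * g s) := by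
  classical
  constructor
  · intro h
    have hmem : toL2 P ob ∈ LinearMap.range (d2Star P B) := by
      have h' : Submodule.Quotient.mk (p := LinearMap.range (d2Star P B)) (toL2 P ob) = 0 := h
      exact (Submodule.Quotient.mk_eq_zero _).mp h'
    obtain ⟨φ₁, hφ₁⟩ := hmem
    refine ⟨fun s => φ₁ ((1 : B) ⊗ₜ Finsupp.single s (1 : P.toExtension.Ring)), fun q => ?_⟩
    have h1 : toL2 P ob (Submodule.Quotient.mk ((1 : B) ⊗ₜ q)) = ob.1 q := by
      rw [toL2_mk, one_mul]
    have h2 : toL2 P ob (Submodule.Quotient.mk ((1 : B) ⊗ₜ q)) =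
        φ₁ ((1 : B) ⊗ₜ (q : relMod P)) := by
      rw [← hφ₁, d2Star_apply, LinearMap.comp_apply, d2_mk_tmul]
    rw [← h1, h2]
    exact sum_coord P φ₁ _
  · rintro ⟨g, hg⟩
    let φ₁ : L1 P →ₗ[B] B := (L1basis P).constr B g
    have hφ₁ : ∀ s, φ₁ ((1 : B) ⊗ₜ Finsupp.single s (1 : P.toExtension.Ring)) = g s := by
      intro s
      rw [← L1basis_apply]
      exact (L1basis P).constr_basis B g s
    have hmem : toL2 P ob ∈ LinearMap.range (d2Star P B) := by
      refine ⟨φ₁, ?_⟩
      rw [d2Star_apply]
      refine Submodule.linearMap_qext _ ?_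
      refine TensorProduct.AlgebraTensorModule.ext fun b q => ?_
      simp only [LinearMap.coe_comp, Function.comp_apply, Submodule.mkQ_apply, d2_mk_tmul,
        toL2_mk]
      have hb : b ⊗ₜ[P.toExtension.Ring] (q : relMod P) = b • ((1 : B) ⊗ₜ (q : relMod P)) := by
        rw [TensorProduct.smul_tmul', smul_eq_mul, mul_one]
      rw [hb, map_smul, smul_eq_mul, sum_coord P φ₁, hg q]
      congr 1
      refine Finsupp.sum_congr fun s _ => ?_
      rw [hφ₁]
    change Submodule.Quotient.mk (p := LinearMap.range (d2Star P B)) (toL2 P ob) = 0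
    exact (Submodule.Quotient.mk_eq_zero _).mpr hmem

end Groth.Agent.H61.T2Cls
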