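import Groth.Agent.H61.DefObsV
import Groth.Agent.H61.T2Cls
import Groth.Agent.H61.DefTangent
import Groth.Agent.H61.ObsTiny

/-!
# The `T²`-valued obstruction of a presented deformation along a semismall extension (helper61)

For a presentation `P` of `B₀` over `k`, a semismall extension `p : C' → C` in `Art k k` with a
basis `b` of its kernel `J`, and a presented flat family `F` over `C` (relations lift), we define
`obsElt ∈ T²(P, B₀) ⊗_k J`; it vanishes iff `F` lifts to a presented flat family over `C'`, it does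
not depend on auxiliary choices, and it is compatible with passing to `C'/K`.
-/

set_option autoImplicit false
set_option linter.unusedSectionVars false

open MvPolynomial AlgebraicGeometry CategoryTheory Limits IsLocalRing ArtFun ArtFun.Art
open TensorProduct CotT
open Groth.Agent.H61.DefObs Groth.Agent.H61.DefPres Groth.Agent.H61.DefDict Groth.Agent.H61.DefIso
open Groth.Agent.H61.DefDict2 Groth.Agent.H61.DefPresBC
open Groth.Agent.H61.DefGlueSch Groth.Agent.H61.DefTorsor Groth.Agent.H61.DefTorsorMain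
open Groth.Agent.H61.DefObsV Groth.Agent.H61.T2Cls Groth.Agent.H61

namespace Groth.Agent.H61.DefObsArt

universe u

variable {k : Type u} [Field k] {B₀ : Type u} [CommRing B₀] [Algebra k B₀]
  {ι σ : Type u} (P : Algebra.Presentation k B₀ ι σ)

section LinAlg

variable {V J₀ : Type*} [AddCommGroup V] [Module k V] [AddCommGroup J₀] [Module k J₀]
  {τ : Type*} [Fintype τ] (b : Module.Basis τ k J₀)

/-- a sum `∑ vᵢ ⊗ bᵢ` along a basis vanishes iff all `vᵢ` vanish -/
theorem sum_tmul_basis_eq_zero_iff (v : τ → V) :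
    ∑ i, v i ⊗ₜ[k] b i = 0 ↔ ∀ i, v i = 0 := by
  classical
  constructor
  · intro h j
    have h1 := congrArg (fun t => TensorProduct.rid k V (LinearMap.lTensor V (b.coord j) t)) h
    simp only [map_sum, LinearMap.lTensor_tmul, TensorProduct.rid_tmul, map_zero,
      Module.Basis.coord_apply, Module.Basis.repr_self, Finsupp.single_apply] at h1
    rw [Finset.sum_eq_single j (fun i _ hij => by rw [if_neg hij, zero_smul])
      (fun h => absurd (Finset.mem_univ j) h), if_pos rfl, one_smul] at h1
    exact h1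
  · intro h
    exact Finset.sum_eq_zero fun i _ => by rw [h i, TensorProduct.zero_tmul]

end LinAlg

section Basis

variable {A' A : Art k k} (p : A' ⟶ A) (hp : IsSemismallExt p)
  {τ : Type*} [Fintype τ] (b : Module.Basis τ k (J p))

/-- the generators of `ker (C'[X] → C[X])` attached to a basis of `J` -/
noncomputable def Tb (i : τ) : MvPolynomial ι A'.carrier := C ((b i : J p) : A'.carrier)

lemma J_eq_span : J p = Ideal.span (Set.range (fun i => ((b i : J p) : A'.carrier))) := by
  apply le_antisymm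
  · intro j hj
    have h1 := b.sum_repr ⟨j, hj⟩
    have h2 : j = ∑ i, b.repr ⟨j, hj⟩ i • ((b i : J p) : A'.carrier) := by
      have := congrArg (Subtype.val) h1
      simp only [AddSubmonoidClass.coe_finsetSum, Submodule.coe_smul_of_tower] at this
      exact this.symm
    rw [h2]
    refine Ideal.sum_mem _ fun i _ => ?_
    rw [Algebra.smul_def]
    exact Ideal.mul_mem_left _ _ (Ideal.subset_span ⟨i, rfl⟩)
  · rw [Ideal.span_le]
    rintro _ ⟨i, rfl⟩
    exact (b i).2

lemma hTb : RingHom.ker (pp (ι := ι) p) = Ideal.span (Set.range (Tb (ι := ι) p b)) := by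
  rw [ker_pp]
  change (J p).map C = _
  conv_lhs => rw [J_eq_span p b]
  rw [Ideal.map_span]
  congr 1
  ext x
  constructor
  · rintro ⟨_, ⟨i, rfl⟩, rfl⟩
    exact ⟨i, rfl⟩
  · rintro ⟨i, rfl⟩
    exact ⟨_, ⟨i, rfl⟩, rfl⟩

include hp in
lemma basis_mul (i : τ) (c : A'.carrier) :
    ((b i : J p) : A'.carrier) * c = A'.res c • ((b i : J p) : A'.carrier) := by
  rw [mul_comm]
  exact Groth.Agent.H61.ObsTiny.mul_eq_smul p hp c _ (b i).2

include hp in
lemma hT0b (H : τ → MvPolynomial ι A'.carrier) :
    ∑ i, Tb p b i * H i = 0 ↔ ∀ i, red (pp p (H i)) = 0 := by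
  classical
  have hcoeff : ∀ m, coeff m (∑ i, Tb p b i * H i) =
      ((∑ i, A'.res (coeff m (H i)) • b i : J p) : A'.carrier) := by
    intro m
    rw [coeff_sum]
    simp only [Tb, coeff_C_mul, AddSubmonoidClass.coe_finsetSum, Submodule.coe_smul_of_tower]
    exact Finset.sum_congr rfl fun i _ => basis_mul p hp b i _
  constructor
  · intro h i
    rw [red_pp]
    ext m
    rw [coeff_map, coeff_zero]
    have h1 : (∑ i, A'.res (coeff m (H i)) • b i : J p) = 0 := by
      apply Subtype.ext
      rw [← hcoeff, h, coeff_zero]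
      rfl
    exact Fintype.linearIndependent_iff.mp b.linearIndependent _ h1 i
  · intro h
    ext m
    rw [hcoeff, coeff_zero]
    have h2 : ∀ i, A'.res (coeff m (H i)) = 0 := by
      intro i
      have := congrArg (coeff m) (h i)
      rw [red_pp, coeff_map, coeff_zero] at this
      exact this
    simp [h2]

end Basis

section PFdef

variable (A : Art k k)

/-- a presented flat family over `A`: lifts of the relations all of whose relations lift -/
structure PF where
  F : σ → MvPolynomial ι A.carrier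
  hF : ∀ s, map A.res.toRingHom (F s) = P.relation s
  hrel : RelLift (map A.res.toRingHom : MvPolynomial ι A.carrier →+* MvPolynomial ι k) F

variable {P A}

/-- the algebraic deformation of a presented family -/
noncomputable abbrev PF.alg (X : PF P A) : AlgDef A.carrier A.res.toRingHom B₀ :=
  presDef (π₀ P) (hπ₀ P) P.relation (hf P) A X.F X.hF X.hrel

/-- the deformation of `Spec B₀` of a presented family -/
noncomputable abbrev PF.sch (X : PF P A) : DefSch (X₀ B₀) (x₀ (k := k) B₀) A := ofAlg A X.alg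

/-- its presentation -/
noncomputable def PF.pres (X : PF P A) : Pres (ι := ι) (σ := σ) (π₀ P) P.relation X.alg where
  φ := Ideal.Quotient.mkₐ _ _
  F := X.F
  hφ := Ideal.Quotient.mk_surjective
  hker := Ideal.mk_ker
  hFred := X.hF
  hcomp := fun _ => rfl

lemma aeval_mk (I : Ideal (MvPolynomial ι A.carrier)) (G : MvPolynomial ι A.carrier) :
    aeval (fun i => Ideal.Quotient.mk I (X i)) G = Ideal.Quotient.mk I G := by
  have h : (aeval (fun i => Ideal.Quotient.mk I (X i)) :
      MvPolynomial ι A.carrier →ₐ[A.carrier] MvPolynomial ι A.carrier ⧸ I) =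
      Ideal.Quotient.mkₐ A.carrier I := by
    apply MvPolynomial.algHom_ext
    intro i
    rw [aeval_X]
    rfl
  exact congrArg (fun φ => φ G) h

/-- flatness in terms of relations -/
lemma PF.hflat (X : PF P A) : ∀ D : σ →₀ MvPolynomial ι A.carrier,
    (∀ s, map A.res.toRingHom (D s) = 0) → lc X.F D = 0 →
      D ∈ (RingHom.ker (map A.res.toRingHom : MvPolynomial ι A.carrier →+* MvPolynomial ι k)) •
        LinearMap.ker (lc X.F) := by
  have h := pres_of_gens A.res.toRingHom A.res_surjective (isNilpotent_maximalIdeal A)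
    X.alg.π X.alg.π_alg X.alg.ker_π (π₀ P) (hπ₀ P) P.relation (hf P)
    (fun i => Ideal.Quotient.mk (Ideal.span (Set.range X.F)) (MvPolynomial.X i))
    (fun i => by
      change π₀ P (map A.res.toRingHom (MvPolynomial.X i)) = _
      rw [map_X]) X.F
    (fun s => by
      have := aeval_mk (Ideal.span (Set.range X.F)) (X.F s)
      refine this.trans ?_
      exact (Ideal.Quotient.eq_zero_iff_mem).mpr (Ideal.subset_span ⟨s, rfl⟩)) X.hF
  exact h.2.2

end PFdef

section Ob

variable {P}
variable {A' A : Art k k} (p : A' ⟶ A) (hp : IsSemismallExt p)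
  {τ : Type*} [Fintype τ] (b : Module.Basis τ k (J p)) (X : PF P A)

/-- reduction with values in the ring of the presentation -/
noncomputable abbrev redR (P : Algebra.Presentation k B₀ ι σ) (A : Art k k) :
    MvPolynomial ι A.carrier →+* P.toExtension.Ring :=
  (map A.res.toRingHom : MvPolynomial ι A.carrier →+* MvPolynomial ι k)

lemma redR_surj : Function.Surjective (redR P A) := map_surjective _ A.res_surjective

include hp in
lemma pp_surj : Function.Surjective (pp (ι := ι) p) := map_surjective _ hp.1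

lemma fam_eq : (fun s => redR P A (X.F s)) = rel P := funext X.hF

lemma hkerR : RingHom.ker (algebraMap P.toExtension.Ring B₀) =
    Ideal.span (Set.range (fun s => redR P A (X.F s))) := by
  rw [fam_eq X]
  exact P.span_range_relation_eq_ker.symm

lemma hflatR : ∀ D : σ →₀ MvPolynomial ι A.carrier, (∀ s, redR P A (D s) = 0) → lc X.F D = 0 →
    D ∈ (RingHom.ker (redR P A)) • LinearMap.ker (lc X.F) := X.hflat

lemma hliftR : RelLift (redR P A) X.F := X.hrel

include hp in
lemma hT0R (H : τ → MvPolynomial ι A'.carrier) :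
    ∑ i, Tb p b i * H i = 0 ↔ ∀ i, redR P A (pp p (H i)) = 0 := hT0b p hp b H

lemma mem_Rel (q : relKer P) : (q : relMod P) ∈ Rel (redR P A) X.F := by
  have h : jmap P (q : relMod P) = 0 := q.2
  change lc (fun s => redR P A (X.F s)) (q : relMod P) = 0
  rw [fam_eq X]
  exact h

variable (F' : σ → MvPolynomial ι A'.carrier) (hF' : ∀ s, pp p (F' s) = X.F s)

/-- the abstract obstruction map of the lifts `F'` -/
noncomputable abbrev obA : Rel (redR P A) X.F →ₗ[P.toExtension.Ring] (τ → B₀) :=
  obMap (B₀ := B₀) (pp p) (redR P A) (pp_surj p hp) redR_surj (Tb p b) (hTb p b) (hT0R p hp b)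
    X.F (hkerR X) (hflatR X) F' hF' (hliftR X)

lemma rel_eq : relKer P = Rel (redR P A) X.F := by
  ext q
  constructor
  · intro hq
    exact mem_Rel X ⟨q, hq⟩
  · intro hq
    have h : lc (fun s => redR P A (X.F s)) q = 0 := hq
    rw [fam_eq X] at h
    exact h

/-- the obstruction map on the relation module of the presentation -/
noncomputable def obM : relKer P →ₗ[P.toExtension.Ring] (τ → B₀) :=
  (obA p hp b X F' hF') ∘ₗ (LinearEquiv.ofEq _ _ (rel_eq X)).toLinearMap

lemma obM_apply (q : relKer P) :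
    obM p hp b X F' hF' q = obA p hp b X F' hF' ⟨q.1, mem_Rel X q⟩ := rfl

lemma obM_triv (q : relKer P) (hq : (q : relMod P) ∈ trivRel P) : obM p hp b X F' hF' q = 0 := by
  have hle : trivRel P ≤ (LinearMap.ker (obM p hp b X F' hF')).map (relKer P).subtype := by
    refine Submodule.span_le.mpr ?_
    rintro _ ⟨a, c, rfl⟩
    have h : jmap P a • c - jmap P c • a ∈ relKer P :=
      trivRel_le_relKer P (Submodule.subset_span ⟨a, c, rfl⟩)
    refine ⟨⟨_, h⟩, ?_, rfl⟩
    rw [SetLike.mem_coe, LinearMap.mem_ker, obM_apply]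
    have hj : ∀ y : relMod P, jmap P y = lc (fun s => redR P A (X.F s)) y := by
      intro y
      rw [fam_eq X]
      rfl
    have h' : lc (fun s => redR P A (X.F s)) a • c - lc (fun s => redR P A (X.F s)) c • a ∈
        Rel (redR P A) X.F := by
      rw [← hj, ← hj]
      exact mem_Rel X ⟨_, h⟩
    have h0 := obMap_triv (B₀ := B₀) (pp p) (redR P A) (pp_surj p hp) redR_surj (Tb p b) (hTb p b)
      (hT0R p hp b) X.F (hkerR X) (hflatR X) F' hF' (hliftR X) a c h'
    refine Eq.trans ?_ h0
    congr 1
    apply Subtype.ext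
    change jmap P a • c - jmap P c • a = _
    rw [hj, hj]
  obtain ⟨q', hq', hqq⟩ := hle hq
  have : q' = q := Subtype.ext hqq
  rw [← this]
  exact hq'

/-- the components of the obstruction map, as elements of `Z P` -/
noncomputable def obC (i : τ) : Z P :=
  ⟨(LinearMap.proj i) ∘ₗ obM p hp b X F' hF', fun q hq => by
    rw [LinearMap.comp_apply, obM_triv p hp b X F' hF' q hq]
    rfl⟩

lemma obC_apply (i : τ) (q : relKer P) : (obC p hp b X F' hF' i).1 q = obM p hp b X F' hF' q i := rfl

/-- **the obstruction element** of the lifts `F'` -/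
noncomputable def obsOf : T2 P B₀ ⊗[k] (J p) :=
  ∑ i, cls P (obC p hp b X F' hF' i) ⊗ₜ[k] b i

lemma relLift_congr {P₁ Q₁ : Type*} [CommRing P₁] [CommRing Q₁] {e e' : P₁ →+* Q₁}
    (h : ∀ x, e x = e' x) {G : σ → P₁} (hG : RelLift e G) : RelLift e' G := by
  have : e = e' := RingHom.ext h
  subst this
  exact hG

lemma isCoord_iff (i : τ) :
    IsCoord (B₀ := B₀) (redR P A) X.F (fun r => obA p hp b X F' hF' r i) ↔
      cls P (obC p hp b X F' hF' i) = 0 := by
  rw [cls_eq_zero_iff]
  constructor
  · rintro ⟨g, hg⟩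
    refine ⟨g, fun q => ?_⟩
    rw [obC_apply, obM_apply]
    exact hg ⟨q.1, mem_Rel X q⟩
  · rintro ⟨g, hg⟩
    refine ⟨g, fun r => ?_⟩
    have hr : (r : relMod P) ∈ relKer P := by rw [rel_eq X]; exact r.2
    have := hg ⟨r.1, hr⟩
    rw [obC_apply, obM_apply] at this
    exact this

include hp in
/-- **the obstruction element vanishes iff the family lifts** -/
theorem obsOf_eq_zero_iff :
    obsOf p hp b X F' hF' = 0 ↔ ∃ F'' : σ → MvPolynomial ι A'.carrier,
      (∀ s, pp p (F'' s) = X.F s) ∧ RelLift (red' (A' := A') (ι := ι)) F'' := by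
  rw [obsOf, sum_tmul_basis_eq_zero_iff]
  constructor
  · intro h
    have hco : ∀ i, IsCoord (B₀ := B₀) (redR P A) X.F (fun r => obA p hp b X F' hF' r i) :=
      fun i => (isCoord_iff p hp b X F' hF' i).mpr (h i)
    obtain ⟨F'', hF'', hrel''⟩ := exists_lift_of_isCoord (B₀ := B₀) (pp p) (redR P A)
      (pp_surj p hp) redR_surj (Tb p b) (hTb p b) (hT0R p hp b) X.F (hkerR X) (hflatR X) F' hF'
      (hliftR X) P.algebraMap_surjective hco
    exact ⟨F'', hF'', relLift_congr (fun x => red_pp p x) hrel''⟩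
  · rintro ⟨F'', hF'', hrel''⟩ i
    rw [← isCoord_iff]
    refine isCoord_of_lift (B₀ := B₀) (pp p) (redR P A) (pp_surj p hp) redR_surj (Tb p b) (hTb p b)
      (hT0R p hp b) X.F (hkerR X) (hflatR X) F' hF' (hliftR X) F'' hF'' ?_ i
    exact relLift_congr (fun x => (red_pp p x).symm) hrel''

/-- **the obstruction element does not depend on the chosen lifts** -/
theorem obsOf_indep (F'₂ : σ → MvPolynomial ι A'.carrier) (hF'₂ : ∀ s, pp p (F'₂ s) = X.F s) :
    obsOf p hp b X F' hF' = obsOf p hp b X F'₂ hF'₂ := by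
  obtain ⟨g, hg⟩ := obMap_change (B₀ := B₀) (pp p) (redR P A) (pp_surj p hp) redR_surj (Tb p b)
    (hTb p b) (hT0R p hp b) X.F (hkerR X) (hflatR X) (hliftR X) F' F'₂ hF' hF'₂
  rw [obsOf, obsOf]
  refine Finset.sum_congr rfl fun i _ => ?_
  congr 1
  have h0 : cls P (obC p hp b X F' hF' i - obC p hp b X F'₂ hF'₂ i) = 0 := by
    rw [cls_eq_zero_iff]
    refine ⟨g i, fun q => ?_⟩
    change (obC p hp b X F' hF' i).1 q - (obC p hp b X F'₂ hF'₂ i).1 q = _
    rw [obC_apply, obC_apply, obM_apply, obM_apply]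
    have := hg ⟨q.1, mem_Rel X q⟩ i
    rw [this, add_sub_cancel_left]
  have h1 := (T2Cls.cls P).map_sub (obC p hp b X F' hF' i) (obC p hp b X F'₂ hF'₂ i)
  rw [h1, sub_eq_zero] at h0
  exact h0

end Ob

section Quot

variable {P}
variable {A' A : Art k k} (p : A' ⟶ A) (hp : IsSemismallExt p)
  {τ : Type*} [Fintype τ] (b : Module.Basis τ k (J p)) (X : PF P A)
  (K : Ideal A'.carrier) (hK : K ≤ IsLocalRing.maximalIdeal A'.carrier)
  (hKJ : K ≤ RingHom.ker p.toAlgHom)
  (hq : IsSemismallExt (quotFactor hK p hKJ))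
  {τ' : Type*} [Fintype τ'] (b' : Module.Basis τ' k (J (quotFactor hK p hKJ)))
  (F' : σ → MvPolynomial ι A'.carrier) (hF' : ∀ s, pp p (F' s) = X.F s)

lemma pp_quot (x : MvPolynomial ι A'.carrier) :
    pp (quotFactor hK p hKJ) (pp (quotMk A' K hK) x) = pp p x := by
  rw [pp, pp, MvPolynomial.map_map]
  rfl

/-- the images of the lifts in `(A'/K)[X]` -/
noncomputable abbrev Fq : σ → MvPolynomial ι (quot A' K hK).carrier :=
  fun s => pp (quotMk A' K hK) (F' s)

include hF' in
lemma hFq (s : σ) : pp (quotFactor hK p hKJ) (Fq K hK F' s) = X.F s := by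
  rw [Fq, pp_quot, hF']

/-- the matrix of `J → J/K` in the bases -/
noncomputable abbrev mat (l : τ') (i : τ) : k := b'.repr (kerToQuot hK p hKJ (b i)) l

lemma hqT (i : τ) : pp (quotMk A' K hK) (Tb (ι := ι) p b i) =
    ∑ l, C (algebraMap k (quot A' K hK).carrier (mat p b K hK hKJ b' l i)) *
      Tb (quotFactor hK p hKJ) b' l := by
  have h1 : pp (quotMk A' K hK) (Tb (ι := ι) p b i) =
      C (((kerToQuot hK p hKJ (b i) : J (quotFactor hK p hKJ)) : (quot A' K hK).carrier)) := by
    rw [Tb, pp, map_C]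
    rfl
  rw [h1]
  have h2 := b'.sum_repr (kerToQuot hK p hKJ (b i))
  have h3 : ((kerToQuot hK p hKJ (b i) : J (quotFactor hK p hKJ)) : (quot A' K hK).carrier) =
      ∑ l, algebraMap k (quot A' K hK).carrier (mat p b K hK hKJ b' l i) *
        ((b' l : J (quotFactor hK p hKJ)) : (quot A' K hK).carrier) := by
    have := congrArg Subtype.val h2
    simp only [AddSubmonoidClass.coe_finsetSum, Submodule.coe_smul_of_tower] at this
    rw [← this]
    exact Finset.sum_congr rfl fun l _ => Algebra.smul_def _ _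
  rw [h3, map_sum]
  exact Finset.sum_congr rfl fun l _ => by rw [map_mul]; rfl

lemma coeff_eq (c : k) : algebraMap P.toExtension.Ring B₀
    (redR P A (pp (quotFactor hK p hKJ) (C (algebraMap k (quot A' K hK).carrier c)))) =
      algebraMap k B₀ c := by
  have h1 : pp (ι := ι) (quotFactor hK p hKJ) (C (algebraMap k (quot A' K hK).carrier c)) =
      C (algebraMap k A.carrier c) := by
    rw [pp, map_C]
    congr 1
    exact (quotFactor hK p hKJ).toAlgHom.commutes c
  rw [h1]
  have h2 : redR P A (C (algebraMap k A.carrier c)) = (C c : MvPolynomial ι k) := by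
    change map A.res.toRingHom (C (algebraMap k A.carrier c)) = _
    rw [map_C]
    congr 1
    exact A.res.commutes c
  rw [h2, halg]
  exact aeval_C _ c

include hp in
lemma obM_quot (q : relKer P) (l : τ') :
    obM (quotFactor hK p hKJ) hq b' X (Fq K hK F') (hFq p X K hK hKJ F' hF') q l =
      ∑ i, algebraMap k B₀ (mat p b K hK hKJ b' l i) * obM p hp b X F' hF' q i := by
  have hsp := obMap_spec (B₀ := B₀) (pp p) (redR P A) (pp_surj p hp) redR_surj (Tb p b) (hTb p b)
    (hT0R p hp b) X.F (hkerR X) (hflatR X) F' hF' (hliftR X) ⟨q.1, mem_Rel X q⟩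
  have h1 := isObV_quot (B₀ := B₀) (pp p) (pp (quotMk A' K hK)) (pp (quotFactor hK p hKJ))
    (pp_quot p K hK hKJ) (redR P A) (Tb p b) (Tb (quotFactor hK p hKJ) b')
    (fun l i => C (algebraMap k (quot A' K hK).carrier (mat p b K hK hKJ b' l i)))
    (hqT p b K hK hKJ b') F' hsp
  have h2 := obMap_eq (B₀ := B₀) (pp (quotFactor hK p hKJ)) (redR P A)
    (pp_surj (quotFactor hK p hKJ) hq) redR_surj (Tb (quotFactor hK p hKJ) b')
    (hTb (quotFactor hK p hKJ) b') (hT0R (quotFactor hK p hKJ) hq b') X.F (hkerR X) (hflatR X)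
    (Fq K hK F') (hFq p X K hK hKJ F' hF') (hliftR X) ⟨q.1, mem_Rel X q⟩ h1
  rw [obM_apply]
  have h3 := congrFun h2 l
  refine h3.trans ?_
  refine Finset.sum_congr rfl fun i _ => ?_
  rw [coeff_eq]
  rfl

include hp in
lemma cls_quot (l : τ') :
    T2Cls.cls P (obC (quotFactor hK p hKJ) hq b' X (Fq K hK F') (hFq p X K hK hKJ F' hF') l) =
      ∑ i, mat p b K hK hKJ b' l i • T2Cls.cls P (obC p hp b X F' hF' i) := by
  have h1 : obC (quotFactor hK p hKJ) hq b' X (Fq K hK F') (hFq p X K hK hKJ F' hF') l =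
      ∑ i, algebraMap k B₀ (mat p b K hK hKJ b' l i) • obC p hp b X F' hF' i := by
    apply Subtype.ext
    apply LinearMap.ext
    intro q
    rw [obC_apply, obM_quot p hp b X K hK hKJ hq b' F' hF' q l]
    simp only [Submodule.coe_sum, Submodule.coe_smul, LinearMap.sum_apply, LinearMap.smul_apply,
      smul_eq_mul]
    rfl
  rw [h1, map_sum]
  refine Finset.sum_congr rfl fun i _ => ?_
  rw [map_smul, algebraMap_smul]

include hp in
/-- **compatibility of the obstruction element with passing to `A'/K`** -/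
theorem obsOf_quot :
    obsOf (quotFactor hK p hKJ) hq b' X (Fq K hK F') (hFq p X K hK hKJ F' hF') =
      LinearMap.lTensor (T2 P B₀) ((kerToQuot hK p hKJ).restrictScalars k)
        (obsOf p hp b X F' hF') := by
  rw [obsOf, obsOf, map_sum]
  simp only [LinearMap.lTensor_tmul, LinearMap.coe_restrictScalars]
  have h1 : ∀ i, kerToQuot hK p hKJ (b i) = ∑ l, mat p b K hK hKJ b' l i • b' l :=
    fun i => (b'.sum_repr _).symm
  simp only [cls_quot p hp b X K hK hKJ hq b' F' hF', TensorProduct.sum_tmul]
  rw [Finset.sum_comm]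
  refine Finset.sum_congr rfl fun i _ => ?_
  conv_rhs => rw [h1 i, TensorProduct.tmul_sum]
  refine Finset.sum_congr rfl fun l _ => ?_
  rw [TensorProduct.smul_tmul]

end Quot

end Groth.Agent.H61.DefObsArt
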