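import Groth.Agent.H61.ExalCot

/-!
# `T¹` of a presentation in coordinates (helper61)

A class in `T¹(P, M)` is a family `g : σ → M` killing the relations among the relations, modulo the
families `s ↦ ψ (1 ⊗ d(f_s))`.
-/

set_option autoImplicit false

namespace Groth.Agent.H61.T1Coord

open CotT TensorProduct

universe u v w t m

variable {A : Type u} {B : Type v} {ι : Type w} {σ : Type t}
variable [CommRing A] [CommRing B] [Algebra A B]
variable (P : Algebra.Presentation A B ι σ) {M : Type m} [AddCommGroup M] [Module B M]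

/-- the cocycle condition in coordinates -/
def IsCoc (g : σ → M) : Prop :=
  ∀ q : relKer P, (q : relMod P).sum (fun s c => algebraMap P.toExtension.Ring B c • g s) = 0

/-- the linear map `L₁ → M` with given coordinates -/
noncomputable def ofCoord (g : σ → M) : L1 P →ₗ[B] M := (L1basis P).constr B g

lemma ofCoord_basis (g : σ → M) (s : σ) :
    ofCoord P g ((1 : B) ⊗ₜ Finsupp.single s (1 : P.toExtension.Ring)) = g s := by
  rw [← L1basis_apply, ofCoord, Module.Basis.constr_basis]

lemma apply_one_tmul (φ : L1 P →ₗ[B] M) (x : relMod P) :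
    φ ((1 : B) ⊗ₜ x) = x.sum (fun s c => algebraMap P.toExtension.Ring B c •
      φ ((1 : B) ⊗ₜ Finsupp.single s (1 : P.toExtension.Ring))) := by
  induction x using Finsupp.induction_linear with
  | zero => simp
  | add x y hx hy =>
    rw [TensorProduct.tmul_add, map_add, hx, hy, Finsupp.sum_add_index']
    · intro s; simp
    · intro s c₁ c₂; rw [map_add, add_smul]
  | single s c =>
    rw [Finsupp.sum_single_index (by simp)]
    have : Finsupp.single s c = c • Finsupp.single s (1 : P.toExtension.Ring) := by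
      rw [Finsupp.smul_single, smul_eq_mul, mul_one]
    rw [this, TensorProduct.tmul_smul, ← algebraMap_smul B c, map_smul]

lemma ofCoord_one_tmul (g : σ → M) (x : relMod P) :
    ofCoord P g ((1 : B) ⊗ₜ x) =
      x.sum (fun s c => algebraMap P.toExtension.Ring B c • g s) := by
  rw [apply_one_tmul]
  refine Finsupp.sum_congr fun s _ => ?_
  rw [ofCoord_basis]

lemma mem_cocycles_iff (φ : L1 P →ₗ[B] M) :
    φ ∈ cocycles1 P M ↔ ∀ q : relKer P, φ ((1 : B) ⊗ₜ (q : relMod P)) = 0 := by
  rw [LinearMap.mem_ker, d2Star_apply]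
  constructor
  · intro h q
    have h1 := LinearMap.congr_fun h (Submodule.Quotient.mk ((1 : B) ⊗ₜ[P.toExtension.Ring] q))
    have h2 : (φ ∘ₗ d2 P) (Submodule.Quotient.mk ((1 : B) ⊗ₜ[P.toExtension.Ring] q)) =
        φ ((1 : B) ⊗ₜ (q : relMod P)) := by
      rw [LinearMap.comp_apply, d2_mk_tmul]
    rw [← h2, h1]
    rfl
  · intro h
    refine LinearMap.ext fun y => ?_
    obtain ⟨z, rfl⟩ := Submodule.Quotient.mk_surjective _ y
    rw [LinearMap.zero_apply]
    induction z using TensorProduct.induction_on with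
    | zero => rw [Submodule.Quotient.mk_zero, map_zero]
    | tmul b q =>
      rw [LinearMap.comp_apply, d2_mk_tmul]
      have : b ⊗ₜ[P.toExtension.Ring] (q : relMod P) = b • ((1 : B) ⊗ₜ (q : relMod P)) := by
        rw [TensorProduct.smul_tmul', smul_eq_mul, mul_one]
      rw [this, map_smul, h q, smul_zero]
    | add x y hx hy => rw [Submodule.Quotient.mk_add, map_add, hx, hy, add_zero]

lemma ofCoord_mem (g : σ → M) (hg : IsCoc P g) : ofCoord P g ∈ cocycles1 P M := by
  rw [mem_cocycles_iff]
  intro q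
  rw [ofCoord_one_tmul]
  exact hg q

/-- the class of a coordinate cocycle -/
noncomputable def mkT1 (g : σ → M) (hg : IsCoc P g) : T1 P M :=
  Submodule.Quotient.mk ⟨ofCoord P g, ofCoord_mem P g hg⟩

lemma exists_coord (x : T1 P M) : ∃ (g : σ → M) (hg : IsCoc P g), mkT1 P g hg = x := by
  obtain ⟨c, rfl⟩ := Submodule.Quotient.mk_surjective _ x
  let g : σ → M := fun s => c.1 ((1 : B) ⊗ₜ Finsupp.single s (1 : P.toExtension.Ring))
  have hc : ofCoord P g = c.1 := by
    apply (L1basis P).ext
    intro s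
    rw [L1basis_apply, ofCoord_basis]
  have hg : IsCoc P g := by
    intro q
    have h1 := (mem_cocycles_iff P c.1).mp c.2 q
    rw [apply_one_tmul] at h1
    exact h1
  refine ⟨g, hg, ?_⟩
  rw [mkT1]
  congr 1
  exact Subtype.ext hc

lemma mkT1_eq_iff (g g' : σ → M) (hg : IsCoc P g) (hg' : IsCoc P g') :
    mkT1 P g hg = mkT1 P g' hg' ↔ ∃ ψ : L0 P →ₗ[B] M, ∀ s, g s - g' s =
      ψ ((1 : B) ⊗ₜ KaehlerDifferential.D A P.toExtension.Ring (P.relation s)) := by
  rw [mkT1, mkT1, Submodule.Quotient.eq]
  constructor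
  · rintro ⟨ψ, hψ⟩
    refine ⟨ψ, fun s => ?_⟩
    have hψ' : d1Star P M ψ = ofCoord P g - ofCoord P g' := hψ
    have h1 := LinearMap.congr_fun hψ' ((1 : B) ⊗ₜ Finsupp.single s (1 : P.toExtension.Ring))
    rw [LinearMap.sub_apply, ofCoord_basis, ofCoord_basis] at h1
    rw [← h1]
    simp only [d1Star_apply, LinearMap.coe_comp, Function.comp_apply, d1_tmul, jmap_single,
      one_mul, one_smul]
  · rintro ⟨ψ, hψ⟩
    refine ⟨ψ, ?_⟩
    change d1Star P M ψ = ofCoord P g - ofCoord P g'
    apply (L1basis P).ext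
    intro s
    rw [L1basis_apply, LinearMap.sub_apply, ofCoord_basis, ofCoord_basis, hψ s]
    simp only [d1Star_apply, LinearMap.coe_comp, Function.comp_apply, d1_tmul, jmap_single,
      one_mul, one_smul]

end Groth.Agent.H61.T1Coord
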