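import Groth.Agent.H61.DefTorsor
import Groth.Agent.H61.T1Coord

/-!
# Liftings of an affine deformation along a semismall extension are a pseudo-torsor under `T¹`
(helper61)

`exists_classMap` : for a presentation `P` of `B₀` over `k`, a semismall extension `p : A' → A`
with kernel `J` and a deformation `D` of `B₀` over `A` having at least one lifting, there is a
surjective map from liftings of `D` to `T¹(P, B₀ ⊗_k J)` whose fibres are the isomorphism classes.
-/

set_option autoImplicit false
set_option linter.unusedSectionVars false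

open MvPolynomial IsLocalRing ArtFun ArtFun.Art TensorProduct CotT
open Groth.Agent.H61.DefObs Groth.Agent.H61.DefPres Groth.Agent.H61.DefFlat
open Groth.Agent.H61.DefRho Groth.Agent.H61.DefDict Groth.Agent.H61.DefIso
open Groth.Agent.H61.DefTorsor Groth.Agent.H61.T1Coord

namespace Groth.Agent.H61.DefTorsorMain

universe u

variable {k : Type u} [Field k] {B₀ : Type u} [CommRing B₀] [Algebra k B₀]
  {A' A : Art k k} (p : A' ⟶ A) (hp : IsSemismallExt p)
  {ι σ : Type u} (P : Algebra.Presentation k B₀ ι σ)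

/-- the presentation map -/
noncomputable abbrev π₀ : MvPolynomial ι k →ₐ[k] B₀ := MvPolynomial.aeval P.val

lemma hπ₀ : Function.Surjective (π₀ P) := P.aeval_val_surjective

lemma hf : RingHom.ker (π₀ P).toRingHom = Ideal.span (Set.range P.relation) := by
  rw [P.span_range_relation_eq_ker, P.ker_eq_ker_aeval_val]
  rfl

lemma halg (c : P.toExtension.Ring) : algebraMap P.toExtension.Ring B₀ c = π₀ P c :=
  Algebra.Generators.algebraMap_apply P.toGenerators c

/-- view a polynomial as an element of `P.toExtension.Ring` -/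
abbrev toR (a : MvPolynomial ι k) : P.toExtension.Ring := a

/-- view an element of `P.toExtension.Ring` as a polynomial -/
abbrev ofR (a : P.toExtension.Ring) : MvPolynomial ι k := a

lemma toR_add (a b : MvPolynomial ι k) : toR P (a + b) = toR P a + toR P b := rfl

lemma toR_mul (a b : MvPolynomial ι k) : toR P (a * b) = toR P a * toR P b := rfl

lemma toR_C (c : k) : toR P (C c) = algebraMap k P.toExtension.Ring c := rfl

lemma ofR_add (a b : P.toExtension.Ring) : ofR P (a + b) = ofR P a + ofR P b := rfl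

lemma ofR_mul (a b : P.toExtension.Ring) : ofR P (a * b) = ofR P a * ofR P b := rfl

lemma ofR_smul (c : k) (a : P.toExtension.Ring) : ofR P (c • a) = c • ofR P a := rfl

lemma ofR_one : ofR P 1 = 1 := rfl

section Inst

variable (M : Type u) [AddCommGroup M] [Module B₀ M] [Module k M] [IsScalarTower k B₀ M]

/-- the module structure over the polynomial ring -/
@[reducible] noncomputable def modR : Module P.toExtension.Ring M :=
  Module.compHom M (algebraMap P.toExtension.Ring B₀)

attribute [local instance] modR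

lemma towerRB : IsScalarTower P.toExtension.Ring B₀ M :=
  IsScalarTower.of_compHom P.toExtension.Ring B₀ M

lemma towerkR : IsScalarTower k P.toExtension.Ring M := ⟨fun a r x => by
  change algebraMap P.toExtension.Ring B₀ (a • r) • x = a • (algebraMap P.toExtension.Ring B₀ r • x)
  rw [Algebra.smul_def, map_mul, ← IsScalarTower.algebraMap_apply, mul_smul, algebraMap_smul]⟩

end Inst

variable {P} {D : AlgDef A.carrier A.res.toRingHom B₀}
  (Pr : Pres (ι := ι) (σ := σ) (π₀ P) P.relation D) (L₀ : PL p Pr)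

include hp in
lemma coc (L : PL p Pr) :
    IsCoc P (fun s => ρ p (π₀ P) (L.F' s - L₀.F' s)) := by
  intro q
  let q' : σ →₀ MvPolynomial ι k := q.1
  have hq : lc P.relation q' = 0 := q.2
  have h := isCoc_diff hp (hπ₀ P) (hf P) L₀ L q' hq
  rw [← h]
  refine Finsupp.sum_congr fun s _ => ?_
  rw [halg]

/-- the class of a presented lifting -/
noncomputable def cls (L : PL p Pr) : T1 P (B₀ ⊗[k] (J p)) :=
  mkT1 P (fun s => ρ p (π₀ P) (L.F' s - L₀.F' s)) (coc p hp Pr L₀ L)

attribute [local instance] modR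

/-- a derivation from a derivation-like map -/
noncomputable def derOfIsDer (d : MvPolynomial ι k → B₀ ⊗[k] (J p)) (hd : IsDer p (π₀ P) d) :
    letI := towerRB P (B₀ ⊗[k] (J p))
    letI := towerkR P (B₀ ⊗[k] (J p))
    Derivation k P.toExtension.Ring (B₀ ⊗[k] (J p)) :=
  letI := towerRB P (B₀ ⊗[k] (J p))
  letI := towerkR P (B₀ ⊗[k] (J p))
  { toFun := fun a => d (ofR P a)
    map_add' := fun a b => by rw [ofR_add, hd.add]
    map_smul' := fun c a => by
      rw [RingHom.id_apply, ofR_smul]
      have h1 : c • ofR P a = (C c : MvPolynomial ι k) * ofR P a :=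
        MvPolynomial.smul_eq_C_mul (ofR P a) c
      have h2 := hd.mul (C c) (ofR P a)
      rw [hd.const, smul_zero, add_zero] at h2
      rw [h1, h2]
      have h4 : π₀ P (C c) = algebraMap k B₀ c := by
        rw [← MvPolynomial.algebraMap_eq, AlgHom.commutes]
      rw [h4, algebraMap_smul]
    map_one_eq_zero' := by
      have : (1 : MvPolynomial ι k) = C 1 := (map_one _).symm
      change d (ofR P 1) = 0
      rw [ofR_one, this, hd.const]
    leibniz' := fun a b => by
      change d (ofR P (a * b)) = algebraMap P.toExtension.Ring B₀ a • d (ofR P b) +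
        algebraMap P.toExtension.Ring B₀ b • d (ofR P a)
      rw [halg, halg, ofR_mul]
      exact hd.mul (ofR P a) (ofR P b) }

lemma derOfIsDer_apply (d : MvPolynomial ι k → B₀ ⊗[k] (J p)) (hd : IsDer p (π₀ P) d)
    (a : P.toExtension.Ring) :
    letI := towerRB P (B₀ ⊗[k] (J p))
    letI := towerkR P (B₀ ⊗[k] (J p))
    derOfIsDer p d hd a = d (ofR P a) := rfl

include hp in
theorem cls_eq_iff (L₁ L₂ : PL p Pr) :
    cls p hp Pr L₀ L₁ = cls p hp Pr L₀ L₂ ↔
      RAlg ⟨plDef (hπ₀ P) (hf P) L₁, plBC hp (hπ₀ P) (hf P) L₁⟩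
        ⟨plDef (hπ₀ P) (hf P) L₂, plBC hp (hπ₀ P) (hf P) L₂⟩ := by
  let _ := towerRB P (B₀ ⊗[k] (J p))
  let _ := towerkR P (B₀ ⊗[k] (J p))
  rw [ralg_iff hp (hπ₀ P) (hf P) L₁ L₂, cls, cls, mkT1_eq_iff]
  have hdiff : ∀ s, ρ p (π₀ P) (L₁.F' s - L₀.F' s) - ρ p (π₀ P) (L₂.F' s - L₀.F' s) =
      - ρ p (π₀ P) (L₂.F' s - L₁.F' s) := by
    intro s
    rw [← map_sub, ← map_neg]
    congr 1
    ring
  constructor
  · rintro ⟨ψ, hψ⟩
    refine ⟨fun a => - Groth.Agent.H61.ExalCot.derOfHom P ψ (toR P a), ⟨?_, ?_, ?_⟩, fun s => ?_⟩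
    · intro a b
      rw [toR_add, map_add, neg_add]
    · intro a b
      have key : ∀ (r : P.toExtension.Ring) (m : B₀ ⊗[k] (J p)), r • m = π₀ P (ofR P r) • m := by
        intro r m
        change algebraMap P.toExtension.Ring B₀ r • m = _
        rw [halg]
      rw [toR_mul, Derivation.leibniz, key, key, neg_add, smul_neg, smul_neg]
    · intro c
      rw [toR_C, Derivation.map_algebraMap, neg_zero]
    · have h1 := hψ s
      rw [hdiff s] at h1
      change _ = - Groth.Agent.H61.ExalCot.derOfHom P ψ (P.relation s)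
      rw [Groth.Agent.H61.ExalCot.derOfHom_apply, ← h1, neg_neg]
  · rintro ⟨d, hd, h⟩
    refine ⟨Groth.Agent.H61.ExalCot.homOfDer P (- derOfIsDer p d hd), fun s => ?_⟩
    rw [hdiff s, h s]
    change _ = LinearMap.liftBaseChange B₀ (- derOfIsDer p d hd).liftKaehlerDifferential _
    rw [LinearMap.liftBaseChange_tmul, one_smul, Derivation.liftKaehlerDifferential_comp_D,
      Derivation.neg_apply, derOfIsDer_apply]

include hp in
theorem cls_surj (x : T1 P (B₀ ⊗[k] (J p))) : ∃ L : PL p Pr, cls p hp Pr L₀ L = x := by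
  obtain ⟨g, hg, rfl⟩ := exists_coord P x
  obtain ⟨L, hL⟩ := exists_pl_of_coc hp (hπ₀ P) (hf P) L₀ g (fun q hq => by
    have := hg ⟨q, hq⟩
    rw [← this]
    refine Finsupp.sum_congr fun s _ => ?_
    rw [halg])
  refine ⟨L, ?_⟩
  rw [cls]
  congr 1
  funext s
  exact hL s

include hp in
/-- **the classifying map of liftings** -/
theorem exists_classMap (D : AlgDef A.carrier A.res.toRingHom B₀)
    (hne : Nonempty (Σ D' : AlgDef A'.carrier A'.res.toRingHom B₀,
      AlgDef.BC D' D p.toAlgHom.toRingHom)) :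
    ∃ Φ : (Σ D' : AlgDef A'.carrier A'.res.toRingHom B₀,
        AlgDef.BC D' D p.toAlgHom.toRingHom) → T1 P (B₀ ⊗[k] (J p)),
      (∀ a b, RAlg a b ↔ Φ a = Φ b) ∧ Function.Surjective Φ := by
  obtain ⟨φ, F, hφ, hker, hFred, hcomp, -, -⟩ :=
    exists_pres A.res.toRingHom A.res_surjective (isNilpotent_maximalIdeal A) D.π D.π_surj D.π_alg
      D.ker_π (π₀ P) (hπ₀ P) P.relation (hf P)
  let Pr : Pres (ι := ι) (σ := σ) (π₀ P) P.relation D := ⟨φ, F, hφ, hker, hFred, hcomp⟩
  obtain ⟨a₀⟩ := hne
  obtain ⟨L₀, -⟩ := exists_pl hp (hπ₀ P) (hf P) (Pr := Pr) a₀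
  choose L hL using fun a => exists_pl hp (hπ₀ P) (hf P) (Pr := Pr) a
  refine ⟨fun a => cls p hp Pr L₀ (L a), fun a b => ?_, fun x => ?_⟩
  · rw [cls_eq_iff]
    constructor
    · intro h
      exact ((hL a).trans h).trans (hL b).symm
    · intro h
      exact ((hL a).symm.trans h).trans (hL b)
  · obtain ⟨L₁, rfl⟩ := cls_surj p hp Pr L₀ x
    refine ⟨⟨plDef (hπ₀ P) (hf P) L₁, plBC hp (hπ₀ P) (hf P) L₁⟩, ?_⟩
    change cls p hp Pr L₀ (L _) = cls p hp Pr L₀ L₁
    rw [cls_eq_iff]
    exact hL _

end Groth.Agent.H61.DefTorsorMain
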