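import Groth.Agent.H61.DefDict3
import Groth.Agent.H61.DefTorsorMain

/-!
# Extensions of a deformation of an affine scheme along a semismall extension (helper61)

`nonempty_equiv` : if an extension exists, the set of classes of extensions is in bijection with
`T¹(P, B₀ ⊗_k J)` for any presentation `P` of `B₀` over `k`.
-/

set_option autoImplicit false
set_option linter.unusedSectionVars false

open AlgebraicGeometry CategoryTheory Limits IsLocalRing ArtFun ArtFun.Art TensorProduct CotT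
open Groth.Agent.H61.DefPres Groth.Agent.H61.DefDict Groth.Agent.H61.DefIso
open Groth.Agent.H61.DefDict2 Groth.Agent.H61.DefDict3 Groth.Agent.H61.DefTorsor
open Groth.Agent.H61.DefTorsorMain

namespace Groth.Agent.H61.DefTorsorSch

universe u

variable {k : Type u} [Field k] {B₀ : Type u} [CommRing B₀] [Algebra k B₀]
  {A' A : Art k k} {ι σ : Type u}

theorem nonempty_equiv (P : Algebra.Presentation k B₀ ι σ) (p : A' ⟶ A) (hp : IsSemismallExt p)
    (𝒳 : DefSch (X₀ B₀) (x₀ B₀) A)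
    (hne : ∃ 𝒳' : DefSch (X₀ B₀) (x₀ B₀) A', Nonempty ((𝒳'.baseChange p).Iso 𝒳)) :
    Nonempty (Quot (RSch p 𝒳) ≃ T1 P (B₀ ⊗[k] (J p))) := by
  obtain ⟨D, ⟨e₀⟩⟩ := exists_algDef A 𝒳
  obtain ⟨𝒳', ⟨φ⟩⟩ := hne
  obtain ⟨a₀, -⟩ := exists_toSch p hp.1 e₀ ⟨𝒳', φ⟩
  obtain ⟨Φ, hΦ, hΦs⟩ := exists_classMap (P := P) p hp D ⟨a₀⟩
  choose al hal using exists_toSch p hp.1 e₀ (𝒳 := 𝒳)
  refine nonempty_quot_equiv _ (fun y => Φ (al y)) (fun y y' => ?_) (fun t => ?_)
  · rw [← hΦ]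
    constructor
    · intro h
      exact ralg_of_rsch p hp.1 e₀ (((hal y).symm.trans h).trans (hal y'))
    · intro h
      exact ((hal y).trans (rsch_of_ralg p hp.1 e₀ h)).trans (hal y').symm
  · obtain ⟨a, rfl⟩ := hΦs t
    refine ⟨toSch p hp.1 e₀ a, ?_⟩
    change Φ (al (toSch p hp.1 e₀ a)) = Φ a
    rw [← hΦ]
    exact ralg_of_rsch p hp.1 e₀ (hal (toSch p hp.1 e₀ a)).symm

end Groth.Agent.H61.DefTorsorSch
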