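import Groth.Agent.H61.DefObsArt
import Groth.Agent.H61.DefTorsorSch

/-!
# `T²` is an obstruction space for the deformation functor of an affine scheme (helper61)

`obsTheory P : ObsTheory (Def_{Spec B₀}) (T²(P, B₀))` for a presentation `P` of `B₀` over `k`.
-/

set_option autoImplicit false
set_option linter.unusedSectionVars false

open MvPolynomial AlgebraicGeometry CategoryTheory Limits IsLocalRing ArtFun ArtFun.Art
open TensorProduct CotT
open Groth.Agent.H61.DefObs Groth.Agent.H61.DefPres Groth.Agent.H61.DefDict Groth.Agent.H61.DefIso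
open Groth.Agent.H61.DefDict2 Groth.Agent.H61.DefDict3 Groth.Agent.H61.DefPresBC
open Groth.Agent.H61.DefGlueSch Groth.Agent.H61.DefTorsor Groth.Agent.H61.DefTorsorMain
open Groth.Agent.H61.DefObsV Groth.Agent.H61.T2Cls Groth.Agent.H61.DefObsArt Groth.Agent.H61

namespace Groth.Agent.H61.DefObsThy

universe u

variable {k : Type u} [Field k] {B₀ : Type u} [CommRing B₀] [Algebra k B₀]
  {ι σ : Type u} (P : Algebra.Presentation k B₀ ι σ)

variable (k B₀) in
/-- the deformation functor of `Spec B₀` -/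
noncomputable abbrev DF : Art k k ⥤ Type (u + 1) :=
  defFunctor (Λ := k) (X₀ B₀) (x₀ (k := k) B₀)

lemma exists_pf (A : Art k k) (u : (DF k B₀).obj A) : ∃ X : PF P A, X.sch.cl = u := by
  induction u using Quotient.inductionOn with
  | h ξ =>
    obtain ⟨F, hF, h, ⟨e⟩⟩ := exists_presDef (π₀ P) (hπ₀ P) P.relation (hf P) A ξ
    refine ⟨⟨F, hF, h⟩, ?_⟩
    have h1 : (DefSch.setoid (X₀ B₀) (x₀ (k := k) B₀) A).r ξ
        (ofAlg A (presDef (π₀ P) (hπ₀ P) P.relation (hf P) A F hF h)) := ⟨e⟩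
    exact (Quotient.sound h1).symm

/-- a chosen presented family in a class -/
noncomputable def pfOf (A : Art k k) (u : (DF k B₀).obj A) : PF P A :=
  Classical.choose (exists_pf P A u)

lemma pfOf_cl (A : Art k k) (u : (DF k B₀).obj A) : (pfOf P A u).sch.cl = u :=
  Classical.choose_spec (exists_pf P A u)

section Lift

variable {P}
variable {A' A : Art k k} (p : A' ⟶ A) (hp : IsSemismallExt p) (X : PF P A)

/-- chosen lifts of the family -/
noncomputable def liftOf : σ → MvPolynomial ι A'.carrier :=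
  fun s => Function.surjInv (pp_surj (ι := ι) p hp) (X.F s)

lemma liftOf_spec (s : σ) : pp p (liftOf p hp X s) = X.F s :=
  Function.surjInv_eq (pp_surj (ι := ι) p hp) (X.F s)

include hp in
/-- **a presented family lifts iff its class lifts** -/
theorem lift_iff : (∃ F'' : σ → MvPolynomial ι A'.carrier,
      (∀ s, pp p (F'' s) = X.F s) ∧ RelLift (red' (A' := A') (ι := ι)) F'') ↔
    ∃ u' : (DF k B₀).obj A', (DF k B₀).map p u' = X.sch.cl := by
  constructor
  · rintro ⟨F'', hF'', hrel''⟩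
    have hred : ∀ s, map A'.res.toRingHom (F'' s) = P.relation s := by
      intro s
      have h1 := red_pp p (F'' s)
      rw [hF''] at h1
      exact h1.symm.trans (X.hF s)
    let X' : PF P A' := ⟨F'', hred, hrel''⟩
    refine ⟨X'.sch.cl, ?_⟩
    rw [defFunctor_map_cl]
    obtain ⟨e⟩ := iso_bc_presDef (π₀ P) (hπ₀ P) P.relation (hf P) p F'' hred hrel'' X.F X.hF X.hrel
      hF''
    have h1 : (DefSch.setoid (X₀ B₀) (x₀ (k := k) B₀) A).r (X'.sch.baseChange p) X.sch := ⟨e⟩
    exact Quotient.sound h1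
  · rintro ⟨u', hu'⟩
    induction u' using Quotient.inductionOn with
    | h ξ' =>
      have h1 : (DefSch.setoid (X₀ B₀) (x₀ (k := k) B₀) A).r (ξ'.baseChange p) X.sch :=
        Quotient.exact hu'
      obtain ⟨φ⟩ := h1
      obtain ⟨a, -⟩ := exists_toSch p hp.1 (DefSch.Iso.refl X.sch) ⟨ξ', φ⟩
      obtain ⟨L, -⟩ := exists_pl hp (hπ₀ P) (hf P) (Pr := X.pres) a
      exact ⟨L.F', L.hpp, L.hrel⟩

end Lift

section Thy

variable {A' A : Art k k} (p : A' ⟶ A) (hp : IsSemismallExt p)

/-- the obstruction of a class -/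
noncomputable def obsFun (u : (DF k B₀).obj A) : T2 P B₀ ⊗[k] (J p) :=
  obsOf p hp (Module.finBasis k (J p)) (pfOf P A u) (liftOf p hp (pfOf P A u))
    (liftOf_spec p hp (pfOf P A u))

theorem obsFun_eq_zero_iff (u : (DF k B₀).obj A) :
    obsFun P p hp u = 0 ↔ ∃ u' : (DF k B₀).obj A', (DF k B₀).map p u' = u := by
  rw [obsFun, obsOf_eq_zero_iff, lift_iff p hp, pfOf_cl]

theorem obsFun_quot (K : Ideal A'.carrier) (hK : K ≤ IsLocalRing.maximalIdeal A'.carrier)
    (hKJ : K ≤ RingHom.ker p.toAlgHom) (hq : IsSemismallExt (quotFactor hK p hKJ))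
    (u : (DF k B₀).obj A) :
    obsFun P (quotFactor hK p hKJ) hq u =
      LinearMap.lTensor (T2 P B₀) ((kerToQuot hK p hKJ).restrictScalars k) (obsFun P p hp u) := by
  rw [obsFun, obsFun]
  rw [obsOf_indep (quotFactor hK p hKJ) hq (Module.finBasis k (J (quotFactor hK p hKJ)))
    (pfOf P A u) (liftOf (quotFactor hK p hKJ) hq (pfOf P A u))
    (liftOf_spec (quotFactor hK p hKJ) hq (pfOf P A u))
    (Fq K hK (liftOf p hp (pfOf P A u)))
    (hFq p (pfOf P A u) K hK hKJ (liftOf p hp (pfOf P A u)) (liftOf_spec p hp (pfOf P A u)))]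
  exact obsOf_quot p hp (Module.finBasis k (J p)) (pfOf P A u) K hK hKJ hq
    (Module.finBasis k (J (quotFactor hK p hKJ))) (liftOf p hp (pfOf P A u))
    (liftOf_spec p hp (pfOf P A u))

end Thy

/-- **`T²(B₀/k, B₀)` is an obstruction space for `Def_{Spec B₀}`** -/
noncomputable def obsTheory : ObsTheory (DF k B₀) (T2 P B₀) where
  obs p hp u := obsFun P p hp u
  obs_eq_zero_iff p hp u := obsFun_eq_zero_iff P p hp u
  obs_quot p hp K hK hKJ hq u := obsFun_quot P p hp K hK hKJ hq u

end Groth.Agent.H61.DefObsThy
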