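/-
The vector-valued obstruction to lifting a flat family of relations along a square-zero thickening
whose kernel is free of finite rank over the residue ring, in abstract form (helper61).

Rings `P' → P → P₀` (think `C'[X] → C[X] → k[X]`), a finite family `T i ∈ P'` generating the kernel
of `P' → P` with `∑ T i * H i = 0 ↔ ∀ i, H i ↦ 0 ∈ P₀`, and a family `F` over `P` all of whose
relations over `P₀` lift (flatness).  For lifts `F'` of `F` to `P'` we get a `P₀`-linear map
`ob : Rel(f) → (τ → B₀)` killing the Koszul relations; `F` lifts to a family over `P'` all of whose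
relations lift iff every component of `ob` is a coordinate map.
-/
import Mathlib
import Groth.Agent.H61.DefObs

set_option autoImplicit false

namespace Groth.Agent.H61.DefObsV

open Finsupp Groth.Agent.H61.DefObs

section Main

variable {P' P P₀ B₀ : Type*} [CommRing P'] [CommRing P] [CommRing P₀] [CommRing B₀]
  [Algebra P₀ B₀] {σ : Type*} {τ : Type*} [Fintype τ]
  (pp : P' →+* P) (red : P →+* P₀) (hpp : Function.Surjective pp) (hred : Function.Surjective red)
  (T : τ → P') (hT : RingHom.ker pp = Ideal.span (Set.range T))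
  (hT0 : ∀ H : τ → P', ∑ i, T i * H i = 0 ↔ ∀ i, red (pp (H i)) = 0)
  (F : σ → P)
  (hker : RingHom.ker (algebraMap P₀ B₀) = Ideal.span (Set.range (fun s => red (F s))))
  (hflat : ∀ D : σ →₀ P, (∀ s, red (D s) = 0) → lc F D = 0 →
    D ∈ (RingHom.ker red) • (LinearMap.ker (lc F)))
  (F' : σ → P') (hF' : ∀ s, pp (F' s) = F s)

include hT in
lemma exists_sum_mul {x : P'} (hx : pp x = 0) : ∃ H : τ → P', x = ∑ i, T i * H i := by
  have h : x ∈ Ideal.span (Set.range T) := by rw [← hT]; exact hx
  obtain ⟨c, hc⟩ := (Ideal.mem_span_range_iff_exists_fun).mp h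
  exact ⟨c, by rw [← hc]; exact Finset.sum_congr rfl fun i _ => mul_comm _ _⟩

include hT in
lemma pp_T (i : τ) : pp (T i) = 0 := by
  have h : T i ∈ RingHom.ker pp := by rw [hT]; exact Ideal.subset_span ⟨i, rfl⟩
  exact h

include hT in
lemma pp_sum_T (H : τ → P') : pp (∑ i, T i * H i) = 0 := by
  rw [map_sum]
  exact Finset.sum_eq_zero fun i _ => by rw [map_mul, pp_T pp T hT, zero_mul]

include hT0 in
lemma T_mul_eq_zero {c : P'} (hc : red (pp c) = 0) (i : τ) : T i * c = 0 := by
  classical
  have h := (hT0 (Pi.single i c)).mpr (fun j => by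
    by_cases hj : j = i
    · subst hj; rw [Pi.single_eq_same]; exact hc
    · rw [Pi.single_eq_of_ne hj, map_zero, map_zero])
  rw [Finset.sum_eq_single i (fun j _ hj => by rw [Pi.single_eq_of_ne hj, mul_zero])
    (fun h => absurd (Finset.mem_univ i) h), Pi.single_eq_same] at h
  exact h

include hT in
/-- every element of `(σ →₀ P')` with coefficients in `ker pp` is `∑ T i • U i` -/
lemma exists_sum_smul (E : σ →₀ P') (hE : ∀ s, pp (E s) = 0) :
    ∃ U : τ → (σ →₀ P'), E = ∑ i, T i • U i := by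
  classical
  choose g hg using fun s => exists_sum_mul pp T hT (hE s)
  refine ⟨fun i => Finsupp.onFinset E.support (fun s => if E s = 0 then 0 else g s i) ?_, ?_⟩
  · intro s hs
    rw [Finsupp.mem_support_iff]
    intro h0
    rw [if_pos h0] at hs
    exact hs rfl
  · ext s
    rw [Finsupp.finset_sum_apply]
    simp only [Finsupp.smul_apply, Finsupp.onFinset_apply, smul_eq_mul]
    by_cases h0 : E s = 0
    · simp [h0]
    · simp only [if_neg h0]
      exact hg s

include hF' in
lemma pp_lc (R' : σ →₀ P') : pp (lc F' R') = lc F (mr pp R') := by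
  rw [map_lc]
  have : (fun s => pp (F' s)) = F := funext hF'
  rw [this]

include hF' in
lemma red_pp_lc (R' : σ →₀ P') :
    red (pp (lc F' R')) = lc (fun s => red (F s)) (mr red (mr pp R')) := by
  rw [pp_lc pp F F' hF', map_lc]

include hT hT0 hflat hF' hpp in
/-- the key consequence of flatness -/
lemma keyV (D' : σ →₀ P') (H : τ → P') (hD' : ∀ s, red (pp (D' s)) = 0)
    (hH : lc F' D' = ∑ i, T i * H i) (i : τ) :
    red (pp (H i)) ∈ Ideal.span (Set.range (fun s => red (F s))) := by
  have hppF := pp_lc pp F F' hF'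
  have hredF := red_pp_lc pp red F F' hF'
  have main : ∀ D : σ →₀ P, D ∈ (RingHom.ker red) • (LinearMap.ker (lc F)) →
      lc F D = 0 ∧ ∀ (D' : σ →₀ P') (H : τ → P'), mr pp D' = D → lc F' D' = ∑ i, T i * H i →
        ∀ i, red (pp (H i)) ∈ Ideal.span (Set.range (fun s => red (F s))) := by
    intro D hD
    refine Submodule.smul_induction_on hD ?_ ?_
    · intro c hc n hn
      have hn0 : lc F n = 0 := hn
      refine ⟨by rw [map_smul, hn0, smul_zero], ?_⟩
      intro D' H hDD hH i
      obtain ⟨c', rfl⟩ := hpp c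
      obtain ⟨n', rfl⟩ := mr_surjective pp hpp n
      obtain ⟨H₁, hH₁⟩ := exists_sum_mul pp T hT (x := lc F' n') (by rw [hppF, hn0])
      have hE : ∀ s, pp ((D' - c' • n') s) = 0 := by
        intro s
        have := congrArg (fun v => v s) hDD
        simp only [mr_apply, Finsupp.smul_apply, smul_eq_mul] at this
        rw [Finsupp.sub_apply, Finsupp.smul_apply, smul_eq_mul, map_sub, map_mul, this, sub_self]
      obtain ⟨U, hU⟩ := exists_sum_smul pp T hT _ hE
      have hc'T : ∀ j, T j * c' = 0 := fun j => T_mul_eq_zero pp red T hT0 hc j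
      have h1 : lc F' D' = ∑ j, T j * lc F' (U j) := by
        have : D' = c' • n' + ∑ j, T j • U j := by rw [← hU]; abel
        rw [this, map_add, map_smul, hH₁, smul_eq_mul, Finset.mul_sum, map_sum]
        rw [Finset.sum_eq_zero (fun j _ => by rw [← mul_assoc, mul_comm c', hc'T, zero_mul]),
          zero_add]
        exact Finset.sum_congr rfl fun j _ => by rw [map_smul, smul_eq_mul]
      have h2 : ∑ j, T j * (H j - lc F' (U j)) = 0 := by
        simp only [mul_sub, Finset.sum_sub_distrib]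
        rw [← hH, ← h1, sub_self]
      have h3 := (hT0 _).mp h2 i
      rw [map_sub, map_sub, sub_eq_zero] at h3
      rw [h3, hredF]
      exact lc_mem_span _ _
    · intro x y hx hy
      refine ⟨by rw [map_add, hx.1, hy.1, add_zero], ?_⟩
      intro D' H hDD hH i
      obtain ⟨x', rfl⟩ := mr_surjective pp hpp x
      obtain ⟨H₁, hH₁⟩ := exists_sum_mul pp T hT (x := lc F' x') (by rw [hppF, hx.1])
      have h1 := hx.2 x' H₁ rfl hH₁ i
      have h2 := hy.2 (D' - x') (fun j => H j - H₁ j)
        (by rw [map_sub, hDD, add_sub_cancel_left])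
        (by rw [map_sub, hH, hH₁, ← Finset.sum_sub_distrib]
            exact Finset.sum_congr rfl fun j _ => (mul_sub _ _ _).symm) i
      have : red (pp (H i)) = red (pp (H i - H₁ i)) + red (pp (H₁ i)) := by
        rw [← map_add, ← map_add, sub_add_cancel]
      rw [this]
      exact Ideal.add_mem _ h2 h1
  have hD0 : lc F (mr pp D') = 0 := by
    rw [← hppF, hH, pp_sum_T pp T hT]
  exact (main (mr pp D') (hflat _ (fun s => hD' s) hD0)).2 D' H rfl hH i

/-- obstruction datum: `y` is the obstruction vector of the relation `r` -/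
def IsObV (r : σ →₀ P₀) (y : τ → B₀) : Prop :=
  ∃ (R' : σ →₀ P') (H : τ → P'), mr red (mr pp R') = r ∧ lc F' R' = ∑ i, T i * H i ∧
    ∀ i, algebraMap P₀ B₀ (red (pp (H i))) = y i

include hT hF' hpp in
lemma exists_isObV (hlift : RelLift red F) (r : σ →₀ P₀) (hr : lc (fun s => red (F s)) r = 0) :
    ∃ y : τ → B₀, IsObV pp red T F' r y := by
  obtain ⟨R, hR, hR0⟩ := hlift r hr
  obtain ⟨R', rfl⟩ := mr_surjective pp hpp R
  obtain ⟨H, hH⟩ := exists_sum_mul pp T hT (x := lc F' R') (by rw [pp_lc pp F F' hF', hR0])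
  exact ⟨_, R', H, hR, hH, fun _ => rfl⟩

include hT hT0 hflat hF' hpp hker in
lemma isObV_unique {r : σ →₀ P₀} {y₁ y₂ : τ → B₀} (h₁ : IsObV pp red T F' r y₁)
    (h₂ : IsObV pp red T F' r y₂) : y₁ = y₂ := by
  obtain ⟨R₁, H₁, hr₁, hH₁, hy₁⟩ := h₁
  obtain ⟨R₂, H₂, hr₂, hH₂, hy₂⟩ := h₂
  funext i
  have h := keyV pp red hpp T hT hT0 F hflat F' hF' (R₁ - R₂) (fun j => H₁ j - H₂ j) (fun s => by
    have := congrArg (fun v => v s) (hr₁.trans hr₂.symm)
    simp only [mr_apply] at this
    rw [Finsupp.sub_apply, map_sub, map_sub, this, sub_self])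
    (by rw [map_sub, hH₁, hH₂, ← Finset.sum_sub_distrib]
        exact Finset.sum_congr rfl fun j _ => (mul_sub _ _ _).symm) i
  rw [← hker, RingHom.mem_ker, map_sub, map_sub, map_sub, sub_eq_zero, hy₁, hy₂] at h
  exact h

lemma isObV_add {r₁ r₂ : σ →₀ P₀} {y₁ y₂ : τ → B₀} (h₁ : IsObV pp red T F' r₁ y₁)
    (h₂ : IsObV pp red T F' r₂ y₂) : IsObV pp red T F' (r₁ + r₂) (y₁ + y₂) := by
  obtain ⟨R₁, H₁, hr₁, hH₁, hy₁⟩ := h₁
  obtain ⟨R₂, H₂, hr₂, hH₂, hy₂⟩ := h₂
  refine ⟨R₁ + R₂, fun i => H₁ i + H₂ i, by rw [map_add, map_add, hr₁, hr₂], ?_, fun i => ?_⟩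
  · rw [map_add, hH₁, hH₂, ← Finset.sum_add_distrib]
    exact Finset.sum_congr rfl fun j _ => (mul_add _ _ _).symm
  · rw [map_add, map_add, map_add, hy₁, hy₂, Pi.add_apply]

include hpp hred in
lemma isObV_smul {r : σ →₀ P₀} {y : τ → B₀} (c : P₀) (h : IsObV pp red T F' r y) :
    IsObV pp red T F' (c • r) (c • y) := by
  obtain ⟨R, H, hr, hH, hy⟩ := h
  obtain ⟨c₁, rfl⟩ := hred c
  obtain ⟨c', rfl⟩ := hpp c₁
  refine ⟨c' • R, fun i => c' * H i, by rw [mr_smul, mr_smul, hr], ?_, fun i => ?_⟩
  · rw [map_smul, hH, smul_eq_mul, Finset.mul_sum]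
    exact Finset.sum_congr rfl fun j _ => by ring
  · rw [map_mul, map_mul, map_mul, hy, Pi.smul_apply, Algebra.smul_def]

include hpp hred hF' in
lemma isObV_triv (a b : σ →₀ P₀) :
    IsObV pp red T F' (lc (fun s => red (F s)) a • b - lc (fun s => red (F s)) b • a)
      (0 : τ → B₀) := by
  obtain ⟨a₁, rfl⟩ := mr_surjective red hred a
  obtain ⟨a', rfl⟩ := mr_surjective pp hpp a₁
  obtain ⟨b₁, rfl⟩ := mr_surjective red hred b
  obtain ⟨b', rfl⟩ := mr_surjective pp hpp b₁
  refine ⟨lc F' a' • b' - lc F' b' • a', fun _ => 0, ?_, ?_, fun i => by simp⟩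
  · rw [map_sub, map_sub, mr_smul, mr_smul, mr_smul, mr_smul, red_pp_lc pp red F F' hF',
      red_pp_lc pp red F F' hF']
  · rw [map_sub, map_smul, map_smul, smul_eq_mul, smul_eq_mul, mul_comm, sub_self]
    simp

/-- the relations of the reduced family -/
noncomputable abbrev Rel : Submodule P₀ (σ →₀ P₀) := LinearMap.ker (lc (fun s => red (F s)))

include hT hF' hpp in
lemma exists_isObV' (hlift : RelLift red F) (r : Rel red F) :
    ∃ y : τ → B₀, IsObV pp red T F' r.1 y :=
  exists_isObV pp red hpp T hT F F' hF' hlift r.1 r.2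

/-- **the obstruction map** of the lifts `F'` -/
noncomputable def obMap (hlift : RelLift red F) : Rel red F →ₗ[P₀] (τ → B₀) where
  toFun r := Classical.choose (exists_isObV' (B₀ := B₀) pp red hpp T hT F F' hF' hlift r)
  map_add' r₁ r₂ :=
    isObV_unique pp red hpp T hT hT0 F hker hflat F' hF'
      (Classical.choose_spec (exists_isObV' (B₀ := B₀) pp red hpp T hT F F' hF' hlift (r₁ + r₂)))
      (isObV_add pp red T F'
        (Classical.choose_spec (exists_isObV' (B₀ := B₀) pp red hpp T hT F F' hF' hlift r₁))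
        (Classical.choose_spec (exists_isObV' (B₀ := B₀) pp red hpp T hT F F' hF' hlift r₂)))
  map_smul' c r :=
    isObV_unique pp red hpp T hT hT0 F hker hflat F' hF'
      (Classical.choose_spec (exists_isObV' (B₀ := B₀) pp red hpp T hT F F' hF' hlift (c • r)))
      (isObV_smul pp red hpp hred T F' c
        (Classical.choose_spec (exists_isObV' (B₀ := B₀) pp red hpp T hT F F' hF' hlift r)))

lemma obMap_spec (hlift : RelLift red F) (r : Rel red F) :
    IsObV pp red T F' r.1 (obMap pp red hpp hred T hT hT0 F hker hflat F' hF' hlift r) :=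
  Classical.choose_spec (exists_isObV' (B₀ := B₀) pp red hpp T hT F F' hF' hlift r)

lemma obMap_eq (hlift : RelLift red F) (r : Rel red F) {y : τ → B₀}
    (h : IsObV pp red T F' r.1 y) :
    obMap pp red hpp hred T hT hT0 F hker hflat F' hF' hlift r = y :=
  isObV_unique pp red hpp T hT hT0 F hker hflat F' hF'
    (obMap_spec pp red hpp hred T hT hT0 F hker hflat F' hF' hlift r) h

lemma obMap_triv (hlift : RelLift red F) (a b : σ →₀ P₀)
    (h : lc (fun s => red (F s)) a • b - lc (fun s => red (F s)) b • a ∈ Rel red F) :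
    obMap pp red hpp hred T hT hT0 F hker hflat F' hF' hlift ⟨_, h⟩ = 0 :=
  obMap_eq pp red hpp hred T hT hT0 F hker hflat F' hF' hlift ⟨_, h⟩
    (isObV_triv pp red hpp hred T F F' hF' a b)

lemma algebraMap_lc (g : σ → P₀) (r : σ →₀ P₀) :
    algebraMap P₀ B₀ (lc g r) = r.sum (fun s c => algebraMap P₀ B₀ c * algebraMap P₀ B₀ (g s)) := by
  rw [Finsupp.linearCombination_apply, map_finsuppSum]
  simp [map_mul]

/-- a coordinate map on the relations -/
def IsCoord (ob : Rel red F → B₀) : Prop :=
  ∃ g : σ → B₀, ∀ r : Rel red F,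
    ob r = (r : σ →₀ P₀).sum (fun s c => algebraMap P₀ B₀ c * g s)

include hT in
lemma exists_diff (F'₁ F'₂ : σ → P') (h₁ : ∀ s, pp (F'₁ s) = F s) (h₂ : ∀ s, pp (F'₂ s) = F s) :
    ∃ G : τ → σ → P', ∀ s, F'₁ s = F'₂ s + ∑ i, T i * G i s := by
  choose g hg using fun s => exists_sum_mul pp T hT (x := F'₁ s - F'₂ s)
    (by rw [map_sub, h₁, h₂, sub_self])
  exact ⟨fun i s => g s i, fun s => by rw [← hg s]; ring⟩

lemma lc_add_sum_mul (F'₂ : σ → P') (G : τ → σ → P') (R : σ →₀ P') :
    lc (fun s => F'₂ s + ∑ i, T i * G i s) R = lc F'₂ R + ∑ i, T i * lc (G i) R := by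
  induction R using Finsupp.induction_linear with
  | zero => simp
  | add x y hx hy =>
    rw [map_add, map_add, hx, hy]
    simp only [map_add, mul_add, Finset.sum_add_distrib]
    ring
  | single s c =>
    simp only [lc, Finsupp.linearCombination_single, smul_eq_mul, mul_add, Finset.mul_sum]
    congr 1
    exact Finset.sum_congr rfl fun i _ => by ring

include hT hT0 hflat hker hpp hred in
/-- **changing the lifts changes the obstruction map by coordinate maps** -/
theorem obMap_change (hlift : RelLift red F) (F'₁ F'₂ : σ → P') (h₁ : ∀ s, pp (F'₁ s) = F s)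
    (h₂ : ∀ s, pp (F'₂ s) = F s) :
    ∃ g : τ → σ → B₀, ∀ (r : Rel red F) (i : τ),
      obMap pp red hpp hred T hT hT0 F hker hflat F'₁ h₁ hlift r i =
        obMap pp red hpp hred T hT hT0 F hker hflat F'₂ h₂ hlift r i +
          (r : σ →₀ P₀).sum (fun s c => algebraMap P₀ B₀ c * g i s) := by
  obtain ⟨G, hG⟩ := exists_diff pp T hT F F'₁ F'₂ h₁ h₂
  refine ⟨fun i s => algebraMap P₀ B₀ (red (pp (G i s))), fun r i => ?_⟩
  obtain ⟨R', H, hr, hH, hy⟩ := obMap_spec pp red hpp hred T hT hT0 F hker hflat F'₂ h₂ hlift r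
  have hF₁ : F'₁ = fun s => F'₂ s + ∑ i, T i * G i s := funext hG
  have h3 : IsObV (B₀ := B₀) pp red T F'₁ r.1
      (fun i => algebraMap P₀ B₀ (red (pp (H i + lc (G i) R')))) := by
    refine ⟨R', fun i => H i + lc (G i) R', hr, ?_, fun _ => rfl⟩
    rw [hF₁, lc_add_sum_mul, hH, ← Finset.sum_add_distrib]
    exact Finset.sum_congr rfl fun j _ => (mul_add _ _ _).symm
  rw [obMap_eq pp red hpp hred T hT hT0 F hker hflat F'₁ h₁ hlift r h3]
  change algebraMap P₀ B₀ (red (pp (H i + lc (G i) R'))) = _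
  rw [map_add, map_add, map_add, hy, map_lc, map_lc, hr, algebraMap_lc]

include hT hT0 hflat hker hpp hred in
/-- if the lifts `F'` themselves have all relations lifting, the obstruction map vanishes -/
theorem obMap_eq_zero_of_relLift (hlift : RelLift red F)
    (hrel' : RelLift (red.comp pp) F') (r : Rel red F) :
    obMap pp red hpp hred T hT hT0 F hker hflat F' hF' hlift r = 0 := by
  have hfam : (fun s => (red.comp pp) (F' s)) = fun s => red (F s) := by
    funext s
    rw [RingHom.comp_apply, hF']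
  obtain ⟨R', hR', hR0⟩ := hrel' r.1 (by rw [hfam]; exact r.2)
  refine obMap_eq pp red hpp hred T hT hT0 F hker hflat F' hF' hlift r
    ⟨R', fun _ => 0, ?_, by rw [hR0]; simp, fun i => by simp⟩
  rw [← mr_comp]
  exact hR'

include hT hT0 hflat hker hpp hred in
/-- **necessity**: if `F` lifts to a family with lifting relations, all components of the
obstruction map are coordinate maps -/
theorem isCoord_of_lift (hlift : RelLift red F) (F'' : σ → P') (hF'' : ∀ s, pp (F'' s) = F s)
    (hrel'' : RelLift (red.comp pp) F'') (i : τ) :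
    IsCoord (B₀ := B₀) red F
      (fun r => obMap pp red hpp hred T hT hT0 F hker hflat F' hF' hlift r i) := by
  obtain ⟨g, hg⟩ := obMap_change (B₀ := B₀) pp red hpp hred T hT hT0 F hker hflat hlift F' F''
    hF' hF''
  refine ⟨g i, fun r => ?_⟩
  beta_reduce
  rw [hg r i, obMap_eq_zero_of_relLift pp red hpp hred T hT hT0 F hker hflat F'' hF'' hlift hrel'' r,
    Pi.zero_apply, zero_add]

include hT hT0 hflat hker hpp hred in
/-- **sufficiency**: if all components of the obstruction map are coordinate maps, `F` lifts to a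
family with lifting relations -/
theorem exists_lift_of_isCoord (hlift : RelLift red F)
    (hπ₀ : Function.Surjective (algebraMap P₀ B₀))
    (hco : ∀ i, IsCoord (B₀ := B₀) red F
      (fun r => obMap pp red hpp hred T hT hT0 F hker hflat F' hF' hlift r i)) :
    ∃ F'' : σ → P', (∀ s, pp (F'' s) = F s) ∧ RelLift (red.comp pp) F'' := by
  classical
  choose g hg using hco
  choose g₀ hg₀ using fun i s => hπ₀ (g i s)
  choose g₁ hg₁ using fun i s => hred (g₀ i s)
  choose G hG using fun i s => hpp (g₁ i s)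
  have hppT := pp_T pp T hT
  have hppS : ∀ s, pp (∑ i, T i * G i s) = 0 := fun s => pp_sum_T pp T hT _
  refine ⟨fun s => F' s - ∑ i, T i * G i s,
    fun s => by rw [map_sub, hppS, sub_zero, hF'], ?_⟩
  have hfam : (fun s => (red.comp pp) (F' s - ∑ i, T i * G i s)) = fun s => red (F s) := by
    funext s
    rw [RingHom.comp_apply, map_sub, hppS, sub_zero, hF']
  intro r hr0
  have hr : lc (fun s => red (F s)) r = 0 := by rw [← hfam]; exact hr0
  have hrm : r ∈ Rel red F := hr
  obtain ⟨R', H, hrR, hH, hy⟩ :=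
    obMap_spec pp red hpp hred T hT hT0 F hker hflat F' hF' hlift ⟨r, hrm⟩
  have hrR' : mr red (mr pp R') = r := hrR
  -- the corrected combination
  have hF'eq : F' = fun s => (F' s - ∑ i, T i * G i s) + ∑ i, T i * G i s := by
    funext s; ring
  have h1 : lc (fun s => F' s - ∑ i, T i * G i s) R' = ∑ i, T i * (H i - lc (G i) R') := by
    have h := lc_add_sum_mul T (fun s => F' s - ∑ i, T i * G i s) G R'
    rw [← hF'eq, hH] at h
    simp only [mul_sub, Finset.sum_sub_distrib]
    rw [h]
    ring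
  have hredG : ∀ i, red (pp (lc (G i) R')) = lc (g₀ i) r := by
    intro i
    rw [map_lc, map_lc, hrR']
    have : (fun s => red (pp (G i s))) = g₀ i := funext fun s => by rw [hG, hg₁]
    rw [this]
  have h2 : ∀ i, algebraMap P₀ B₀ (red (pp (H i - lc (G i) R'))) = 0 := by
    intro i
    have hgi := hg i ⟨r, hrm⟩
    beta_reduce at hgi
    rw [map_sub, map_sub, map_sub, hy, hredG, algebraMap_lc, hgi, sub_eq_zero]
    refine Finsupp.sum_congr fun s _ => ?_
    rw [hg₀]
  have h3 : ∀ i, red (pp (H i - lc (G i) R')) ∈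
      Ideal.span (Set.range (fun s => red (F s))) := by
    intro i
    rw [← hker]; exact h2 i
  choose u hu using fun i => exists_lc_of_mem_span _ (h3 i)
  choose u₁ hu₁ using fun i => mr_surjective red hred (u i)
  choose U hU using fun i => mr_surjective pp hpp (u₁ i)
  have h4 : ∀ i, red (pp (lc (fun s => F' s - ∑ i, T i * G i s) (U i))) =
      red (pp (H i - lc (G i) R')) := by
    intro i
    rw [map_lc, map_lc]
    change lc (fun s => (red.comp pp) (F' s - ∑ i, T i * G i s)) _ = _
    rw [hfam, hU, hu₁, hu]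
  have h5 : ∑ i, T i * (H i - lc (G i) R' - lc (fun s => F' s - ∑ i, T i * G i s) (U i)) = 0 := by
    rw [hT0]
    intro i
    rw [map_sub, map_sub, h4, sub_self]
  refine ⟨R' - ∑ i, T i • U i, ?_, ?_⟩
  · rw [map_sub, map_sum, sub_eq_self.mpr, mr_comp, hrR']
    refine Finset.sum_eq_zero fun i _ => ?_
    rw [mr_smul, RingHom.comp_apply, hppT, map_zero, zero_smul]
  · rw [map_sub, map_sum, h1, ← Finset.sum_sub_distrib, ← h5]
    refine Finset.sum_congr rfl fun i _ => ?_
    rw [map_smul, smul_eq_mul, ← mul_sub]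

end Main

section Quot

variable {P' P'' P P₀ B₀ : Type*} [CommRing P'] [CommRing P''] [CommRing P] [CommRing P₀]
  [CommRing B₀] [Algebra P₀ B₀] {σ : Type*} {τ τ' : Type*} [Fintype τ] [Fintype τ']
  (pp : P' →+* P) (qq : P' →+* P'') (pp' : P'' →+* P) (hqq : ∀ x, pp' (qq x) = pp x)
  (red : P →+* P₀)
  (T : τ → P') (T' : τ' → P'') (a : τ' → τ → P'')
  (hqT : ∀ i, qq (T i) = ∑ l, a l i * T' l)
  (F' : σ → P')

include hqq hqT in
/-- **compatibility of the obstruction data with an intermediate quotient** -/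
theorem isObV_quot {r : σ →₀ P₀} {y : τ → B₀} (h : IsObV pp red T F' r y) :
    IsObV pp' red T' (fun s => qq (F' s)) r
      (fun l => ∑ i, algebraMap P₀ B₀ (red (pp' (a l i))) * y i) := by
  obtain ⟨R', H, hr, hH, hy⟩ := h
  refine ⟨mr qq R', fun l => ∑ i, a l i * qq (H i), ?_, ?_, fun l => ?_⟩
  · rw [← hr]
    ext s
    simp only [mr_apply]
    rw [hqq]
  · rw [← map_lc, hH, map_sum]
    simp only [map_mul, hqT, Finset.sum_mul, Finset.mul_sum]
    rw [Finset.sum_comm]
    refine Finset.sum_congr rfl fun l _ => Finset.sum_congr rfl fun i _ => ?_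
    ring
  · simp only [map_sum, map_mul]
    refine Finset.sum_congr rfl fun i _ => ?_
    rw [hqq, hy]

end Quot

end Groth.Agent.H61.DefObsV
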