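import Groth.Agent.H61.DefPres

/-!
# Presentations of a flat deformation with prescribed generators and relations (helper61)

A parametrised version of `DefPres.exists_pres`: for ANY lifts `x i` of the generators and ANY
lifts `F s` of the relations lying in the kernel, the map `A[X] → B` is surjective with kernel `(F)`
and relations lift.
-/

set_option autoImplicit false

namespace Groth.Agent.H61.DefPres

open MvPolynomial IsLocalRing Groth.Agent.H61.DefObs Groth.Agent.H61.DefFlat

universe u w

section Pres2

variable {A : Type u} [CommRing A] [IsLocalRing A] {k : Type u} [Field k] (res : A →+* k)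
  (hres : Function.Surjective res) (hnil : IsNilpotent (maximalIdeal A))
  {B : Type u} [CommRing B] [Algebra A B] [Module.Flat A B]
  {B₀ : Type u} [CommRing B₀] [Algebra k B₀]
  (π : B →+* B₀) (hπ : Function.Surjective π)
  (hπalg : ∀ a, π (algebraMap A B a) = algebraMap k B₀ (res a))
  (hkerπ : RingHom.ker π = (maximalIdeal A).map (algebraMap A B))
  {ι : Type w} (π₀ : MvPolynomial ι k →ₐ[k] B₀) (hπ₀ : Function.Surjective π₀)
  {σ : Type*} (f : σ → MvPolynomial ι k)
  (hf : RingHom.ker π₀.toRingHom = Ideal.span (Set.range f))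
  (x : ι → B) (hx : ∀ i, π (x i) = π₀ (X i))

include hπalg hx in
lemma comp_of_gens (q : MvPolynomial ι A) : π (aeval x q) = π₀ (map res q) := by
  have h : π.comp (aeval x : MvPolynomial ι A →ₐ[A] B).toRingHom =
      π₀.toRingHom.comp (map res) := by
    apply MvPolynomial.ringHom_ext
    · intro a
      simp [hπalg]
    · intro i
      simp [hx]
  exact congrArg (fun h => h q) h

include hres hnil hπalg hkerπ hπ₀ hx in
lemma surj_of_gens : Function.Surjective (aeval x : MvPolynomial ι A →ₐ[A] B) := by
  set 𝔪 := maximalIdeal A with h𝔪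
  set red : MvPolynomial ι A →+* MvPolynomial ι k := map res with hred
  have hredsurj : Function.Surjective red := map_surjective res hres
  let φ : MvPolynomial ι A →ₐ[A] B := aeval x
  have hcomp : ∀ q, π (φ q) = π₀ (red q) := comp_of_gens res π hπalg π₀ x hx
  have h1 : LinearMap.range φ.toLinearMap ⊔ 𝔪 • (⊤ : Submodule A B) = ⊤ := by
    rw [eq_top_iff]
    intro b _
    obtain ⟨q₀, hq₀⟩ := hπ₀ (π b)
    obtain ⟨q, rfl⟩ := hredsurj q₀
    have h2 : b - φ q ∈ RingHom.ker π := by
      rw [RingHom.mem_ker, map_sub, hcomp, hq₀, sub_self]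
    rw [hkerπ] at h2
    have h3 : b - φ q ∈ (𝔪 • ⊤ : Submodule A B) := by
      rw [Ideal.smul_top_eq_map]; exact h2
    have h4 : b = φ q + (b - φ q) := by ring
    rw [h4]
    exact Submodule.add_mem_sup ⟨q, rfl⟩ h3
  have h3 := eq_top_of_sup_smul_top 𝔪 hnil _ h1
  rw [LinearMap.range_eq_top] at h3
  exact h3

variable (F : σ → MvPolynomial ι A) (hFker : ∀ s, aeval x (F s) = 0)
  (hFred : ∀ s, map res (F s) = f s)

include hres hnil hπalg hkerπ hπ₀ hf hx hFker hFred in
/-- **presentation of a flat deformation with prescribed generators and relations** -/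
theorem pres_of_gens :
    RingHom.ker (aeval x : MvPolynomial ι A →ₐ[A] B).toRingHom = Ideal.span (Set.range F) ∧
      RelLift (map res : MvPolynomial ι A →+* MvPolynomial ι k) F ∧
      (∀ D : σ →₀ MvPolynomial ι A, (∀ s, map res (D s) = 0) → lc F D = 0 →
        D ∈ (RingHom.ker (map res : MvPolynomial ι A →+* MvPolynomial ι k)) •
          LinearMap.ker (lc F)) := by
  classical
  set 𝔪 := maximalIdeal A with h𝔪
  set red : MvPolynomial ι A →+* MvPolynomial ι k := map res with hred
  have hredsurj : Function.Surjective red := map_surjective res hres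
  let φ : MvPolynomial ι A →ₐ[A] B := aeval x
  have hcomp : ∀ q, π (φ q) = π₀ (red q) := comp_of_gens res π hπalg π₀ x hx
  have hφ : Function.Surjective φ := surj_of_gens res hres hnil π hπalg hkerπ π₀ hπ₀ x hx
  -- the kernel as an `A`-submodule
  set IA : Submodule A (MvPolynomial ι A) := LinearMap.ker φ.toLinearMap with hIA
  have hc : ∀ G, φ G = 0 → red G = 0 → G ∈ 𝔪 • IA := by
    intro G h1 h2
    exact inf_smul_top_le_smul_ker 𝔪 φ.toLinearMap hφ ⟨h1, (mem_smul_top_iff res hres G).mpr h2⟩
  set J : Ideal (MvPolynomial ι A) := RingHom.ker red with hJ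
  have hJnil : IsNilpotent J := isNilpotent_ker_map res hres hnil
  have hfam : (fun s => red (F s)) = f := funext hFred
  have hFmem : ∀ R : σ →₀ MvPolynomial ι A, φ (lc F R) = 0 := by
    intro R
    induction R using Finsupp.induction_linear with
    | zero => simp
    | add x y hx hy => rw [map_add, map_add, hx, hy, add_zero]
    | single s c =>
      have : φ (F s) = 0 := hFker s
      simp [lc, this]
  have hkerle : ∀ G, φ G = 0 → G ∈ Ideal.span (Set.range F) := by
    have hle : (RingHom.ker φ.toRingHom) ≤ Ideal.span (Set.range F) ⊔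
        J • (RingHom.ker φ.toRingHom) := by
      intro G hG
      have hG0 : φ G = 0 := hG
      have h1 : red G ∈ Ideal.span (Set.range f) := by
        rw [← hf, RingHom.mem_ker]
        change π₀ (red G) = 0
        rw [← hcomp, hG0, map_zero]
      obtain ⟨c, hc'⟩ := exists_lc_of_mem_span f h1
      obtain ⟨C', rfl⟩ := mr_surjective red hredsurj c
      have h2 : red (G - lc F C') = 0 := by
        rw [map_sub, map_lc, hfam, hc', sub_self]
      have h3 : G - lc F C' ∈ 𝔪 • IA := hc _ (by rw [map_sub, hG0, hFmem, sub_zero]) h2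
      have h4 : G - lc F C' ∈ J • (RingHom.ker φ.toRingHom) :=
        smul_le_ker_smul res hres IA (RingHom.ker φ.toRingHom) (fun x hx => hx) h3
      have h5 : G = lc F C' + (G - lc F C') := by ring
      rw [h5]
      exact Submodule.add_mem_sup (lc_mem_span F C') h4
    intro G hG
    exact le_of_le_sup_smul J hJnil hle hG
  have hker : RingHom.ker φ.toRingHom = Ideal.span (Set.range F) := by
    apply le_antisymm
    · intro G hG; exact hkerle G hG
    · rw [Ideal.span_le]
      rintro _ ⟨s, rfl⟩
      exact hFker s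
  -- relations lift
  have hrel : RelLift red F := by
    intro r hr
    rw [hfam] at hr
    obtain ⟨G, rfl⟩ := mr_surjective red hredsurj r
    have h1 : red (lc F G) = 0 := by rw [map_lc, hfam, hr]
    have h2 : lc F G ∈ 𝔪 • IA := hc _ (hFmem G) h1
    have h3 : lc F G ∈ J • (Submodule.span (MvPolynomial ι A) (Set.range F)) := by
      refine smul_le_ker_smul res hres IA _ (fun x hx => ?_) h2
      exact hkerle x hx
    rw [Submodule.mem_ideal_smul_span_iff_exists_sum] at h3
    obtain ⟨a, ha, hsum⟩ := h3
    have hsum' : lc F a = lc F G := by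
      rw [← hsum]; rfl
    refine ⟨G - a, ?_, ?_⟩
    · rw [map_sub, sub_eq_self]
      refine Finsupp.ext fun s => ?_
      rw [mr_apply, Finsupp.zero_apply]
      exact ha s
    · rw [map_sub, hsum', sub_self]
  refine ⟨hker, hrel, ?_⟩
  -- the relation module
  intro D hD hD0
  have hIAflat : Module.Flat A IA :=
    flat_ker IA.subtype φ.toLinearMap (Submodule.injective_subtype _)
      (LinearMap.exact_subtype_ker_map _) hφ
  let Φ : (σ →₀ MvPolynomial ι A) →ₗ[A] IA :=
    LinearMap.codRestrict IA ((lc F).restrictScalars A) (fun R => hFmem R)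
  have hΦ : Function.Surjective Φ := by
    rintro ⟨y, hy⟩
    obtain ⟨R, hR⟩ := exists_lc_of_mem_span F (hkerle y hy)
    exact ⟨R, Subtype.ext hR⟩
  have hDtop : D ∈ 𝔪 • (⊤ : Submodule A (σ →₀ MvPolynomial ι A)) := by
    have hsingle : ∀ s (d : MvPolynomial ι A), d ∈ (𝔪 • ⊤ : Submodule A (MvPolynomial ι A)) →
        Finsupp.single s d ∈ 𝔪 • (⊤ : Submodule A (σ →₀ MvPolynomial ι A)) := by
      intro s d hd
      refine Submodule.smul_induction_on hd ?_ ?_
      · intro m hm n _
        rw [← Finsupp.smul_single]
        exact Submodule.smul_mem_smul hm Submodule.mem_top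
      · intro x y hx hy
        rw [Finsupp.single_add]
        exact Submodule.add_mem _ hx hy
    rw [← Finsupp.sum_single D]
    refine Submodule.sum_mem _ fun s _ => hsingle s _ ?_
    exact (mem_smul_top_iff res hres _).mpr (hD s)
  have hDker : D ∈ LinearMap.ker Φ := by
    rw [LinearMap.mem_ker]
    exact Subtype.ext hD0
  have h1 : D ∈ 𝔪 • LinearMap.ker Φ := inf_smul_top_le_smul_ker 𝔪 Φ hΦ ⟨hDker, hDtop⟩
  refine smul_le_ker_smul res hres (LinearMap.ker Φ) (LinearMap.ker (lc F)) (fun x hx => ?_) h1
  rw [LinearMap.mem_ker] at hx ⊢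
  exact congrArg Subtype.val hx

end Pres2

end Groth.Agent.H61.DefPres
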