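import Groth.Agent.H61.DefGlueSch
import Groth.Agent.H61.DefDual

/-!
# Schlessinger's conditions for the deformation functor of an affine scheme (helper61)

`h0_defF`, `s1_defF`, `hbar_defF`, `heps_defF` for `Def_{Spec B₀}` over any `Λ`.
-/

set_option autoImplicit false
set_option linter.unusedSectionVars false

open MvPolynomial AlgebraicGeometry CategoryTheory Limits IsLocalRing ArtFun ArtFun.Art
open Groth.Agent.H61.DefObs Groth.Agent.H61.DefPres Groth.Agent.H61.DefDict Groth.Agent.H61.DefIso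
open Groth.Agent.H61.DefGlueSch Groth.Agent.H61.DefTorsorMain

namespace Groth.Agent.H61.DefSchless

universe u

variable {Λ k : Type u} [CommRing Λ] [Field k] [Algebra Λ k]
variable (B₀ : Type u) [CommRing B₀] [Algebra k B₀]

/-- the deformation functor of `Spec B₀` -/
noncomputable abbrev DefF : Art Λ k ⥤ Type (u + 1) :=
  defFunctor (Λ := Λ) (X₀ B₀) (x₀ (k := k) B₀)

lemma flat_x₀ : Flat (x₀ (k := k) B₀) :=
  Flat.SpecMap_iff.mpr (RingHom.flat_algebraMap_iff.mpr inferInstance)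

theorem h0_defF : H0 (DefF (Λ := Λ) (k := k) B₀) :=
  ⟨⟨(DefSch.self (X₀ B₀) (x₀ (k := k) B₀) (flat_x₀ B₀)).cl⟩,
    ⟨fun a b => by
      induction a using Quotient.inductionOn with
      | h ξ =>
        induction b using Quotient.inductionOn with
        | h ξ' => exact Quotient.sound ⟨Groth.Agent.H61.DefDual.isoOverBase ξ ξ'⟩⟩⟩

theorem s1_defF : S1 (DefF (Λ := Λ) (k := k) B₀) := by
  intro E A A' A'' p' p'' f' f'' h hf'' x
  obtain ⟨⟨ξ', ξ''⟩, hξ⟩ := x
  induction ξ' using Quotient.inductionOn with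
  | h 𝒳' =>
    induction ξ'' using Quotient.inductionOn with
    | h 𝒳'' =>
      have hθ : (DefSch.setoid (X₀ B₀) (x₀ (k := k) B₀) A).r (𝒳'.baseChange f')
          (𝒳''.baseChange f'') := Quotient.exact hξ
      obtain ⟨θ⟩ := hθ
      obtain ⟨𝒵, ⟨a₁⟩, ⟨a₂⟩⟩ := exists_glue (π₀ (CotT.canon k B₀)) (hπ₀ _) _ (hf _) h hf'' 𝒳' 𝒳'' θ
      exact ⟨𝒵.cl, FibProd.ext (Quotient.sound ⟨a₁⟩) (Quotient.sound ⟨a₂⟩)⟩

theorem hbar_defF : Hbar (DefF (Λ := Λ) (k := k) B₀) :=
  fun _ _ _ _ p' p'' f' f'' h hs => s1_defF B₀ p' p'' f' f'' h hs.1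

theorem heps_defF : Heps (DefF (Λ := Λ) (k := k) B₀) := by
  intro E A' p' p'' h
  refine ⟨?_, s1_defF B₀ p' p'' _ _ h (dual Λ k).res_surjective⟩
  intro z₁ z₂ hz
  induction z₁ using Quotient.inductionOn with
  | h 𝒵₁ =>
    induction z₂ using Quotient.inductionOn with
    | h 𝒵₂ =>
      have h1 : (𝒵₁.baseChange p').cl = (𝒵₂.baseChange p').cl := congrArg (fun t => t.1.1) hz
      have h2 : (𝒵₁.baseChange p'').cl = (𝒵₂.baseChange p'').cl := congrArg (fun t => t.1.2) hz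
      obtain ⟨a⟩ := Quotient.exact h1
      obtain ⟨b⟩ := Quotient.exact h2
      exact Quotient.sound
        (iso_of_bc_iso (π₀ (CotT.canon k B₀)) (hπ₀ _) _ (hf _) h 𝒵₁ 𝒵₂ a b)

end Groth.Agent.H61.DefSchless
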