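import Groth.Agent.H61.DefTangent
import Groth.Agent.H61.DefDual

/-!
# The tangent space of the deformation functor of an affine scheme is `T¹` (helper61)

`Ψ : T¹(P, B₀ ⊗ J) → Def(k[ε])` is injective, and for every tangent structure on `Def_{Spec B₀}`
the tangent space has the dimension of `T¹(P, B₀)`.
-/

set_option autoImplicit false
set_option linter.unusedSectionVars false

open MvPolynomial AlgebraicGeometry CategoryTheory Limits IsLocalRing ArtFun ArtFun.Art
open TensorProduct CotT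
open Groth.Agent.H61.DefObs Groth.Agent.H61.DefPres Groth.Agent.H61.DefDict Groth.Agent.H61.DefIso
open Groth.Agent.H61.DefDict2 Groth.Agent.H61.DefPresBC
open Groth.Agent.H61.DefGlueSch Groth.Agent.H61.DefTorsor Groth.Agent.H61.DefTorsorMain
open Groth.Agent.H61.DefTangent Groth.Agent.H61.DefDual Groth.Agent.H61

namespace Groth.Agent.H61.DefTangent2

universe u

variable {k : Type u} [Field k] {B₀ : Type u} [CommRing B₀] [Algebra k B₀]
  {ι σ : Type u} (P : Algebra.Presentation k B₀ ι σ)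

lemma maximalIdeal_base : maximalIdeal (base k k).carrier = ⊥ := by
  ext a
  rw [mem_maximalIdeal_iff, Ideal.mem_bot]
  rfl

lemma π_injective_base (D : AlgDef (base k k).carrier (base k k).res.toRingHom B₀) :
    Function.Injective D.π := by
  rw [injective_iff_map_eq_zero]
  intro x hx
  have h1 : x ∈ RingHom.ker D.π := hx
  rw [D.ker_π, maximalIdeal_base, Ideal.map_bot, Ideal.mem_bot] at h1
  exact h1

/-- **`Ψ` is injective** -/
theorem Ψ_injective : Function.Injective (Ψ P) := by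
  intro t₁ t₂ h
  obtain ⟨L₁, rfl⟩ := cls_surj pD hpD (Pr₀ P) (L₀ P) t₁
  obtain ⟨L₂, rfl⟩ := cls_surj pD hpD (Pr₀ P) (L₀ P) t₂
  change Ψ P (cl₁ P L₁) = Ψ P (cl₁ P L₂) at h
  rw [Ψ_cl₁, Ψ_cl₁] at h
  have h0 : (DefSch.setoid (X₀ B₀) (x₀ (k := k) B₀) (dual k k)).r
      (ofAlg (dual k k) (plDef (hπ₀ P) (hf P) L₁)) (ofAlg (dual k k) (plDef (hπ₀ P) (hf P) L₂)) :=
    Quotient.exact h
  obtain ⟨e⟩ := h0
  obtain ⟨φ, h1, h2, -⟩ := ringEquiv_of_iso (dual k k) _ _ e
  change cl₁ P L₁ = cl₁ P L₂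
  rw [cls_eq_iff]
  refine ⟨φ.symm, fun c => ?_, fun x => ?_, fun x => ?_⟩
  · rw [← h1 c, RingEquiv.symm_apply_apply]
  · rw [← h2, RingEquiv.apply_symm_apply]
  · apply π_injective_base (D₀ P)
    rw [(plBC hpD (hπ₀ P) (hf P) L₂).π_β, (plBC hpD (hπ₀ P) (hf P) L₁).π_β, ← h2,
      RingEquiv.apply_symm_apply]

section Lin

variable [T : TangentStr (defFunctor (Λ := k) (X₀ B₀) (x₀ (k := k) B₀))]

/-- the comparison map from `T¹(P, B₀)` -/
noncomputable def Φ (t : T1 P B₀) : (defFunctor (Λ := k) (X₀ B₀) (x₀ (k := k) B₀)).obj (dual k k) :=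
  Ψ P (T1map P (eBJ (k := k) B₀).symm.toLinearMap t)

lemma Φ_bijective : Function.Bijective (Φ P) := by
  have hb : Function.Bijective (T1congr P (eBJ (k := k) B₀)).symm := (T1congr P (eBJ (k := k) B₀)).symm.bijective
  exact ⟨(Ψ_injective P).comp hb.1, (Ψ_surjective P).comp hb.2⟩

/-- the comparison map is linear for any tangent structure -/
noncomputable def ΦL : T1 P B₀ →ₗ[k]
    TangentSpace (defFunctor (Λ := k) (X₀ B₀) (x₀ (k := k) B₀)) where
  toFun t := TangentSpace.mk (Φ P t)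
  map_add' t₁ t₂ := by
    obtain ⟨z, h1, h2, h3⟩ := Ψ_add P (T1map P (eBJ (k := k) B₀).symm.toLinearMap t₁)
      (T1map P (eBJ (k := k) B₀).symm.toLinearMap t₂)
    have h4 : Φ P (t₁ + t₂) = (defFunctor (Λ := k) (X₀ B₀) (x₀ (k := k) B₀)).map plus z := by
      rw [h3, Φ, map_add]
    have h5 : Φ P t₁ = (defFunctor (Λ := k) (X₀ B₀) (x₀ (k := k) B₀)).map pr₁ z := h1.symm
    have h6 : Φ P t₂ = (defFunctor (Λ := k) (X₀ B₀) (x₀ (k := k) B₀)).map pr₂ z := h2.symm
    rw [h4, h5, h6]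
    exact (T.add_eq z).symm
  map_smul' c t := by
    rw [RingHom.id_apply]
    have h1 : c • t = algebraMap k B₀ c • t := (algebraMap_smul B₀ c t).symm
    have h2 : Φ P (c • t) = (defFunctor (Λ := k) (X₀ B₀) (x₀ (k := k) B₀)).map (scale c)
        (Φ P t) := by
      rw [Φ, Φ, Ψ_scale, h1, map_smul]
    rw [h2]
    exact (T.smul_eq c (Φ P t)).symm

/-- **`dim_k t_{Def} = dim_k T¹`** -/
theorem finrank_tangent_eq :
    Module.finrank k (TangentSpace (defFunctor (Λ := k) (X₀ B₀) (x₀ (k := k) B₀))) =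
      Module.finrank k (T1 P B₀) :=
  (LinearEquiv.ofBijective (ΦL P) (Φ_bijective P)).finrank_eq.symm

end Lin

end Groth.Agent.H61.DefTangent2
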