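import Groth.Prelude.Def_RelSpec2
import Groth.Prelude.Def_Coh
import Groth.Agent.H61.AffGlue2
import Groth.Agent.H41.ModGlue
import Groth.Agent.H8.QCohPush
import Groth.Agent.H8.QCohAffine
import Groth.Agent.H8.IsoCover

/-!
# Essential surjectivity of the direct image on quasi-coherent modules (EGA II 1.4.3)

For an affine morphism `f : X ⟶ S`, every `f_* O_X`-module `M` which is quasi-coherent as an
`O_S`-module is isomorphic to `f_* F` for a quasi-coherent `O_X`-module `F`.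
-/

set_option autoImplicit false
set_option linter.style.haveILetI false
set_option linter.unusedSectionVars false
universe u
open CategoryTheory CategoryTheory.Limits AlgebraicGeometry TopologicalSpace Opposite

noncomputable section

namespace Groth.Agent.H61.DirImgEss

open Groth.Agent.H61.AffGlue Groth.Agent.H8

/-- Affine opens of `S`, ordered by "is a basic open of". -/
structure BAff (S : Scheme.{u}) : Type u where
  V : S.Opens
  h : IsAffineOpen V

theorem basic_trans {Z : Scheme.{u}} {U V W : Z.Opens} (hU : IsAffineOpen U) (r : Γ(Z, U))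
    (hr : V = Z.basicOpen r) (r' : Γ(Z, V)) (hr' : W = Z.basicOpen r') :
    ∃ r'' : Γ(Z, U), W = Z.basicOpen r'' := by
  subst hr
  obtain ⟨f', hf'⟩ := hU.basicOpen_basicOpen_is_basicOpen r r'
  exact ⟨f', hr'.trans hf'.symm⟩

instance {S : Scheme.{u}} : Preorder (BAff S) where
  le j k := ∃ r : Γ(S, j.V), k.V = S.basicOpen r
  le_refl j := ⟨1, (S.basicOpen_of_isUnit isUnit_one).symm⟩
  le_trans i j k hij hjk := by
    obtain ⟨r, hr⟩ := hij
    obtain ⟨r', hr'⟩ := hjk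
    exact basic_trans i.h r hr r' hr'

theorem BAff.le_V {S : Scheme.{u}} {j k : BAff S} (h : j ≤ k) : k.V ≤ j.V := by
  obtain ⟨r, hr⟩ := h
  rw [hr]; exact S.basicOpen_le r

variable {X S : Scheme.{u}} (f : X ⟶ S) [IsAffineHom f]
  (M : AMod (RelSpec.QCAlg.directImage f))

/-- The opens of `X`. -/
def UU (j : BAff S) : X.Opens := f ⁻¹ᵁ j.V

theorem hUU (j : BAff S) : IsAffineOpen (UU f j) := j.h.preimage f

theorem hle {j k : BAff S} (h : j ≤ k) : UU f k ≤ UU f j := fun _ hx => BAff.le_V h hx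

instance instModSec (V : S.Opens) : Module Γ(X, f ⁻¹ᵁ V) (M.val.obj (op V)) :=
  (M.val.obj (op V)).isModule

/-- The sections of `M` over an affine open of `S`, as a module over the functions on its preimage. -/
def Msec (j : BAff S) : ModuleCat.{u} Γ(X, UU f j) :=
  ModuleCat.of Γ(X, f ⁻¹ᵁ j.V) (M.val.obj (op j.V))

/-- Restriction maps of `M`. -/
def resM {V W : S.Opens} (h : W ≤ V) : M.val.obj (op V) →+ M.val.obj (op W) :=
  (M.val.presheaf.map (homOfLE h).op).hom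

theorem resM_smul {V W : S.Opens} (h : W ≤ V) (r : Γ(X, f ⁻¹ᵁ V)) (m : M.val.obj (op V)) :
    resM f M h (r • m) =
      X.presheaf.map (homOfLE (show f ⁻¹ᵁ W ≤ f ⁻¹ᵁ V from fun _ hx => h hx)).op r •
        resM f M h m :=
  M.val.map_smul (homOfLE h).op r m

theorem resM_id {V : S.Opens} (h : V ≤ V) (m : M.val.obj (op V)) : resM f M h m = m := by
  have : (homOfLE h).op = 𝟙 (op V) := rfl
  unfold resM
  rw [this, M.val.presheaf.map_id]
  rfl

theorem resM_comp {V W W' : S.Opens} (h₁ : W ≤ V) (h₂ : W' ≤ W) (m : M.val.obj (op V)) :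
    resM f M h₂ (resM f M h₁ m) = resM f M (h₂.trans h₁) m := by
  have : (homOfLE (h₂.trans h₁)).op = (homOfLE h₁).op ≫ (homOfLE h₂).op := rfl
  unfold resM
  rw [this, M.val.presheaf.map_comp]
  rfl

/-- The transition maps. -/
def φM {j k : BAff S} (h : j ≤ k) : Msec f M j →+ Msec f M k := resM f M (BAff.le_V h)


theorem hφ {j k : BAff S} (h : j ≤ k) (r : Γ(X, UU f j)) (m : Msec f M j) :
    φM f M h (r • m) = X.presheaf.map (homOfLE (hle f h)).op r • φM f M h m :=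
  resM_smul f M (BAff.le_V h) r m

theorem hid (j : BAff S) (m : Msec f M j) : φM f M (le_refl j) m = m :=
  resM_id f M _ m

theorem hcomp {j k l : BAff S} (h₁ : j ≤ k) (h₂ : k ≤ l) (m : Msec f M j) :
    φM f M h₂ (φM f M h₁ m) = φM f M (h₁.trans h₂) m :=
  resM_comp f M _ _ m

theorem hdir (j k : BAff S) (x : X) (hxj : x ∈ UU f j) (hxk : x ∈ UU f k) :
    ∃ l : BAff S, j ≤ l ∧ k ≤ l ∧ x ∈ UU f l := by
  obtain ⟨s, s', hss', hys⟩ := exists_basicOpen_le_affine_inter j.h k.h (f x) ⟨hxj, hxk⟩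
  exact ⟨⟨S.basicOpen s, j.h.basicOpen s⟩, ⟨s, rfl⟩, ⟨s', hss'⟩, hys⟩

theorem hcov : IsOpenCover (UU f) := by
  refine IsOpenCover.mk (eq_top_iff.mpr fun x _ => ?_)
  obtain ⟨V, hV, hxV, -⟩ := exists_isAffineOpen_mem_and_subset (x := f x) (U := ⊤) trivial
  exact Opens.mem_iSup.mpr ⟨⟨V, hV⟩, hxV⟩

/-- `M` as an `O_S`-module. -/
abbrev M₀ : S.Modules := (AMod.toOS (RelSpec.QCAlg.directImage f)).obj M

theorem smul_M₀ (V : S.Opens) (r : Γ(S, V)) (m : Γ(M₀ f M, V)) :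
    r • m = (show M.val.obj (op V) from
      ((f.app V r : Γ(X, f ⁻¹ᵁ V)) • (show M.val.obj (op V) from m))) := rfl

theorem app_res_ring {V W : S.Opens} (h : W ≤ V) (r : Γ(S, V)) :
    f.app W (S.presheaf.map (homOfLE h).op r) =
      X.presheaf.map (homOfLE (show f ⁻¹ᵁ W ≤ f ⁻¹ᵁ V from fun _ hx => h hx)).op (f.app V r) :=
  congr($(f.naturality (homOfLE h).op) r)

variable [(M₀ f M).IsQuasicoherent]

theorem hloc {j k : BAff S} (h : j ≤ k) : ∃ r : Γ(X, UU f j), UU f k = X.basicOpen r ∧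
    (∀ m' : Msec f M k, ∃ (n : ℕ) (m : Msec f M j),
      (X.presheaf.map (homOfLE (hle f h)).op r) ^ n • m' = φM f M h m) ∧
    (∀ m : Msec f M j, φM f M h m = 0 → ∃ n : ℕ, r ^ n • m = 0) := by
  obtain ⟨kV, kh⟩ := k
  obtain ⟨r, hr⟩ := id h
  dsimp only at hr
  subst hr
  refine ⟨f.app j.V r, f.preimage_basicOpen r, ?_, ?_⟩
  · intro m'
    obtain ⟨n, x, hx⟩ := exists_smul_eq_res j.h (M₀ f M) r (show Γ(M₀ f M, S.basicOpen r) from m')
    refine ⟨n, x, ?_⟩
    rw [smul_M₀, map_pow, app_res_ring] at hx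
    exact hx
  · intro m hm
    obtain ⟨n, hn⟩ := exists_smul_eq_zero j.h (M₀ f M) r (show Γ(M₀ f M, j.V) from m) hm
    refine ⟨n, ?_⟩
    rw [smul_M₀, map_pow] at hn
    exact hn


theorem exists_F : ∃ (F : X.Modules) (iso : ∀ j : BAff S, Γ(F, UU f j) ≃+ Msec f M j),
    F.IsQuasicoherent ∧
    (∀ (j : BAff S) (a : Γ(X, UU f j)) (s : Γ(F, UU f j)), iso j (a • s) = a • iso j s) ∧
    (∀ {j k : BAff S} (h : j ≤ k) (s : Γ(F, UU f j)),
      iso k (F.presheaf.map (homOfLE (hle f h)).op s) = φM f M h (iso j s)) :=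
  exists_glue_qc (UU f) (hUU f) (Msec f M) (fun h => hle f h) (fun h => φM f M h)
    (hφ f M) (hid f M) (hcomp f M) (hloc f M) (hdir f) (hcov f)

section Main

variable (F : X.Modules) (iso : ∀ j : BAff S, Γ(F, UU f j) ≃+ Msec f M j)
  (hsm : ∀ (j : BAff S) (a : Γ(X, UU f j)) (s : Γ(F, UU f j)), iso j (a • s) = a • iso j s)
  (hres : ∀ {j k : BAff S} (h : j ≤ k) (s : Γ(F, UU f j)),
      iso k (F.presheaf.map (homOfLE (hle f h)).op s) = φM f M h (iso j s))

/-- The direct image as an `O_S`-module. -/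
abbrev G₀ : S.Modules := (Scheme.Modules.pushforward f).obj F

theorem smul_G₀ (V : S.Opens) (r : Γ(S, V)) (s : Γ(G₀ f F, V)) :
    r • s = (show Γ(F, f ⁻¹ᵁ V) from
      ((f.app V r : Γ(X, f ⁻¹ᵁ V)) • (show Γ(F, f ⁻¹ᵁ V) from s))) := rfl

include hsm in
theorem iso_symm_smul (j : BAff S) (a : Γ(X, UU f j)) (m : Msec f M j) :
    (iso j).symm (a • m) = a • (iso j).symm m := by
  apply (iso j).injective
  rw [hsm, AddEquiv.apply_symm_apply, AddEquiv.apply_symm_apply]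

/-- The linear maps on the affine opens. -/
def ψ (j : BAff S) : Γ(M₀ f M, j.V) →ₗ[Γ(S, j.V)] Γ(G₀ f F, j.V) where
  toFun m := (iso j).symm m
  map_add' a b := (iso j).symm.map_add a b
  map_smul' r m := by
    show (iso j).symm (r • m) = r • (show Γ(G₀ f F, j.V) from (iso j).symm m)
    rw [smul_M₀, smul_G₀]
    exact iso_symm_smul f M F iso hsm j (f.app j.V r) m

include hres in
theorem ψ_res {j k : BAff S} (h : j ≤ k) (x : Γ(M₀ f M, j.V)) :
    ψ f M F iso hsm k ((M₀ f M).presheaf.map (homOfLE (BAff.le_V h)).op x) =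
      (G₀ f F).presheaf.map (homOfLE (BAff.le_V h)).op (ψ f M F iso hsm j x) := by
  apply (iso k).injective
  have h1 : iso k ((G₀ f F).presheaf.map (homOfLE (BAff.le_V h)).op (ψ f M F iso hsm j x)) =
      φM f M h (iso j ((iso j).symm x)) := hres h ((iso j).symm x)
  rw [h1, AddEquiv.apply_symm_apply]
  exact (iso k).apply_symm_apply _

include hres in
theorem famDirected :
    Groth.Agent.H41.ModGlue.FamDirected (F := M₀ f M) (G := G₀ f F) (fun j : BAff S => j.V)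
      (ψ f M F iso hsm) := by
  intro i j y hyi hyj
  obtain ⟨s, s', hss', hys⟩ := exists_basicOpen_le_affine_inter i.h j.h y ⟨hyi, hyj⟩
  have hik : i ≤ (⟨S.basicOpen s, i.h.basicOpen s⟩ : BAff S) := ⟨s, rfl⟩
  have hjk : j ≤ (⟨S.basicOpen s, i.h.basicOpen s⟩ : BAff S) := ⟨s', hss'⟩
  exact ⟨⟨S.basicOpen s, i.h.basicOpen s⟩, hys, BAff.le_V hik, BAff.le_V hjk,
    fun x => ψ_res f M F iso hsm hres hik x, fun x => ψ_res f M F iso hsm hres hjk x⟩

theorem hcovS : IsOpenCover (fun j : BAff S => j.V) := by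
  refine IsOpenCover.mk (eq_top_iff.mpr fun x _ => ?_)
  obtain ⟨V, hV, hxV, -⟩ := exists_isAffineOpen_mem_and_subset (x := x) (U := ⊤) trivial
  exact Opens.mem_iSup.mpr ⟨⟨V, hV⟩, hxV⟩

variable [F.IsQuasicoherent]

instance : (G₀ f F).IsQuasicoherent := isQuasicoherent_pushforward f F

include hsm hres in
theorem exists_φ : ∃ φ : M₀ f M ⟶ G₀ f F, IsIso φ ∧
    ∀ (j : BAff S) (x : Γ(M₀ f M, j.V)), φ.app j.V x = (iso j).symm x := by
  obtain ⟨φ, hφ⟩ := Groth.Agent.H41.ModGlue.exists_hom_of_affine_family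
    (F := M₀ f M) (G := G₀ f F) (fun j : BAff S => j.V) (fun j => j.h)
    (ψ f M F iso hsm) (famDirected f M F iso hsm hres) hcovS
  refine ⟨φ, ?_, hφ⟩
  refine isIso_of_bijective_affine_cover φ (fun j : BAff S => j.V) hcovS (fun j => j.h) fun j => ?_
  have : (φ.app j.V : Γ(M₀ f M, j.V) → Γ(G₀ f F, j.V)) = (iso j).symm := funext (hφ j)
  rw [this]
  exact (iso j).symm.bijective

include hsm in
/-- Linearity over the direct-image algebra, on every open. -/
theorem φ_smul (φ : M₀ f M ⟶ G₀ f F)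
    (hφ : ∀ (j : BAff S) (x : Γ(M₀ f M, j.V)), φ.app j.V x = (iso j).symm x)
    (W : S.Opens) (r : Γ(X, f ⁻¹ᵁ W)) (m : M.val.obj (op W)) :
    (show Γ(F, f ⁻¹ᵁ W) from φ.app W (show Γ(M₀ f M, W) from r • m)) =
      r • (show Γ(F, f ⁻¹ᵁ W) from φ.app W (show Γ(M₀ f M, W) from m)) := by
  refine section_eq_of_cover F _ _ fun y hy => ?_
  obtain ⟨V, hV, hyV, hVW⟩ := exists_isAffineOpen_mem_and_subset (x := f y) (U := W) hy
  have hVW' : V ≤ W := hVW
  have hpre : f ⁻¹ᵁ V ≤ f ⁻¹ᵁ W := fun _ hx => hVW' hx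
  refine ⟨f ⁻¹ᵁ V, hpre, hyV, ?_⟩
  let j : BAff S := ⟨V, hV⟩
  have e1 : ∀ x : Γ(M₀ f M, W), F.presheaf.map (homOfLE hpre).op
      (show Γ(F, f ⁻¹ᵁ W) from φ.app W x) =
      (iso j).symm (resM f M hVW' x) := fun x =>
    ((app_res φ hVW' x).symm.trans (hφ j _))
  rw [e1, res_smul, e1, resM_smul]
  exact iso_symm_smul f M F iso hsm j _ _

/-- The morphism of modules over the direct-image algebra. -/
def Ψ (φ : M₀ f M ⟶ G₀ f F)
    (hlin : ∀ (W : S.Opens) (r : Γ(X, f ⁻¹ᵁ W)) (m : M.val.obj (op W)),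
      (show Γ(F, f ⁻¹ᵁ W) from φ.app W (show Γ(M₀ f M, W) from r • m)) =
        r • (show Γ(F, f ⁻¹ᵁ W) from φ.app W (show Γ(M₀ f M, W) from m))) :
    M ⟶ (AMod.dirImg f).obj F :=
  ({ val := PresheafOfModules.homMk
      (show M.val.presheaf ⟶ ((AMod.dirImg f).obj F).val.presheaf from
        (PresheafOfModules.toPresheaf S.ringCatSheaf.obj).map φ.val)
      (fun W r m => hlin W.unop r m) } : SheafOfModules.Hom M ((AMod.dirImg f).obj F))

theorem isIso_Ψ (φ : M₀ f M ⟶ G₀ f F) (hiso : IsIso φ)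
    (hlin : ∀ (W : S.Opens) (r : Γ(X, f ⁻¹ᵁ W)) (m : M.val.obj (op W)),
      (show Γ(F, f ⁻¹ᵁ W) from φ.app W (show Γ(M₀ f M, W) from r • m)) =
        r • (show Γ(F, f ⁻¹ᵁ W) from φ.app W (show Γ(M₀ f M, W) from m))) :
    IsIso (Ψ f M F φ hlin) := by
  have key : ∀ {A' B' : SheafOfModules.{u} S.ringCatSheaf} (ψ : A' ⟶ B') [IsIso ψ],
      IsIso ((SheafOfModules.toSheaf.{u} S.ringCatSheaf).map ψ) := fun ψ _ => inferInstance
  have h1 : IsIso ((SheafOfModules.toSheaf.{u} S.ringCatSheaf).map φ) := @key _ _ φ hiso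
  have h2 : IsIso ((SheafOfModules.toSheaf.{u} (AMod.ringSheaf (RelSpec.QCAlg.directImage f))).map
      (Ψ f M F φ hlin)) := h1
  exact isIso_of_reflects_iso _
    (SheafOfModules.toSheaf.{u} (AMod.ringSheaf (RelSpec.QCAlg.directImage f)))

end Main

variable (hM : (M₀ f M).IsQuasicoherent)

include hM in
/-- **EGA II 1.4.3 (essential surjectivity).** -/
theorem main : ∃ F : X.Modules, F.IsQuasicoherent ∧ Nonempty ((AMod.dirImg f).obj F ≅ M) := by
  haveI := hM
  obtain ⟨F, iso, hqc, hsm, hres⟩ := exists_F f M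
  haveI := hqc
  obtain ⟨φ, hiso, hφ⟩ := exists_φ f M F iso hsm (fun h s => hres h s)
  have hlin := φ_smul f M F iso hsm φ hφ
  haveI := isIso_Ψ f M F φ hiso hlin
  exact ⟨F, hqc, ⟨(asIso (Ψ f M F φ hlin)).symm⟩⟩

end Groth.Agent.H61.DirImgEss
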