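/-
Base change of duals of finitely generated projective modules and of cokernels of transposes
(helper61).  Also: `Ext¹` from a short exact sequence with projective middle term.
-/
import Mathlib
import Groth.Agent.H61.ExtPres

set_option autoImplicit false

namespace Groth.Agent.H61.DualBC

universe u

open TensorProduct Module

section Dual

variable (P : Type*) [CommRing P] (P' : Type*) [CommRing P'] [Algebra P P']

/-- the comparison map `P' ⊗ M^∨ → (P' ⊗ M)^∨` -/
noncomputable def Φ (M : Type*) [AddCommGroup M] [Module P M] :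
    P' ⊗[P] Dual P M →ₗ[P'] Dual P' (P' ⊗[P] M) :=
  LinearMap.liftBaseChange P' (Module.Dual.baseChange P')

lemma Φ_tmul_tmul (M : Type*) [AddCommGroup M] [Module P M] (a b : P') (g : Dual P M) (m : M) :
    Φ P P' M (a ⊗ₜ g) (b ⊗ₜ m) = a * (g m • b) := by
  rw [Φ, LinearMap.liftBaseChange_tmul, LinearMap.smul_apply, Module.Dual.baseChange_apply_tmul,
    smul_eq_mul]

/-- naturality of `Φ` -/
lemma Φ_natural {M N : Type*} [AddCommGroup M] [Module P M] [AddCommGroup N] [Module P N]
    (u : M →ₗ[P] N) :
    Φ P P' M ∘ₗ (u.dualMap.baseChange P') = (u.baseChange P').dualMap ∘ₗ Φ P P' N := by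
  refine TensorProduct.AlgebraTensorModule.curry_injective ?_
  refine LinearMap.ext fun a => LinearMap.ext fun g => ?_
  refine TensorProduct.AlgebraTensorModule.curry_injective ?_
  refine LinearMap.ext fun b => LinearMap.ext fun m => ?_
  simp only [TensorProduct.AlgebraTensorModule.curry_apply, LinearMap.restrictScalars_apply,
    TensorProduct.curry_apply, LinearMap.comp_apply, LinearMap.baseChange_tmul,
    LinearMap.dualMap_apply, Φ_tmul_tmul]

/-- `Φ` is bijective for finite free modules -/
lemma Φ_bijective_of_free (M : Type*) [AddCommGroup M] [Module P M] [Module.Free P M]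
    [Module.Finite P M] : Function.Bijective (Φ P P' M) := by
  have ibc : IsBaseChange P' (TensorProduct.mk P P' M 1) := TensorProduct.isBaseChange P M P'
  have : Φ P P' M = (ibc.toDualBaseChange : P' ⊗[P] Dual P M →ₗ[P'] Dual P' (P' ⊗[P] M)) := by
    refine TensorProduct.AlgebraTensorModule.curry_injective ?_
    refine LinearMap.ext fun a => LinearMap.ext fun g => ?_
    refine TensorProduct.AlgebraTensorModule.curry_injective ?_
    refine LinearMap.ext fun b => LinearMap.ext fun m => ?_
    simp only [TensorProduct.AlgebraTensorModule.curry_apply, LinearMap.restrictScalars_apply,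
      TensorProduct.curry_apply, Φ_tmul_tmul, LinearEquiv.coe_coe]
    have h1 : b ⊗ₜ[P] m = b • (TensorProduct.mk P P' M 1 m) := by
      rw [TensorProduct.mk_apply, TensorProduct.smul_tmul', smul_eq_mul, mul_one]
    rw [h1, map_smul, IsBaseChange.toDualBaseChange_tmul, smul_eq_mul, Algebra.smul_def]
    ring
  rw [this]
  exact ibc.toDualBaseChange.bijective

/-- `Φ` is bijective for finitely generated projective modules -/
theorem Φ_bijective (M : Type*) [AddCommGroup M] [Module P M] [Module.Projective P M]
    [Module.Finite P M] : Function.Bijective (Φ P P' M) := by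
  classical
  obtain ⟨k, r, hr⟩ := Module.Finite.exists_fin' P M
  obtain ⟨i, hi⟩ := Module.projective_lifting_property r LinearMap.id hr
  -- `r ∘ i = id`
  have hΦF := Φ_bijective_of_free P P' (Fin k → P)
  have hnat_r := Φ_natural P P' r
  have hnat_i := Φ_natural P P' i
  have hdual : i.dualMap ∘ₗ r.dualMap = LinearMap.id := by
    refine LinearMap.ext fun g => LinearMap.ext fun m => ?_
    simp only [LinearMap.comp_apply, LinearMap.dualMap_apply, LinearMap.id_apply]
    have := LinearMap.congr_fun hi m
    simp only [LinearMap.comp_apply, LinearMap.id_apply] at this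
    rw [this]
  have hbc : (i.dualMap.baseChange P') ∘ₗ (r.dualMap.baseChange P') = LinearMap.id := by
    rw [← LinearMap.baseChange_comp, hdual, LinearMap.baseChange_id]
  have hbc2 : (r.baseChange P') ∘ₗ (i.baseChange P') = LinearMap.id := by
    rw [← LinearMap.baseChange_comp, hi, LinearMap.baseChange_id]
  constructor
  · intro x y hxy
    have h1 : Φ P P' (Fin k → P) (r.dualMap.baseChange P' x) =
        Φ P P' (Fin k → P) (r.dualMap.baseChange P' y) := by
      have := fun z => LinearMap.congr_fun hnat_r z
      simp only [LinearMap.comp_apply] at this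
      rw [this, this, hxy]
    have h2 := hΦF.1 h1
    have h3 := congrArg (i.dualMap.baseChange P') h2
    have := fun z => LinearMap.congr_fun hbc z
    simp only [LinearMap.comp_apply, LinearMap.id_apply] at this
    rw [this, this] at h3
    exact h3
  · intro ψ
    obtain ⟨y, hy⟩ := hΦF.2 ((r.baseChange P').dualMap ψ)
    refine ⟨i.dualMap.baseChange P' y, ?_⟩
    have h1 := LinearMap.congr_fun hnat_i y
    simp only [LinearMap.comp_apply] at h1
    rw [h1, hy]
    have h2 : (i.baseChange P').dualMap ((r.baseChange P').dualMap ψ) =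
        ((r.baseChange P') ∘ₗ (i.baseChange P')).dualMap ψ := LinearMap.ext fun z => rfl
    rw [h2, hbc2, LinearMap.dualMap_id]
    rfl

/-- the comparison equivalence -/
noncomputable def ΦEquiv (M : Type*) [AddCommGroup M] [Module P M] [Module.Projective P M]
    [Module.Finite P M] : (P' ⊗[P] Dual P M) ≃ₗ[P'] Dual P' (P' ⊗[P] M) :=
  LinearEquiv.ofBijective (Φ P P' M) (Φ_bijective P P' M)

/-- **Base change of the cokernel of a transpose.** -/
theorem nonempty_cokerDual_baseChange {M N : Type*} [AddCommGroup M] [Module P M]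
    [AddCommGroup N] [Module P N] [Module.Projective P M] [Module.Finite P M]
    [Module.Projective P N] [Module.Finite P N] (d : M →ₗ[P] N) :
    Nonempty ((P' ⊗[P] (Dual P M ⧸ LinearMap.range d.dualMap)) ≃ₗ[P']
      (Dual P' (P' ⊗[P] M) ⧸ LinearMap.range (d.baseChange P').dualMap)) := by
  classical
  set q : Dual P M →ₗ[P] (Dual P M ⧸ LinearMap.range d.dualMap) := (LinearMap.range d.dualMap).mkQ
    with hq
  have hqs : Function.Surjective q := Submodule.mkQ_surjective _
  have hex : Function.Exact d.dualMap q := by
    intro x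
    rw [hq, Submodule.mkQ_apply, Submodule.Quotient.mk_eq_zero]
    rfl
  have hex' : Function.Exact (d.dualMap.baseChange P') (q.baseChange P') := by
    have := lTensor_exact P' hex hqs
    intro x
    have h1 := this x
    rw [LinearMap.baseChange_eq_ltensor, LinearMap.baseChange_eq_ltensor]
    exact h1
  have hqs' : Function.Surjective (q.baseChange P') := by
    rw [LinearMap.baseChange_eq_ltensor]
    exact LinearMap.lTensor_surjective P' hqs
  have hker : LinearMap.ker (q.baseChange P') = LinearMap.range (d.dualMap.baseChange P') :=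
    (LinearMap.exact_iff.mp hex')
  let e1 : ((P' ⊗[P] Dual P M) ⧸ LinearMap.range (d.dualMap.baseChange P')) ≃ₗ[P']
      P' ⊗[P] (Dual P M ⧸ LinearMap.range d.dualMap) :=
    (Submodule.quotEquivOfEq _ _ hker.symm).trans
      ((q.baseChange P').quotKerEquivOfSurjective hqs')
  have hmap : (LinearMap.range (d.dualMap.baseChange P')).map (ΦEquiv P P' M : _ →ₗ[P'] _) =
      LinearMap.range (d.baseChange P').dualMap := by
    rw [← LinearMap.range_comp]
    have h1 : (ΦEquiv P P' M : _ →ₗ[P'] _) ∘ₗ (d.dualMap.baseChange P') =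
        (d.baseChange P').dualMap ∘ₗ Φ P P' N := Φ_natural P P' d
    rw [h1, LinearMap.range_comp_of_range_eq_top]
    exact LinearMap.range_eq_top.mpr (Φ_bijective P P' N).2
  exact ⟨e1.symm.trans (Submodule.Quotient.equiv _ _ (ΦEquiv P P' M) hmap)⟩

end Dual

section Ext

open CategoryTheory

variable {B : Type u} [CommRing B] {M F N Y : Type u} [AddCommGroup M] [Module B M]
  [AddCommGroup F] [Module B F] [AddCommGroup N] [Module B N] [AddCommGroup Y] [Module B Y]

/-- `Ext¹(N, Y) ≅ Hom(M, Y) / Hom(F, Y)` for a short exact sequence `0 → M → F → N → 0` with `F`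
projective. -/
theorem nonempty_ext1Equiv [Module.Projective B F] (d : M →ₗ[B] F) (π : F →ₗ[B] N)
    (hd : Function.Injective d) (hex : Function.Exact d π) (hπ : Function.Surjective π) :
    Nonempty (((M →ₗ[B] Y) ⧸ LinearMap.range (LinearMap.lcomp B Y d)) ≃ₗ[B]
      Abelian.Ext (ModuleCat.of B N) (ModuleCat.of B Y) 1) := by
  have hrange : LinearMap.range d = LinearMap.ker π := (LinearMap.exact_iff.mp hex).symm
  let ε : M ≃ₗ[B] LinearMap.ker π :=
    (LinearEquiv.ofInjective d hd).trans (LinearEquiv.ofEq _ _ hrange)
  have hε : ∀ m, ((ε m : LinearMap.ker π) : F) = d m := fun m => rfl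
  let c : (LinearMap.ker π →ₗ[B] Y) ≃ₗ[B] (M →ₗ[B] Y) := LinearEquiv.congrLeft Y B ε.symm
  have hc : ∀ ψ : LinearMap.ker π →ₗ[B] Y, c ψ = ψ ∘ₗ (ε : M →ₗ[B] LinearMap.ker π) := by
    intro ψ
    ext m
    simp [c, LinearEquiv.congrLeft]
  have hmap : (LinearMap.range (Groth.Agent.H61.ExtPres.restr (Y := Y) π)).map (c : _ →ₗ[B] _) =
      LinearMap.range (LinearMap.lcomp B Y d) := by
    rw [← LinearMap.range_comp]
    congr 1
  exact ⟨(Submodule.Quotient.equiv _ _ c hmap).symm.trans
    (Groth.Agent.H61.ExtPres.ext1Equiv (Y := Y) π hπ)⟩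

end Ext

end Groth.Agent.H61.DualBC
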