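import Groth.Agent.H61.EssFTReg

/-!
# Regular local `k`-algebras essentially of finite type lift along nilpotent surjections
-/

set_option autoImplicit false
set_option linter.style.haveILetI false
set_option linter.unusedSectionVars false
universe u

namespace Groth.Agent.H61.EssFT

open IsLocalRing Groth.Agent.H23

section aug

variable {k : Type u} [Field k] {P : Type u} [CommRing P] [IsLocalRing P] [Algebra k P]
  (hres : Function.Surjective (algebraMap k (ResidueField P)))

/-- the augmentation `P → k` of a local `k`-algebra with residue field `k` -/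
noncomputable def aug : P →ₐ[k] k :=
  ((AlgEquiv.ofBijective (Algebra.ofId k (ResidueField P))
    ⟨(algebraMap k (ResidueField P)).injective, hres⟩).symm : ResidueField P →ₐ[k] k).comp
    (IsScalarTower.toAlgHom k P (ResidueField P))

theorem sub_aug_mem (p : P) : p - algebraMap k P (aug hres p) ∈ maximalIdeal P := by
  rw [← residue_eq_zero_iff, map_sub, sub_eq_zero]
  have h1 : residue P (algebraMap k P (aug hres p)) =
      algebraMap k (ResidueField P) (aug hres p) := rfl
  rw [h1]
  change _ = Algebra.ofId k (ResidueField P) (aug hres p)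
  have h2 := (AlgEquiv.ofBijective (Algebra.ofId k (ResidueField P))
    ⟨(algebraMap k (ResidueField P)).injective, hres⟩).apply_symm_apply (residue P p)
  exact h2.symm

theorem aug_eq_zero {p : P} (hp : p ∈ maximalIdeal P) : aug hres p = 0 := by
  have h1 := sub_aug_mem hres p
  have h2 : algebraMap k P (aug hres p) ∈ maximalIdeal P := by
    have := Ideal.sub_mem _ hp h1
    simpa using this
  by_contra h
  have hu : IsUnit (algebraMap k P (aug hres p)) := (IsUnit.mk0 _ h).map _
  exact (IsLocalRing.mem_maximalIdeal _).mp h2 hu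

/-- the "differential at the closed point" `P → m/m²` -/
noncomputable def tau : P →ₗ[k] CotangentSpace P where
  toFun p := (maximalIdeal P).toCotangent ⟨p - algebraMap k P (aug hres p), sub_aug_mem hres p⟩
  map_add' p q := by
    rw [← map_add]
    congr 1
    apply Subtype.ext
    simp only [map_add, Submodule.coe_add]
    ring
  map_smul' a p := by
    rw [RingHom.id_apply, ← LinearMap.map_smul_of_tower]
    congr 1
    apply Subtype.ext
    simp only [Submodule.coe_smul_of_tower, Algebra.smul_def, map_mul, AlgHom.commutes,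
      Algebra.algebraMap_self, RingHom.id_apply]
    ring

theorem tau_apply (p : P) : tau hres p =
    (maximalIdeal P).toCotangent ⟨p - algebraMap k P (aug hres p), sub_aug_mem hres p⟩ := rfl

theorem tau_of_mem {p : P} (hp : p ∈ maximalIdeal P) :
    tau hres p = (maximalIdeal P).toCotangent ⟨p, hp⟩ := by
  rw [tau_apply]
  congr 1
  apply Subtype.ext
  simp [aug_eq_zero hres hp]

theorem tau_mul (p q : P) :
    tau hres (p * q) = aug hres p • tau hres q + aug hres q • tau hres p := by
  simp only [tau_apply]
  rw [← LinearMap.map_smul_of_tower, ← LinearMap.map_smul_of_tower, ← map_add, ← sub_eq_zero,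
    ← map_sub, Ideal.toCotangent_eq_zero]
  have h1 := Ideal.mul_mem_mul (sub_aug_mem hres p) (sub_aug_mem hres q)
  rw [← pow_two] at h1
  convert h1 using 1
  simp only [map_mul, Submodule.coe_sub, Submodule.coe_add, Submodule.coe_smul_of_tower,
    Algebra.smul_def]
  ring

theorem tau_one : tau hres (1 : P) = 0 := by
  rw [tau_apply]
  convert map_zero (maximalIdeal P).toCotangent
  simp

end aug

section small

variable {k : Type u} [Field k] {P : Type u} [CommRing P] [IsLocalRing P] [Algebra k P]
  {B' : Type u} [CommRing B'] [IsLocalRing B'] [Algebra k B']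
  (hresB : Function.Surjective (algebraMap k (ResidueField B')))

include hresB in
/-- a `k`-algebra map from a local `k`-algebra to a local `k`-algebra with residue field `k`
is local -/
theorem map_mem_maximalIdeal (h : P →ₐ[k] B') {x : P} (hx : x ∈ maximalIdeal P) :
    h x ∈ maximalIdeal B' := by
  obtain ⟨a, ha⟩ := exists_sub_mem hresB (h x)
  by_cases ha0 : a = 0
  · simpa [ha0] using ha
  · exfalso
    have hu : IsUnit (algebraMap k P a) := (IsUnit.mk0 _ ha0).map _
    have h1 : x - algebraMap k P a ∉ maximalIdeal P := by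
      intro h1
      have h2 : algebraMap k P a ∈ maximalIdeal P := by
        have := Ideal.sub_mem _ hx h1
        simpa using this
      exact (IsLocalRing.mem_maximalIdeal _).mp h2 hu
    have h2 : IsUnit (x - algebraMap k P a) := IsLocalRing.notMem_maximalIdeal.mp h1
    have h3 := h2.map h
    rw [map_sub, AlgHom.commutes] at h3
    exact (IsLocalRing.mem_maximalIdeal _).mp ha h3

include hresB in
/-- correcting a map `h : P → B'` by a "derivation" `lam ∘ tau` with values in an ideal `K` killed
by the maximal ideal -/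
theorem exists_deriv_hom
    (hres : Function.Surjective (algebraMap k (ResidueField P)))
    (h : P →ₐ[k] B') (K : Ideal B') (hKtop : K ≠ ⊤)
    (hK : ∀ c ∈ maximalIdeal B', ∀ j ∈ K, c * j = 0)
    (lam : CotangentSpace P →ₗ[k] B') (hlamK : ∀ w, lam w ∈ K) :
    ∃ h' : P →ₐ[k] B', ∀ p, h' p = h p - lam (tau hres p) := by
  have hKm : K ≤ maximalIdeal B' := le_maximalIdeal hKtop
  have hsm : ∀ (p : P), ∀ j ∈ K, h p * j = aug hres p • j := by
    intro p j hj
    have h1 := hK _ (map_mem_maximalIdeal hresB h (sub_aug_mem hres p)) j hj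
    rw [map_sub, AlgHom.commutes, sub_mul, sub_eq_zero] at h1
    rw [h1, Algebra.smul_def]
  let L : P →ₗ[k] B' := lam.comp (tau hres)
  have hLK : ∀ p, L p ∈ K := fun p => hlamK _
  have hLmul : ∀ p q, L (p * q) = aug hres p • L q + aug hres q • L p := by
    intro p q
    change lam (tau hres (p * q)) = _
    rw [tau_mul, map_add, map_smul, map_smul]
    rfl
  let h' : P →ₐ[k] B' := AlgHom.ofLinearMap (h.toLinearMap - L)
    (by
      change h 1 - lam (tau hres 1) = 1
      rw [tau_one, map_zero, sub_zero, map_one])
    (by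
      intro p q
      change h (p * q) - L (p * q) = (h p - L p) * (h q - L q)
      rw [hLmul, map_mul, sub_mul, mul_sub, mul_sub, hsm p _ (hLK q),
        mul_comm (L p) (h q), hsm q _ (hLK p), hK _ (hKm (hLK p)) _ (hLK q)]
      ring)
  exact ⟨h', fun p => rfl⟩

end small

section kill

variable {k : Type u} [Field k] {P : Type u} [CommRing P] [IsRegularLocalRing P] [Algebra k P]
  (hres : Function.Surjective (algebraMap k (ResidueField P)))
  (I : Ideal P) [IsRegularLocalRing (P ⧸ I)]
  {B' : Type u} [CommRing B'] [IsLocalRing B'] [Algebra k B']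
  (hresB : Function.Surjective (algebraMap k (ResidueField B')))

include hres in
/-- generators of `I` (with `P`, `P/I` regular) extend to a `k`-basis of the cotangent space -/
theorem exists_basis_cot :
    ∃ (c k' : ℕ) (x : Fin c → P) (hxm : ∀ i, x i ∈ maximalIdeal P)
      (𝔟' : Module.Basis (Fin c ⊕ Fin k') k (CotangentSpace P)),
      I = Ideal.span (Set.range x) ∧
        ∀ i, 𝔟' (Sum.inl i) = (maximalIdeal P).toCotangent ⟨x i, hxm i⟩ := by
  classical
  obtain ⟨c, k', x, y, hck, hm, hIx, -⟩ := exists_generators_of_regular_quotient P I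
  have hxm : ∀ i, x i ∈ maximalIdeal P := fun i => by
    rw [hm]; exact Ideal.subset_span (Or.inl ⟨i, rfl⟩)
  have hym : ∀ j, y j ∈ maximalIdeal P := fun j => by
    rw [hm]; exact Ideal.subset_span (Or.inr ⟨j, rfl⟩)
  let v : Fin c ⊕ Fin k' → CotangentSpace P :=
    Sum.elim (fun i => (maximalIdeal P).toCotangent ⟨x i, hxm i⟩)
      (fun j => (maximalIdeal P).toCotangent ⟨y j, hym j⟩)
  have hspan : ⊤ ≤ Submodule.span (ResidueField P) (Set.range v) := by
    let s : Set (maximalIdeal P) :=
      Set.range (fun i => (⟨x i, hxm i⟩ : maximalIdeal P)) ∪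
        Set.range (fun j => (⟨y j, hym j⟩ : maximalIdeal P))
    have h1 : Submodule.span P s = ⊤ := by
      apply Submodule.map_injective_of_injective (maximalIdeal P).injective_subtype
      rw [Submodule.map_span, Submodule.map_top, Submodule.range_subtype, Set.image_union,
        ← Set.range_comp, ← Set.range_comp]
      exact hm.symm
    have h2 := CotangentSpace.span_image_eq_top_iff.mpr h1
    rw [← h2]
    apply Submodule.span_mono
    rintro _ ⟨u, hu, rfl⟩
    rcases hu with ⟨i, rfl⟩ | ⟨j, rfl⟩
    · exact ⟨Sum.inl i, rfl⟩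
    · exact ⟨Sum.inr j, rfl⟩
  have hcard : Fintype.card (Fin c ⊕ Fin k') =
      Module.finrank (ResidueField P) (CotangentSpace P) := by
    have h1 : ((maximalIdeal P).spanFinrank : WithBot ℕ∞) = ringKrullDim P :=
      IsRegularLocalRing.spanFinrank_maximalIdeal
    rw [← spanFinrank_maximalIdeal_eq_finrank_cotangentSpace, Fintype.card_sum, Fintype.card_fin,
      Fintype.card_fin]
    rw [← hck] at h1
    exact_mod_cast h1.symm
  let 𝔟 := basisOfTopLeSpanOfCardEqFinrank v hspan hcard
  let e : ResidueField P ≃+* k :=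
    (RingEquiv.ofBijective (algebraMap k (ResidueField P))
      ⟨(algebraMap k (ResidueField P)).injective, hres⟩).symm
  have he : ∀ (z : ResidueField P) (w : CotangentSpace P), e z • w = z • w := by
    intro z w
    obtain ⟨a, rfl⟩ := hres z
    have h1 : e (algebraMap k (ResidueField P) a) = a :=
      (RingEquiv.ofBijective (algebraMap k (ResidueField P))
        ⟨(algebraMap k (ResidueField P)).injective, hres⟩).symm_apply_apply a
    rw [h1, ← algebraMap_smul P a w, ← algebraMap_smul (ResidueField P) (algebraMap k P a) w]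
    rfl
  refine ⟨c, k', x, hxm, 𝔟.mapCoeffs e he, hIx, fun i => ?_⟩
  rw [Module.Basis.mapCoeffs_apply, coe_basisOfTopLeSpanOfCardEqFinrank]
  rfl

include hres hresB in
/-- a map `P → B'` sending `I` into an ideal `K` killed by the maximal ideal can be corrected
modulo `K` to kill `I`, when `P` and `P/I` are regular -/
theorem exists_kill (h : P →ₐ[k] B') (K : Ideal B') (hKtop : K ≠ ⊤)
    (hK : ∀ c ∈ maximalIdeal B', ∀ j ∈ K, c * j = 0) (hI : ∀ x ∈ I, h x ∈ K) :
    ∃ h' : P →ₐ[k] B', (∀ p, h' p - h p ∈ K) ∧ ∀ x ∈ I, h' x = 0 := by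
  classical
  obtain ⟨c, k', x, y, hck, hm, hIx, -⟩ := exists_generators_of_regular_quotient P I
  have hxm : ∀ i, x i ∈ maximalIdeal P := fun i => by
    rw [hm]; exact Ideal.subset_span (Or.inl ⟨i, rfl⟩)
  have hym : ∀ j, y j ∈ maximalIdeal P := fun j => by
    rw [hm]; exact Ideal.subset_span (Or.inr ⟨j, rfl⟩)
  let v : Fin c ⊕ Fin k' → CotangentSpace P :=
    Sum.elim (fun i => (maximalIdeal P).toCotangent ⟨x i, hxm i⟩)
      (fun j => (maximalIdeal P).toCotangent ⟨y j, hym j⟩)
  have hspan : ⊤ ≤ Submodule.span (ResidueField P) (Set.range v) := by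
    let s : Set (maximalIdeal P) :=
      Set.range (fun i => (⟨x i, hxm i⟩ : maximalIdeal P)) ∪
        Set.range (fun j => (⟨y j, hym j⟩ : maximalIdeal P))
    have h1 : Submodule.span P s = ⊤ := by
      apply Submodule.map_injective_of_injective (maximalIdeal P).injective_subtype
      rw [Submodule.map_span, Submodule.map_top, Submodule.range_subtype, Set.image_union,
        ← Set.range_comp, ← Set.range_comp]
      exact hm.symm
    have h2 := CotangentSpace.span_image_eq_top_iff.mpr h1
    rw [← h2]
    apply Submodule.span_mono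
    rintro _ ⟨u, hu, rfl⟩
    rcases hu with ⟨i, rfl⟩ | ⟨j, rfl⟩
    · exact ⟨Sum.inl i, rfl⟩
    · exact ⟨Sum.inr j, rfl⟩
  have hcard : Fintype.card (Fin c ⊕ Fin k') =
      Module.finrank (ResidueField P) (CotangentSpace P) := by
    have h1 : ((maximalIdeal P).spanFinrank : WithBot ℕ∞) = ringKrullDim P :=
      IsRegularLocalRing.spanFinrank_maximalIdeal
    rw [← spanFinrank_maximalIdeal_eq_finrank_cotangentSpace, Fintype.card_sum, Fintype.card_fin,
      Fintype.card_fin]
    rw [← hck] at h1
    exact_mod_cast h1.symm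
  let 𝔟 := basisOfTopLeSpanOfCardEqFinrank v hspan hcard
  let e : ResidueField P ≃+* k :=
    (RingEquiv.ofBijective (algebraMap k (ResidueField P))
      ⟨(algebraMap k (ResidueField P)).injective, hres⟩).symm
  have he : ∀ (z : ResidueField P) (w : CotangentSpace P), e z • w = z • w := by
    intro z w
    obtain ⟨a, rfl⟩ := hres z
    have h1 : e (algebraMap k (ResidueField P) a) = a :=
      (RingEquiv.ofBijective (algebraMap k (ResidueField P))
        ⟨(algebraMap k (ResidueField P)).injective, hres⟩).symm_apply_apply a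
    rw [h1, ← algebraMap_smul P a w, ← algebraMap_smul (ResidueField P) (algebraMap k P a) w]
    rfl
  let 𝔟' : Module.Basis (Fin c ⊕ Fin k') k (CotangentSpace P) := 𝔟.mapCoeffs e he
  let fv : Fin c ⊕ Fin k' → B' := Sum.elim (fun i => h (x i)) (fun _ => 0)
  let lam : CotangentSpace P →ₗ[k] B' := 𝔟'.constr k fv
  have hfv : ∀ i, fv i ∈ K := by
    rintro (i | j)
    · exact hI _ (hIx ▸ Ideal.subset_span ⟨i, rfl⟩)
    · exact K.zero_mem
  have hlamK : ∀ w, lam w ∈ K := by
    intro w
    rw [Module.Basis.constr_apply_fintype]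
    refine Ideal.sum_mem _ fun i _ => ?_
    rw [Algebra.smul_def]
    exact Ideal.mul_mem_left _ _ (hfv i)
  have hlamx : ∀ i, lam ((maximalIdeal P).toCotangent ⟨x i, hxm i⟩) = h (x i) := by
    intro i
    have h1 : 𝔟' (Sum.inl i) = (maximalIdeal P).toCotangent ⟨x i, hxm i⟩ := by
      rw [Module.Basis.mapCoeffs_apply, coe_basisOfTopLeSpanOfCardEqFinrank]
      rfl
    rw [← h1, Module.Basis.constr_basis]
    rfl
  have hKm : K ≤ maximalIdeal B' := le_maximalIdeal hKtop
  have hsm : ∀ (p : P), ∀ j ∈ K, h p * j = aug hres p • j := by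
    intro p j hj
    have h1 := hK _ (map_mem_maximalIdeal hresB h (sub_aug_mem hres p)) j hj
    rw [map_sub, AlgHom.commutes, sub_mul, sub_eq_zero] at h1
    rw [h1, Algebra.smul_def]
  let L : P →ₗ[k] B' := lam.comp (tau hres)
  have hLK : ∀ p, L p ∈ K := fun p => hlamK _
  have hLmul : ∀ p q, L (p * q) = aug hres p • L q + aug hres q • L p := by
    intro p q
    change lam (tau hres (p * q)) = _
    rw [tau_mul, map_add, map_smul, map_smul]
    rfl
  let h' : P →ₐ[k] B' := AlgHom.ofLinearMap (h.toLinearMap - L)
    (by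
      change h 1 - lam (tau hres 1) = 1
      rw [tau_one, map_zero, sub_zero, map_one])
    (by
      intro p q
      change h (p * q) - L (p * q) = (h p - L p) * (h q - L q)
      rw [hLmul, map_mul, sub_mul, mul_sub, mul_sub, hsm p _ (hLK q),
        mul_comm (L p) (h q), hsm q _ (hLK p), hK _ (hKm (hLK p)) _ (hLK q)]
      ring)
  have hh' : ∀ p, h' p = h p - L p := fun p => rfl
  refine ⟨h', ?_, ?_⟩
  · intro p
    rw [hh', sub_sub_cancel_left]
    exact K.neg_mem (hLK p)
  · have h1 : I ≤ RingHom.ker h' := by
      rw [hIx, Ideal.span_le]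
      rintro _ ⟨i, rfl⟩
      change h' (x i) = 0
      rw [hh']
      change h (x i) - lam (tau hres (x i)) = 0
      rw [tau_of_mem hres (hxm i), hlamx, sub_self]
    exact fun x hx => h1 hx

end kill

end Groth.Agent.H61.EssFT
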