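import Groth.Agent.H61.EssFTLift

/-!
# Lifting along nilpotent surjections for regular local algebras essentially of finite type
-/

set_option autoImplicit false
set_option linter.style.haveILetI false
set_option linter.unusedSectionVars false
universe u

namespace Groth.Agent.H61.EssFT

open IsLocalRing Groth.Agent.H23

/-- maps out of a localized polynomial ring lift along surjections of local rings -/
theorem loc_lift {k : Type u} [Field k] {ι : Type u} (p : Ideal (MvPolynomial ι k)) [p.IsPrime]
    {B' B'' : Type u} [CommRing B'] [IsLocalRing B'] [Algebra k B'] [CommRing B'']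
    [Nontrivial B''] [Algebra k B'']
    (π : B' →ₐ[k] B'') (hπ : Function.Surjective π) (f : Localization.AtPrime p →ₐ[k] B'') :
    ∃ h : Localization.AtPrime p →ₐ[k] B', π.comp h = f := by
  let b : ι → B' := fun i =>
    Function.surjInv hπ
      (f (algebraMap (MvPolynomial ι k) (Localization.AtPrime p) (MvPolynomial.X i)))
  let h₀ : MvPolynomial ι k →ₐ[k] B' := MvPolynomial.aeval b
  have h1 : π.comp h₀ =
      f.comp (IsScalarTower.toAlgHom k (MvPolynomial ι k) (Localization.AtPrime p)) := by
    apply MvPolynomial.algHom_ext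
    intro i
    simp [h₀, b, Function.surjInv_eq]
  haveI : IsLocalHom (π : B' →+* B'') := IsLocalHom.of_surjective _ hπ
  have hunit : ∀ y : p.primeCompl, IsUnit (h₀ y) := by
    intro y
    have h2 : IsUnit (π (h₀ y)) := by
      have h3 := congrArg (fun F => F (y : MvPolynomial ι k)) h1
      simp only [AlgHom.comp_apply] at h3
      rw [h3]
      exact (IsLocalization.map_units (Localization.AtPrime p) y).map f
    exact isUnit_of_map_unit (π : B' →+* B'') _ h2
  let h : Localization.AtPrime p →ₐ[k] B' := IsLocalization.liftAlgHom (M := p.primeCompl) hunit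
  refine ⟨h, ?_⟩
  apply AlgHom.coe_ringHom_injective
  apply IsLocalization.ringHom_ext p.primeCompl
  refine RingHom.ext fun q => ?_
  have h3 := congrArg (fun F => F q) h1
  simp only [AlgHom.comp_apply] at h3
  have h4 : h (algebraMap _ (Localization.AtPrime p) q) = h₀ q := by
    simp [h, IsLocalization.liftAlgHom_apply]
  simp only [RingHom.comp_apply, AlgHom.coe_toRingHom, AlgHom.comp_apply] at h3 ⊢
  · exact (congrArg π h4).trans h3

/-- lifting along surjections whose kernel is killed by the maximal ideal -/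
theorem small_lift {k : Type u} [Field k] {ι : Type u} [Finite ι]
    (p : Ideal (MvPolynomial ι k)) [p.IsPrime]
    {A : Type u} [CommRing A] [IsRegularLocalRing A] [Algebra k A]
    (φ : Localization.AtPrime p →ₐ[k] A) (hφ : Function.Surjective φ)
    (hresA : Function.Surjective (algebraMap k (ResidueField A)))
    {B' B'' : Type u} [CommRing B'] [IsLocalRing B'] [Algebra k B'] [CommRing B'']
    [Nontrivial B''] [Algebra k B'']
    (hresB : Function.Surjective (algebraMap k (ResidueField B')))
    (π : B' →ₐ[k] B'') (hπ : Function.Surjective π)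
    (hK : ∀ c ∈ maximalIdeal B', ∀ j ∈ RingHom.ker π, c * j = 0)
    (f : A →ₐ[k] B'') : ∃ g : A →ₐ[k] B', π.comp g = f := by
  have hresP := residue_surj_of_surjective φ hφ hresA
  set I : Ideal (Localization.AtPrime p) := RingHom.ker φ with hI
  haveI : IsRegularLocalRing (Localization.AtPrime p ⧸ I) :=
    IsRegularLocalRing.of_ringEquiv (RingHom.quotientKerEquivOfSurjective hφ).symm
  obtain ⟨h, hh⟩ := loc_lift p π hπ (f.comp φ)
  have hKtop : RingHom.ker π ≠ ⊤ := RingHom.ker_ne_top _
  have hIK : ∀ x ∈ I, h x ∈ RingHom.ker π := by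
    intro x hx
    have h1 := congrArg (fun F => F x) hh
    simp only [AlgHom.comp_apply] at h1
    have h2 : φ x = 0 := hx
    rw [RingHom.mem_ker, h1, h2, map_zero]
  obtain ⟨h', h1, h2⟩ := exists_kill hresP I hresB h (RingHom.ker π) hKtop hK hIK
  let g : A →ₐ[k] B' := AlgHom.liftOfSurjective φ hφ h' (fun x hx => h2 x hx)
  have hg : ∀ x, g (φ x) = h' x := AlgHom.liftOfSurjective_apply φ hφ h' _
  refine ⟨g, ?_⟩
  apply (AlgHom.cancel_right hφ).mp
  refine AlgHom.ext fun x => ?_
  have h3 := congrArg (fun F => F x) hh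
  simp only [AlgHom.comp_apply] at h3 ⊢
  rw [hg, ← h3]
  have h4 : π (h' x - h x) = 0 := h1 x
  rw [map_sub, sub_eq_zero] at h4
  exact h4

section nil

variable (k : Type u) [Field k] (A : Type u) [CommRing A] [Algebra k A]

/-- lifting along surjections of finite local `k`-algebras whose kernel is killed by the maximal
ideal -/
def SmallLift : Prop :=
  ∀ (B' B'' : Type u) [CommRing B'] [IsLocalRing B'] [Algebra k B'] [Module.Finite k B']
    [CommRing B''] [IsLocalRing B''] [Algebra k B''] (π : B' →ₐ[k] B''),
    Function.Surjective π → (∀ c ∈ maximalIdeal B', ∀ j ∈ RingHom.ker π, c * j = 0) →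
    ∀ f : A →ₐ[k] B'', ∃ g : A →ₐ[k] B', π.comp g = f

variable {k A}

theorem nil_lift (hsmall : SmallLift k A) : ∀ (n : ℕ)
    (B' B'' : Type u) [CommRing B'] [IsLocalRing B'] [Algebra k B'] [Module.Finite k B']
    [CommRing B''] [IsLocalRing B''] [Algebra k B''] (π : B' →ₐ[k] B''),
    Function.Surjective π → Module.finrank k ((RingHom.ker π).restrictScalars k) ≤ n →
    ∀ f : A →ₐ[k] B'', ∃ g : A →ₐ[k] B', π.comp g = f := by
  intro n
  induction n with
  | zero =>
    intro B' B'' _ _ _ _ _ _ _ π hπ hn f
    have h0 : Module.finrank k ((RingHom.ker π).restrictScalars k) = 0 := Nat.le_zero.mp hn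
    have h1 : (RingHom.ker π).restrictScalars k = ⊥ := Submodule.finrank_eq_zero.mp h0
    refine hsmall B' B'' π hπ ?_ f
    intro c _ j hj
    have hj' : j ∈ (RingHom.ker π).restrictScalars k := hj
    rw [h1, Submodule.mem_bot] at hj'
    rw [hj', mul_zero]
  | succ n ih =>
    intro B' B'' _ _ _ _ _ _ _ π hπ hn f
    set K : Ideal B' := RingHom.ker π with hKdef
    by_cases hK0 : K = ⊥
    · refine hsmall B' B'' π hπ ?_ f
      intro c _ j hj
      have hj' : j ∈ K := hj
      rw [hK0, Ideal.mem_bot] at hj'
      rw [hj', mul_zero]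
    set K' : Ideal B' := maximalIdeal B' * K with hK'def
    have hK'K : K' ≤ K := Ideal.mul_le_right
    have hKtop : K ≠ ⊤ := RingHom.ker_ne_top _
    have hKm : K ≤ maximalIdeal B' := le_maximalIdeal hKtop
    have hK'ne : K' ≠ K := by
      intro h
      apply hK0
      haveI : IsNoetherianRing B' := IsNoetherianRing.of_finite k B'
      refine Submodule.eq_bot_of_le_smul_of_le_jacobson_bot (maximalIdeal B') K
        (IsNoetherian.noetherian K) ?_ ?_
      · rw [smul_eq_mul, ← hK'def, h]
      · rw [IsLocalRing.jacobson_eq_maximalIdeal ⊥ bot_ne_top]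
    have hlt : K'.restrictScalars k < K.restrictScalars k := by
      refine lt_of_le_of_ne (fun x hx => hK'K hx) ?_
      intro h
      apply hK'ne
      exact Submodule.restrictScalars_injective k B' B' h
    have hfin : Module.finrank k (K'.restrictScalars k) ≤ n := by
      have := Submodule.finrank_lt_finrank_of_lt hlt
      omega
    have hK'top : K' ≠ ⊤ := fun h => hKtop (top_le_iff.mp (h ▸ hK'K))
    haveI : Nontrivial (B' ⧸ K') := Ideal.Quotient.nontrivial_iff.mpr hK'top
    haveI : IsLocalRing (B' ⧸ K') :=
      IsLocalRing.of_surjective' (Ideal.Quotient.mk K') Ideal.Quotient.mk_surjective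
    haveI : Module.Finite k (B' ⧸ K') :=
      Module.Finite.of_surjective (Ideal.Quotient.mkₐ k K').toLinearMap
        (Ideal.Quotient.mkₐ_surjective k K')
    haveI : IsLocalHom (Ideal.Quotient.mk K') :=
      IsLocalHom.of_surjective _ Ideal.Quotient.mk_surjective
    let π₁ : B' →ₐ[k] B' ⧸ K' := Ideal.Quotient.mkₐ k K'
    let π₂ : B' ⧸ K' →ₐ[k] B'' := Ideal.Quotient.liftₐ K' π (fun a ha => hK'K ha)
    have hπ₂ : Function.Surjective π₂ := by
      intro z
      obtain ⟨b, rfl⟩ := hπ z
      exact ⟨Ideal.Quotient.mk K' b, rfl⟩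
    have hπ₂K : ∀ c ∈ maximalIdeal (B' ⧸ K'), ∀ j ∈ RingHom.ker π₂, c * j = 0 := by
      intro c hc j hj
      obtain ⟨c', rfl⟩ := Ideal.Quotient.mk_surjective c
      obtain ⟨j', rfl⟩ := Ideal.Quotient.mk_surjective j
      have hc' : c' ∈ maximalIdeal B' := by
        rw [mem_maximalIdeal, map_mem_nonunits_iff] at hc
        exact hc
      have hj' : j' ∈ K := by
        have : π₂ (Ideal.Quotient.mk K' j') = 0 := hj
        exact this
      rw [← map_mul, Ideal.Quotient.eq_zero_iff_mem]
      exact Ideal.mul_mem_mul hc' hj'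
    obtain ⟨g₂, hg₂⟩ := hsmall (B' ⧸ K') B'' π₂ hπ₂ hπ₂K f
    have hker₁ : RingHom.ker π₁ = K' := Ideal.Quotient.mkₐ_ker k K'
    obtain ⟨g, hg⟩ := ih B' (B' ⧸ K') π₁ (Ideal.Quotient.mkₐ_surjective k K')
      (by rw [hker₁]; exact hfin) g₂
    refine ⟨g, ?_⟩
    ext x
    have h1 := congrArg (fun F => F x) hg
    have h2 := congrArg (fun F => F x) hg₂
    simp only [AlgHom.comp_apply] at h1 h2 ⊢
    rw [← h2, ← h1]
    rfl

end nil

/-- finite local algebras over an algebraically closed field have residue field `k` -/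
theorem resk_of_finite (k : Type u) [Field k] [IsAlgClosed k] (B' : Type u) [CommRing B']
    [IsLocalRing B'] [Algebra k B'] [Module.Finite k B'] :
    Function.Surjective (algebraMap k (ResidueField B')) := by
  haveI : Module.Finite k (ResidueField B') :=
    Module.Finite.of_surjective (IsScalarTower.toAlgHom k B' (ResidueField B')).toLinearMap
      residue_surjective
  haveI : Algebra.IsIntegral k (ResidueField B') := Algebra.IsIntegral.of_finite k _
  exact (IsAlgClosed.algebraMap_bijective_of_isIntegral (k := k) (K := ResidueField B')).2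

end Groth.Agent.H61.EssFT
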