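/-
Extensions of an algebra by a module (`Exal.Ext`): morphisms are equivalences, lifts of a surjection
`R → B`, the linear map `ker → M` of a lift, lifts differ by derivations, the push-out extension
attached to a linear map `ker → M` (helper61).
-/
import Groth.Prelude.Def_Exal
import Mathlib

set_option autoImplicit false

noncomputable section

namespace Groth.Agent.H61.ExalLib

open Exal

universe u v

section General

variable {A : Type u} {B M : Type v} [CommRing A] [CommRing B] [Algebra A B] [AddCommGroup M] [Module B M]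

lemma proj_incl (X : Ext A B M) (z : M) : X.proj (X.incl z) = 0 :=
  (X.isExtension.exact _).2 ⟨z, rfl⟩

lemma incl_mul_incl (X : Ext A B M) (z z' : M) : X.incl z * X.incl z' = 0 := by
  rw [X.isExtension.mul_incl, proj_incl, zero_smul, map_zero]

/-- a morphism of extensions is an equivalence -/
def equivOfHom (X Y : Ext A B M) (θ : X.E →ₐ[A] Y.E) (h1 : ∀ x, Y.proj (θ x) = X.proj x)
    (h2 : ∀ z, θ (X.incl z) = Y.incl z) : X.Equiv Y where
  toAlgEquiv := AlgEquiv.ofBijective θ (by
    constructor
    · rw [injective_iff_map_eq_zero]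
      intro e he
      have hp : X.proj e = 0 := by rw [← h1, he, map_zero]
      obtain ⟨z, rfl⟩ := (X.isExtension.exact e).1 hp
      rw [h2] at he
      have : z = 0 := Y.isExtension.incl_injective (by rw [he, map_zero])
      rw [this, map_zero]
    · intro y
      obtain ⟨e, he⟩ := X.isExtension.proj_surjective (Y.proj y)
      have hp : Y.proj (y - θ e) = 0 := by rw [map_sub, h1, he, sub_self]
      obtain ⟨z, hz⟩ := (Y.isExtension.exact _).1 hp
      refine ⟨e + X.incl z, ?_⟩
      rw [map_add, h2, hz]; ring)
  proj_apply := h1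
  apply_incl := h2

end General

section Lifts

variable {A : Type u} {R B M : Type v} [CommRing A] [CommRing R] [CommRing B] [Algebra A R] [Algebra A B]
  [Algebra R B] [IsScalarTower A R B] [AddCommGroup M] [Module B M] [Module R M] [IsScalarTower R B M]

variable (X : Ext A B M) (u : R →ₐ[A] X.E) (hu : ∀ r, X.proj (u r) = algebraMap R B r)

include hu in
lemma proj_lift_ker (x : RingHom.ker (algebraMap R B)) : X.proj (u x) = 0 := by
  rw [hu]; exact x.2

/-- the linear map `ker(R → B) → M` attached to a lift -/
def del : RingHom.ker (algebraMap R B) →ₗ[R] M where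
  toFun x := X.kerLift (u x) (proj_lift_ker X u hu x)
  map_add' x y := by
    apply X.isExtension.incl_injective
    have hx := Ext.incl_kerLift X (u x) (proj_lift_ker X u hu x)
    have hy := Ext.incl_kerLift X (u y) (proj_lift_ker X u hu y)
    have hxy := Ext.incl_kerLift X (u ((x + y : RingHom.ker (algebraMap R B)) : R))
      (proj_lift_ker X u hu (x + y))
    rw [map_add, hx, hy]
    refine hxy.trans ?_
    change u ((x : R) + (y : R)) = _
    rw [map_add]
  map_smul' r x := by
    apply X.isExtension.incl_injective
    have hx := Ext.incl_kerLift X (u x) (proj_lift_ker X u hu x)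
    have hrx := Ext.incl_kerLift X (u ((r • x : RingHom.ker (algebraMap R B)) : R))
      (proj_lift_ker X u hu (r • x))
    rw [RingHom.id_apply]
    refine hrx.trans ?_
    change u (r * (x : R)) = _
    rw [map_mul, ← algebraMap_smul B r, ← hu r, ← X.isExtension.mul_incl, hx]

@[simp] lemma incl_del (x : RingHom.ker (algebraMap R B)) : X.incl (del X u hu x) = u x :=
  Ext.incl_kerLift X (u x) (proj_lift_ker X u hu x)

include hu in
lemma rho_mul (r r' : R) (m m' : M) :
    (u r + X.incl m) * (u r' + X.incl m') = u (r * r') + X.incl (r • m' + r' • m) := by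
  rw [add_mul, mul_add, mul_add, incl_mul_incl, add_zero, X.isExtension.mul_incl, hu,
    mul_comm (X.incl m) (u r'), X.isExtension.mul_incl, hu, algebraMap_smul, algebraMap_smul, map_mul,
    map_add]
  ring

include hu in
lemma rho_surj (hπ : Function.Surjective (algebraMap R B)) (e : X.E) :
    ∃ (r : R) (m : M), e = u r + X.incl m := by
  obtain ⟨r, hr⟩ := hπ (X.proj e)
  have hp : X.proj (e - u r) = 0 := by rw [map_sub, hu, hr, sub_self]
  obtain ⟨m, hm⟩ := (X.isExtension.exact _).1 hp
  exact ⟨r, m, by rw [hm]; ring⟩

include hu in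
lemma rho_eq_zero (r : R) (m : M) (h : u r + X.incl m = 0) :
    ∃ hr : r ∈ RingHom.ker (algebraMap R B), m = - del X u hu ⟨r, hr⟩ := by
  have hr : r ∈ RingHom.ker (algebraMap R B) := by
    have := congrArg X.proj h
    rw [map_add, proj_incl, add_zero, hu, map_zero] at this
    exact this
  refine ⟨hr, X.isExtension.incl_injective ?_⟩
  rw [map_neg, incl_del]
  exact eq_neg_of_add_eq_zero_right h

/-- Two extensions with lifts having the same `del` are equivalent. -/
theorem nonempty_equiv_of_del_eq (hπ : Function.Surjective (algebraMap R B))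
    (Y : Ext A B M) (u' : R →ₐ[A] Y.E) (hu' : ∀ r, Y.proj (u' r) = algebraMap R B r)
    (h : ∀ x, del X u hu x = del Y u' hu' x) : Nonempty (X.Equiv Y) := by
  classical
  choose rr mm hrm using rho_surj X u hu hπ
  have key : ∀ r m, u' (rr (u r + X.incl m)) + Y.incl (mm (u r + X.incl m)) = u' r + Y.incl m := by
    intro r m
    have h0 := hrm (u r + X.incl m)
    set r₁ := rr (u r + X.incl m)
    set m₁ := mm (u r + X.incl m)
    have h1 : u (r₁ - r) + X.incl (m₁ - m) = 0 := by
      rw [map_sub, map_sub, ← sub_eq_zero.mpr h0.symm]; ring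
    obtain ⟨hr, hm⟩ := rho_eq_zero X u hu _ _ h1
    have h2 : u' (r₁ - r) + Y.incl (m₁ - m) = 0 := by
      rw [hm, h, map_neg, incl_del]
      exact add_neg_cancel _
    rw [map_sub, map_sub] at h2
    rw [← sub_eq_zero, ← h2]; ring
  let θf : X.E → Y.E := fun e => u' (rr e) + Y.incl (mm e)
  have hθ : ∀ r m, θf (u r + X.incl m) = u' r + Y.incl m := key
  let θ : X.E →ₐ[A] Y.E :=
    { toFun := θf
      map_one' := by
        have := hθ 1 0
        rw [map_one, map_zero, add_zero, map_one, map_zero, add_zero] at this
        exact this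
      map_mul' := fun e e' => by
        obtain ⟨r, m, rfl⟩ := rho_surj X u hu hπ e
        obtain ⟨r', m', rfl⟩ := rho_surj X u hu hπ e'
        rw [rho_mul X u hu, hθ, hθ, hθ, rho_mul Y u' hu']
      map_zero' := by
        have := hθ 0 0
        rw [map_zero, map_zero, add_zero, map_zero, map_zero, add_zero] at this
        exact this
      map_add' := fun e e' => by
        obtain ⟨r, m, rfl⟩ := rho_surj X u hu hπ e
        obtain ⟨r', m', rfl⟩ := rho_surj X u hu hπ e'
        have e1 : u r + X.incl m + (u r' + X.incl m') = u (r + r') + X.incl (m + m') := by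
          rw [map_add, map_add]; ring
        rw [e1, hθ, hθ, hθ, map_add, map_add]; ring
      commutes' := fun a => by
        have := hθ (algebraMap A R a) 0
        rw [map_zero, add_zero, map_zero, add_zero, AlgHom.commutes, AlgHom.commutes] at this
        exact this }
  refine ⟨equivOfHom X Y θ (fun e => ?_) (fun z => ?_)⟩
  · obtain ⟨r, m, rfl⟩ := rho_surj X u hu hπ e
    change Y.proj (θf _) = _
    rw [hθ, map_add, map_add, proj_incl, proj_incl, hu, hu']
  · have := hθ 0 z
    rw [map_zero, zero_add, map_zero, zero_add] at this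
    exact this

/-- transport of a lift along an equivalence keeps `del` -/
lemma del_comp_equiv (Y : Ext A B M) (e : X.Equiv Y) (x : RingHom.ker (algebraMap R B)) :
    del Y (e.toAlgEquiv.toAlgHom.comp u) (fun r => by
      change Y.proj (e.toAlgEquiv (u r)) = _
      rw [e.proj_apply, hu]) x = del X u hu x := by
  apply Y.isExtension.incl_injective
  rw [incl_del, ← e.apply_incl, incl_del]
  rfl

section Deriv

variable [Module A M] [IsScalarTower A R M]

include hu in
lemma proj_sub_lift (u' : R →ₐ[A] X.E) (hu' : ∀ r, X.proj (u' r) = algebraMap R B r) (r : R) :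
    X.proj (u r - u' r) = 0 := by rw [map_sub, hu, hu', sub_self]

/-- the difference of two lifts, as a function -/
def liftDiffFun (u' : R →ₐ[A] X.E) (hu' : ∀ r, X.proj (u' r) = algebraMap R B r) (r : R) : M :=
  X.kerLift (u r - u' r) (proj_sub_lift X u hu u' hu' r)

lemma incl_liftDiffFun (u' : R →ₐ[A] X.E) (hu' : ∀ r, X.proj (u' r) = algebraMap R B r) (r : R) :
    X.incl (liftDiffFun X u hu u' hu' r) = u r - u' r := Ext.incl_kerLift X _ _

/-- the difference of two lifts is a derivation -/
def liftDiff (u' : R →ₐ[A] X.E) (hu' : ∀ r, X.proj (u' r) = algebraMap R B r) : Derivation A R M where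
  toFun := liftDiffFun X u hu u' hu'
  map_add' r s := by
    apply X.isExtension.incl_injective
    rw [map_add, incl_liftDiffFun, incl_liftDiffFun, incl_liftDiffFun, map_add, map_add]; ring
  map_smul' a r := by
    apply X.isExtension.incl_injective
    rw [RingHom.id_apply, incl_liftDiffFun, map_smul, map_smul, ← smul_sub, ← incl_liftDiffFun,
      Algebra.smul_def, X.isExtension.mul_incl, AlgHom.commutes, IsScalarTower.algebraMap_apply A R B,
      algebraMap_smul, algebraMap_smul]
  map_one_eq_zero' := by
    apply X.isExtension.incl_injective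
    change X.incl (liftDiffFun X u hu u' hu' 1) = _
    rw [incl_liftDiffFun, map_one, map_one, sub_self, map_zero]
  leibniz' r s := by
    apply X.isExtension.incl_injective
    change X.incl (liftDiffFun X u hu u' hu' (r * s)) =
      X.incl (r • liftDiffFun X u hu u' hu' s + s • liftDiffFun X u hu u' hu' r)
    rw [incl_liftDiffFun, map_add, ← algebraMap_smul B r, ← algebraMap_smul B s, ← hu r, ← hu' s,
      ← X.isExtension.mul_incl, ← X.isExtension.mul_incl, incl_liftDiffFun, incl_liftDiffFun, map_mul,
      map_mul]
    ring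

lemma incl_liftDiff (u' : R →ₐ[A] X.E) (hu' : ∀ r, X.proj (u' r) = algebraMap R B r) (r : R) :
    X.incl (liftDiff X u hu u' hu' r) = u r - u' r := incl_liftDiffFun X u hu u' hu' r

lemma del_sub_del (u' : R →ₐ[A] X.E) (hu' : ∀ r, X.proj (u' r) = algebraMap R B r)
    (x : RingHom.ker (algebraMap R B)) :
    del X u hu x - del X u' hu' x = liftDiff X u hu u' hu' x := by
  apply X.isExtension.incl_injective
  rw [map_sub, incl_del, incl_del, incl_liftDiff]

/-- modify a lift by a derivation -/
def liftAdd (D : Derivation A R M) : R →ₐ[A] X.E where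
  toFun r := u r + X.incl (D r)
  map_one' := by rw [map_one, Derivation.map_one_eq_zero, map_zero, add_zero]
  map_mul' r s := by
    rw [rho_mul X u hu, Derivation.leibniz]
  map_zero' := by rw [map_zero, map_zero, map_zero, add_zero]
  map_add' r s := by rw [map_add, map_add, map_add]; ring
  commutes' a := by
    rw [Derivation.map_algebraMap, map_zero, add_zero, AlgHom.commutes]

lemma liftAdd_apply (D : Derivation A R M) (r : R) : liftAdd X u hu D r = u r + X.incl (D r) := rfl

lemma proj_liftAdd (D : Derivation A R M) (r : R) : X.proj (liftAdd X u hu D r) = algebraMap R B r := by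
  rw [liftAdd_apply, map_add, proj_incl, add_zero, hu]

lemma del_liftAdd (D : Derivation A R M) (x : RingHom.ker (algebraMap R B)) :
    del X (liftAdd X u hu D) (proj_liftAdd X u hu D) x = del X u hu x + D x := by
  apply X.isExtension.incl_injective
  rw [incl_del, map_add, incl_del, liftAdd_apply]

end Deriv

end Lifts

section Push

variable {A : Type u} {R B M : Type v} [CommRing A] [CommRing R] [CommRing B] [Algebra A R] [Algebra A B]
  [Algebra R B] [IsScalarTower A R B] [AddCommGroup M] [Module B M] [Module R M] [IsScalarTower R B M]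

attribute [local instance] Exal.opModule Exal.isCentralScalar_opModule

variable (δ : RingHom.ker (algebraMap R B) →ₗ[R] M)

omit [IsScalarTower R B M] in
lemma op_smul_eq (r : R) (m : M) : MulOpposite.op r • m = r • m := rfl

lemma ker_smul (x : RingHom.ker (algebraMap R B)) (m : M) : (x : R) • m = 0 := by
  rw [← algebraMap_smul B (x : R) m, show algebraMap R B (x : R) = 0 from x.2, zero_smul]

/-- the ideal `{(x, -δ x)}` of `R ⋉ M` -/
def pushIdeal : Ideal (TrivSqZeroExt R M) where
  carrier := {t | ∃ x : RingHom.ker (algebraMap R B),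
    t = TrivSqZeroExt.inl (x : R) + TrivSqZeroExt.inr (-(δ x))}
  add_mem' := by
    rintro _ _ ⟨x, rfl⟩ ⟨y, rfl⟩
    refine ⟨x + y, ?_⟩
    refine TrivSqZeroExt.ext ?_ ?_
    · simp
    · simp [add_comm]
  zero_mem' := ⟨0, by simp⟩
  smul_mem' := by
    rintro c _ ⟨x, rfl⟩
    refine ⟨c.fst • x, ?_⟩
    refine TrivSqZeroExt.ext ?_ ?_
    · simp
    · simp only [smul_eq_mul, TrivSqZeroExt.snd_mul, TrivSqZeroExt.snd_add, TrivSqZeroExt.snd_inl,
        TrivSqZeroExt.snd_inr, zero_add, TrivSqZeroExt.fst_add, TrivSqZeroExt.fst_inl,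
        TrivSqZeroExt.fst_inr, add_zero, map_smul, smul_neg]
      rw [op_smul_eq, ker_smul, add_zero]

lemma mem_pushIdeal_iff (t : TrivSqZeroExt R M) :
    t ∈ pushIdeal δ ↔ ∃ x : RingHom.ker (algebraMap R B),
      t = TrivSqZeroExt.inl (x : R) + TrivSqZeroExt.inr (-(δ x)) := Iff.rfl

/-- carrier of the push-out extension -/
def PushCarrier : Type v := TrivSqZeroExt R M ⧸ pushIdeal δ

instance : CommRing (PushCarrier δ) := inferInstanceAs (CommRing (TrivSqZeroExt R M ⧸ pushIdeal δ))

/-- the quotient map -/
def pushMk : TrivSqZeroExt R M →+* PushCarrier δ := Ideal.Quotient.mk (pushIdeal δ)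

lemma pushMk_surjective : Function.Surjective (pushMk δ) := Ideal.Quotient.mk_surjective

lemma pushMk_eq_zero_iff (t : TrivSqZeroExt R M) : pushMk δ t = 0 ↔ t ∈ pushIdeal δ :=
  Ideal.Quotient.eq_zero_iff_mem

instance : Algebra A (PushCarrier δ) :=
  ((pushMk δ).comp ((TrivSqZeroExt.inlHom R M).comp (algebraMap A R))).toAlgebra

/-- first projection as a ring hom -/
def fstRingHom : TrivSqZeroExt R M →+* R where
  toFun := TrivSqZeroExt.fst
  map_one' := TrivSqZeroExt.fst_one
  map_mul' := TrivSqZeroExt.fst_mul
  map_zero' := TrivSqZeroExt.fst_zero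
  map_add' := TrivSqZeroExt.fst_add

/-- the projection of the push-out extension, as a ring hom -/
def pushProjRing : PushCarrier δ →+* B :=
  Ideal.Quotient.lift (pushIdeal δ) ((algebraMap R B).comp fstRingHom) (by
    rintro _ ⟨x, rfl⟩
    change algebraMap R B (TrivSqZeroExt.fst _) = 0
    rw [TrivSqZeroExt.fst_add, TrivSqZeroExt.fst_inl, TrivSqZeroExt.fst_inr, add_zero]
    exact x.2)

lemma pushProjRing_mk (t : TrivSqZeroExt R M) : pushProjRing δ (pushMk δ t) = algebraMap R B t.fst := rfl

variable (A) in
/-- the projection of the push-out extension -/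
def pushProj : PushCarrier δ →ₐ[A] B :=
  { pushProjRing δ with
    commutes' := fun a => by
      change pushProjRing δ (pushMk δ (TrivSqZeroExt.inl (algebraMap A R a))) = _
      rw [pushProjRing_mk, TrivSqZeroExt.fst_inl]
      exact (IsScalarTower.algebraMap_apply A R B a).symm }

lemma pushProj_mk (t : TrivSqZeroExt R M) : pushProj A δ (pushMk δ t) = algebraMap R B t.fst := rfl

/-- the inclusion of the push-out extension -/
def pushIncl : M →+ PushCarrier δ :=
  (pushMk δ).toAddMonoidHom.comp (TrivSqZeroExt.inrHom R M).toAddMonoidHom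

lemma pushIncl_apply (m : M) : pushIncl δ m = pushMk δ (TrivSqZeroExt.inr m) := rfl

variable (A) in
/-- the push-out extension attached to `δ : ker → M` -/
def pushExt (hπ : Function.Surjective (algebraMap R B)) : Ext A B M where
  E := PushCarrier δ
  proj := pushProj A δ
  incl := pushIncl δ
  isExtension :=
    { proj_surjective := fun b => by
        obtain ⟨r, rfl⟩ := hπ b
        exact ⟨pushMk δ (TrivSqZeroExt.inl r), by rw [pushProj_mk, TrivSqZeroExt.fst_inl]⟩
      incl_injective := by
        rw [injective_iff_map_eq_zero]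
        intro m hm
        rw [pushIncl_apply, pushMk_eq_zero_iff] at hm
        obtain ⟨x, hx⟩ := hm
        have h1 := congrArg TrivSqZeroExt.fst hx
        have h2 := congrArg TrivSqZeroExt.snd hx
        simp only [TrivSqZeroExt.fst_inr, TrivSqZeroExt.fst_add, TrivSqZeroExt.fst_inl, add_zero] at h1
        simp only [TrivSqZeroExt.snd_inr, TrivSqZeroExt.snd_add, TrivSqZeroExt.snd_inl, zero_add] at h2
        have hx0 : x = 0 := Subtype.ext h1.symm
        rw [h2, hx0, map_zero, neg_zero]
      exact := fun e => by
        obtain ⟨t, rfl⟩ := pushMk_surjective δ e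
        constructor
        · intro h
          rw [pushProj_mk] at h
          refine ⟨t.snd + δ ⟨t.fst, h⟩, ?_⟩
          rw [pushIncl_apply, ← sub_eq_zero, ← map_sub, pushMk_eq_zero_iff]
          refine ⟨-⟨t.fst, h⟩, ?_⟩
          refine TrivSqZeroExt.ext ?_ ?_
          · simp
          · simp
        · rintro ⟨m, hm⟩
          rw [← hm, pushIncl_apply, pushProj_mk, TrivSqZeroExt.fst_inr, map_zero]
      mul_incl := fun e z => by
        obtain ⟨t, rfl⟩ := pushMk_surjective δ e
        rw [pushIncl_apply, pushIncl_apply, ← map_mul, pushProj_mk]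
        congr 1
        refine TrivSqZeroExt.ext ?_ ?_
        · simp
        · simp only [TrivSqZeroExt.snd_mul, TrivSqZeroExt.snd_inr, TrivSqZeroExt.fst_inr,
            MulOpposite.op_zero, zero_smul, add_zero, algebraMap_smul] }

variable (A) in
/-- the canonical lift `R → E_δ` -/
def pushLift : R →ₐ[A] PushCarrier δ :=
  { (pushMk δ).comp (TrivSqZeroExt.inlHom R M) with
    commutes' := fun _ => rfl }

lemma pushLift_apply (r : R) : pushLift A δ r = pushMk δ (TrivSqZeroExt.inl r) := rfl

lemma proj_pushLift (hπ : Function.Surjective (algebraMap R B)) (r : R) :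
    (pushExt A δ hπ).proj (pushLift A δ r) = algebraMap R B r := by
  change pushProj A δ (pushMk δ (TrivSqZeroExt.inl r)) = _
  rw [pushProj_mk, TrivSqZeroExt.fst_inl]

lemma incl_pushExt (hπ : Function.Surjective (algebraMap R B)) (x : RingHom.ker (algebraMap R B)) :
    (pushExt A δ hπ).incl (δ x) = pushLift A δ (x : R) := by
  change pushIncl δ (δ x) = pushMk δ (TrivSqZeroExt.inl (x : R))
  rw [pushIncl_apply, eq_comm, ← sub_eq_zero, ← map_sub, pushMk_eq_zero_iff]
  refine ⟨x, ?_⟩
  refine TrivSqZeroExt.ext ?_ ?_
  · simp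
  · simp

lemma del_pushExt (hπ : Function.Surjective (algebraMap R B)) (x : RingHom.ker (algebraMap R B)) :
    del (pushExt A δ hπ) (pushLift A δ) (proj_pushLift δ hπ) x = δ x := by
  apply (pushExt A δ hπ).isExtension.incl_injective
  rw [incl_del, incl_pushExt]
  rfl

end Push

end Groth.Agent.H61.ExalLib

end
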