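/-
The middle ring of an extension of a complete Noetherian local ring by a simple module is again a
complete Noetherian local ring (helper61).
-/
import Groth.Agent.H61.ExalLib

set_option autoImplicit false

noncomputable section

namespace Groth.Agent.H61.ExalLib

open Exal IsLocalRing

universe u v

section Noeth

variable {E B M : Type*} [CommRing E] [CommRing B] [Algebra E B] [AddCommGroup M] [Module E M] [Module B M]
  [IsScalarTower E B M]

/-- restriction of scalars along a surjection preserves Noetherianity -/
theorem isNoetherian_of_surjective_algebraMap (hs : Function.Surjective (algebraMap E B))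
    [IsNoetherian B M] : IsNoetherian E M := by
  let F : Submodule E M → Submodule B M := fun s =>
    { carrier := s
      add_mem' := s.add_mem
      zero_mem' := s.zero_mem
      smul_mem' := fun b x hx => by
        obtain ⟨e, rfl⟩ := hs b
        rw [algebraMap_smul]
        exact s.smul_mem e hx }
  have hF : StrictMono F := fun s t hst => by
    refine lt_of_le_of_ne (fun x hx => hst.le hx) (fun h => hst.ne ?_)
    ext x
    exact (SetLike.ext_iff.mp h x)
  rw [isNoetherian_iff']
  haveI : WellFoundedGT (Submodule B M) := isNoetherian_iff'.mp inferInstance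
  exact hF.wellFoundedGT

end Noeth

variable {A : Type u} {B L : Type v} [CommRing A] [CommRing B] [Algebra A B] [AddCommGroup L] [Module B L]
variable (X : Ext A B L)

/-- the projection of an extension reflects units -/
theorem isLocalHom_proj : IsLocalHom (X.proj : X.E →+* B) := by
  refine ⟨fun a ha => ?_⟩
  obtain ⟨b', hb'⟩ := ha.exists_right_inv
  obtain ⟨b, rfl⟩ := X.isExtension.proj_surjective b'
  have h0 : X.proj (a * b - 1) = 0 := by
    rw [map_sub, map_mul, map_one]
    exact sub_eq_zero.mpr hb'
  obtain ⟨z, hz⟩ := (X.isExtension.exact _).1 h0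
  refine IsUnit.of_mul_eq_one (b * (1 - X.incl z)) ?_
  have : a * b = 1 + X.incl z := by rw [hz]; ring
  rw [← mul_assoc, this]
  have h2 := incl_mul_incl X z z
  linear_combination (-1 : X.E) * h2

theorem isLocalRing_E [IsLocalRing B] : IsLocalRing X.E :=
  haveI := isLocalHom_proj X
  RingHom.domain_isLocalRing (X.proj : X.E →+* B)

theorem isNoetherianRing_E [IsNoetherianRing B] [IsNoetherian B L] : IsNoetherianRing X.E := by
  letI : Algebra X.E B := (X.proj : X.E →+* B).toAlgebra
  letI : Module X.E L := Module.compHom L (algebraMap X.E B)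
  haveI : IsScalarTower X.E B L := IsScalarTower.of_compHom X.E B L
  have hs : Function.Surjective (algebraMap X.E B) := X.isExtension.proj_surjective
  haveI : IsNoetherian X.E L := isNoetherian_of_surjective_algebraMap hs
  haveI : IsNoetherian X.E B := isNoetherian_of_surjective_algebraMap hs
  let f : L →ₗ[X.E] X.E :=
    { toFun := X.incl
      map_add' := map_add X.incl
      map_smul' := fun e z => by
        rw [RingHom.id_apply, smul_eq_mul, X.isExtension.mul_incl]
        rfl }
  let g : X.E →ₗ[X.E] B :=
    { toFun := X.proj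
      map_add' := map_add X.proj
      map_smul' := fun e x => by
        rw [RingHom.id_apply, smul_eq_mul, map_mul, Algebra.smul_def]
        rfl }
  refine isNoetherian_of_range_eq_ker f g ?_
  ext x
  rw [LinearMap.mem_ker, LinearMap.mem_range]
  exact ((X.isExtension.exact x).trans ⟨fun ⟨z, hz⟩ => ⟨z, hz⟩, fun ⟨z, hz⟩ => ⟨z, hz⟩⟩).symm

/-- the kernel ideal of an extension -/
def kerIdeal : Ideal X.E := RingHom.ker (X.proj : X.E →+* B)

lemma mem_kerIdeal_iff (x : X.E) : x ∈ kerIdeal X ↔ ∃ z, X.incl z = x :=
  (X.isExtension.exact x)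

/-- an ideal contained in the kernel of an extension by a simple module is zero or the kernel -/
lemma eq_bot_or_eq_ker [IsSimpleModule B L] (I : Ideal X.E) (hI : I ≤ kerIdeal X) :
    I = ⊥ ∨ I = kerIdeal X := by
  let I' : Submodule B L :=
    { carrier := {z | X.incl z ∈ I}
      add_mem' := fun {a b} ha hb => by
        change X.incl (a + b) ∈ I
        rw [map_add]; exact I.add_mem ha hb
      zero_mem' := by
        change X.incl 0 ∈ I
        rw [map_zero]; exact I.zero_mem
      smul_mem' := fun b z hz => by
        obtain ⟨e, rfl⟩ := X.isExtension.proj_surjective b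
        change X.incl (X.proj e • z) ∈ I
        rw [← X.isExtension.mul_incl]
        exact I.mul_mem_left e hz }
  rcases eq_bot_or_eq_top I' with h | h
  · left
    rw [eq_bot_iff]
    intro x hx
    obtain ⟨z, rfl⟩ := (mem_kerIdeal_iff X x).1 (hI hx)
    have : z ∈ I' := hx
    rw [h, Submodule.mem_bot] at this
    rw [this, map_zero]; exact Submodule.zero_mem _
  · right
    refine le_antisymm hI fun x hx => ?_
    obtain ⟨z, rfl⟩ := (mem_kerIdeal_iff X x).1 hx
    have : z ∈ I' := by rw [h]; exact Submodule.mem_top
    exact this

/-- some power of the maximal ideal meets the kernel trivially -/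
lemma exists_pow_inf_ker_eq_bot [IsLocalRing X.E] [IsNoetherianRing X.E] [IsSimpleModule B L] :
    ∃ N : ℕ, maximalIdeal X.E ^ N ⊓ kerIdeal X = ⊥ := by
  by_contra hcon
  push_neg at hcon
  have hall : ∀ N, kerIdeal X ≤ maximalIdeal X.E ^ N := by
    intro N
    rcases eq_bot_or_eq_ker X (maximalIdeal X.E ^ N ⊓ kerIdeal X) inf_le_right with h | h
    · exact absurd h (hcon N)
    · rw [← h]; exact inf_le_left
  have hle : kerIdeal X ≤ ⨅ N, maximalIdeal X.E ^ N := le_iInf hall
  rw [Ideal.iInf_pow_eq_bot_of_isLocalRing _ (maximalIdeal.isMaximal X.E).ne_top] at hle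
  haveI : Nontrivial L := IsSimpleModule.nontrivial B L
  obtain ⟨z, hz⟩ := exists_ne (0 : L)
  have : X.incl z ∈ kerIdeal X := (mem_kerIdeal_iff X _).2 ⟨z, rfl⟩
  have h0 : X.incl z = 0 := by simpa using hle this
  exact hz (X.isExtension.incl_injective (by rw [h0, map_zero]))

/-- the middle ring of an extension of a complete Noetherian local ring by a simple module is complete -/
theorem isAdicComplete_E [IsLocalRing B] [IsNoetherianRing B] [IsAdicComplete (maximalIdeal B) B]
    [IsSimpleModule B L] [IsLocalRing X.E] [IsNoetherianRing X.E] :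
    IsAdicComplete (maximalIdeal X.E) X.E := by
  have hmap : ∀ n, (maximalIdeal X.E ^ n).map (X.proj : X.E →+* B) = maximalIdeal B ^ n := by
    intro n
    rw [Ideal.map_pow, IsLocalRing.map_maximalIdeal_of_surjective (X.proj : X.E →+* B)
      X.isExtension.proj_surjective]
  obtain ⟨N, hN⟩ := exists_pow_inf_ker_eq_bot X
  haveI : IsPrecomplete (maximalIdeal X.E) X.E := by
    refine ⟨fun f hf => ?_⟩
    have hf' : ∀ {m n}, m ≤ n → f m - f n ∈ maximalIdeal X.E ^ m := by
      intro m n hmn
      have := hf hmn
      rw [SModEq.sub_mem, smul_eq_mul, Ideal.mul_top] at this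
      exact this
    -- the image sequence converges in `B`
    obtain ⟨r, hr⟩ := IsPrecomplete.prec (inferInstance : IsPrecomplete (maximalIdeal B) B)
      (f := fun n => X.proj (f n)) (by
        intro m n hmn
        rw [SModEq.sub_mem, smul_eq_mul, Ideal.mul_top, ← map_sub, ← hmap]
        exact Ideal.mem_map_of_mem _ (hf' hmn))
    obtain ⟨e, rfl⟩ := X.isExtension.proj_surjective r
    have hr' : ∀ n, X.proj (f n - e) ∈ maximalIdeal B ^ n := by
      intro n
      have := hr n
      rw [SModEq.sub_mem, smul_eq_mul, Ideal.mul_top] at this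
      rw [map_sub]
      exact this
    have hex : ∀ n, ∃ a ∈ maximalIdeal X.E ^ n, ∃ l : L, f n - e = a + X.incl l := by
      intro n
      have h1 := hr' n
      rw [← hmap] at h1
      obtain ⟨a, ha, hpa⟩ := (Ideal.mem_map_iff_of_surjective (X.proj : X.E →+* B)
        X.isExtension.proj_surjective).1 h1
      have h2 : X.proj (f n - e - a) = 0 := by
        rw [map_sub (X.proj) (f n - e) a]
        exact sub_eq_zero.mpr hpa.symm
      obtain ⟨l, hl⟩ := (X.isExtension.exact _).1 h2
      exact ⟨a, ha, l, by rw [hl]; ring⟩
    choose a ha l hl using hex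
    have hconst : ∀ n, N ≤ n → l n = l N := by
      intro n hn
      have h1 : X.incl (l n - l N) ∈ maximalIdeal X.E ^ N ⊓ kerIdeal X := by
        refine ⟨?_, (mem_kerIdeal_iff X _).2 ⟨_, rfl⟩⟩
        have e1 : X.incl (l n - l N) = (f n - f N) - a n + a N := by
          have h1 := hl n
          have h2 := hl N
          rw [map_sub]
          linear_combination h2 - h1
        rw [e1]
        refine Ideal.add_mem _ (Ideal.sub_mem _ ?_ ?_) (ha N)
        · have := hf' hn
          rw [← neg_sub]
          exact neg_mem this
        · exact Ideal.pow_le_pow_right hn (ha n)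
      rw [hN, Ideal.mem_bot] at h1
      have := X.isExtension.incl_injective (by rw [h1, map_zero] : X.incl (l n - l N) = X.incl 0)
      exact sub_eq_zero.mp this
    refine ⟨e + X.incl (l N), fun n => ?_⟩
    rw [SModEq.sub_mem, smul_eq_mul, Ideal.mul_top]
    have hge : ∀ n, N ≤ n → f n - (e + X.incl (l N)) ∈ maximalIdeal X.E ^ n := by
      intro n hn
      have : f n - (e + X.incl (l N)) = a n := by
        have h1 := hl n
        rw [hconst n hn] at h1
        linear_combination h1
      rw [this]; exact ha n
    by_cases hn : N ≤ n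
    · exact hge n hn
    · push_neg at hn
      have : f n - (e + X.incl (l N)) = (f n - f N) + (f N - (e + X.incl (l N))) := by ring
      rw [this]
      exact Ideal.add_mem _ (hf' hn.le) (Ideal.pow_le_pow_right hn.le (hge N le_rfl))
  exact {}

end Groth.Agent.H61.ExalLib

end
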