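/-
Classes of extensions of `B` by `M` and `T¹` of a presentation (helper61).
-/
import Groth.Agent.H61.ExalLib
import Groth.Agent.H61.CotTCompare

set_option autoImplicit false

noncomputable section

namespace Groth.Agent.H61.ExalCot

open Exal CotT TensorProduct ExalLib

universe u

variable {A B : Type u} [CommRing A] [CommRing B] [Algebra A B] {ι σ : Type u}
variable (P : Algebra.Presentation A B ι σ) {M : Type u} [AddCommGroup M] [Module B M]
variable [Module P.toExtension.Ring M] [IsScalarTower P.toExtension.Ring B M]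

local notation "R" => P.toExtension.Ring
local notation "Cot" => P.toExtension.Cotangent

lemma hπ : Function.Surjective (algebraMap R B) := P.toExtension.algebraMap_surjective

/-- every `R`-linear map `ker → M` factors through `I/I²` by a `B`-linear map -/
lemma exists_cot_lift (δ : P.toExtension.ker →ₗ[R] M) :
    ∃ φ : Cot →ₗ[B] M, ∀ x, φ (Algebra.Extension.Cotangent.mk x) = δ x := by
  have hmk : Function.Surjective (Algebra.Extension.Cotangent.mk (P := P.toExtension)) :=
    Algebra.Extension.Cotangent.mk_surjective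
  have hle : (P.toExtension.ker • (⊤ : Submodule R P.toExtension.ker)) ≤ LinearMap.ker δ := by
    rw [Submodule.smul_le]
    intro r hr n _
    rw [LinearMap.mem_ker, map_smul, ← algebraMap_smul B r, show algebraMap R B r = 0 from hr, zero_smul]
  have hker : LinearMap.ker (Algebra.Extension.Cotangent.mk (P := P.toExtension)) ≤ LinearMap.ker δ := by
    intro x hx
    rw [LinearMap.mem_ker, Algebra.Extension.Cotangent.mk_eq_zero_iff] at hx
    have h0 : P.toExtension.ker.toCotangent x = 0 := (Ideal.toCotangent_eq_zero _ _).mpr hx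
    have : x ∈ (P.toExtension.ker • (⊤ : Submodule R P.toExtension.ker)) :=
      (Submodule.Quotient.mk_eq_zero _).mp h0
    exact hle this
  let φR : Cot →ₗ[R] M :=
    (Submodule.liftQ _ δ hker).comp
      (LinearMap.quotKerEquivOfSurjective _ hmk).symm.toLinearMap
  refine ⟨LinearMap.extendScalarsOfSurjective (hπ P) φR, fun x => ?_⟩
  change φR (Algebra.Extension.Cotangent.mk x) = δ x
  simp only [φR, LinearMap.coe_comp, LinearEquiv.coe_coe, Function.comp_apply]
  rw [LinearMap.quotKerEquivOfSurjective_symm_apply, Submodule.liftQ_apply]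

variable [Module A M] [IsScalarTower A P.toExtension.Ring M]

/-- a derivation `R → M` gives a `B`-linear map `L₀ → M` -/
def homOfDer (D : Derivation A R M) : L0 P →ₗ[B] M :=
  LinearMap.liftBaseChange B D.liftKaehlerDifferential

lemma homOfDer_cotangentComplex (D : Derivation A R M) (x : P.toExtension.ker) :
    homOfDer P D (P.toExtension.cotangentComplex (Algebra.Extension.Cotangent.mk x)) = D x := by
  rw [Algebra.Extension.cotangentComplex_mk, homOfDer, LinearMap.liftBaseChange_tmul, one_smul,
    Derivation.liftKaehlerDifferential_comp_D]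

/-- a `B`-linear map `L₀ → M` gives a derivation `R → M` -/
def derOfHom (ψ : L0 P →ₗ[B] M) : Derivation A R M :=
  ((ψ.restrictScalars R).comp (TensorProduct.mk R B Ω[R⁄A] 1)).compDer (KaehlerDifferential.D A R)

lemma derOfHom_apply (ψ : L0 P →ₗ[B] M) (r : R) :
    derOfHom P ψ r = ψ ((1 : B) ⊗ₜ KaehlerDifferential.D A R r) := rfl

lemma derOfHom_ker (ψ : L0 P →ₗ[B] M) (x : P.toExtension.ker) :
    derOfHom P ψ x = ψ (P.toExtension.cotangentComplex (Algebra.Extension.Cotangent.mk x)) := by
  rw [Algebra.Extension.cotangentComplex_mk, derOfHom_apply]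

/-- `φ` is the class of the extension `X` (w.r.t. some lift) -/
def IsClassOf (X : Ext A B M) (φ : Cot →ₗ[B] M) : Prop :=
  ∃ (u : R →ₐ[A] X.E) (hu : ∀ r, X.proj (u r) = algebraMap R B r),
    ∀ x : P.toExtension.ker, φ (Algebra.Extension.Cotangent.mk x) = del X u hu x

omit [Module P.toExtension.Ring M] [IsScalarTower P.toExtension.Ring B M] [Module A M]
  [IsScalarTower A P.toExtension.Ring M] in
lemma exists_lift (X : Ext A B M) :
    ∃ u : R →ₐ[A] X.E, ∀ r, X.proj (u r) = algebraMap R B r := by
  classical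
  choose e he using fun i : ι => X.isExtension.proj_surjective (P.val i)
  refine ⟨(MvPolynomial.aeval e : MvPolynomial ι A →ₐ[A] X.E), fun r => ?_⟩
  have h1 : (X.proj.comp (MvPolynomial.aeval e : MvPolynomial ι A →ₐ[A] X.E)) = MvPolynomial.aeval P.val := by
    refine MvPolynomial.algHom_ext fun i => ?_
    rw [AlgHom.comp_apply, MvPolynomial.aeval_X, MvPolynomial.aeval_X, he]
  rw [algebraMap_toExtension]
  exact AlgHom.congr_fun h1 r

lemma exists_isClassOf (X : Ext A B M) : ∃ φ, IsClassOf P X φ := by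
  obtain ⟨u, hu⟩ := exists_lift P X
  obtain ⟨φ, hφ⟩ := exists_cot_lift P (del X u hu)
  exact ⟨φ, u, hu, hφ⟩

lemma sub_mem_range (X : Ext A B M) (φ φ' : Cot →ₗ[B] M) (h : IsClassOf P X φ) (h' : IsClassOf P X φ') :
    φ - φ' ∈ LinearMap.range (LinearMap.lcomp B M P.toExtension.cotangentComplex) := by
  obtain ⟨u, hu, hφ⟩ := h
  obtain ⟨u', hu', hφ'⟩ := h'
  refine ⟨homOfDer P (liftDiff X u hu u' hu'), ?_⟩
  refine LinearMap.ext fun c => ?_
  obtain ⟨x, rfl⟩ := Algebra.Extension.Cotangent.mk_surjective c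
  rw [LinearMap.lcomp_apply, LinearMap.sub_apply, hφ, hφ', del_sub_del]
  exact homOfDer_cotangentComplex P _ x

omit [Module A M] [IsScalarTower A P.toExtension.Ring M] in
lemma isClassOf_of_equiv (X Y : Ext A B M) (e : X.Equiv Y) (φ : Cot →ₗ[B] M) (h : IsClassOf P X φ) :
    IsClassOf P Y φ := by
  obtain ⟨u, hu, hφ⟩ := h
  refine ⟨e.toAlgEquiv.toAlgHom.comp u, fun r => ?_, fun x => ?_⟩
  · change Y.proj (e.toAlgEquiv (u r)) = _
    rw [e.proj_apply, hu]
  · rw [hφ]
    exact (del_comp_equiv X u hu Y e x).symm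

lemma nonempty_equiv_of_sub_mem (X Y : Ext A B M) (φ φ' : Cot →ₗ[B] M) (h : IsClassOf P X φ)
    (h' : IsClassOf P Y φ')
    (hr : φ - φ' ∈ LinearMap.range (LinearMap.lcomp B M P.toExtension.cotangentComplex)) :
    Nonempty (X.Equiv Y) := by
  obtain ⟨u, hu, hφ⟩ := h
  obtain ⟨u', hu', hφ'⟩ := h'
  obtain ⟨ψ, hψ⟩ := hr
  refine nonempty_equiv_of_del_eq X u hu (hπ P) Y (liftAdd Y u' hu' (derOfHom P ψ))
    (proj_liftAdd Y u' hu' (derOfHom P ψ)) (fun x => ?_)
  rw [del_liftAdd, derOfHom_ker, ← hφ, ← hφ']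
  have := LinearMap.congr_fun hψ (Algebra.Extension.Cotangent.mk x)
  rw [LinearMap.lcomp_apply, LinearMap.sub_apply] at this
  rw [this]; abel

omit [Module A M] [IsScalarTower A P.toExtension.Ring M] in
lemma exists_ext_isClassOf (φ : Cot →ₗ[B] M) : ∃ X : Ext A B M, IsClassOf P X φ := by
  let δ : P.toExtension.ker →ₗ[R] M :=
    (φ.restrictScalars R).comp (Algebra.Extension.Cotangent.mk (P := P.toExtension))
  refine ⟨pushExt A δ (hπ P), pushLift A δ, proj_pushLift δ (hπ P), fun x => ?_⟩
  rw [del_pushExt]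
  rfl

attribute [local instance] Exal.opModule Exal.isCentralScalar_opModule in
omit [Module A M] [IsScalarTower A P.toExtension.Ring M] in
lemma isClassOf_trivial :
    IsClassOf P (Ext.trivial A B M) (0 : Cot →ₗ[B] M) := by
  let u : R →ₐ[A] (Ext.trivial A B M).E :=
    { (TrivSqZeroExt.inlHom B M).comp (algebraMap R B) with
      commutes' := fun a => by
        change TrivSqZeroExt.inl (algebraMap R B (algebraMap A R a)) = TrivSqZeroExt.inl (algebraMap A B a)
        rw [← IsScalarTower.algebraMap_apply] }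
  have hu : ∀ r, (Ext.trivial A B M).proj (u r) = algebraMap R B r := fun r => rfl
  refine ⟨u, hu, fun x => ?_⟩
  apply (Ext.trivial A B M).isExtension.incl_injective
  rw [incl_del, LinearMap.zero_apply, map_zero]
  change (0 : TrivSqZeroExt B M) = (TrivSqZeroExt.inl (algebraMap R B (x : R)) : TrivSqZeroExt B M)
  rw [show algebraMap R B (x : R) = 0 from x.2, TrivSqZeroExt.inl_zero]

end Groth.Agent.H61.ExalCot

end
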