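import Groth.Agent.S12714
import Groth.Agent.H63.ArtDer
import Groth.Agent.H63.ArtLim
import Groth.Agent.H61.ArtFunLift
import Groth.Agent.H61.MinPresC

/-!
# A family over a power series ring, bijective on tangent spaces, is miniversal if a hull exists
(helper61)
-/

set_option autoImplicit false
set_option linter.unusedSectionVars false
set_option linter.style.haveILetI false
universe u v

namespace Groth.Agent.H61.PsMini

open CategoryTheory ArtFun ArtFun.Art Groth.Agent.H63 Groth.Agent.H61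

variable {Λ : Type u} {k : Type u} [CommRing Λ] [Field k] [Algebra Λ k]
  [IsNoetherianRing Λ] [Module.Finite Λ k]

variable {F : Art Λ k ⥤ Type v}

/-- a family bijective on tangent spaces forces `H0` -/
theorem h0_of_tangent_surjective {H : Type u} [CommRing H] [Algebra Λ H] {resH : H →ₐ[Λ] k}
    (η : Family H resH F) (hη : Function.Surjective (η.app (dual Λ k))) : H0 F := by
  haveI := _root_.H61.homSet_base_subsingleton (Λ := Λ) (k := k) (R := H) (resR := resH)
  let u₀ : HomSet H resH (base Λ k) := ⟨resH, AlgHom.id_comp _⟩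
  refine ⟨⟨η.app _ u₀⟩, ⟨fun x y => ?_⟩⟩
  have key : ∀ x : F.obj (base Λ k), x = η.app _ u₀ := by
    intro x
    obtain ⟨u, hu⟩ := hη (F.map baseToDual x)
    have h1 : F.map (toBase (dual Λ k)) (F.map baseToDual x) = x := by
      rw [← Functor.map_comp_apply]
      have : (baseToDual ≫ toBase (dual Λ k) : base Λ k ⟶ base Λ k) = 𝟙 _ := by
        rw [eq_toBase (baseToDual ≫ toBase (dual Λ k)), eq_toBase (𝟙 (base Λ k))]
      rw [this, Functor.map_id_apply]
    rw [← h1, ← hu, ← η.natural]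
    congr 1
    exact Subsingleton.elim _ _
  rw [key x, key y]

/-- a versal family over a functor with `H0` is objectwise surjective -/
theorem app_surjective_of_isVersal {H : Type u} [CommRing H] [Algebra Λ H] {resH : H →ₐ[Λ] k}
    (η : Family H resH F) (hη : IsVersal η) (h0 : H0 F) (A : Art Λ k) :
    Function.Surjective (η.app A) := by
  intro y
  let u₀ : HomSet H resH (base Λ k) := ⟨resH, AlgHom.id_comp _⟩
  obtain ⟨ψ, -, hψ⟩ := hη (toBase A) A.res_surjective u₀ y (@Subsingleton.elim _ h0.2 _ _)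
  exact ⟨ψ, hψ⟩

/-- a map of coefficient rings which is injective on tangent vectors... is surjective -/
theorem surjective_of_tangent_injective (R S : CRing Λ k) (f : R.carrier →ₐ[Λ] S.carrier)
    (hf : S.res.comp f = R.res)
    (hinj : ∀ θ θ' : S.carrier →ₐ[Λ] TrivSqZeroExt k k, (∀ s, (θ s).fst = S.res s) →
      (∀ s, (θ' s).fst = S.res s) → θ.comp f = θ'.comp f → θ = θ') :
    Function.Surjective f := by
  have htfae := Groth.Agent.S12714.result R S f hf
  have h01 : Function.Surjective f ↔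
      Ideal.map f (IsLocalRing.maximalIdeal R.carrier) ⊔ IsLocalRing.maximalIdeal S.carrier ^ 2 =
        IsLocalRing.maximalIdeal S.carrier := htfae.out 0 1
  rw [h01]
  by_contra hne
  have hle : Ideal.map f (IsLocalRing.maximalIdeal R.carrier) ≤
      IsLocalRing.maximalIdeal S.carrier := by
    rw [Ideal.map_le_iff_le_comap]
    exact CRing.maximalIdeal_le_comap f hf
  obtain ⟨θ, hθ1, hθ2, s, hs⟩ := exists_tangent_of_ne (S := S.carrier) S.res
    (fun s => CRing.mem_maximalIdeal_iff S s) R.res R.res_surjective f hf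
    (IsLocalRing.maximalIdeal R.carrier)
    (fun r hr => (CRing.mem_maximalIdeal_iff R r).2 hr) hne hle
  -- the trivial tangent vector
  let θ₀ : S.carrier →ₐ[Λ] TrivSqZeroExt k k :=
    (baseToDual (Λ := Λ) (k := k)).toAlgHom.comp S.res
  have hθ₀1 : ∀ s, (θ₀ s).fst = S.res s := fun s => rfl
  have hθ₀2 : ∀ s, (θ₀ s).snd = 0 := fun s => dsnd_baseToDual' (S.res s)
  have heq : θ.comp f = θ₀.comp f := by
    apply AlgHom.ext
    intro r
    apply TrivSqZeroExt.ext
    · exact (hθ1 (f r)).trans (hθ₀1 (f r)).symm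
    · exact (hθ2 r).trans (hθ₀2 (f r)).symm
  have := hinj θ θ₀ hθ1 hθ₀1 heq
  apply hs
  rw [this]
  exact hθ₀2 s

/-- a local `Λ`-algebra has at most one augmentation to `k` when `Λ → k` is surjective -/
theorem aug_unique (hΛk : Function.Surjective (algebraMap Λ k)) {A : Type u} [CommRing A]
    [IsLocalRing A] [Algebra Λ A] (χ₁ χ₂ : A →ₐ[Λ] k) : χ₁ = χ₂ := by
  have hker : ∀ χ : A →ₐ[Λ] k, RingHom.ker χ.toRingHom = IsLocalRing.maximalIdeal A := by
    intro χ
    have hs : Function.Surjective χ.toRingHom := fun c => by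
      obtain ⟨l, rfl⟩ := hΛk c
      exact ⟨algebraMap Λ A l, χ.commutes l⟩
    haveI := RingHom.ker_isMaximal_of_surjective χ.toRingHom hs
    exact IsLocalRing.eq_maximalIdeal inferInstance
  apply AlgHom.ext
  intro a
  obtain ⟨l, hl⟩ := hΛk (χ₂ a)
  have h1 : a - algebraMap Λ A l ∈ RingHom.ker χ₂.toRingHom := by
    rw [RingHom.mem_ker]
    change χ₂ (a - algebraMap Λ A l) = 0
    rw [map_sub, AlgHom.commutes, hl, sub_self]
  rw [hker χ₂, ← hker χ₁, RingHom.mem_ker] at h1
  have h2 : χ₁ (a - algebraMap Λ A l) = 0 := h1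
  rw [map_sub, AlgHom.commutes, sub_eq_zero] at h2
  rw [h2, hl]

section PS

variable [IsLocalRing Λ] [IsAdicComplete (IsLocalRing.maximalIdeal Λ) Λ]
  (hΛk : Function.Surjective (algebraMap Λ k))

/-- maps from the power series ring into a coefficient ring are determined by the variables -/
theorem ps_hom_ext_cring (n : ℕ) (S : CRing Λ k)
    (g₁ g₂ : (psCRing hΛk n).carrier →ₐ[Λ] S.carrier)
    (h₁ : S.res.comp g₁ = (psCRing hΛk n).res) (h₂ : S.res.comp g₂ = (psCRing hΛk n).res)
    (h : ∀ i, g₁ (psX hΛk n i) = g₂ (psX hΛk n i)) : g₁ = g₂ := by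
  apply algHom_eq_of_trunc_eq S
  intro N
  have h1' : (S.trunc N).res.comp ((S.truncHom N).1.comp g₁) = (psCRing hΛk n).res := by
    rw [← AlgHom.comp_assoc, (S.truncHom N).2, h₁]
  have h2' : (S.trunc N).res.comp ((S.truncHom N).1.comp g₂) = (psCRing hΛk n).res := by
    rw [← AlgHom.comp_assoc, (S.truncHom N).2, h₂]
  have := ps_hom_ext hΛk n (S.trunc N) ⟨_, h1'⟩ ⟨_, h2'⟩ (fun i => by
    change (S.truncHom N).1 (g₁ (psX hΛk n i)) = (S.truncHom N).1 (g₂ (psX hΛk n i))
    rw [h i])
  exact congrArg Subtype.val this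

include hΛk in
/-- **A family over a power series ring which is bijective on tangent spaces is miniversal,
provided a hull exists.** -/
theorem isMiniversal_of_ps (hF : HasHull F) (R : CRing Λ k) (n : ℕ)
    (e : R.carrier ≃ₐ[Λ] MvPowerSeries (Fin n) Λ) (ξ : Family R.carrier R.res F)
    (hξ : Function.Bijective (ξ.app (dual Λ k))) : IsMiniversal ξ := by
  obtain ⟨⟨H, η, hηv, hηt⟩⟩ := hF
  have h0 : H0 F := h0_of_tangent_surjective η hηt.2
  have hsurj := app_surjective_of_isVersal η hηv h0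
  obtain ⟨φ, hφ, hφξ⟩ := exists_hom_of_isVersal (𝟙 F) R ξ η hηv hsurj
  have hφξ' : ∀ (A : Art Λ k) (u : HomSet R.carrier R.res A),
      η.app A ⟨u.1.comp φ, by rw [← AlgHom.comp_assoc, u.2, hφ]⟩ = ξ.app A u := hφξ
  -- `φ` is injective on tangent vectors
  have hφinj : ∀ θ θ' : R.carrier →ₐ[Λ] TrivSqZeroExt k k, (∀ s, (θ s).fst = R.res s) →
      (∀ s, (θ' s).fst = R.res s) → θ.comp φ = θ'.comp φ → θ = θ' := by
    intro θ θ' h1 h1' heq
    let u : HomSet R.carrier R.res (dual Λ k) := ⟨θ, AlgHom.ext fun r => h1 r⟩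
    let u' : HomSet R.carrier R.res (dual Λ k) := ⟨θ', AlgHom.ext fun r => h1' r⟩
    have h2 : ξ.app _ u = ξ.app _ u' := by
      rw [← hφξ', ← hφξ']
      congr 1
      exact Subtype.ext heq
    exact congrArg Subtype.val (hξ.1 h2)
  have hφs : Function.Surjective φ := surjective_of_tangent_injective H R φ hφ hφinj
  -- a section of `φ`
  have hxm : ∀ i, e.symm (MvPowerSeries.X i) ∈ IsLocalRing.maximalIdeal R.carrier := by
    intro i
    by_contra hu
    have hunit : IsUnit (e.symm (MvPowerSeries.X i : MvPowerSeries (Fin n) Λ)) := by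
      by_contra h'
      exact hu ((IsLocalRing.mem_maximalIdeal _).2 h')
    have h2 : IsUnit (e (e.symm (MvPowerSeries.X i : MvPowerSeries (Fin n) Λ))) := hunit.map e
    rw [AlgEquiv.apply_symm_apply] at h2
    exact (IsLocalRing.mem_maximalIdeal _).1 (PS.X_mem_maximalIdeal i) h2
  choose hh hhφ using fun i => hφs (e.symm (MvPowerSeries.X i))
  have hhm : ∀ i, hh i ∈ IsLocalRing.maximalIdeal H.carrier := by
    intro i
    rw [CRing.mem_maximalIdeal_iff, ← CRing.res_comp_apply φ hφ, hhφ,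
      ← CRing.mem_maximalIdeal_iff]
    exact hxm i
  obtain ⟨g, hg, hgx⟩ := ps_exists_hom_cring hΛk n H hh hhm
  -- `e` is compatible with the augmentations
  have hPres : (psCRing hΛk n).res.comp e.toAlgHom = R.res := aug_unique hΛk _ _
  have hσres : H.res.comp (g.comp e.toAlgHom) = R.res := by
    rw [← AlgHom.comp_assoc, hg, hPres]
  have hφg : φ.comp g = e.symm.toAlgHom := by
    apply ps_hom_ext_cring hΛk n R
    · rw [← AlgHom.comp_assoc, hφ, hg]
    · exact aug_unique hΛk _ _
    · intro i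
      change φ (g (psX hΛk n i)) = e.symm (psX hΛk n i)
      rw [hgx, hhφ]
      rfl
  have hφσ : ∀ r, φ (g (e r)) = r := by
    intro r
    have h1 : φ (g (e r)) = e.symm (e r) := AlgHom.congr_fun hφg (e r)
    rw [h1, AlgEquiv.symm_apply_apply]
  -- every tangent vector of `H` comes from `R`
  have hφsurj : ∀ θ : HomSet H.carrier H.res (dual Λ k),
      ∃ u : HomSet R.carrier R.res (dual Λ k), u.1.comp φ = θ.1 := by
    intro θ
    obtain ⟨u, hu⟩ := hξ.2 (η.app _ θ)
    refine ⟨u, ?_⟩
    rw [← hφξ'] at hu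
    exact congrArg Subtype.val (hηt.1 hu)
  -- the section is surjective
  have hσs : Function.Surjective (g.comp e.toAlgHom) := by
    apply surjective_of_tangent_injective R H (g.comp e.toAlgHom) hσres
    intro θ θ' h1 h1' heq
    obtain ⟨u, hu⟩ := hφsurj ⟨θ, AlgHom.ext fun r => h1 r⟩
    obtain ⟨u', hu'⟩ := hφsurj ⟨θ', AlgHom.ext fun r => h1' r⟩
    have hu1 : u.1.comp φ = θ := hu
    have hu1' : u'.1.comp φ = θ' := hu'
    have e1 : u.1 = u'.1 := by
      apply AlgHom.ext
      intro r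
      have h2 := AlgHom.congr_fun heq r
      change θ (g (e r)) = θ' (g (e r)) at h2
      rw [← hu1, ← hu1'] at h2
      change u.1 (φ (g (e r))) = u'.1 (φ (g (e r))) at h2
      rw [hφσ] at h2
      exact h2
    rw [← hu1, ← hu1', e1]
  have hσφ : ∀ x, g (e (φ x)) = x := by
    intro x
    obtain ⟨r, rfl⟩ := hσs x
    change g (e (φ (g (e r)))) = g (e r)
    rw [hφσ]
  refine ⟨?_, hξ⟩
  intro B A μ hμ u y hy
  rw [← hφξ'] at hy
  obtain ⟨ψ, hψ1, hψ2⟩ := hηv μ hμ _ y hy
  refine ⟨⟨ψ.1.comp (g.comp e.toAlgHom), by rw [← AlgHom.comp_assoc, ψ.2, hσres]⟩, ?_, ?_⟩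
  · apply Subtype.ext
    apply AlgHom.ext
    intro r
    have h1 := congrArg (fun z => z.1 (g (e r))) hψ1
    change μ (ψ.1 (g (e r))) = u.1 (φ (g (e r))) at h1
    rw [hφσ] at h1
    exact h1
  · refine (hφξ' B _).symm.trans ?_
    rw [← hψ2]
    congr 1
    apply Subtype.ext
    apply AlgHom.ext
    intro x
    change ψ.1 (g (e (φ x))) = ψ.1 x
    rw [hσφ]

end PS

end Groth.Agent.H61.PsMini
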