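/-
Extensions of a quotient of a power series ring over a complete local ring by a simple module:
the quotient map lifts (helper61).
-/
import Groth.Agent.H61.ExalComplete
import Groth.Agent.H61.MinPresC
import Groth.Agent.H61.PsMiniversal

set_option autoImplicit false
set_option linter.style.haveILetI false

noncomputable section

namespace Groth.Agent.H61.ExalPS

open Exal IsLocalRing ArtFun ExalLib

universe u

variable {Λ : Type u} [CommRing Λ] [IsLocalRing Λ] [IsNoetherianRing Λ]
  [IsAdicComplete (IsLocalRing.maximalIdeal Λ) Λ]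
variable (d : ℕ) (J : Ideal (MvPowerSeries (Fin d) Λ))
  (hJm : J ≤ IsLocalRing.maximalIdeal (MvPowerSeries (Fin d) Λ))
variable (L : Type u) [AddCommGroup L] [Module (MvPowerSeries (Fin d) Λ ⧸ J) L]
  [IsSimpleModule (MvPowerSeries (Fin d) Λ ⧸ J) L]

include hJm in
/-- the quotient map from the power series ring lifts to any extension by a simple module -/
theorem exists_lift (X : Exal.Ext Λ (MvPowerSeries (Fin d) Λ ⧸ J) L) :
    ∃ u : MvPowerSeries (Fin d) Λ →ₐ[Λ] X.E, ∀ p, X.proj (u p) = Ideal.Quotient.mk J p := by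
  classical
  have hΛκ : Function.Surjective (algebraMap Λ (ResidueField Λ)) := IsLocalRing.residue_surjective
  let PC : CRing Λ (ResidueField Λ) := psCRing hΛκ d
  let RC : CRing Λ (ResidueField Λ) := CRingQ.quot PC J hJm
  haveI : IsLocalRing (MvPowerSeries (Fin d) Λ ⧸ J) := RC.isLocalRing
  haveI : IsNoetherianRing (MvPowerSeries (Fin d) Λ ⧸ J) := RC.isNoetherianRing
  haveI : IsAdicComplete (maximalIdeal (MvPowerSeries (Fin d) Λ ⧸ J)) (MvPowerSeries (Fin d) Λ ⧸ J) :=
    RC.isAdicComplete
  haveI : IsLocalRing X.E := isLocalRing_E X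
  haveI : IsNoetherianRing X.E := isNoetherianRing_E X
  let EC : CRing Λ (ResidueField Λ) :=
    { carrier := X.E
      res := RC.res.comp X.proj
      res_surjective := RC.res_surjective.comp X.isExtension.proj_surjective
      isAdicComplete := isAdicComplete_E X }
  have hX : ∀ i : Fin d, ∃ e : X.E, X.proj e = Ideal.Quotient.mk J (MvPowerSeries.X i) :=
    fun i => X.isExtension.proj_surjective _
  choose e he using hX
  have hem : ∀ i, e i ∈ maximalIdeal X.E := by
    intro i
    rw [mem_maximalIdeal, mem_nonunits_iff]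
    intro hu
    have h1 : IsUnit (X.proj (e i)) := hu.map X.proj
    rw [he] at h1
    have h2 : Ideal.Quotient.mk J (MvPowerSeries.X i) ∈
        maximalIdeal (MvPowerSeries (Fin d) Λ ⧸ J) := by
      rw [← IsLocalRing.map_maximalIdeal_of_surjective (Ideal.Quotient.mk J)
        Ideal.Quotient.mk_surjective]
      exact Ideal.mem_map_of_mem _ (PS.X_mem_maximalIdeal i)
    exact h2 h1
  obtain ⟨g, hg, hgX⟩ := ps_exists_hom_cring hΛκ d EC e hem
  refine ⟨g, fun p => ?_⟩
  have key : (X.proj.comp g : PC.carrier →ₐ[Λ] RC.carrier) = CRingQ.mk PC J hJm := by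
    refine PsMini.ps_hom_ext_cring hΛκ d RC _ _ ?_ (CRingQ.res_comp_mk PC J hJm) (fun i => ?_)
    · refine AlgHom.ext fun p => ?_
      exact AlgHom.congr_fun hg p
    · change X.proj (g (psX hΛκ d i)) = _
      rw [hgX, he]
      rfl
  exact AlgHom.congr_fun key p

end Groth.Agent.H61.ExalPS

end
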