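import Groth.Agent.H61.NLInv
import Mathlib.LinearAlgebra.Matrix.Adjugate
import Mathlib.LinearAlgebra.Matrix.ToLin
import Mathlib.Algebra.Homology.DerivedCategory.Ext.EnoughProjectives
import Mathlib.Algebra.Homology.DerivedCategory.Linear

/-!
# The Jacobian minor kills `Ext¹(NL, N)`
-/

universe u

open CategoryTheory HomologicalComplex Algebra Matrix

attribute [local instance] HasDerivedCategory.standard

namespace Groth.Agent.H61.NLJac

section LinAlg

variable {B : Type u} [CommRing B] {X Y : Type u} [AddCommGroup X] [Module B X]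
  [AddCommGroup Y] [Module B Y] (d : X →ₗ[B] Y) {n m : ℕ} (hmn : m ≤ n)
  (β : Module.Basis (Fin n) B Y) (c : Fin m → X)

/-- The `m × m` minor (first `m` coordinates) of the matrix of `d` on the family `c`. -/
noncomputable def jac : Matrix (Fin m) (Fin m) B :=
  Matrix.of fun i j => β.repr (d (c j)) (Fin.castLE hmn i)

/-- The contracting map `Y → X` built from the adjugate of the minor. -/
noncomputable def hmap : Y →ₗ[B] X :=
  Fintype.linearCombination B c ∘ₗ Matrix.mulVecLin (jac d hmn β c).adjugate ∘ₗ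
    LinearMap.funLeft B B (Fin.castLE hmn) ∘ₗ β.equivFun.toLinearMap

lemma hmap_apply (z : Y) :
    hmap d hmn β c z =
      ∑ j, ((jac d hmn β c).adjugate *ᵥ (fun i' => β.repr z (Fin.castLE hmn i'))) j • c j := by
  simp only [hmap, LinearMap.comp_apply, Fintype.linearCombination_apply, Matrix.mulVecLin_apply]
  rfl

lemma hmap_d (hc : Submodule.span B (Set.range c) = ⊤) (x : X) :
    hmap d hmn β c (d x) = (jac d hmn β c).det • x := by
  classical
  have hx : x ∈ Submodule.span B (Set.range c) := hc ▸ Submodule.mem_top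
  induction hx using Submodule.span_induction with
  | mem x hx =>
    obtain ⟨j, rfl⟩ := hx
    rw [hmap_apply]
    have h1 : ∀ j', ((jac d hmn β c).adjugate *ᵥ
        (fun i' => β.repr (d (c j)) (Fin.castLE hmn i'))) j' =
        if j' = j then (jac d hmn β c).det else 0 := by
      intro j'
      have : ((jac d hmn β c).adjugate *ᵥ (fun i' => β.repr (d (c j)) (Fin.castLE hmn i'))) j' =
          ((jac d hmn β c).adjugate * jac d hmn β c) j' j := by
        simp only [Matrix.mulVec, dotProduct, Matrix.mul_apply]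
        rfl
      rw [this, Matrix.adjugate_mul, Matrix.smul_apply, Matrix.one_apply, smul_eq_mul]
      split_ifs <;> simp
    simp only [h1, ite_smul, zero_smul, Finset.sum_ite_eq', Finset.mem_univ, if_true]
  | zero => simp
  | add x y _ _ hx hy => rw [map_add, map_add, hx, hy, smul_add]
  | smul a x _ hx => rw [map_smul, map_smul, hx, smul_comm]

lemma d_hmap_of_eq (hnm : n = m) (z : Y) :
    d (hmap d hmn β c z) = (jac d hmn β c).det • z := by
  classical
  subst hnm
  apply β.repr.injective
  ext i
  rw [hmap_apply, map_sum, map_sum, Finsupp.coe_finsetSum, Finset.sum_apply, map_smul,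
    Finsupp.smul_apply, smul_eq_mul]
  set u : Fin n → B := fun i' => β.repr z (Fin.castLE hmn i') with hu
  have h1 : ∀ j, β.repr (d (((jac d hmn β c).adjugate *ᵥ u) j • c j)) i =
      (jac d hmn β c) i j * ((jac d hmn β c).adjugate *ᵥ u) j := by
    intro j
    rw [map_smul, map_smul, Finsupp.smul_apply, smul_eq_mul, mul_comm]
    rfl
  rw [Finset.sum_congr rfl (fun j _ => h1 j)]
  have h2 : ∑ j, (jac d hmn β c) i j * ((jac d hmn β c).adjugate *ᵥ u) j =
      ((jac d hmn β c) *ᵥ ((jac d hmn β c).adjugate *ᵥ u)) i := rfl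
  rw [h2, Matrix.mulVec_mulVec, Matrix.mul_adjugate, Matrix.smul_mulVec, Matrix.one_mulVec,
    Pi.smul_apply, smul_eq_mul]
  rfl

end LinAlg

section Htpy

open NLInv

variable {A B : Type u} [CommRing A] [CommRing B] [Algebra A B] {P P' : Extension.{u} A B}

open Classical in
/-- The homotopy components attached to a linear map `s : P.CotangentSpace → P'.Cotangent`. -/
noncomputable def sHom (s : P.CotangentSpace →ₗ[B] P'.Cotangent) (i j : ℤ) :
    (nl P).X i ⟶ (nl P').X j :=
  if h : i = 0 ∧ j = -1 then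
    eqToHom (by rw [h.1]) ≫ (iso₁ P).hom ≫ ModuleCat.ofHom s ≫ (iso₀ P').inv ≫
      eqToHom (by rw [h.2])
  else 0

lemma sHom_zero_neg_one (s : P.CotangentSpace →ₗ[B] P'.Cotangent) :
    sHom s 0 (-1) = (iso₁ P).hom ≫ ModuleCat.ofHom s ≫ (iso₀ P').inv := by
  rw [sHom, dif_pos ⟨rfl, rfl⟩]
  simp

lemma sHom_of_ne (s : P.CotangentSpace →ₗ[B] P'.Cotangent) (i j : ℤ) (h : ¬ (i = 0 ∧ j = -1)) :
    sHom s i j = 0 :=
  dif_neg h

/-- General homotopy constructor between maps of naive cotangent complexes. -/
noncomputable def mkHomotopy (F G : nl P ⟶ nl P') (s : P.CotangentSpace →ₗ[B] P'.Cotangent)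
    (h₀ : F.f (-1) = (iso₀ P).hom ≫ ModuleCat.ofHom (s ∘ₗ P.cotangentComplex) ≫ (iso₀ P').inv +
      G.f (-1))
    (h₁ : F.f 0 = (iso₁ P).hom ≫ ModuleCat.ofHom (P'.cotangentComplex ∘ₗ s) ≫ (iso₁ P').inv +
      G.f 0) : Homotopy F G where
  hom := sHom s
  zero i j hij := sHom_of_ne s i j (by
    rintro ⟨rfl, rfl⟩
    exact hij (by simp))
  comm i := by
    by_cases h₀' : i = -1
    · subst h₀'
      rw [dNext_eq _ (show (ComplexShape.up ℤ).Rel (-1) 0 by simp),
        prevD_eq _ (show (ComplexShape.up ℤ).Rel (-2) (-1) by simp),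
        sHom_of_ne s (-1) (-2) (by decide), Limits.zero_comp, add_zero,
        sHom_zero_neg_one, nl_d, h₀]
      simp only [Category.assoc, Iso.inv_hom_id_assoc]
      rfl
    · by_cases h₁' : i = 0
      · subst h₁'
        rw [dNext_eq _ (show (ComplexShape.up ℤ).Rel 0 1 by simp),
          prevD_eq _ (show (ComplexShape.up ℤ).Rel (-1) 0 by simp),
          sHom_of_ne s 1 0 (by decide), Limits.comp_zero, zero_add,
          sHom_zero_neg_one, nl_d, h₁]
        simp only [Category.assoc, Iso.inv_hom_id_assoc]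
        rfl
      · exact (isZero_double_X _ rel i h₀' h₁').eq_of_src _ _

end Htpy

section Factor

open NLInv

variable {A B : Type u} [CommRing A] [CommRing B] [Algebra A B] (E : Extension.{u} A B)
  (h : E.CotangentSpace →ₗ[B] E.Cotangent) (g : B)

/-- The residual endomorphism `g - d ∘ h` of the cotangent space. -/
noncomputable def res : E.CotangentSpace →ₗ[B] E.CotangentSpace :=
  g • LinearMap.id - E.cotangentComplex ∘ₗ h

/-- The cotangent space in degree `0`. -/
noncomputable abbrev sgl : CochainComplex (ModuleCat.{u} B) ℤ :=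
  (HomologicalComplex.single (ModuleCat.{u} B) (ComplexShape.up ℤ) 0).obj
    (ModuleCat.of B E.CotangentSpace)

variable (hd : ∀ x, h (E.cotangentComplex x) = g • x)

/-- `nl E → CS[0]`, given by `g - d h` in degree `0`. -/
noncomputable def aMap : nl E ⟶ sgl E :=
  mkHomFromDouble rel ne 0
    (ModuleCat.ofHom (res E h g) ≫ (singleObjXSelf (ComplexShape.up ℤ) 0 _).inv)
    (by
      rw [Limits.zero_comp, ← Category.assoc]
      have : ModuleCat.ofHom E.cotangentComplex ≫ ModuleCat.ofHom (res E h g) = 0 := by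
        refine ModuleCat.hom_ext (LinearMap.ext fun x => ?_)
        show res E h g (E.cotangentComplex x) = 0
        simp [res, hd]
      rw [this, Limits.zero_comp])
    (fun k _ => by simp)

/-- `CS[0] → nl E`, the inclusion of the degree `0` term. -/
noncomputable def bMap : sgl E ⟶ nl E :=
  mkHomFromSingle (iso₁ E).inv (fun k _ => by
    rw [show (nl E).d 0 k = 0 from double_d_eq_zero₀ _ _ _ _ (by decide), Limits.comp_zero])

lemma aMap_f₀ : (aMap E h g hd).f (-1) = 0 := by
  have := mkHomFromDouble_f₀ (K := sgl E) rel ne (0 : ModuleCat.of B E.Cotangent ⟶ (sgl E).X (-1))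
    (ModuleCat.ofHom (res E h g) ≫ (singleObjXSelf (ComplexShape.up ℤ) 0 _).inv)
    (by
      rw [Limits.zero_comp, ← Category.assoc]
      have : ModuleCat.ofHom E.cotangentComplex ≫ ModuleCat.ofHom (res E h g) = 0 := by
        refine ModuleCat.hom_ext (LinearMap.ext fun x => ?_)
        show res E h g (E.cotangentComplex x) = 0
        simp [res, hd]
      rw [this, Limits.zero_comp])
    (fun k _ => by simp)
  rw [Limits.comp_zero] at this
  exact this

lemma aMap_f₁ : (aMap E h g hd).f 0 = (iso₁ E).hom ≫ ModuleCat.ofHom (res E h g) ≫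
    (singleObjXSelf (ComplexShape.up ℤ) 0 (ModuleCat.of B E.CotangentSpace)).inv :=
  mkHomFromDouble_f₁ _ _ _ _ _ _

lemma bMap_f₁ : (bMap E).f 0 =
    (singleObjXSelf (ComplexShape.up ℤ) 0 (ModuleCat.of B E.CotangentSpace)).hom ≫ (iso₁ E).inv :=
  mkHomFromSingle_f _ _

/-- `g • 𝟙` is homotopic to a map factoring through `CS[0]`. -/
noncomputable def htpyFactor : Homotopy (g • 𝟙 (nl E)) (aMap E h g hd ≫ bMap E) :=
  mkHomotopy _ _ h
    (by
      rw [comp_f, aMap_f₀, Limits.zero_comp, add_zero]
      have : ModuleCat.ofHom (h ∘ₗ E.cotangentComplex) = g • 𝟙 (ModuleCat.of B E.Cotangent) := by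
        refine ModuleCat.hom_ext (LinearMap.ext fun x => ?_)
        exact hd x
      rw [this, Linear.smul_comp, Linear.comp_smul, Category.id_comp, Iso.hom_inv_id]
      rfl)
    (by
      rw [comp_f, aMap_f₁, bMap_f₁]
      simp only [Category.assoc, Iso.inv_hom_id_assoc]
      rw [← Preadditive.comp_add, ← Preadditive.add_comp]
      have : ModuleCat.ofHom (E.cotangentComplex ∘ₗ h) + ModuleCat.ofHom (res E h g) =
          g • 𝟙 (ModuleCat.of B E.CotangentSpace) := by
        refine ModuleCat.hom_ext (LinearMap.ext fun x => ?_)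
        show E.cotangentComplex (h x) + res E h g x = g • x
        simp [res]
      rw [this, Linear.smul_comp, Linear.comp_smul, Category.id_comp, Iso.hom_inv_id]
      rfl)

include hd in
/-- If `h ∘ d = g`, then `g` kills every morphism `nl E → N[1]` in `D(B)` (cotangent space
projective). -/
theorem smul_eq_zero [Module.Projective B E.CotangentSpace] (N : ModuleCat.{u} B)
    (φ : DRing.toD (nl E) ⟶ ((DerivedCategory.singleFunctor (ModuleCat.{u} B) 0).obj N)⟦(1 : ℤ)⟧) :
    g • φ = 0 := by
  have h1 : g • φ = DerivedCategory.Q.map (g • 𝟙 (nl E)) ≫ φ := by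
    rw [Functor.map_smul, CategoryTheory.Functor.map_id, Linear.smul_comp, Category.id_comp]
  rw [h1, DerivedCategory.Q_map_eq_of_homotopy _ (htpyFactor E h g hd), Functor.map_comp,
    Category.assoc]
  have h2 : DerivedCategory.Q.map (bMap E) ≫ φ = 0 := by
    rw [← cancel_mono (((DerivedCategory.singleFunctors (ModuleCat.{u} B)).shiftIso 1 (-1) 0
      (by omega)).hom.app N), Limits.zero_comp]
    exact DerivedCategory.from_singleFunctor_obj_eq_zero_of_projective
      (P := ModuleCat.of B E.CotangentSpace)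
      (L := (CochainComplex.singleFunctor (ModuleCat.{u} B) (-1)).obj N) (i := 0) _ (-1)
      (by omega)
  rw [h2, Limits.comp_zero]

include hd in
/-- If moreover `d ∘ h = g`, then `g • 𝟙 = 0` on `nl E` in `D(B)`. -/
theorem smul_id_eq_zero (hd' : ∀ z, E.cotangentComplex (h z) = g • z) :
    g • 𝟙 (DRing.toD (nl E)) = 0 := by
  have h1 : g • 𝟙 (DRing.toD (nl E)) = DerivedCategory.Q.map (g • 𝟙 (nl E)) := by
    rw [Functor.map_smul, CategoryTheory.Functor.map_id]
  have h0 : aMap E h g hd = 0 := by
    apply from_double_hom_ext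
    · rw [aMap_f₀]; rfl
    · rw [aMap_f₁]
      have : res E h g = 0 := by
        ext z
        simp [res, hd']
      rw [this]
      simp
  rw [h1, DerivedCategory.Q_map_eq_of_homotopy _ (htpyFactor E h g hd), h0, Limits.zero_comp,
    Functor.map_zero]

end Factor

section Span

variable {A B : Type u} [CommRing A] [CommRing B] [Algebra A B]

lemma span_mk_eq_top (E : Extension.{u} A B) {m : ℕ} (f' : Fin m → E.Ring)
    (hf : ∀ j, f' j ∈ E.ker) (hker : E.ker ≤ Ideal.span (Set.range f')) :
    Submodule.span B (Set.range fun j => Extension.Cotangent.mk ⟨f' j, hf j⟩) = ⊤ := by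
  rw [_root_.eq_top_iff]
  rintro x -
  obtain ⟨⟨p, hp⟩, rfl⟩ := Extension.Cotangent.mk_surjective x
  have hp' : p ∈ Ideal.span (Set.range f') := hker hp
  suffices H : ∀ (p : E.Ring) (_ : p ∈ Ideal.span (Set.range f')) (hp : p ∈ E.ker),
      Extension.Cotangent.mk ⟨p, hp⟩ ∈ Submodule.span B
        (Set.range fun j => Extension.Cotangent.mk ⟨f' j, hf j⟩) from H p hp' hp
  intro p hp'
  induction hp' using Submodule.span_induction with
  | mem p hp =>
    obtain ⟨j, rfl⟩ := hp
    intro hp
    exact Submodule.subset_span ⟨j, rfl⟩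
  | zero =>
    intro hp
    have : (⟨0, hp⟩ : E.ker) = 0 := rfl
    rw [this, map_zero]
    exact Submodule.zero_mem _
  | add p q hp hq ihp ihq =>
    intro hpq
    have hp1 : p ∈ E.ker := (Ideal.span_le.2 (by rintro _ ⟨j, rfl⟩; exact hf j)) hp
    have hq1 : q ∈ E.ker := (Ideal.span_le.2 (by rintro _ ⟨j, rfl⟩; exact hf j)) hq
    have : (⟨p + q, hpq⟩ : E.ker) = ⟨p, hp1⟩ + ⟨q, hq1⟩ := rfl
    rw [this, map_add]
    exact Submodule.add_mem _ (ihp hp1) (ihq hq1)
  | smul a p hp ihp =>
    intro hap
    have hp1 : p ∈ E.ker := (Ideal.span_le.2 (by rintro _ ⟨j, rfl⟩; exact hf j)) hp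
    have : (⟨a • p, hap⟩ : E.ker) = a • ⟨p, hp1⟩ := rfl
    rw [this, map_smul, ← algebraMap_smul B]
    exact Submodule.smul_mem _ _ (ihp hp1)

end Span

section Main

open NLInv MvPolynomial

variable (A : Type u) [CommRing A] (n m : ℕ) (hmn : m ≤ n) (f : Fin m → MvPolynomial (Fin n) A)

/-- The standard generators of `A[x_1..x_n]/(f)`. -/
noncomputable def gens :
    Generators A (MvPolynomial (Fin n) A ⧸ Ideal.span (Set.range f)) (Fin n) :=
  Generators.ofSurjective (fun i => Ideal.Quotient.mk (Ideal.span (Set.range f)) (X i)) (by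
    have : (aeval (R := A) fun i => Ideal.Quotient.mk (Ideal.span (Set.range f)) (X i)) =
        Ideal.Quotient.mkₐ A (Ideal.span (Set.range f)) := by
      ext i
      simp
    rw [this]
    exact Ideal.Quotient.mkₐ_surjective A _)

lemma algebraMap_gens (p : MvPolynomial (Fin n) A) :
    algebraMap (gens A n m f).toExtension.Ring (MvPolynomial (Fin n) A ⧸ Ideal.span (Set.range f)) p =
      Ideal.Quotient.mk (Ideal.span (Set.range f)) p := by
  have : (aeval (R := A) fun i => Ideal.Quotient.mk (Ideal.span (Set.range f)) (X i)) =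
      Ideal.Quotient.mkₐ A (Ideal.span (Set.range f)) := by
    ext i
    simp
  show aeval (gens A n m f).val p = _
  exact DFunLike.congr_fun this p

lemma mem_ker_gens (p : MvPolynomial (Fin n) A) :
    p ∈ (gens A n m f).toExtension.ker ↔ p ∈ Ideal.span (Set.range f) := by
  have h1 : p ∈ (gens A n m f).toExtension.ker ↔
      algebraMap (gens A n m f).toExtension.Ring
        (MvPolynomial (Fin n) A ⧸ Ideal.span (Set.range f)) p = 0 := RingHom.mem_ker
  have h2 := algebraMap_gens A n m f p
  exact h1.trans (by rw [h2]; exact Ideal.Quotient.eq_zero_iff_mem)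

/-- The classes of the `f j` in `I/I²`. -/
noncomputable def cc (j : Fin m) : (gens A n m f).toExtension.Cotangent :=
  Extension.Cotangent.mk ⟨f j, (mem_ker_gens A n m f _).2 (Ideal.subset_span ⟨j, rfl⟩)⟩

lemma span_cc : Submodule.span (MvPolynomial (Fin n) A ⧸ Ideal.span (Set.range f))
    (Set.range (cc A n m f)) = ⊤ :=
  span_mk_eq_top (gens A n m f).toExtension f
    (fun j => (mem_ker_gens A n m f _).2 (Ideal.subset_span ⟨j, rfl⟩))
    (fun p hp => (mem_ker_gens A n m f p).1 hp)

lemma repr_d_cc (i : Fin n) (j : Fin m) :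
    (gens A n m f).cotangentSpaceBasis.repr
      ((gens A n m f).toExtension.cotangentComplex (cc A n m f j)) i =
      Ideal.Quotient.mk (Ideal.span (Set.range f)) (pderiv i (f j)) := by
  rw [cc, Extension.cotangentComplex_mk, Generators.cotangentSpaceBasis_repr_one_tmul]
  exact algebraMap_gens A n m f _

lemma det_jac :
    (jac (gens A n m f).toExtension.cotangentComplex hmn (gens A n m f).cotangentSpaceBasis
      (cc A n m f)).det =
    Ideal.Quotient.mk (Ideal.span (Set.range f))
      (Matrix.det (Matrix.of (fun i j : Fin m => pderiv (Fin.castLE hmn i) (f j)))) := by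
  rw [RingHom.map_det]
  congr 1
  ext i j
  simp only [jac, Matrix.of_apply, RingHom.mapMatrix_apply, Matrix.map_apply]
  exact repr_d_cc A n m f _ _

/-- **The Jacobian minor kills `Ext¹(NL, N)`, and kills `NL` itself when `n = m`.** -/
theorem main :
    (∀ (N : Type u) [AddCommGroup N] [Module (MvPolynomial (Fin n) A ⧸ Ideal.span (Set.range f)) N]
      (φ : LCI.NL A (MvPolynomial (Fin n) A ⧸ Ideal.span (Set.range f)) ⟶
        (Dual.inD (MvPolynomial (Fin n) A ⧸ Ideal.span (Set.range f)) N)⟦(1 : ℤ)⟧),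
      (Ideal.Quotient.mk (Ideal.span (Set.range f))
        (Matrix.det (Matrix.of (fun i j : Fin m => pderiv (Fin.castLE hmn i) (f j))))) • φ = 0) ∧
    (n = m → (Ideal.Quotient.mk (Ideal.span (Set.range f))
        (Matrix.det (Matrix.of (fun i j : Fin m => pderiv (Fin.castLE hmn i) (f j))))) •
      𝟙 (LCI.NL A (MvPolynomial (Fin n) A ⧸ Ideal.span (Set.range f))) = 0) := by
  set G := gens A n m f with hG
  obtain ⟨e⟩ := nonempty_NL_iso G.toExtension
    (Generators.defaultHom G (Generators.self A _)).toExtensionHom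
  set g := Ideal.Quotient.mk (Ideal.span (Set.range f))
    (Matrix.det (Matrix.of (fun i j : Fin m => pderiv (Fin.castLE hmn i) (f j)))) with hg
  have hd : ∀ x, hmap G.toExtension.cotangentComplex hmn G.cotangentSpaceBasis (cc A n m f)
      (G.toExtension.cotangentComplex x) = g • x := by
    intro x
    rw [hmap_d _ hmn _ _ (span_cc A n m f), det_jac]
  refine ⟨fun N _ _ φ => ?_, fun hnm => ?_⟩
  · have h1 := smul_eq_zero G.toExtension _ g hd (ModuleCat.of _ N) (e.hom ≫ φ)
    have h2 : g • φ = e.inv ≫ (g • (e.hom ≫ φ)) := by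
      rw [Linear.comp_smul, Iso.inv_hom_id_assoc]
    rw [h2, h1, Limits.comp_zero]
  · have hd' : ∀ z, G.toExtension.cotangentComplex
        (hmap G.toExtension.cotangentComplex hmn G.cotangentSpaceBasis (cc A n m f) z) = g • z := by
      intro z
      rw [d_hmap_of_eq _ hmn _ _ hnm, det_jac]
    have h1 := smul_id_eq_zero G.toExtension _ g hd hd'
    have h2 : g • 𝟙 (LCI.NL A (MvPolynomial (Fin n) A ⧸ Ideal.span (Set.range f))) =
        e.inv ≫ (g • 𝟙 (DRing.toD (nl G.toExtension))) ≫ e.hom := by
      rw [Linear.smul_comp, Linear.comp_smul, Category.id_comp, Iso.inv_hom_id]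
    rw [h2, h1, Limits.zero_comp, Limits.comp_zero]

end Main

end Groth.Agent.H61.NLJac
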