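import Groth.Agent.H61.H1CotVanish
import Groth.Agent.H61.NLJac
import Groth.Agent.H61.DualBC
import Groth.Agent.H34.Fitting11
import Groth.Agent.H59.LCIReg
import Groth.Agent.H56.LciBasic
import Groth.Agent.H19.QReg
import Mathlib.RingTheory.Smooth.Field

/-!
# `Fitt_d(Ω_{B/k}) = Fitt_0(Ext¹(Ω_{B/k}, B))` for a reduced complete intersection
-/

set_option autoImplicit false
universe u

open MvPolynomial Algebra CategoryTheory

namespace Groth.Agent.H61.FittCI

section

variable (k : Type u) [Field k] [IsAlgClosed k] (r c : ℕ) (B : Type u) [CommRing B] [Algebra k B]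
  [IsReduced B] (φ : MvPolynomial (Fin r) k →ₐ[k] B) (hφ : Function.Surjective φ)
  (a : Fin c → MvPolynomial (Fin r) k)
  (ha : RingTheory.Sequence.IsRegular (MvPolynomial (Fin r) k) (List.ofFn a))
  (hker : RingHom.ker φ.toRingHom = Ideal.span (Set.range a))

include hφ ha hker in
lemma isLCI : LCI.IsLCI k B := by
  refine ⟨Algebra.FiniteType.of_surjective φ hφ, r, φ, hφ, ?_⟩
  rw [hker]
  have h1 : Ideal.span (Set.range a) = Ideal.ofList (List.ofFn a) := by
    congr 1
    ext x
    simp [List.mem_ofFn]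
  rw [h1]
  exact Groth.Agent.H56.LciBasic.isKoszulRegularIdeal_of_seq _
    (Groth.Agent.H59.Kosz.kreg_of_isWeaklyRegular _ ha.toIsWeaklyRegular)

include hφ in
lemma mem_smoothLocus_of_minimal (𝔓 : PrimeSpectrum B) (hmin : 𝔓.asIdeal ∈ minimalPrimes B) :
    𝔓 ∈ Algebra.smoothLocus k B := by
  show Algebra.FormallySmooth k (Localization.AtPrime 𝔓.asIdeal)
  haveI : Algebra.FiniteType k B := Algebra.FiniteType.of_surjective φ hφ
  haveI : Ring.KrullDimLE 0 (Localization.AtPrime 𝔓.asIdeal) := .of_isLocalization _ hmin _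
  letI : Field (Localization.AtPrime 𝔓.asIdeal) := Ring.KrullDimLE.isField_of_isReduced.toField
  haveI : Algebra.EssFiniteType k (Localization.AtPrime 𝔓.asIdeal) :=
    Algebra.EssFiniteType.comp k B _
  exact Algebra.FormallySmooth.of_perfectField

include hφ ha hker in
lemma subsingleton_h1Cotangent : Subsingleton (Algebra.H1Cotangent k B) := by
  haveI : Algebra.FiniteType k B := Algebra.FiniteType.of_surjective φ hφ
  refine Groth.Agent.H61.H1CotVanish.subsingleton_h1Cotangent k B (isLCI k r c B φ hφ a ha hker) ?_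
  intro 𝔓 hfib
  apply mem_smoothLocus_of_minimal k r B φ hφ 𝔓
  refine ⟨⟨𝔓.isPrime, bot_le⟩, ?_⟩
  rintro q ⟨hq, -⟩ hle
  have hbot : ∀ (J : Ideal B) [J.IsPrime], J.comap (algebraMap k B) = ⊥ := by
    intro J _
    exact (Ideal.eq_bot_or_top _).resolve_right (Ideal.IsPrime.ne_top (Ideal.comap_isPrime _ _))
  have := hfib ⟨q, hq⟩ hle (by
    show q.comap (algebraMap k B) = 𝔓.asIdeal.comap (algebraMap k B)
    rw [hbot q, hbot 𝔓.asIdeal])
  rw [← this]

/-- The presentation given by `φ`. -/
noncomputable abbrev gens : Generators k B (Fin r) := Generators.ofAlgHom φ hφ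

include ha hker in
lemma cotangentComplex_injective :
    Function.Injective (gens k r B φ hφ).toExtension.cotangentComplex := by
  haveI := subsingleton_h1Cotangent k r c B φ hφ a ha hker
  haveI : Subsingleton (gens k r B φ hφ).toExtension.H1Cotangent :=
    (gens k r B φ hφ).equivH1Cotangent.injective.subsingleton
  rw [← LinearMap.ker_eq_bot, eq_bot_iff]
  intro x hx
  have : (⟨x, hx⟩ : (gens k r B φ hφ).toExtension.H1Cotangent) = 0 :=
    @Subsingleton.elim (gens k r B φ hφ).toExtension.H1Cotangent inferInstance _ _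
  exact congrArg Subtype.val this

include hker in
omit [IsAlgClosed k] [IsReduced B] in
lemma mem_ker_iff (x : MvPolynomial (Fin r) k) :
    x ∈ (gens k r B φ hφ).toExtension.ker ↔ x ∈ Ideal.span (Set.range a) := by
  rw [← hker]
  have h1 : x ∈ (gens k r B φ hφ).toExtension.ker ↔
      algebraMap (gens k r B φ hφ).toExtension.Ring B x = 0 := RingHom.mem_ker
  have h2 : algebraMap (gens k r B φ hφ).toExtension.Ring B x = φ x := by
    show MvPolynomial.aeval (gens k r B φ hφ).val x = φ x
    have : (MvPolynomial.aeval (gens k r B φ hφ).val : MvPolynomial (Fin r) k →ₐ[k] B) = φ := by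
      ext i
      simp [Generators.ofAlgHom]
    rw [this]
  rw [h1, h2]
  exact Iff.rfl

omit [IsAlgClosed k] [IsReduced B] in
lemma algebraMap_eq (x : MvPolynomial (Fin r) k) :
    algebraMap (gens k r B φ hφ).toExtension.Ring B x = φ x := by
  show MvPolynomial.aeval (gens k r B φ hφ).val x = φ x
  have : (MvPolynomial.aeval (gens k r B φ hφ).val : MvPolynomial (Fin r) k →ₐ[k] B) = φ := by
    ext i
    simp [Generators.ofAlgHom]
  rw [this]

/-- The classes of the `a j` in `I/I²`. -/
noncomputable def cc (j : Fin c) : (gens k r B φ hφ).toExtension.Cotangent :=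
  Extension.Cotangent.mk ⟨a j, (mem_ker_iff k r c B φ hφ a hker _).2 (Ideal.subset_span ⟨j, rfl⟩)⟩

omit [IsAlgClosed k] [IsReduced B] in
lemma span_cc : Submodule.span B (Set.range (cc k r c B φ hφ a hker)) = ⊤ :=
  NLJac.span_mk_eq_top (gens k r B φ hφ).toExtension a
    (fun j => (mem_ker_iff k r c B φ hφ a hker _).2 (Ideal.subset_span ⟨j, rfl⟩))
    (fun p hp => (mem_ker_iff k r c B φ hφ a hker p).1 hp)

include ha in
omit [IsAlgClosed k] [IsReduced B] in
lemma coeff_mem (b : Fin c → MvPolynomial (Fin r) k)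
    (hb : ∑ j, b j * a j ∈ Ideal.span (Set.range a) ^ 2) (j : Fin c) :
    b j ∈ Ideal.span (Set.range a) := by
  classical
  have hq := Groth.Agent.H19.QReg.isQuasiRegular_of_isWeaklyRegular c a ha.toIsWeaklyRegular
  have hhom : (∑ j, C (b j) * X j : MvPolynomial (Fin c) (MvPolynomial (Fin r) k)).IsHomogeneous 1 :=
    MvPolynomial.IsHomogeneous.sum _ _ _ (fun j _ => MvPolynomial.isHomogeneous_C_mul_X (b j) j)
  have hev : MvPolynomial.eval a (∑ j, C (b j) * X j) = ∑ j, b j * a j := by
    simp
  have := hq 1 _ hhom (by rw [hev]; exact hb) (Finsupp.single j 1)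
  rw [MvPolynomial.coeff_sum] at this
  have h1 : ∀ j' : Fin c, MvPolynomial.coeff (Finsupp.single j 1)
      (C (b j') * X j' : MvPolynomial (Fin c) (MvPolynomial (Fin r) k)) =
      if j' = j then b j' else 0 := by
    intro j'
    rw [MvPolynomial.coeff_C_mul, MvPolynomial.coeff_X']
    by_cases hjj : j' = j
    · subst hjj
      simp
    · have : Finsupp.single j' 1 ≠ Finsupp.single j 1 := by
        intro h
        exact hjj ((Finsupp.single_left_inj one_ne_zero).mp h)
      rw [if_neg this, if_neg hjj, mul_zero]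
  simp only [h1, Finset.sum_ite_eq', Finset.mem_univ, if_true] at this
  exact this

include ha in
omit [IsAlgClosed k] [IsReduced B] in
lemma cc_indep (y : Fin c → B) (hy : ∑ j, y j • cc k r c B φ hφ a hker j = 0) : y = 0 := by
  classical
  choose b hb using fun j => (gens k r B φ hφ).toExtension.algebraMap_surjective (y j)
  have hkerI : ((gens k r B φ hφ).toExtension.ker : Ideal (MvPolynomial (Fin r) k)) =
      Ideal.span (Set.range a) := Ideal.ext (mem_ker_iff k r c B φ hφ a hker)
  have hmem : ∀ j, a j ∈ (gens k r B φ hφ).toExtension.ker := fun j =>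
    (mem_ker_iff k r c B φ hφ a hker _).2 (Ideal.subset_span ⟨j, rfl⟩)
  have h1 : Extension.Cotangent.mk (P := (gens k r B φ hφ).toExtension)
      (∑ j, b j • ⟨a j, hmem j⟩) = 0 := by
    rw [map_sum, ← hy]
    refine Finset.sum_congr rfl fun j _ => ?_
    rw [map_smul, ← hb j, algebraMap_smul]
    rfl
  rw [Extension.Cotangent.mk_eq_zero_iff] at h1
  have hcoe : ((∑ j, b j • (⟨a j, hmem j⟩ : (gens k r B φ hφ).toExtension.ker) :
      (gens k r B φ hφ).toExtension.ker) : (gens k r B φ hφ).toExtension.Ring) =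
      ∑ j, b j * (show (gens k r B φ hφ).toExtension.Ring from a j) := by
    rw [AddSubmonoidClass.coe_finsetSum]
    rfl
  rw [hcoe] at h1
  let b' : Fin c → MvPolynomial (Fin r) k := b
  have h2 : ∑ j, b' j * a j ∈ Ideal.span (Set.range a) ^ 2 := by
    rw [← hkerI]
    exact h1
  funext j
  have h3 := coeff_mem k r c a ha b' h2 j
  rw [← hker] at h3
  rw [Pi.zero_apply, ← hb j, algebraMap_eq]
  exact h3

end

section Congr

variable {R : Type u} [CommRing R] {M M' : Type u} [AddCommGroup M] [Module R M]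
  [AddCommGroup M'] [Module R M']

lemma fitt_congr (e : M ≃ₗ[R] M') (n : ℕ) : Fitt.ideal R M n = Fitt.ideal R M' n :=
  le_antisymm
    (Groth.Agent.H34.Fit.fittIdeal_le_of_surjective e.toLinearMap e.surjective n)
    (Groth.Agent.H34.Fit.fittIdeal_le_of_surjective e.symm.toLinearMap e.symm.surjective n)

end Congr

section Main

variable (k : Type u) [Field k] [IsAlgClosed k] (r c : ℕ) (B : Type u) [CommRing B] [Algebra k B]
  [IsReduced B] (φ : MvPolynomial (Fin r) k →ₐ[k] B) (hφ : Function.Surjective φ)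
  (a : Fin c → MvPolynomial (Fin r) k)
  (ha : RingTheory.Sequence.IsRegular (MvPolynomial (Fin r) k) (List.ofFn a))
  (hker : RingHom.ker φ.toRingHom = Ideal.span (Set.range a))

include hφ ha hker in
theorem main :
    Fitt.ideal B (KaehlerDifferential k B) (r - c) =
      Fitt.ideal B (Abelian.Ext.{u} (ModuleCat.of B (KaehlerDifferential k B))
        (ModuleCat.of B B) 1) 0 := by
  classical
  set E := (gens k r B φ hφ).toExtension with hE
  set β := (gens k r B φ hφ).cotangentSpaceBasis with hβ
  set π : (Fin c → B) →ₗ[B] E.Cotangent :=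
    Fintype.linearCombination B (cc k r c B φ hφ a hker) with hπ
  have hπinj : Function.Injective π := by
    rw [← LinearMap.ker_eq_bot, eq_bot_iff]
    intro y hy
    rw [LinearMap.mem_ker, hπ, Fintype.linearCombination_apply] at hy
    exact cc_indep k r c B φ hφ a ha hker y hy
  have hπsurj : Function.Surjective π := by
    rw [← LinearMap.range_eq_top, hπ, Fintype.range_linearCombination]
    exact span_cc k r c B φ hφ a hker
  have hdinj := cotangentComplex_injective k r c B φ hφ a ha hker
  set σ : (Fin c → B) →ₗ[B] (Fin r → B) :=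
    β.equivFun.toLinearMap ∘ₗ E.cotangentComplex ∘ₗ π with hσ
  have hσinj : Function.Injective σ :=
    β.equivFun.injective.comp (hdinj.comp hπinj)
  set q : (Fin r → B) →ₗ[B] Ω[B⁄k] := E.toKaehler ∘ₗ β.equivFun.symm.toLinearMap with hq
  have hqsurj : Function.Surjective q :=
    E.toKaehler_surjective.comp β.equivFun.symm.surjective
  have hex : Function.Exact σ q := by
    intro x
    have h0 := E.exact_cotangentComplex_toKaehler (β.equivFun.symm x)
    constructor
    · intro hx
      obtain ⟨z, hz⟩ := h0.1 hx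
      obtain ⟨y, rfl⟩ := hπsurj z
      refine ⟨y, ?_⟩
      show β.equivFun (E.cotangentComplex (π y)) = x
      rw [hz, LinearEquiv.apply_symm_apply]
    · rintro ⟨y, rfl⟩
      show E.toKaehler (β.equivFun.symm (β.equivFun (E.cotangentComplex (π y)))) = 0
      rw [LinearEquiv.symm_apply_apply]
      exact (E.exact_cotangentComplex_toKaehler _).2 ⟨_, rfl⟩
  -- first isomorphism
  have hkerq : LinearMap.ker q = LinearMap.range σ := (LinearMap.exact_iff.mp hex)
  let e1 : ((Fin r → B) ⧸ LinearMap.range σ) ≃ₗ[B] Ω[B⁄k] :=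
    (Submodule.quotEquivOfEq _ _ hkerq.symm).trans (LinearMap.quotKerEquivOfSurjective q hqsurj)
  -- Ext
  obtain ⟨e2⟩ := Groth.Agent.H61.DualBC.nonempty_ext1Equiv (Y := B) σ q hσinj hex hqsurj
  have hshift := (Groth.Agent.H34.Fit.fittIdeal_coker_dual_shift c r σ hσinj).1 0
  rw [add_zero] at hshift
  rw [← fitt_congr e1 (r - c), hshift]
  exact fitt_congr e2 0

end Main

end Groth.Agent.H61.FittCI
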