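import Groth.Prelude.Def_ArtFun
import Mathlib.RingTheory.Flat.Tensor
import Mathlib.RingTheory.LocalRing.Module
import Mathlib.RingTheory.Nakayama
import Mathlib.RingTheory.HopkinsLevitzki
import Mathlib.LinearAlgebra.TensorProduct.RightExactness

/-!
# Flatness over an Artinian local ring tested on small extensions (helper61)
-/

set_option autoImplicit false
set_option linter.unusedSectionVars false
set_option linter.style.haveILetI false
universe u

namespace Groth.Agent.H61.FlatSmall

open CategoryTheory ArtFun ArtFun.Art TensorProduct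

variable (R : Type u) [CommRing R] [IsArtinianRing R] [IsLocalRing R]
  (k : Type u) [Field k] [Algebra R k] (hk : Function.Surjective (algebraMap R k))

include hk in
theorem ker_algebraMap : RingHom.ker (algebraMap R k) = IsLocalRing.maximalIdeal R := by
  haveI := RingHom.ker_isMaximal_of_surjective (algebraMap R k) hk
  exact IsLocalRing.eq_maximalIdeal inferInstance

variable {R}

/-- the quotient of `R` by a proper ideal, as an object -/
noncomputable def quotArt (J : Ideal R) (hJ : J ≠ ⊤) : Art R k :=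
  haveI : Nontrivial (R ⧸ J) := Ideal.Quotient.nontrivial_iff.2 hJ
  { carrier := R ⧸ J
    isLocalRing := IsLocalRing.of_surjective' (Ideal.Quotient.mk J) Ideal.Quotient.mk_surjective
    isArtinianRing := (Ideal.Quotient.mk_surjective (I := J)).isArtinianRing
    res := Ideal.Quotient.liftₐ J (Algebra.ofId R k) (fun a ha => by
      have h1 : a ∈ IsLocalRing.maximalIdeal R := IsLocalRing.le_maximalIdeal hJ ha
      rw [← ker_algebraMap R k hk] at h1
      exact RingHom.mem_ker.1 h1)
    res_surjective := fun c => by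
      obtain ⟨a, ha⟩ := hk c
      exact ⟨Ideal.Quotient.mk J a, ha⟩ }

variable {k}

/-- the projection `R/J → R/I` -/
noncomputable def quotHom {J I : Ideal R} (hJ : J ≠ ⊤) (hI : I ≠ ⊤) (hJI : J ≤ I) :
    quotArt k hk J hJ ⟶ quotArt k hk I hI :=
  ⟨Ideal.Quotient.factorₐ R hJI, by
    apply AlgHom.ext
    intro x
    obtain ⟨a, rfl⟩ := Ideal.Quotient.mk_surjective x
    rfl⟩

/-- the projection `R → R/J` with values in the object -/
noncomputable def qmk (J : Ideal R) (hJ : J ≠ ⊤) : R →+* (quotArt k hk J hJ).carrier :=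
  Ideal.Quotient.mk J

theorem qmk_surjective (J : Ideal R) (hJ : J ≠ ⊤) : Function.Surjective (qmk hk J hJ) :=
  Ideal.Quotient.mk_surjective

theorem qmk_eq_zero_iff (J : Ideal R) (hJ : J ≠ ⊤) (a : R) : qmk hk J hJ a = 0 ↔ a ∈ J :=
  Ideal.Quotient.eq_zero_iff_mem

theorem quotHom_qmk {J I : Ideal R} (hJ : J ≠ ⊤) (hI : I ≠ ⊤) (hJI : J ≤ I) (a : R) :
    (quotHom hk hJ hI hJI) (qmk hk J hJ a) = qmk hk I hI a := rfl

theorem mem_ker_quotHom {J I : Ideal R} (hJ : J ≠ ⊤) (hI : I ≠ ⊤) (hJI : J ≤ I) (a : R) :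
    qmk hk J hJ a ∈ RingHom.ker (quotHom hk hJ hI hJI).toAlgHom ↔ a ∈ I := by
  rw [RingHom.mem_ker]
  change (quotHom hk hJ hI hJI) (qmk hk J hJ a) = 0 ↔ _
  rw [quotHom_qmk, qmk_eq_zero_iff]

theorem isSmallExt_quotHom {J I : Ideal R} (hJ : J ≠ ⊤) (hI : I ≠ ⊤) (hJI : J ≤ I) (x : R)
    (hxI : x ∈ I) (hxJ : x ∉ J) (hIJ : I ≤ J ⊔ Ideal.span {x})
    (hm : IsLocalRing.maximalIdeal R * I ≤ J) : IsSmallExt (quotHom hk hJ hI hJI) := by
  refine ⟨?_, ?_, ?_, ?_⟩
  · intro y
    obtain ⟨a, rfl⟩ := qmk_surjective hk I hI y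
    exact ⟨qmk hk J hJ a, rfl⟩
  · intro h0
    have h1 : qmk hk J hJ x ∈ RingHom.ker (quotHom hk hJ hI hJI).toAlgHom :=
      (mem_ker_quotHom hk hJ hI hJI x).2 hxI
    rw [h0, Ideal.mem_bot, qmk_eq_zero_iff] at h1
    exact hxJ h1
  · refine ⟨⟨qmk hk J hJ x, ?_⟩⟩
    apply le_antisymm
    · intro y hy
      obtain ⟨a, rfl⟩ := qmk_surjective hk J hJ y
      have ha : a ∈ I := (mem_ker_quotHom hk hJ hI hJI a).1 hy
      obtain ⟨j, hj, z, hz, rfl⟩ := Submodule.mem_sup.1 (hIJ ha)
      obtain ⟨c, rfl⟩ := Ideal.mem_span_singleton'.1 hz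
      rw [map_add, (qmk_eq_zero_iff hk J hJ j).2 hj, zero_add, map_mul]
      exact Ideal.mul_mem_left _ _ (Ideal.subset_span rfl)
    · rw [Ideal.submodule_span_eq, Ideal.span_le, Set.singleton_subset_iff]
      exact (mem_ker_quotHom hk hJ hI hJI x).2 hxI
  · rw [eq_bot_iff, Ideal.mul_le]
    intro a ha b hb
    obtain ⟨a₀, rfl⟩ := qmk_surjective hk J hJ a
    obtain ⟨b₀, rfl⟩ := qmk_surjective hk J hJ b
    have hb₀ : b₀ ∈ I := (mem_ker_quotHom hk hJ hI hJI b₀).1 hb
    have ha₀ : a₀ ∈ IsLocalRing.maximalIdeal R := by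
      by_contra hu
      have hunit : IsUnit a₀ := by
        by_contra h'
        exact hu ((IsLocalRing.mem_maximalIdeal a₀).2 h')
      have h2 : IsUnit (qmk hk J hJ a₀) := hunit.map (qmk hk J hJ)
      exact (IsLocalRing.mem_maximalIdeal _).1 ha h2
    rw [Ideal.mem_bot, ← map_mul, qmk_eq_zero_iff]
    exact hm (Ideal.mul_mem_mul ha₀ hb₀)

variable (M : Type u) [AddCommGroup M] [Module R M]

/-- the inductive step: from `J` to `I` along a small extension `R/J → R/I` -/
theorem step {J I : Ideal R} (hJ : J ≠ ⊤) (hI : I ≠ ⊤) (hJI : J ≤ I)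
    (hinj : Function.Injective (LinearMap.lTensor M
      (((RingHom.ker (quotHom hk hJ hI hJI).toAlgHom).restrictScalars R).subtype)))
    (hPJ : Function.Injective (LinearMap.lTensor M J.subtype)) :
    Function.Injective (LinearMap.lTensor M I.subtype) := by
  -- the maps
  let j : ↥J →ₗ[R] ↥I := Submodule.inclusion hJI
  let q : ↥I →ₗ[R] ↥((RingHom.ker (quotHom hk hJ hI hJI).toAlgHom).restrictScalars R) :=
    { toFun := fun y => ⟨qmk hk J hJ y.1, (mem_ker_quotHom hk hJ hI hJI y.1).2 y.2⟩
      map_add' := fun a b => Subtype.ext (map_add (qmk hk J hJ) a.1 b.1)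
      map_smul' := fun r a => Subtype.ext (map_mul (qmk hk J hJ) r a.1) }
  have hq_apply : ∀ y : ↥I, ((q y : ↥((RingHom.ker (quotHom hk hJ hI hJI).toAlgHom).restrictScalars R)) :
      (quotArt k hk J hJ).carrier) = qmk hk J hJ y.1 := fun y => rfl
  have hexact : Function.Exact j q := by
    intro y
    constructor
    · intro hy
      have h1 : qmk hk J hJ y.1 = 0 := congrArg Subtype.val hy
      rw [qmk_eq_zero_iff] at h1
      exact ⟨⟨y.1, h1⟩, Subtype.ext rfl⟩
    · rintro ⟨y', rfl⟩
      apply Subtype.ext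
      change qmk hk J hJ y'.1 = 0
      rw [qmk_eq_zero_iff]
      exact y'.2
  have hq_surj : Function.Surjective q := by
    rintro ⟨y, hy⟩
    obtain ⟨a, rfl⟩ := qmk_surjective hk J hJ y
    have ha : a ∈ I := (mem_ker_quotHom hk hJ hI hJI a).1 hy
    exact ⟨⟨a, ha⟩, Subtype.ext rfl⟩
  have hcomm : (((RingHom.ker (quotHom hk hJ hI hJI).toAlgHom).restrictScalars R).subtype).comp q =
      (Algebra.linearMap R (quotArt k hk J hJ).carrier).comp I.subtype := by
    apply LinearMap.ext
    intro y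
    rfl
  have hcomm2 : I.subtype.comp j = J.subtype := by
    apply LinearMap.ext
    intro y
    rfl
  have hex2 := lTensor_exact M hexact hq_surj
  rw [injective_iff_map_eq_zero]
  intro z hz
  have h1 : LinearMap.lTensor M q z = 0 := by
    apply hinj
    rw [map_zero, ← LinearMap.comp_apply, ← LinearMap.lTensor_comp, hcomm, LinearMap.lTensor_comp,
      LinearMap.comp_apply, hz, map_zero]
  obtain ⟨z', rfl⟩ := (hex2 z).1 h1
  have h2 : LinearMap.lTensor M J.subtype z' = 0 := by
    rw [← hcomm2, LinearMap.lTensor_comp, LinearMap.comp_apply, hz]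
  rw [hPJ (h2.trans (map_zero _).symm), map_zero]

include hk in
/-- **`M ⊗ I → M ⊗ A'` injective for all small extensions implies `M` free.** -/
theorem free_of_small [Module.Finite R M]
    (h : ∀ (A' A : Art R k) (p : A' ⟶ A), IsSmallExt p →
      Function.Injective
        (LinearMap.lTensor M (((RingHom.ker p.toAlgHom).restrictScalars R).subtype))) :
    Module.Free R M := by
  haveI : Module.Flat R M := by
    rw [Module.Flat.iff_lTensor_injective']
    intro I
    induction I using IsArtinian.induction with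
    | _ I ih =>
    by_cases hbot : I = ⊥
    · rw [hbot]
      have hsub : ∀ z : M ⊗[R] ↥(⊥ : Ideal R), z = 0 := by
        intro z
        induction z using TensorProduct.induction_on with
        | zero => rfl
        | tmul m y =>
          have hy : y = 0 := Subtype.ext ((Submodule.mem_bot R).1 y.2)
          rw [hy, TensorProduct.tmul_zero]
        | add a b ha hb => rw [ha, hb, add_zero]
      intro a b _
      rw [hsub a, hsub b]
    by_cases htop : I = ⊤
    · rw [htop]
      have e : (⊤ : Ideal R).subtype = (Submodule.topEquiv : ↥(⊤ : Ideal R) ≃ₗ[R] R).toLinearMap :=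
        rfl
      rw [e]
      exact (LinearEquiv.lTensor M (Submodule.topEquiv : ↥(⊤ : Ideal R) ≃ₗ[R] R)).injective
    -- a maximal ideal below `I` containing `m I`
    have hmI : IsLocalRing.maximalIdeal R * I ≠ I := by
      intro heq
      apply hbot
      refine Submodule.eq_bot_of_le_smul_of_le_jacobson_bot (IsLocalRing.maximalIdeal R) I
        (IsNoetherian.noetherian I) ?_ ?_
      · rw [smul_eq_mul, heq]
      · rw [IsLocalRing.jacobson_eq_maximalIdeal ⊥ bot_ne_top]
    haveI : IsNoetherianRing R := inferInstance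
    have hmI' : IsLocalRing.maximalIdeal R * I < I := lt_of_le_of_ne Ideal.mul_le_right hmI
    obtain ⟨J, ⟨hJ1, hJ2⟩, hJmax⟩ := set_has_maximal_iff_noetherian.2
      (inferInstance : IsNoetherian R R) {J : Ideal R | IsLocalRing.maximalIdeal R * I ≤ J ∧ J < I}
      ⟨_, le_rfl, hmI'⟩
    obtain ⟨x, hxI, hxJ⟩ := SetLike.exists_of_lt hJ2
    have hsup : I ≤ J ⊔ Ideal.span {x} := by
      by_contra hcon
      have hle : J ⊔ Ideal.span {x} ≤ I :=
        sup_le hJ2.le ((Ideal.span_singleton_le_iff_mem I).2 hxI)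
      have hlt : J ⊔ Ideal.span {x} < I := lt_of_le_of_ne hle (fun he => hcon he.ge)
      have hJlt : J < J ⊔ Ideal.span {x} := by
        refine lt_of_le_of_ne le_sup_left (fun he => hxJ ?_)
        rw [he]
        exact Ideal.mem_sup_right (Ideal.subset_span rfl)
      exact hJmax _ ⟨hJ1.trans le_sup_left, hlt⟩ hJlt
    have hJtop : J ≠ ⊤ := fun he => htop (top_le_iff.1 (he ▸ hJ2.le))
    exact step hk M hJtop htop hJ2.le
      (h _ _ _ (isSmallExt_quotHom hk hJtop htop hJ2.le x hxI hxJ hsup hJ1)) (ih J hJ2)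
  exact Module.free_of_flat_of_isLocalRing

end Groth.Agent.H61.FlatSmall
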