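import Groth.Agent.H61.LciFibreMin
import Groth.Prelude.Def_LCI2
import Mathlib.RingTheory.Smooth.Locus
import Mathlib.RingTheory.Flat.Basic
import Mathlib.RingTheory.Noetherian.Defs

/-!
# `H₁(NL) = 0` for flat lci maps with generically smooth fibres (no hypothesis on `2`)

This is the proof of `S18126` with the unused hypothesis `IsUnit (2 : A)` removed.
-/

set_option autoImplicit false
universe u

namespace Groth.Agent.H61.H1CotVanish

/-- Flat lci with generically smooth fibres ⇒ `H₁(NL_{P/A}) = 0`. -/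
theorem subsingleton_h1Cotangent
    (A : Type u) [CommRing A] [IsNoetherianRing A]
    (P : Type u) [CommRing P] [Algebra A P] [Module.Flat A P] (hlci : LCI.IsLCI A P)
    (hgs : ∀ 𝔓 : PrimeSpectrum P,
      (∀ 𝔔 : PrimeSpectrum P, 𝔔 ≤ 𝔓 →
          𝔔.asIdeal.comap (algebraMap A P) = 𝔓.asIdeal.comap (algebraMap A P) → 𝔔 = 𝔓) →
        𝔓 ∈ Algebra.smoothLocus A P) :
    Subsingleton (Algebra.H1Cotangent A P) := by
  classical
  obtain ⟨hft, n, f, hf, hI⟩ := hlci
  haveI := hft
  haveI : IsNoetherianRing P := Algebra.FiniteType.isNoetherianRing A P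
  have haev : MvPolynomial.aeval (R := A) (fun i : Fin n => f (MvPolynomial.X i)) = f := by
    refine MvPolynomial.algHom_ext fun i => ?_
    rw [MvPolynomial.aeval_X]
  have hsurj : Function.Surjective
      (MvPolynomial.aeval (R := A) (fun i : Fin n => f (MvPolynomial.X i))) := by
    rw [haev]; exact hf
  let G : Algebra.Generators A P (Fin n) := Algebra.Generators.ofSurjective _ hsurj
  set I : Ideal (MvPolynomial (Fin n) A) := RingHom.ker f.toRingHom with hIdef
  have hmemIf : ∀ a : MvPolynomial (Fin n) A, a ∈ I ↔ f a = 0 := fun a => Iff.rfl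
  have halg : ∀ y : G.toExtension.Ring,
      algebraMap G.toExtension.Ring P y = f (y : MvPolynomial (Fin n) A) := by
    intro y
    exact (Algebra.Generators.algebraMap_apply G y).trans (DFunLike.congr_fun haev y)
  have hkerI : (G.toExtension.ker : Ideal (MvPolynomial (Fin n) A)) = I := by
    ext y
    change algebraMap G.toExtension.Ring P y = 0 ↔ f y = 0
    rw [halg]
  have hmemI : ∀ w : G.toExtension.Ring,
      w ∈ G.toExtension.ker ↔ (w : MvPolynomial (Fin n) A) ∈ I := by
    intro w
    rw [← hkerI]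
    exact Iff.rfl
  have hmemI2 : ∀ w : G.toExtension.Ring,
      w ∈ G.toExtension.ker ^ 2 ↔ (w : MvPolynomial (Fin n) A) ∈ I ^ 2 := by
    intro w
    rw [← hkerI]
    exact Iff.rfl
  -- flatness of `S/I`
  haveI hflat : Module.Flat A (MvPolynomial (Fin n) A ⧸ I) :=
    Module.Flat.of_linearEquiv (Ideal.quotientKerAlgEquivOfSurjective hf).toLinearEquiv
  -- local `H₁`-regular data at primes
  have hloc : ∀ (𝔓 : Ideal (MvPolynomial (Fin n) A)) [𝔓.IsPrime], I ≤ 𝔓 →
      ∃ (c : ℕ) (h : Fin c → Localization.AtPrime 𝔓), CAlgX.IsH1Regular h ∧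
        I.map (algebraMap (MvPolynomial (Fin n) A) (Localization.AtPrime 𝔓)) =
          Ideal.span (Set.range h) := by
    intro 𝔮 _ hle
    obtain ⟨g, hg, c, h, hH1, hspan⟩ := Groth.Agent.H61.LciCot.exists_h1Regular I hI 𝔮 hle
    have hpow : Submonoid.powers g ≤ 𝔮.primeCompl := Submonoid.powers_le.mpr hg
    letI : Algebra (Localization.Away g) (Localization.AtPrime 𝔮) :=
      IsLocalization.localizationAlgebraOfSubmonoidLe _ _ _ _ hpow
    haveI : IsScalarTower (MvPolynomial (Fin n) A) (Localization.Away g) (Localization.AtPrime 𝔮) :=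
      IsLocalization.localization_isScalarTower_of_submonoid_le _ _ _ _ hpow
    haveI : IsLocalization (𝔮.primeCompl.map (algebraMap (MvPolynomial (Fin n) A) (Localization.Away g)))
        (Localization.AtPrime 𝔮) :=
      IsLocalization.isLocalization_of_submonoid_le _ _ _ _ hpow
    refine ⟨c, fun i => algebraMap (Localization.Away g) (Localization.AtPrime 𝔮) (h i),
      Groth.Agent.H61.H1RegLoc.isH1Regular_map_of_isLocalization
        (𝔮.primeCompl.map (algebraMap (MvPolynomial (Fin n) A) (Localization.Away g))) h hH1, ?_⟩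
    rw [IsScalarTower.algebraMap_eq (MvPolynomial (Fin n) A) (Localization.Away g)
      (Localization.AtPrime 𝔮), ← Ideal.map_map, hspan, Ideal.map_span, ← Set.range_comp]
    rfl
  -- associated primes of `P` are generic in their fibres, hence smooth points
  have hass : ∀ 𝔭 ∈ associatedPrimes P P, ∀ z : Algebra.H1Cotangent A P, ∃ c : P, c ∉ 𝔭 ∧ c • z = 0 := by
    intro 𝔭 h𝔭 z
    haveI h𝔭p : 𝔭.IsPrime := h𝔭.isPrime
    obtain ⟨-, x, hx⟩ := (isAssociatedPrime_iff (M := P)).mp h𝔭
    obtain ⟨x', rfl⟩ := hf x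
    have hcomapass : 𝔭.comap f.toRingHom ∈
        associatedPrimes (MvPolynomial (Fin n) A) (MvPolynomial (Fin n) A ⧸ I) := by
      refine (isAssociatedPrime_iff (M := MvPolynomial (Fin n) A ⧸ I)).mpr
        ⟨Ideal.comap_isPrime _ _, Submodule.Quotient.mk x', ?_⟩
      ext a
      rw [Ideal.mem_comap, hx, Submodule.mem_colon_singleton, Submodule.mem_bot,
        Submodule.mem_colon_singleton, Submodule.mem_bot, ← Submodule.Quotient.mk_smul,
        Submodule.Quotient.mk_eq_zero, smul_eq_mul, smul_eq_mul, hmemIf, map_mul]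
      rfl
    have hfibre : ∀ 𝔔 : PrimeSpectrum P, 𝔔 ≤ ⟨𝔭, h𝔭p⟩ →
        𝔔.asIdeal.comap (algebraMap A P) = (⟨𝔭, h𝔭p⟩ : PrimeSpectrum P).asIdeal.comap (algebraMap A P) →
        𝔔 = ⟨𝔭, h𝔭p⟩ := by
      intro 𝔔 hle hcomap
      haveI : (𝔔.asIdeal.comap f.toRingHom).IsPrime := Ideal.comap_isPrime _ _
      have hfalg : f.toRingHom.comp (algebraMap A (MvPolynomial (Fin n) A)) = algebraMap A P :=
        f.comp_algebraMap
      have key := Groth.Agent.H61.LciFibreMin.eq_of_mem_associatedPrimes I hloc (𝔭.comap f.toRingHom)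
        hcomapass (𝔔.asIdeal.comap f.toRingHom)
        (fun a ha => by
          rw [Ideal.mem_comap]
          have : f.toRingHom a = 0 := ha
          rw [this]; exact zero_mem _)
        (Ideal.comap_mono hle)
        (by rw [Ideal.comap_comap, Ideal.comap_comap, hfalg]; exact hcomap)
      apply PrimeSpectrum.ext
      exact Ideal.comap_injective_of_surjective f.toRingHom hf key
    have hsm := hgs ⟨𝔭, h𝔭p⟩ hfibre
    rw [Algebra.smoothLocus_eq_compl_support_inter] at hsm
    exact (Module.notMem_support_iff'.mp hsm.1 z)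
  -- every class vanishes
  have hzero : ∀ z : Algebra.H1Cotangent A P, z = 0 := by
    intro z
    have hfin : (associatedPrimes P P).Finite := associatedPrimes.finite P P
    obtain ⟨sb, hsz, hsmin⟩ : ∃ sb : P, sb • z = 0 ∧ ∀ p ∈ associatedPrimes P P, sb ∉ p := by
      by_contra hcon
      push Not at hcon
      set Ann : Ideal P := (⊥ : Submodule P (Algebra.H1Cotangent A P)).colon {z} with hAnn
      have hAnnmem : ∀ c, c ∈ Ann ↔ c • z = 0 := fun c => by
        rw [hAnn, Submodule.mem_colon_singleton, Submodule.mem_bot]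
      have hsub : (Ann : Set P) ⊆ ⋃ p ∈ (hfin.toFinset : Set (Ideal P)), (p : Set P) := by
        intro c hc
        obtain ⟨p, hp, hcp⟩ := hcon c ((hAnnmem c).mp hc)
        simp only [Set.mem_iUnion]
        exact ⟨p, by simpa using hp, hcp⟩
      obtain ⟨p, hp, hle⟩ := (Ideal.subset_union_prime (R := P) (s := hfin.toFinset)
        (f := fun p => p) ⊥ ⊥ (fun p hp _ _ => ((Set.Finite.mem_toFinset hfin).mp hp).isPrime)).mp hsub
      have hp' := (Set.Finite.mem_toFinset hfin).mp hp
      obtain ⟨c, hcp, hcz⟩ := hass p hp' z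
      exact hcp (hle ((hAnnmem c).mpr hcz))
    -- `sb` is a non-zero-divisor of `P`
    have hnzdP : ∀ b : P, sb * b = 0 → b = 0 := by
      intro b hb
      by_contra hb0
      have hmem : sb ∈ {r : P | ∃ x : P, x ≠ 0 ∧ r • x = 0} := ⟨b, hb0, hb⟩
      rw [← biUnion_associatedPrimes_eq_zero_divisors P P] at hmem
      simp only [Set.mem_iUnion] at hmem
      obtain ⟨p, hp, hsp⟩ := hmem
      exact hsmin p hp hsp
    -- transfer to `I/I²`
    set x : G.toExtension.H1Cotangent := (G.equivH1Cotangent).symm z with hx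
    have hsx : sb • x = 0 := by
      rw [hx, ← map_smul, hsz, map_zero]
    obtain ⟨y, hy⟩ := Algebra.Extension.Cotangent.mk_surjective x.val
    obtain ⟨s, rfl⟩ := hf sb
    obtain ⟨s', hs'⟩ : ∃ s' : G.toExtension.Ring, s' = (s : MvPolynomial (Fin n) A) := ⟨_, rfl⟩
    have hsy : Algebra.Extension.Cotangent.mk (s' • y) = 0 := by
      rw [map_smul, hy, ← algebraMap_smul P s' x.val, halg, hs']
      have := congrArg Subtype.val hsx
      exact this
    rw [Algebra.Extension.Cotangent.mk_eq_zero_iff] at hsy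
    obtain ⟨y0, hy0⟩ : ∃ y0 : MvPolynomial (Fin n) A, y0 = (y : G.toExtension.Ring) := ⟨_, rfl⟩
    have hyI : y0 ∈ I := by
      rw [hy0]
      exact (hmemI _).mp y.2
    have hsyI : s * y0 ∈ I ^ 2 := by
      rw [hy0, ← hs']
      exact (hmemI2 _).mp hsy
    have hnzd : ∀ a, s * a ∈ I → a ∈ I := by
      intro a ha
      rw [hmemIf, map_mul] at ha
      exact (hmemIf a).mpr (hnzdP _ ha)
    have hy2 := Groth.Agent.H61.LciCot.mem_sq_of_mul_mem_sq I hI s y0 hyI hsyI hnzd
    have hxval : x.val = 0 := by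
      rw [← hy, Algebra.Extension.Cotangent.mk_eq_zero_iff, hmemI2, ← hy0]
      exact hy2
    have hx0 : x = 0 := Subtype.ext hxval
    have : z = (G.equivH1Cotangent) x := by rw [hx, LinearEquiv.apply_symm_apply]
    rw [this, hx0, map_zero]
  exact ⟨fun a b => by rw [hzero a, hzero b]⟩


end Groth.Agent.H61.H1CotVanish
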