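import Groth.Agent.H61.NLEtaleBC

/-!
# `H¹` of the naive cotangent complex and localization

* `bijective_lbc_away`: `B_g ⊗_B H¹(L_{B/A}) ≅ H¹(L_{B_g/A})`.
* `isLocalizedModule_h1Cotangent_map`: `H¹(L_{B/A}) → H¹(L_{B_g/A})` is a localization at `g`.
* `isLocalizedModule_h1Cotangent_map_square`: for a square with `A → A'` formally étale and
  `B → B'` a localization at `g`.
-/

set_option autoImplicit false
set_option linter.style.haveILetI false
set_option linter.unusedSectionVars false
universe u
open TensorProduct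

namespace Groth.Agent.H61.H1Loc

open Algebra

section Away

variable (A B B' : Type u) [CommRing A] [CommRing B] [CommRing B'] [Algebra A B] [Algebra B B']
  [Algebra A B'] [IsScalarTower A B B'] (g : B) [IsLocalization.Away g B']

/-- The polynomial ring presenting `B`. -/
abbrev PR : Type u := (Generators.self A B).toExtension.Ring

/-- The variable of `g`. -/
noncomputable abbrev G : PR A B := MvPolynomial.X g

lemma algebraMap_G : algebraMap (PR A B) B (G A B g) = g := by
  show MvPolynomial.aeval (Generators.self A B).val (MvPolynomial.X g) = g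
  rw [MvPolynomial.aeval_X]
  rfl

include g in
lemma isUnit_G : IsUnit (((algebraMap B B').comp (algebraMap (PR A B) B)) (G A B g)) := by
  rw [RingHom.comp_apply, algebraMap_G]
  exact IsLocalization.Away.algebraMap_isUnit g

/-- The surjection from the localized polynomial ring. -/
noncomputable def ψ : Localization.Away (G A B g) →+* B' :=
  IsLocalization.Away.lift (G A B g) (isUnit_G A B B' g)

lemma ψ_algebraMap (x : PR A B) :
    ψ A B B' g (algebraMap (PR A B) (Localization.Away (G A B g)) x) =
      algebraMap B B' (algebraMap (PR A B) B x) :=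
  IsLocalization.Away.lift_eq _ _ x

lemma ψ_surjective : Function.Surjective (ψ A B B' g) := by
  intro b'
  obtain ⟨n, b, hb⟩ := IsLocalization.Away.surj g b'
  obtain ⟨x, rfl⟩ := (Generators.self A B).toExtension.algebraMap_surjective b
  have hu : IsUnit (algebraMap (PR A B) (Localization.Away (G A B g)) (G A B g)) :=
    IsLocalization.Away.algebraMap_isUnit _
  obtain ⟨v, hv⟩ := hu.pow n
  refine ⟨↑v⁻¹ * algebraMap (PR A B) (Localization.Away (G A B g)) x, ?_⟩
  have h1 : ψ A B B' g (↑v) = algebraMap B B' g ^ n := by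
    rw [hv, map_pow, ψ_algebraMap, algebraMap_G]
  have hgu : IsUnit (algebraMap B B' g ^ n) := (IsLocalization.Away.algebraMap_isUnit g).pow n
  apply hgu.mul_left_cancel
  rw [map_mul, ← mul_assoc, ← h1, ← map_mul, Units.mul_inv, map_one, one_mul, ψ_algebraMap, h1,
    mul_comm]
  exact hb.symm

lemma ker_ψ : RingHom.ker (ψ A B B' g) =
    (Generators.self A B).toExtension.ker.map
      (algebraMap (PR A B) (Localization.Away (G A B g))) := by
  apply le_antisymm
  · intro z hz
    obtain ⟨x, ⟨_, n, rfl⟩, rfl⟩ := IsLocalization.exists_mk'_eq (Submonoid.powers (G A B g)) z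
    rw [RingHom.mem_ker] at hz
    have hz' : algebraMap B B' (algebraMap (PR A B) B x) = 0 := by
      rw [← ψ_algebraMap A B B' g, ← IsLocalization.mk'_spec (Localization.Away (G A B g)) x
        (⟨G A B g ^ n, n, rfl⟩ : Submonoid.powers (G A B g)), map_mul, hz, zero_mul]
    obtain ⟨⟨_, k, rfl⟩, hk⟩ := (IsLocalization.map_eq_zero_iff (Submonoid.powers g) B' _).mp hz'
    have hmem : G A B g ^ k * x ∈ (Generators.self A B).toExtension.ker := by
      rw [Extension.ker, RingHom.mem_ker, map_mul, map_pow, algebraMap_G]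
      exact hk
    have e : IsLocalization.mk' (Localization.Away (G A B g)) x
        (⟨G A B g ^ n, n, rfl⟩ : Submonoid.powers (G A B g)) =
        IsLocalization.mk' (Localization.Away (G A B g)) (G A B g ^ k * x)
          (⟨G A B g ^ (k + n), k + n, rfl⟩ : Submonoid.powers (G A B g)) := by
      rw [IsLocalization.mk'_eq_iff_eq]
      simp only
      congr 1
      ring
    rw [e, IsLocalization.mk'_eq_mul_mk'_one]
    exact Ideal.mul_mem_right _ _ (Ideal.mem_map_of_mem _ hmem)
  · rw [Ideal.map_le_iff_le_comap]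
    intro x hx
    rw [Ideal.mem_comap, RingHom.mem_ker, ψ_algebraMap]
    have : algebraMap (PR A B) B x = 0 := hx
    rw [this, map_zero]

include g in
/-- `B_g ⊗_B H¹(L_{B/A}) ≅ H¹(L_{B_g/A})`. -/
theorem bijective_lbc_away :
    Function.Bijective (LinearMap.liftBaseChange B' (Algebra.H1Cotangent.map A A B B')) := by
  haveI : Module.Flat B B' := IsLocalization.flat B' (Submonoid.powers g)
  haveI : Algebra.FormallyEtale (PR A B) (Localization.Away (G A B g)) :=
    Algebra.FormallyEtale.of_isLocalization (Submonoid.powers (G A B g))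
  haveI : Module.Flat (PR A B) (Localization.Away (G A B g)) :=
    IsLocalization.flat _ (Submonoid.powers (G A B g))
  refine NLEtaleBC.bijective_h1Cotangent_lbc (R := A) (S := B) (T := B')
    (Localization.Away (G A B g)) (ψ A B B' g) (ψ_surjective A B B' g) ?_ (ker_ψ A B B' g)
  ext x
  exact ψ_algebraMap A B B' g x

/-- `H¹(L_{B/A}) → H¹(L_{B_g/A})` is the localization at `g`. -/
theorem isLocalizedModule_h1Cotangent_map :
    IsLocalizedModule (Submonoid.powers g) (Algebra.H1Cotangent.map A A B B') := by
  rw [isLocalizedModule_iff_isBaseChange (Submonoid.powers g) B']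
  exact IsBaseChange.of_equiv (LinearEquiv.ofBijective _ (bijective_lbc_away A B B' g))
    (fun x => by
      rw [LinearEquiv.ofBijective_apply, LinearMap.liftBaseChange_tmul, one_smul])

end Away

section Square

variable (A B A' B' : Type u) [CommRing A] [CommRing B] [CommRing A'] [CommRing B']
  [Algebra A B] [Algebra A' B'] [Algebra A A'] [Algebra B B'] [Algebra A B']
  [IsScalarTower A A' B'] [IsScalarTower A B B'] (g : B) [IsLocalization.Away g B']
  [Algebra.FormallyEtale A A']

/-- For a commutative square with `A → A'` formally étale and `B → B' = B_g`: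
`H¹(L_{B/A}) → H¹(L_{B'/A'})` is the localization at `g`. -/
theorem isLocalizedModule_h1Cotangent_map_square :
    IsLocalizedModule (Submonoid.powers g) (Algebra.H1Cotangent.map A A' B B') := by
  haveI : Subsingleton (Algebra.H1Cotangent A A') := inferInstance
  haveI : Subsingleton Ω[A'⁄A] := inferInstance
  have h1 := isLocalizedModule_h1Cotangent_map A B B' g
  have h2 := NLEtaleBC.bijective_h1Cotangent_map A A' B'
  rw [NLEtaleBC.h1Cotangent_map_eq_comp A B A' B']
  exact IsLocalizedModule.of_linearEquiv (Submonoid.powers g) (Algebra.H1Cotangent.map A A B B')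
    ((LinearEquiv.ofBijective _ h2).restrictScalars B)

/-- Elementwise form, surjectivity part. -/
theorem exists_smul_eq_map (y : Algebra.H1Cotangent A' B') :
    ∃ (n : ℕ) (x : Algebra.H1Cotangent A B),
      (algebraMap B B' g) ^ n • y = Algebra.H1Cotangent.map A A' B B' x := by
  haveI := isLocalizedModule_h1Cotangent_map_square A B A' B' g
  obtain ⟨⟨x, ⟨_, n, rfl⟩⟩, hx⟩ := IsLocalizedModule.surj (Submonoid.powers g)
    (Algebra.H1Cotangent.map A A' B B') y
  refine ⟨n, x, ?_⟩
  rw [← hx, ← map_pow, algebraMap_smul]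
  rfl

/-- Elementwise form, injectivity part. -/
theorem exists_smul_eq_zero (x : Algebra.H1Cotangent A B)
    (hx : Algebra.H1Cotangent.map A A' B B' x = 0) : ∃ n : ℕ, g ^ n • x = 0 := by
  haveI := isLocalizedModule_h1Cotangent_map_square A B A' B' g
  obtain ⟨⟨_, n, rfl⟩, hc⟩ := IsLocalizedModule.exists_of_eq (S := Submonoid.powers g)
    (f := Algebra.H1Cotangent.map A A' B B') (x₁ := x) (x₂ := 0) (by rw [map_zero]; exact hx)
  refine ⟨n, ?_⟩
  rw [smul_zero] at hc
  exact hc

end Square

section Functoriality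

/-- `H1Cotangent.map` along identity algebra structures is the identity. -/
theorem h1map_id {A B : Type u} [CommRing A] [CommRing B] [algAB : Algebra A B]
    (algAA : Algebra A A) (algBB : Algebra B B)
    (t1 : @IsScalarTower A A B algAA.toSMul algAB.toSMul algAB.toSMul)
    (t2 : @IsScalarTower A B B algAB.toSMul algBB.toSMul algAB.toSMul)
    (hA : ∀ a : A, @algebraMap A A _ _ algAA a = a) (hB : ∀ b : B, @algebraMap B B _ _ algBB b = b)
    (x : Algebra.H1Cotangent A B) :
    @Algebra.H1Cotangent.map A A _ _ algAA B _ algAB B _ algAB algAB t1 algBB t2 x = x := by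
  obtain rfl : algAA = Algebra.id A := Algebra.algebra_ext _ _ hA
  obtain rfl : algBB = Algebra.id B := Algebra.algebra_ext _ _ hB
  show Extension.H1Cotangent.map _ x = x
  rw [Extension.H1Cotangent.map_eq _ (Extension.Hom.id _), Extension.H1Cotangent.map_id]
  rfl

/-- `H1Cotangent.map` is compatible with composition of squares. -/
theorem h1map_comp {A A' A'' B B' B'' : Type u} [CommRing A] [CommRing A'] [CommRing A'']
    [CommRing B] [CommRing B'] [CommRing B'']
    [Algebra A A'] [Algebra A' A''] [Algebra A A''] [IsScalarTower A A' A'']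
    [Algebra B B'] [Algebra B' B''] [Algebra B B''] [IsScalarTower B B' B'']
    [Algebra A B] [Algebra A' B'] [Algebra A'' B'']
    [Algebra A B'] [IsScalarTower A A' B'] [IsScalarTower A B B']
    [Algebra A' B''] [IsScalarTower A' A'' B''] [IsScalarTower A' B' B'']
    [Algebra A B''] [IsScalarTower A A'' B''] [IsScalarTower A B B'']
    (x : Algebra.H1Cotangent A B) :
    Algebra.H1Cotangent.map A' A'' B' B'' (Algebra.H1Cotangent.map A A' B B' x) =
      Algebra.H1Cotangent.map A A'' B B'' x := by
  show Extension.H1Cotangent.map _ (Extension.H1Cotangent.map _ x) =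
    Extension.H1Cotangent.map _ x
  rw [← Extension.H1Cotangent.map_comp_apply, Extension.H1Cotangent.map_eq]

end Functoriality

/-! ### The form with ring homomorphisms as data -/

section HomForm

variable {A A' B B' : Type u} [CommRing A] [CommRing A'] [CommRing B] [CommRing B']

/-- `H¹(L_{B/A})` for a ring homomorphism `a : A →+* B`. -/
abbrev H1 (a : A →+* B) : Type u :=
  letI := a.toAlgebra
  Algebra.H1Cotangent A B

variable (a : A →+* B) (a' : A' →+* B') (c : A →+* B') (α : A →+* A') (β : B →+* B')
  (h1 : c = a'.comp α) (h2 : c = β.comp a)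

/-- The map on `H¹` induced by a commutative square of ring homomorphisms. -/
noncomputable def h1Map : H1 a →+ H1 a' :=
  letI := a.toAlgebra
  letI := a'.toAlgebra
  letI := c.toAlgebra
  letI := β.toAlgebra
  letI := α.toAlgebra
  haveI : IsScalarTower A A' B' := IsScalarTower.of_algebraMap_eq' h1
  haveI : IsScalarTower A B B' := IsScalarTower.of_algebraMap_eq' h2
  (Algebra.H1Cotangent.map A A' B B').toAddMonoidHom

theorem h1Map_smul (r : B) (m : H1 a) :
    h1Map a a' c α β h1 h2 (r • m) = β r • h1Map a a' c α β h1 h2 m := by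
  letI := a.toAlgebra
  letI := a'.toAlgebra
  letI := c.toAlgebra
  letI := β.toAlgebra
  letI := α.toAlgebra
  haveI : IsScalarTower A A' B' := IsScalarTower.of_algebraMap_eq' h1
  haveI : IsScalarTower A B B' := IsScalarTower.of_algebraMap_eq' h2
  show (Algebra.H1Cotangent.map A A' B B') (r • m) = β r • (Algebra.H1Cotangent.map A A' B B') m
  rw [LinearMap.map_smul]
  exact (algebraMap_smul B' r _).symm

theorem h1Map_id (h1' : a = a.comp (RingHom.id A)) (h2' : a = (RingHom.id B).comp a)
    (m : H1 a) : h1Map a a a (RingHom.id A) (RingHom.id B) h1' h2' m = m := by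
  letI := a.toAlgebra
  exact h1map_id (A := A) (B := B) (RingHom.id A).toAlgebra (RingHom.id B).toAlgebra _ _
    (fun _ => rfl) (fun _ => rfl) m

theorem h1Map_id' (c : A →+* B) (α : A →+* A) (β : B →+* B) (hc : c = a)
    (hα : α = RingHom.id A) (hβ : β = RingHom.id B)
    (h1' : c = a.comp α) (h2' : c = β.comp a)
    (m : H1 a) : h1Map a a c α β h1' h2' m = m := by
  subst hc hα hβ
  exact h1Map_id c h1' h2' m

end HomForm

section HomComp

variable {A A' A'' B B' B'' : Type u} [CommRing A] [CommRing A'] [CommRing A''] [CommRing B]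
  [CommRing B'] [CommRing B'']
  (a : A →+* B) (a' : A' →+* B') (a'' : A'' →+* B'')
  (c₁ : A →+* B') (α₁ : A →+* A') (β₁ : B →+* B') (h1₁ : c₁ = a'.comp α₁) (h2₁ : c₁ = β₁.comp a)
  (c₂ : A' →+* B'') (α₂ : A' →+* A'') (β₂ : B' →+* B'') (h1₂ : c₂ = a''.comp α₂)
  (h2₂ : c₂ = β₂.comp a')
  (c₃ : A →+* B'') (α₃ : A →+* A'') (β₃ : B →+* B'') (h1₃ : c₃ = a''.comp α₃)
  (h2₃ : c₃ = β₃.comp a)
  (hα : α₃ = α₂.comp α₁) (hβ : β₃ = β₂.comp β₁)

include hα hβ in
theorem h1Map_comp (m : H1 a) :
    h1Map a' a'' c₂ α₂ β₂ h1₂ h2₂ (h1Map a a' c₁ α₁ β₁ h1₁ h2₁ m) =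
      h1Map a a'' c₃ α₃ β₃ h1₃ h2₃ m := by
  letI := a.toAlgebra
  letI := a'.toAlgebra
  letI := a''.toAlgebra
  letI := c₁.toAlgebra
  letI := c₂.toAlgebra
  letI := c₃.toAlgebra
  letI := α₁.toAlgebra
  letI := α₂.toAlgebra
  letI := α₃.toAlgebra
  letI := β₁.toAlgebra
  letI := β₂.toAlgebra
  letI := β₃.toAlgebra
  haveI : IsScalarTower A A' A'' := IsScalarTower.of_algebraMap_eq' hα
  haveI : IsScalarTower B B' B'' := IsScalarTower.of_algebraMap_eq' hβ
  haveI : IsScalarTower A A' B' := IsScalarTower.of_algebraMap_eq' h1₁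
  haveI : IsScalarTower A B B' := IsScalarTower.of_algebraMap_eq' h2₁
  haveI : IsScalarTower A' A'' B'' := IsScalarTower.of_algebraMap_eq' h1₂
  haveI : IsScalarTower A' B' B'' := IsScalarTower.of_algebraMap_eq' h2₂
  haveI : IsScalarTower A A'' B'' := IsScalarTower.of_algebraMap_eq' h1₃
  haveI : IsScalarTower A B B'' := IsScalarTower.of_algebraMap_eq' h2₃
  exact h1map_comp (A := A) (A' := A') (A'' := A'') (B := B) (B' := B') (B'' := B'') m

end HomComp

section HomLoc

variable {A A' B B' : Type u} [CommRing A] [CommRing A'] [CommRing B] [CommRing B']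
  (a : A →+* B) (a' : A' →+* B') (c : A →+* B') (α : A →+* A') (β : B →+* B')
  (h1 : c = a'.comp α) (h2 : c = β.comp a)
  (g : B) (hβ : @IsLocalization.Away B _ g B' _ β.toAlgebra)
  (s : A) (hα : @IsLocalization.Away A _ s A' _ α.toAlgebra)

include hβ hα in
theorem h1Map_exists_smul_eq (y : H1 a') :
    ∃ (n : ℕ) (x : H1 a), (β g) ^ n • y = h1Map a a' c α β h1 h2 x := by
  letI := a.toAlgebra
  letI := a'.toAlgebra
  letI := c.toAlgebra
  letI := β.toAlgebra
  letI := α.toAlgebra
  haveI : IsScalarTower A A' B' := IsScalarTower.of_algebraMap_eq' h1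
  haveI : IsScalarTower A B B' := IsScalarTower.of_algebraMap_eq' h2
  haveI : IsLocalization.Away g B' := hβ
  haveI : IsLocalization.Away s A' := hα
  haveI : Algebra.FormallyEtale A A' := Algebra.FormallyEtale.of_isLocalization (Submonoid.powers s)
  exact exists_smul_eq_map A B A' B' g y

include hβ hα in
theorem h1Map_exists_smul_eq_zero (x : H1 a) (hx : h1Map a a' c α β h1 h2 x = 0) :
    ∃ n : ℕ, g ^ n • x = 0 := by
  letI := a.toAlgebra
  letI := a'.toAlgebra
  letI := c.toAlgebra
  letI := β.toAlgebra
  letI := α.toAlgebra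
  haveI : IsScalarTower A A' B' := IsScalarTower.of_algebraMap_eq' h1
  haveI : IsScalarTower A B B' := IsScalarTower.of_algebraMap_eq' h2
  haveI : IsLocalization.Away g B' := hβ
  haveI : IsLocalization.Away s A' := hα
  haveI : Algebra.FormallyEtale A A' := Algebra.FormallyEtale.of_isLocalization (Submonoid.powers s)
  exact exists_smul_eq_zero A B A' B' g x hx

end HomLoc

end Groth.Agent.H61.H1Loc
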