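import Groth.Agent.H61.AffGlue
import Groth.Agent.H61.H1Loc
import Groth.Prelude.Def_SheafNL
import Groth.Prelude.Def_Coh
import Groth.Agent.H8.QCohPushLocal

/-!
# The sheaf `H^{-1}(NL_{X/Y})` in chart form
-/

set_option autoImplicit false
set_option linter.style.haveILetI false
set_option linter.unusedSectionVars false
universe u
open CategoryTheory CategoryTheory.Limits AlgebraicGeometry TopologicalSpace Opposite

noncomputable section

namespace Groth.Agent.H61.H1Sheaf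

open NLCx Groth.Agent.H61.H1Loc

variable {X Y : Scheme.{u}} {f : X ⟶ Y}

section ChartRes

variable {U U' U'' : X.affineOpens} {V V' V'' : Y.affineOpens}
  (e : (U : X.Opens) ≤ f ⁻¹ᵁ (V : Y.Opens)) (e' : (U' : X.Opens) ≤ f ⁻¹ᵁ (V' : Y.Opens))
  (e'' : (U'' : X.Opens) ≤ f ⁻¹ᵁ (V'' : Y.Opens))
  (hU : (U' : X.Opens) ≤ (U : X.Opens)) (hV : (V' : Y.Opens) ≤ (V : Y.Opens))

lemma sq1 : (f.appLE (V : Y.Opens) (U' : X.Opens) (hU.trans e)).hom =
    (f.appLE (V' : Y.Opens) (U' : X.Opens) e').hom.comp (Y.presheaf.map (homOfLE hV).op).hom := by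
  rw [← CommRingCat.hom_comp, Scheme.Hom.map_appLE]

lemma sq2 : (f.appLE (V : Y.Opens) (U' : X.Opens) (hU.trans e)).hom =
    (X.presheaf.map (homOfLE hU).op).hom.comp (f.appLE (V : Y.Opens) (U : X.Opens) e).hom := by
  rw [← CommRingCat.hom_comp, Scheme.Hom.appLE_map]

/-- `chartRes` in the form of `H1Loc.h1Map`. -/
lemma chartRes_eq : chartRes e e' hU hV =
    h1Map (f.appLE (V : Y.Opens) (U : X.Opens) e).hom (f.appLE (V' : Y.Opens) (U' : X.Opens) e').hom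
      (f.appLE (V : Y.Opens) (U' : X.Opens) (hU.trans e)).hom
      (Y.presheaf.map (homOfLE hV).op).hom (X.presheaf.map (homOfLE hU).op).hom
      (sq1 e e' hU hV) (sq2 e hU) := rfl

theorem chartRes_smul (r : Γ(X, (U : X.Opens))) (m : ChartH1 f U V e) :
    chartRes e e' hU hV (r • m) =
      X.presheaf.map (homOfLE hU).op r • chartRes e e' hU hV m := by
  rw [chartRes_eq]
  exact h1Map_smul _ _ _ _ _ _ _ r m

theorem chartRes_self (hU₀ : (U : X.Opens) ≤ (U : X.Opens)) (hV₀ : (V : Y.Opens) ≤ (V : Y.Opens))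
    (e₀ : (U : X.Opens) ≤ f ⁻¹ᵁ (V : Y.Opens)) (m : ChartH1 f U V e) :
    chartRes e e₀ hU₀ hV₀ m = m := by
  rw [chartRes_eq]
  refine h1Map_id' _ _ _ _ rfl ?_ ?_ _ _ m
  · rw [show (homOfLE hV₀).op = 𝟙 (op (V : Y.Opens)) from rfl, Y.presheaf.map_id]
    rfl
  · rw [show (homOfLE hU₀).op = 𝟙 (op (U : X.Opens)) from rfl, X.presheaf.map_id]
    rfl

theorem chartRes_comp (hU' : (U'' : X.Opens) ≤ (U' : X.Opens))
    (hV' : (V'' : Y.Opens) ≤ (V' : Y.Opens)) (hU'' : (U'' : X.Opens) ≤ (U : X.Opens))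
    (hV'' : (V'' : Y.Opens) ≤ (V : Y.Opens)) (m : ChartH1 f U V e) :
    chartRes e' e'' hU' hV' (chartRes e e' hU hV m) = chartRes e e'' hU'' hV'' m := by
  rw [chartRes_eq, chartRes_eq, chartRes_eq]
  refine h1Map_comp _ _ _ _ _ _ _ _ _ _ _ _ _ _ _ _ _ _ ?_ ?_ m
  · rw [← CommRingCat.hom_comp, ← Functor.map_comp]
    rfl
  · rw [← CommRingCat.hom_comp, ← Functor.map_comp]
    rfl

theorem chartRes_loc (r : Γ(X, (U : X.Opens))) (hr : (U' : X.Opens) = X.basicOpen r)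
    (s : Γ(Y, (V : Y.Opens))) (hs : (V' : Y.Opens) = Y.basicOpen s) :
    (∀ y : ChartH1 f U' V' e', ∃ (n : ℕ) (x : ChartH1 f U V e),
      (X.presheaf.map (homOfLE hU).op r) ^ n • y = chartRes e e' hU hV x) ∧
    (∀ x : ChartH1 f U V e, chartRes e e' hU hV x = 0 → ∃ n : ℕ, r ^ n • x = 0) := by
  have hβ := U.2.isLocalization_of_eq_basicOpen r (homOfLE hU) hr
  have hα := V.2.isLocalization_of_eq_basicOpen s (homOfLE hV) hs
  rw [chartRes_eq]
  exact ⟨fun y => h1Map_exists_smul_eq _ _ _ _ _ _ _ r hβ s hα y,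
    fun x hx => h1Map_exists_smul_eq_zero _ _ _ _ _ _ _ r hβ s hα x hx⟩

end ChartRes

/-! ### The index preorder -/

/-- Affine chart pairs of `f`. -/
structure Chart (f : X ⟶ Y) : Type u where
  /-- the source -/
  U : X.affineOpens
  /-- the target -/
  V : Y.affineOpens
  /-- the source maps into the target -/
  e : (U : X.Opens) ≤ f ⁻¹ᵁ (V : Y.Opens)

theorem basic_trans {Z : Scheme.{u}} {U V W : Z.Opens} (hU : IsAffineOpen U) (r : Γ(Z, U))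
    (hr : V = Z.basicOpen r) (r' : Γ(Z, V)) (hr' : W = Z.basicOpen r') :
    ∃ r'' : Γ(Z, U), W = Z.basicOpen r'' := by
  subst hr
  obtain ⟨f', hf'⟩ := hU.basicOpen_basicOpen_is_basicOpen r r'
  exact ⟨f', hr'.trans hf'.symm⟩

instance : Preorder (Chart f) where
  le i j := (∃ r : Γ(X, (i.U : X.Opens)), (j.U : X.Opens) = X.basicOpen r) ∧
    (∃ s : Γ(Y, (i.V : Y.Opens)), (j.V : Y.Opens) = Y.basicOpen s)
  le_refl i := ⟨⟨1, (X.basicOpen_of_isUnit isUnit_one).symm⟩,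
    ⟨1, (Y.basicOpen_of_isUnit isUnit_one).symm⟩⟩
  le_trans i j k hij hjk := by
    obtain ⟨⟨r, hr⟩, ⟨s, hs⟩⟩ := hij
    obtain ⟨⟨r', hr'⟩, ⟨s', hs'⟩⟩ := hjk
    exact ⟨basic_trans i.U.2 r hr r' hr', basic_trans i.V.2 s hs s' hs'⟩

theorem Chart.leU {i j : Chart f} (h : i ≤ j) : (j.U : X.Opens) ≤ (i.U : X.Opens) := by
  obtain ⟨⟨r, hr⟩, -⟩ := h
  rw [hr]; exact X.basicOpen_le r

theorem Chart.leV {i j : Chart f} (h : i ≤ j) : (j.V : Y.Opens) ≤ (i.V : Y.Opens) := by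
  obtain ⟨-, ⟨s, hs⟩⟩ := h
  rw [hs]; exact Y.basicOpen_le s

/-- The chart modules. -/
abbrev Mf (j : Chart f) : ModuleCat.{u} Γ(X, (j.U : X.Opens)) :=
  ModuleCat.of _ (ChartH1 f j.U j.V j.e)

/-- The transition maps. -/
def φf {j k : Chart f} (h : j ≤ k) : Mf j →+ Mf k :=
  chartRes j.e k.e (Chart.leU h) (Chart.leV h)

theorem directed (j k : Chart f) (x : X) (hxj : x ∈ (j.U : X.Opens)) (hxk : x ∈ (k.U : X.Opens)) :
    ∃ l : Chart f, j ≤ l ∧ k ≤ l ∧ x ∈ (l.U : X.Opens) := by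
  have hyj : f x ∈ (j.V : Y.Opens) := j.e hxj
  have hyk : f x ∈ (k.V : Y.Opens) := k.e hxk
  obtain ⟨s, s', hss', hys⟩ := exists_basicOpen_le_affine_inter j.V.2 k.V.2 (f x) ⟨hyj, hyk⟩
  obtain ⟨r₀, r₀', hrr', hxr⟩ := exists_basicOpen_le_affine_inter j.U.2 k.U.2 x ⟨hxj, hxk⟩
  have hU₀ : IsAffineOpen (X.basicOpen r₀) := j.U.2.basicOpen r₀
  have hxV : x ∈ X.basicOpen r₀ ⊓ f ⁻¹ᵁ (Y.basicOpen s) := ⟨hxr, hys⟩
  obtain ⟨t, ht₁, ht₂⟩ := hU₀.exists_basicOpen_le ⟨x, hxV⟩ hxr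
  obtain ⟨r₁, hr₁⟩ := basic_trans j.U.2 r₀ rfl t rfl
  obtain ⟨r₂, hr₂⟩ := basic_trans k.U.2 r₀' hrr' t rfl
  refine ⟨⟨⟨X.basicOpen t, hU₀.basicOpen t⟩, ⟨Y.basicOpen s, j.V.2.basicOpen s⟩,
    ht₁.trans inf_le_right⟩, ⟨⟨r₁, hr₁⟩, ⟨s, rfl⟩⟩, ⟨⟨r₂, hr₂⟩, ⟨s', hss'⟩⟩, ht₂⟩

/-! ### Existence -/

variable (f) in
theorem exists_glued : ∃ (F : X.Modules)
    (iso : ∀ j : Chart f, Γ(F, (j.U : X.Opens)) ≃+ ChartH1 f j.U j.V j.e),
    (∀ (j : Chart f) (a : Γ(X, (j.U : X.Opens))) (s : Γ(F, (j.U : X.Opens))),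
      iso j (a • s) = a • iso j s) ∧
    (∀ {j k : Chart f} (h : j ≤ k) (s : Γ(F, (j.U : X.Opens))),
      iso k (F.presheaf.map (homOfLE (Chart.leU h)).op s) =
        chartRes j.e k.e (Chart.leU h) (Chart.leV h) (iso j s)) := by
  obtain ⟨F, iso, h1, h2⟩ := Groth.Agent.H61.AffGlue.exists_glue
    (X := X) (J := Chart f) (fun j => (j.U : X.Opens)) (fun j => j.U.2) (fun j => Mf j)
    (fun h => Chart.leU h) (fun h => φf h)
    (fun h r m => chartRes_smul _ _ _ _ r m)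
    (fun j m => chartRes_self j.e _ _ _ m)
    (fun h₁ h₂ m => chartRes_comp _ _ _ _ _ _ _ _ _ m)
    (fun {j k} h => by
      obtain ⟨⟨r, hr⟩, ⟨s, hs⟩⟩ := id h
      exact ⟨r, hr, chartRes_loc j.e k.e (Chart.leU h) (Chart.leV h) r hr s hs⟩)
    directed
  exact ⟨F, iso, h1, fun h s => h2 h s⟩

/-- Compatibility with restriction to arbitrary nested chart pairs. -/
theorem res_general {F : X.Modules}
    (iso : ∀ j : Chart f, Γ(F, (j.U : X.Opens)) ≃+ ChartH1 f j.U j.V j.e)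
    (h2 : ∀ {j k : Chart f} (h : j ≤ k) (s : Γ(F, (j.U : X.Opens))),
      iso k (F.presheaf.map (homOfLE (Chart.leU h)).op s) =
        chartRes j.e k.e (Chart.leU h) (Chart.leV h) (iso j s))
    (j k : Chart f) (hU : (k.U : X.Opens) ≤ (j.U : X.Opens))
    (hV : (k.V : Y.Opens) ≤ (j.V : Y.Opens)) (m : Γ(F, (j.U : X.Opens))) :
    iso k (F.presheaf.map (homOfLE hU).op m) = chartRes j.e k.e hU hV (iso j m) := by
  suffices h : F.presheaf.map (homOfLE hU).op m =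
      (iso k).symm (chartRes j.e k.e hU hV (iso j m)) by
    rw [h, AddEquiv.apply_symm_apply]
  refine Groth.Agent.H8.section_eq_of_cover F _ _ fun x hx => ?_
  obtain ⟨l, hjl, hkl, hxl⟩ := directed j k x (hU hx) hx
  refine ⟨(l.U : X.Opens), Chart.leU hkl, hxl, ?_⟩
  apply (iso l).injective
  rw [Groth.Agent.H8.res_res, h2 hkl, AddEquiv.apply_symm_apply, chartRes_comp j.e k.e l.e hU hV
    (Chart.leU hkl) (Chart.leV hkl) (Chart.leU hjl) (Chart.leV hjl)]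
  exact h2 hjl m

variable (f) in
/-- The cohomology sheaf `H^{-1}(NL_{X/Y})` exists in chart form. -/
theorem exists_h1Sheaf : ∃ F : X.Modules, Nonempty (NLCx.H1Sheaf f F) := by
  obtain ⟨F, iso, h1, h2⟩ := exists_glued f
  exact ⟨F, ⟨{
    iso := fun U V e => iso ⟨U, V, e⟩
    map_smul := fun U V e a m => h1 ⟨U, V, e⟩ a m
    map_res := fun {U U' V V'} e e' hU hV m =>
      res_general iso (fun h s => h2 h s) ⟨U, V, e⟩ ⟨U', V', e'⟩ hU hV m }⟩⟩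

/-! ### Quasi-coherence -/

theorem isQCoh_of_h1Sheaf (F : X.Modules) (c : NLCx.H1Sheaf f F) : Coh.IsQCoh F := by
  classical
  have hV : ∀ x : X, ∃ V : Y.Opens, IsAffineOpen V ∧ f x ∈ V := fun x => by
    obtain ⟨V, hV, hxV, -⟩ := exists_isAffineOpen_mem_and_subset (x := f x) (U := ⊤) trivial
    exact ⟨V, hV, hxV⟩
  choose V hVa hxV using hV
  have hU : ∀ x : X, ∃ U : X.Opens, IsAffineOpen U ∧ x ∈ U ∧ U ≤ f ⁻¹ᵁ V x := fun x =>
    exists_isAffineOpen_mem_and_subset (x := x) (U := f ⁻¹ᵁ V x) (hxV x)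
  choose U hUa hxU hUV using hU
  refine Groth.Agent.H8.isQuasicoherent_of_sections_cover F U ?_ hUa ?_ ?_
  · exact IsOpenCover.mk (eq_top_iff.mpr fun x _ => Opens.mem_iSup.mpr ⟨x, hxU x⟩)
  · intro i a y
    let Ui : X.affineOpens := ⟨U i, hUa i⟩
    let Vi : Y.affineOpens := ⟨V i, hVa i⟩
    let Da : X.affineOpens := ⟨X.basicOpen a, (hUa i).basicOpen a⟩
    have eD : (Da : X.Opens) ≤ f ⁻¹ᵁ (Vi : Y.Opens) := (X.basicOpen_le a).trans (hUV i)
    obtain ⟨h1, -⟩ := chartRes_loc (U := Ui) (U' := Da) (V := Vi) (V' := Vi) (hUV i) eD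
      (X.basicOpen_le a) le_rfl a rfl 1 (Y.basicOpen_of_isUnit isUnit_one).symm
    obtain ⟨n, x', hx'⟩ := h1 (c.iso Da Vi eD y)
    refine ⟨n, (c.iso Ui Vi (hUV i)).symm x', ?_⟩
    apply (c.iso Da Vi eD).injective
    have e1 := c.map_res (U := Ui) (U' := Da) (V := Vi) (V' := Vi) (hUV i) eD
      (X.basicOpen_le a) le_rfl ((c.iso Ui Vi (hUV i)).symm x')
    rw [AddEquiv.apply_symm_apply] at e1
    have e2 := c.map_smul Da Vi eD ((X.presheaf.map (homOfLE (X.basicOpen_le a)).op a) ^ n) y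
    exact e2.trans (hx'.trans e1.symm)
  · intro i a x hx
    let Ui : X.affineOpens := ⟨U i, hUa i⟩
    let Vi : Y.affineOpens := ⟨V i, hVa i⟩
    let Da : X.affineOpens := ⟨X.basicOpen a, (hUa i).basicOpen a⟩
    have eD : (Da : X.Opens) ≤ f ⁻¹ᵁ (Vi : Y.Opens) := (X.basicOpen_le a).trans (hUV i)
    obtain ⟨-, h2⟩ := chartRes_loc (U := Ui) (U' := Da) (V := Vi) (V' := Vi) (hUV i) eD
      (X.basicOpen_le a) le_rfl a rfl 1 (Y.basicOpen_of_isUnit isUnit_one).symm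
    have e1 := c.map_res (U := Ui) (U' := Da) (V := Vi) (V' := Vi) (hUV i) eD
      (X.basicOpen_le a) le_rfl x
    have e0 : c.iso Da Vi eD (F.val.map (homOfLE (X.basicOpen_le a)).op x) = 0 := by
      have : (F.val.map (homOfLE (X.basicOpen_le a)).op x) = 0 := hx
      rw [this]
      exact (c.iso Da Vi eD).map_zero
    obtain ⟨n, hn⟩ := h2 (c.iso Ui Vi (hUV i) x) (e1.symm.trans e0)
    refine ⟨n, ?_⟩
    apply (c.iso Ui Vi (hUV i)).injective
    exact ((c.map_smul Ui Vi (hUV i) (a ^ n) x).trans hn).trans (c.iso Ui Vi (hUV i)).map_zero.symm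

end Groth.Agent.H61.H1Sheaf
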