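import Groth.Agent.H61.HilbTanDefs
import Groth.Agent.H79.HilbPull

/-!
# Representability of the Hilbert functor and the local Hilbert functor at a `k`-point
-/

set_option autoImplicit false
universe u
open CategoryTheory CategoryTheory.Limits AlgebraicGeometry
open ArtFun ArtFun.Art

namespace Groth.Agent.H61.HilbTan

section General

variable {X S : Scheme.{u}} (f : X ⟶ S)

theorem hilbPull_eq_comap {T T' : Over S} (g : T' ⟶ T) (I : (PicF.XT f T).IdealSheafData) :
    FGA.hilbPull f g I = I.comap (PicF.XTmap f g) := by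
  unfold FGA.hilbPull Scheme.IdealSheafData.comap
  rw [← pullbackSymmetry_hom_comp_fst, Scheme.Hom.ker_comp_of_isIso]

/-- a property of morphisms stable under base change is inherited by pulled-back families -/
theorem prop_comap (P : MorphismProperty Scheme.{u}) [P.IsStableUnderBaseChange] [P.RespectsIso]
    {T T' : Over S} (g : T' ⟶ T) (I : (PicF.XT f T).IdealSheafData)
    (hI : P (I.subschemeι ≫ PicF.XTproj f T)) :
    P ((I.comap (PicF.XTmap f g)).subschemeι ≫ PicF.XTproj f T') := by
  have sq : IsPullback (pullback.snd (PicF.XTmap f g) I.subschemeι)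
      (pullback.fst (PicF.XTmap f g) I.subschemeι ≫ PicF.XTproj f T')
      (I.subschemeι ≫ PicF.XTproj f T) g.left :=
    IsPullback.paste_vert (IsPullback.of_hasPullback (PicF.XTmap f g) I.subschemeι).flip
      (Groth.Agent.H79.HilbPull.sqXT f g)
  have h1 : P (pullback.fst (PicF.XTmap f g) I.subschemeι ≫ PicF.XTproj f T') :=
    MorphismProperty.of_isPullback (P := P) sq hI
  rw [← Scheme.IdealSheafData.comapIso_hom_fst, Category.assoc]
  exact (MorphismProperty.cancel_left_of_respectsIso P (I.comapIso (PicF.XTmap f g)).hom _).2 h1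

theorem mem_comap {T T' : Over S} (g : T' ⟶ T) (I : (PicF.XT f T).IdealSheafData)
    (hI : IsProper (I.subschemeι ≫ PicF.XTproj f T) ∧ Flat (I.subschemeι ≫ PicF.XTproj f T)) :
    IsProper ((I.comap (PicF.XTmap f g)).subschemeι ≫ PicF.XTproj f T') ∧
      Flat ((I.comap (PicF.XTmap f g)).subschemeι ≫ PicF.XTproj f T') :=
  ⟨prop_comap f @IsProper g I hI.1, prop_comap f @Flat g I hI.2⟩

end General

section Rep

variable {k : Type u} [Field k] {Y : Scheme.{u}} (y : Y ⟶ Spec (CommRingCat.of k))

/-- the identification `Y ≅ Y ×_k Spec k`, inverse to the first projection -/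
noncomputable def lft : Y ⟶ PicF.XT y (Over.mk (𝟙 (Spec (CommRingCat.of k)))) :=
  pullback.lift (𝟙 Y) y (by rw [Category.id_comp]; exact (Category.comp_id y).symm)

lemma lft_fst : lft y ≫ pullback.fst y (Over.mk (𝟙 (Spec (CommRingCat.of k)))).hom = 𝟙 Y :=
  pullback.lift_fst _ _ _

lemma fst_lft : pullback.fst y (Over.mk (𝟙 (Spec (CommRingCat.of k)))).hom ≫ lft y = 𝟙 _ := by
  apply pullback.hom_ext
  · rw [Category.assoc, lft_fst, Category.comp_id, Category.id_comp]
  · rw [Category.assoc, Category.id_comp]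
    unfold lft
    rw [pullback.lift_snd]
    have h := pullback.condition (f := y) (g := (Over.mk (𝟙 (Spec (CommRingCat.of k)))).hom)
    rw [h]
    exact Category.comp_id _

lemma XTmap_sMap {A B : Art k k} (g : A ⟶ B) : PicF.XTmap y (sMap g) = XAmap y g := rfl

lemma XAincl_eq (A : Art k k) : XAincl y A = lft y ≫ PicF.XTmap y (rPt A) := by
  apply pullback.hom_ext
  · rw [XAincl_fst, Category.assoc]
    have h := Groth.Agent.H79.HilbPull.XTmap_fst y (rPt A)
    exact ((congrArg (lft y ≫ ·) h).trans (lft_fst y)).symm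
  · have h := Groth.Agent.H79.HilbPull.XTmap_snd y (rPt A)
    have h1 : XAincl y A ≫ pullback.snd y (specOver A) = y ≫ specRes A := XAincl_snd y A
    rw [h1, Category.assoc]
    refine ((congrArg (lft y ≫ ·) h).trans ?_).symm
    rw [← Category.assoc]
    congr 1
    exact pullback.lift_snd _ _ _

variable (H : Over (Spec (CommRingCat.of k))) (Z : FGA.HilbSet y H)
  (I₀ : Y.IdealSheafData) (h : Over.mk (𝟙 (Spec (CommRingCat.of k))) ⟶ H)
  (hh : FGA.hilbPull y h Z.1 =
    I₀.comap (pullback.fst y (Over.mk (𝟙 (Spec (CommRingCat.of k)))).hom))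

include hh in
/-- the pull-back of the universal family along an `A`-point based at `h` restricts to `I₀` -/
lemma comap_XAincl (A : Art k k) (t : TV H h A) :
    (Z.1.comap (PicF.XTmap y t.1)).comap (XAincl y A) = I₀ := by
  rw [XAincl_eq, Scheme.IdealSheafData.comap_comp, ← Scheme.IdealSheafData.comap_comp _ _ (PicF.XTmap y t.1),
    ← Groth.Agent.H79.HilbPull.XTmap_comp, t.2, ← hilbPull_eq_comap, hh,
    ← Scheme.IdealSheafData.comap_comp, lft_fst, Scheme.IdealSheafData.comap_id]

/-- the map from points of `H` to the local Hilbert functor -/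
noncomputable def η (A : Art k k) (t : TV H h A) : (localHilb Y y I₀).obj A :=
  ⟨Z.1.comap (PicF.XTmap y t.1), (prop_comap y @Flat t.1 Z.1 Z.2.2 : _), comap_XAincl y H Z I₀ h hh A t⟩

lemma η_val (A : Art k k) (t : TV H h A) :
    (η y H Z I₀ h hh A t).1 = Z.1.comap (PicF.XTmap y t.1) := rfl

/-- naturality of `η` -/
lemma η_map {A B : Art k k} (g : A ⟶ B) (t : TV H h A) :
    η y H Z I₀ h hh B (TV.map g t) = (localHilb Y y I₀).map g (η y H Z I₀ h hh A t) := by
  apply Subtype.ext
  change Z.1.comap (PicF.XTmap y (sMap g ≫ t.1)) = (Z.1.comap (PicF.XTmap y t.1)).comap (XAmap y g)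
  rw [Groth.Agent.H79.HilbPull.XTmap_comp, Scheme.IdealSheafData.comap_comp, XTmap_sMap]

variable [IsProper y]

/-- closed subschemes of `Y_T` are proper over `T` -/
lemma isProper_sub (T : Over (Spec (CommRingCat.of k))) (I : (PicF.XT y T).IdealSheafData) :
    IsProper (I.subschemeι ≫ PicF.XTproj y T) := by
  haveI : IsProper (PicF.XTproj y T) :=
    MorphismProperty.pullback_snd (P := @IsProper) _ _ inferInstance
  infer_instance

variable (hH : FGA.HilbRepresentedBy y H Z)

include hH in
theorem η_injective (A : Art k k) : Function.Injective (η y H Z I₀ h hh A) := by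
  intro t t' htt
  have h1 : Z.1.comap (PicF.XTmap y t.1) = Z.1.comap (PicF.XTmap y t'.1) :=
    congrArg Subtype.val htt
  haveI : IsLocallyNoetherian (Over.mk (specOver A)).left :=
    inferInstanceAs (IsLocallyNoetherian (Spec (CommRingCat.of A)))
  obtain ⟨g, -, hg⟩ := hH.2 (Over.mk (specOver A))
    ⟨Z.1.comap (PicF.XTmap y t.1), mem_comap y t.1 Z.1 Z.2⟩
  apply Subtype.ext
  rw [hg t.1 (hilbPull_eq_comap y t.1 Z.1), hg t'.1 ((hilbPull_eq_comap y t'.1 Z.1).trans h1.symm)]

include hH in
theorem η_surjective (A : Art k k) : Function.Surjective (η y H Z I₀ h hh A) := by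
  intro I
  haveI : IsLocallyNoetherian (Over.mk (specOver A)).left :=
    inferInstanceAs (IsLocallyNoetherian (Spec (CommRingCat.of A)))
  haveI : IsLocallyNoetherian (Over.mk (𝟙 (Spec (CommRingCat.of k)))).left :=
    inferInstanceAs (IsLocallyNoetherian (Spec (CommRingCat.of k)))
  obtain ⟨t, ht, -⟩ := hH.2 (Over.mk (specOver A))
    ⟨I.1, isProper_sub y (Over.mk (specOver A)) I.1, I.2.1⟩
  have ht' : Z.1.comap (PicF.XTmap y t) = I.1 := (hilbPull_eq_comap y t Z.1).symm.trans ht
  -- `rPt A ≫ t = h` by uniqueness over `Spec k`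
  obtain ⟨g, -, hg⟩ := hH.2 (Over.mk (𝟙 (Spec (CommRingCat.of k))))
    ⟨FGA.hilbPull y h Z.1, by
      rw [hilbPull_eq_comap]
      exact mem_comap y h Z.1 Z.2⟩
  have h2 : FGA.hilbPull y (rPt A ≫ t) Z.1 = FGA.hilbPull y h Z.1 := by
    rw [hilbPull_eq_comap, Groth.Agent.H79.HilbPull.XTmap_comp, Scheme.IdealSheafData.comap_comp,
      ht', hh]
    have h3 : (I.1.comap (PicF.XTmap y (rPt A))).comap (lft y) = I₀ := by
      rw [← Scheme.IdealSheafData.comap_comp, ← XAincl_eq]
      exact I.2.2
    have key : ∀ J : (PicF.XT y (Over.mk (𝟙 (Spec (CommRingCat.of k))))).IdealSheafData,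
        J.comap (lft y) = I₀ →
          J = I₀.comap (pullback.fst y (Over.mk (𝟙 (Spec (CommRingCat.of k)))).hom) := by
      intro J hJ
      rw [← hJ, ← Scheme.IdealSheafData.comap_comp, fst_lft, Scheme.IdealSheafData.comap_id]
    exact key _ h3
  have h4 : rPt A ≫ t = h := (hg _ h2).trans (hg h rfl).symm
  exact ⟨⟨t, h4⟩, Subtype.ext ht'⟩

end Rep

end Groth.Agent.H61.HilbTan
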