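import Groth.Agent.H61.HilbTanDefs
import Groth.Agent.H74.HilbTan_TSa
import Groth.Agent.H87.HilbTan_TSb

/-!
# The tangent space of a locally Noetherian `k`-scheme at a `k`-point, by dual-number points
-/

set_option autoImplicit false
universe u v
open CategoryTheory CategoryTheory.Limits AlgebraicGeometry
open ArtFun ArtFun.Art

namespace Groth.Agent.H61.HilbTan

/-- (TS) assembly of the squad pieces TSa (helper74) and TSb (helper87) -/
theorem TS {k : Type u} [Field k] (H : Over (Spec (CommRingCat.of k)))
    [IsLocallyNoetherian H.left]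
    (h : Over.mk (𝟙 (Spec (CommRingCat.of k))) ⟶ H) {V : Type v} [AddCommGroup V] [Module k V]
    (f : TV H h (dual k k) → V) (hf : Function.Bijective f)
    (hadd : ∀ z : TV H h (dual2 k k),
      f (TV.map plus z) = f (TV.map pr₁ z) + f (TV.map pr₂ z))
    (hsmul : ∀ (c : k) (t : TV H h (dual k k)), f (TV.map (scale c) t) = c • f t) :
    Module.finrank (IsLocalRing.ResidueField (H.left.presheaf.stalk (h.left.base (IsLocalRing.closedPoint k))))
        (IsLocalRing.CotangentSpace (H.left.presheaf.stalk (h.left.base (IsLocalRing.closedPoint k)))) =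
      Module.finrank k V := by
  obtain ⟨s, e, hes, he, Φ, hΦ⟩ := Groth.Agent.H87.HilbTan_TSb.TSb H h
  have : IsNoetherianRing (H.left.presheaf.stalk (h.left.base (IsLocalRing.closedPoint k))) :=
    inferInstance
  refine Groth.Agent.H74.HilbTan_TSa.TSa s e hes he (fun d => f ((Φ _).symm d)) ?_ ?_ ?_
  · exact hf.comp (Φ _).symm.bijective
  · intro z
    have h1 : ∀ g : dual2 k k ⟶ dual k k,
        (Φ _).symm (DPt.map g z) = TV.map g ((Φ _).symm z) := by
      intro g
      rw [Equiv.symm_apply_eq, hΦ, Equiv.apply_symm_apply]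
    change f _ = f _ + f _
    rw [h1, h1, h1]
    exact hadd _
  · intro c t
    have h1 : (Φ _).symm (DPt.map (scale c) t) = TV.map (scale c) ((Φ _).symm t) := by
      rw [Equiv.symm_apply_eq, hΦ, Equiv.apply_symm_apply]
    change f _ = c • f _
    rw [h1]
    exact hsmul c _

end Groth.Agent.H61.HilbTan
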