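import Groth.Agent.H61.ObsDimMain
import Groth.Agent.H61.PsMiniversal
import Groth.Agent.H61.SchlessTangent

/-!
# The dimension of a hull over a field (helper61)

For a functor `F` on `Art k k` with a hull `(R, ξ)` and a minimal presentation
`g : k[[t₁..tₙ]] → R` (kernel in `m²`):
* `finrank_tangent` : `n = dim_k t_F` (for any tangent structure on `F`);
* `dim_le`, `le_dim_add` : `dim R ≤ n ≤ dim R + dim V` for an obstruction theory with values in `V`;
* `dim_eq_iff` : `dim R = n` iff `F` is smooth.
-/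

set_option autoImplicit false
set_option linter.unusedSectionVars false
set_option linter.style.haveILetI false
universe u v

namespace Groth.Agent.H61.HullDim

open CategoryTheory ArtFun ArtFun.Art TensorProduct Groth.Agent.H61.Obs Groth.Agent.H61
open Groth.Agent.H61.PsMini

variable {k : Type u} [Field k]

attribute [local instance] field_isAdicComplete

/-- the power series coefficient ring over the field `k` -/
noncomputable abbrev Pn (n : ℕ) : CRing k k := psCRing (surj_id k) n

section Descend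

variable {P R : CRing k k} (g : P.carrier →ₐ[k] R.carrier) (hg : R.res.comp g = P.res)
  (hgs : Function.Surjective g)

include hg hgs in
lemma descend {A : Art k k} (ψ : HomSet P.carrier P.res A) (h : ∀ x, g x = 0 → ψ.1 x = 0) :
    ∃ φ : HomSet R.carrier R.res A, ∀ x, φ.1 (g x) = ψ.1 x := by
  have H : RingHom.ker g.toRingHom ≤ RingHom.ker ψ.1.toRingHom := by
    intro x hx
    rw [RingHom.mem_ker] at hx ⊢
    exact h x hx
  refine ⟨⟨AlgHom.liftOfSurjective g hgs ψ.1 H, ?_⟩, ?_⟩
  · apply AlgHom.ext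
    intro r
    obtain ⟨x, rfl⟩ := hgs r
    change A.res (AlgHom.liftOfSurjective g hgs ψ.1 H (g x)) = R.res (g x)
    rw [AlgHom.liftOfSurjective_apply]
    exact (AlgHom.congr_fun ψ.2 x).trans (AlgHom.congr_fun hg x).symm
  · intro x
    change AlgHom.liftOfSurjective g hgs ψ.1 H (g x) = ψ.1 x
    rw [AlgHom.liftOfSurjective_apply]

/-- composition with the presentation -/
def pull {A : Art k k} (φ : HomSet R.carrier R.res A) : HomSet P.carrier P.res A :=
  ⟨φ.1.comp g, by rw [← AlgHom.comp_assoc, φ.2, hg]⟩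

lemma pull_apply {A : Art k k} (φ : HomSet R.carrier R.res A) (x : P.carrier) :
    (pull g hg φ).1 x = φ.1 (g x) := rfl

include hgs in
lemma pull_injective {A : Art k k} (φ φ' : HomSet R.carrier R.res A)
    (h : pull g hg φ = pull g hg φ') : φ = φ' := by
  apply Subtype.ext
  apply AlgHom.ext
  intro r
  obtain ⟨x, rfl⟩ := hgs r
  exact congrArg (fun t => t.1 x) h

end Descend

/-- a minimal presentation of a coefficient ring over a field -/
theorem exists_min_pres (R : CRing k k) :
    ∃ (n : ℕ) (g : (Pn (k := k) n).carrier →ₐ[k] R.carrier),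
      R.res.comp g = (Pn n).res ∧ Function.Surjective g ∧
      RingHom.ker g ≤ IsLocalRing.maximalIdeal (Pn (k := k) n).carrier ^ 2 := by
  obtain ⟨n, g, hg, hgs, hker⟩ := exists_min_presentation_cring (surj_id k) R
  refine ⟨n, g, hg, hgs, hker.trans ?_⟩
  rw [IsLocalRing.maximalIdeal_eq_bot (R := k), Ideal.map_bot, sup_bot_eq]

section EE

variable (n : ℕ)

lemma inr_mem_maximalIdeal (v : Fin n → k) :
    (TrivSqZeroExt.inr v : (EE k k n).carrier) ∈ IsLocalRing.maximalIdeal (EE k k n).carrier :=
  ((EE k k n).mem_maximalIdeal_iff _).2 (TrivSqZeroExt.fst_inr k v)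

lemma EE_sq_eq_bot : IsLocalRing.maximalIdeal (EE k k n).carrier ^ 2 = ⊥ := by
  rw [eq_bot_iff, pow_two, Ideal.mul_le]
  intro x hx y hy
  have hx' : TrivSqZeroExt.fst (show TrivSqZeroExt k (Fin n → k) from x) = 0 :=
    ((EE k k n).mem_maximalIdeal_iff x).1 hx
  have hy' : TrivSqZeroExt.fst (show TrivSqZeroExt k (Fin n → k) from y) = 0 :=
    ((EE k k n).mem_maximalIdeal_iff y).1 hy
  rw [Ideal.mem_bot]
  apply TrivSqZeroExt.ext
  · change TrivSqZeroExt.fst ((show TrivSqZeroExt k (Fin n → k) from x) *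
      (show TrivSqZeroExt k (Fin n → k) from y)) = 0
    rw [TrivSqZeroExt.fst_mul, hx', zero_mul]
  · change TrivSqZeroExt.snd ((show TrivSqZeroExt k (Fin n → k) from x) *
      (show TrivSqZeroExt k (Fin n → k) from y)) = 0
    rw [TrivSqZeroExt.snd_mul, hx', hy']
    simp

end EE

section Tangent

variable {F : Art k k ⥤ Type v} (H : Hull F) (n : ℕ)
  (g : (Pn (k := k) n).carrier →ₐ[k] H.ring.carrier)
  (hg : H.ring.res.comp g = (Pn n).res) (hgs : Function.Surjective g)
  (hker : RingHom.ker g ≤ IsLocalRing.maximalIdeal (Pn (k := k) n).carrier ^ 2)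

include hker in
lemma kills_of_sq {A : Art k k} (hA : IsLocalRing.maximalIdeal A.carrier ^ 2 = ⊥)
    (ψ : HomSet (Pn (k := k) n).carrier (Pn n).res A) (x : (Pn (k := k) n).carrier)
    (hx : g x = 0) : ψ.1 x = 0 := by
  have h1 : x ∈ IsLocalRing.maximalIdeal (Pn (k := k) n).carrier ^ 2 := hker hx
  have h2 := homSet_map_pow (Pn (k := k) n) ψ 2 x h1
  rw [hA] at h2
  exact h2

include hg hgs hker in
/-- the universal first-order element -/
lemma exists_univ : ∃ φ : HomSet H.ring.carrier H.ring.res (EE k k n),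
    ∀ i, φ.1 (g (psX (surj_id k) n i)) = TrivSqZeroExt.inr (Pi.single i 1) := by
  classical
  obtain ⟨ψ, hψ⟩ := ps_exists_hom (surj_id k) n (EE k k n)
    (fun i => TrivSqZeroExt.inr (Pi.single i (1 : k))) (fun i => inr_mem_maximalIdeal n _)
  obtain ⟨φ, hφ⟩ := descend g hg hgs ψ (kills_of_sq H n g hker (EE_sq_eq_bot n) ψ)
  exact ⟨φ, fun i => by rw [hφ, hψ]⟩

lemma lin_inr (a : (Fin n → k) →ₗ[k] k) (v : Fin n → k) :
    (lin (Λ := k) a).toAlgHom (TrivSqZeroExt.inr v : (EE k k n).carrier) =
      (TrivSqZeroExt.inr (a v) : (dual k k).carrier) := by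
  apply TrivSqZeroExt.ext
  · change TrivSqZeroExt.fst (TrivSqZeroExt.inr v : TrivSqZeroExt k (Fin n → k)) = _
    rw [TrivSqZeroExt.fst_inr]
    exact (TrivSqZeroExt.fst_inr k (a v)).symm
  · change a (TrivSqZeroExt.snd (TrivSqZeroExt.inr v : TrivSqZeroExt k (Fin n → k))) = _
    rw [TrivSqZeroExt.snd_inr]
    exact (TrivSqZeroExt.snd_inr k (a v)).symm

variable [T : TangentStr F]

include hg hgs hker in
/-- **the tangent space of a functor with a hull has the dimension of a minimal presentation** -/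
theorem finrank_tangent : Module.finrank k (TangentSpace F) = n := by
  classical
  obtain ⟨φ, hφ⟩ := exists_univ H n g hg hgs hker
  set ξ := H.family with hξ
  have hbij := H.miniversal.2
  let ζ : F.obj (EE k k n) := ξ.app _ φ
  let L : ((Fin n → k) →ₗ[k] k) →ₗ[k] TangentSpace F := tanLin ζ
  have hL : ∀ a, L a = ξ.app (dual k k) (HomSet.map (lin a) φ) := by
    intro a
    change F.map (lin a) (ξ.app _ φ) = _
    rw [ξ.natural]
  have hval : ∀ (a : (Fin n → k) →ₗ[k] k) (i : Fin n),
      (HomSet.map (lin a) φ).1 (g (psX (surj_id k) n i)) =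
        (TrivSqZeroExt.inr (a (Pi.single i 1)) : (dual k k).carrier) := by
    intro a i
    change (lin (Λ := k) a).toAlgHom (φ.1 (g (psX (surj_id k) n i))) = _
    rw [hφ, lin_inr]
  have hinj : Function.Injective L := by
    intro a a' h
    rw [hL, hL] at h
    have h1 := hbij.1 h
    apply LinearMap.pi_ext'
    intro i
    apply LinearMap.ext_ring
    have h2 := congrArg (fun t => t.1 (g (psX (surj_id k) n i))) h1
    simp only [hval] at h2
    have h3 := congrArg (fun t : TrivSqZeroExt k k => t.snd) h2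
    simpa using h3
  have hsurj : Function.Surjective L := by
    intro t
    obtain ⟨θ, hθ⟩ := hbij.2 t
    let c : Fin n → k := fun i => dsnd (θ.1 (g (psX (surj_id k) n i)))
    refine ⟨fn c, ?_⟩
    rw [hL, ← hθ]
    congr 1
    apply pull_injective g hg hgs
    apply ps_hom_ext (surj_id k) n
    intro i
    rw [pull_apply, pull_apply, hval, fn_single]
    apply dual_ext
    · change (0 : k) = (dual k k).res (θ.1 (g (psX (surj_id k) n i)))
      have h1 := AlgHom.congr_fun θ.2 (g (psX (surj_id k) n i))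
      change (dual k k).res (θ.1 (g (psX (surj_id k) n i))) = _ at h1
      rw [h1]
      have h2 := AlgHom.congr_fun hg (psX (surj_id k) n i)
      change H.ring.res (g (psX (surj_id k) n i)) = _ at h2
      rw [h2]
      exact (((Pn (k := k) n).mem_maximalIdeal_iff _).1 (psX_mem (surj_id k) n i)).symm
    · rfl
  have e := LinearEquiv.ofBijective L ⟨hinj, hsurj⟩
  rw [← e.finrank_eq]
  have h1 : Module.finrank k ((Fin n → k) →ₗ[k] k) = Module.finrank k (Fin n → k) :=
    Subspace.dual_finrank_eq
  rw [h1, Module.finrank_fin_fun]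

end Tangent

section Bounds

variable {F : Art k k ⥤ Type v} (H : Hull F) (n : ℕ)
  (g : (Pn (k := k) n).carrier →ₐ[k] H.ring.carrier)
  (hg : H.ring.res.comp g = (Pn n).res) (hgs : Function.Surjective g)
  (hker : RingHom.ker g ≤ IsLocalRing.maximalIdeal (Pn (k := k) n).carrier ^ 2)

include hgs in
lemma dim_quot : ringKrullDim (MvPowerSeries (Fin n) k ⧸ RingHom.ker g) =
    ringKrullDim H.ring.carrier :=
  ringKrullDim_eq_of_ringEquiv
    (RingHom.quotientKerEquivOfSurjective (f := (g : MvPowerSeries (Fin n) k →+* H.ring.carrier))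
      hgs)

include hgs in
/-- `dim R ≤ n` -/
theorem dim_le : ringKrullDim H.ring.carrier ≤ (n : WithBot ℕ∞) := by
  rw [← dim_quot H n g hgs, ← ps_dim_eq (k := k) n]
  exact ringKrullDim_quotient_le _

include hg hgs hker in
/-- `n ≤ dim R + dim V` for an obstruction theory with values in `V` -/
theorem le_dim_add {V : Type u} [AddCommGroup V] [Module k V] [Module.Finite k V]
    (T : ObsTheory F V) :
    (n : WithBot ℕ∞) ≤ ringKrullDim H.ring.carrier + (Module.finrank k V : WithBot ℕ∞) := by
  classical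
  have T' : ObsTheory (hR H.ring.carrier H.ring.res) V :=
    pullbackObs H.family H.miniversal.1 T
  obtain ⟨ã, hã⟩ := exists_span_of_obs (Pn (k := k) n) H.ring g hgs hg hker T'
    (Module.finBasis k V)
  have hμ : (RingHom.ker g).spanFinrank ≤ Module.finrank k V := by
    rw [hã]
    refine (Submodule.spanFinrank_span_le_ncard_of_finite (Set.finite_range _)).trans ?_
    rw [← Set.image_univ]
    refine (Set.ncard_image_le (Set.finite_univ)).trans ?_
    rw [Set.ncard_univ, Nat.card_fin]
  haveI : IsNoetherianRing (MvPowerSeries (Fin n) k) := (Pn (k := k) n).isNoetherianRing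
  have h1 := ringKrullDim_le_ringKrullDim_quotient_add_spanFinrank (RingHom.ker g) (by
    rw [IsLocalRing.ringJacobson_eq_maximalIdeal]
    exact hker.trans (Ideal.pow_le_self two_ne_zero))
  rw [ps_dim_eq, dim_quot H n g hgs] at h1
  refine h1.trans ?_
  gcongr

include hgs in
lemma ker_eq_bot_of_dim_eq (h : ringKrullDim H.ring.carrier = (n : WithBot ℕ∞)) :
    RingHom.ker g = ⊥ := by
  by_contra hne
  obtain ⟨x, hx, hx0⟩ := Submodule.exists_mem_ne_zero_of_ne_bot hne
  have hreg : x ∈ nonZeroDivisors (MvPowerSeries (Fin n) k) :=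
    mem_nonZeroDivisors_of_ne_zero hx0
  have h1 := ringKrullDim_quotient_succ_le_of_nonZeroDivisor hreg
  rw [ps_dim_eq] at h1
  have hle : Ideal.span {x} ≤ RingHom.ker g := (Ideal.span_singleton_le_iff_mem _).mpr hx
  have h2 : ringKrullDim (MvPowerSeries (Fin n) k ⧸ RingHom.ker g) ≤
      ringKrullDim (MvPowerSeries (Fin n) k ⧸ Ideal.span {x}) :=
    ringKrullDim_le_of_surjective (Ideal.Quotient.factor hle) (Ideal.Quotient.factor_surjective hle)
  rw [dim_quot H n g hgs, h] at h2
  have h3 : (n : WithBot ℕ∞) + 1 ≤ (n : WithBot ℕ∞) := (add_le_add_left h2 1).trans h1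
  have h4 : ((n + 1 : ℕ) : WithBot ℕ∞) ≤ ((n : ℕ) : WithBot ℕ∞) := by
    push_cast
    exact h3
  have h5 : n + 1 ≤ n := by exact_mod_cast h4
  omega

include hg hgs in
lemma smooth_of_ker_eq_bot (h : RingHom.ker g = ⊥) : IsSmoothFunctor F := by
  classical
  have h0 : H0 F := h0_of_tangent_surjective H.family H.miniversal.2.2
  intro B A μ hμ y
  obtain ⟨φ, rfl⟩ := app_surjective_of_isVersal H.family H.miniversal.1 h0 A y
  -- lift the images of the variables
  have hex : ∀ i, ∃ b : B.carrier, μ b = φ.1 (g (psX (surj_id k) n i)) := fun i => hμ _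
  choose b hb using hex
  have hbm : ∀ i, b i ∈ IsLocalRing.maximalIdeal B.carrier := by
    intro i
    rw [mem_maximalIdeal_iff]
    have h1 := Art.res_app μ (b i)
    rw [← h1, hb]
    have h2 := AlgHom.congr_fun φ.2 (g (psX (surj_id k) n i))
    change A.res (φ.1 (g (psX (surj_id k) n i))) = _ at h2
    rw [h2]
    have h3 := AlgHom.congr_fun hg (psX (surj_id k) n i)
    change H.ring.res (g (psX (surj_id k) n i)) = _ at h3
    rw [h3]
    exact ((Pn (k := k) n).mem_maximalIdeal_iff _).1 (psX_mem (surj_id k) n i)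
  obtain ⟨ψ₀, hψ₀⟩ := ps_exists_hom (surj_id k) n B b hbm
  obtain ⟨ψ, hψ⟩ := descend g hg hgs ψ₀ (fun x hx => by
    have : x ∈ RingHom.ker g := hx
    rw [h, Ideal.mem_bot] at this
    rw [this, map_zero])
  refine ⟨H.family.app B ψ, ?_⟩
  rw [← H.family.natural]
  congr 1
  apply pull_injective g hg hgs
  apply ps_hom_ext (surj_id k) n
  intro i
  rw [pull_apply, pull_apply]
  change μ (ψ.1 (g (psX (surj_id k) n i))) = _
  rw [hψ, hψ₀, hb]

/-- a smooth functor has the zero obstruction theory -/
noncomputable def zeroObs (hF : IsSmoothFunctor F) : ObsTheory F PUnit.{u + 1} where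
  obs _ _ _ := 0
  obs_eq_zero_iff p hp u := ⟨fun _ => hF p hp.1 u, fun _ => rfl⟩
  obs_quot p hp K hK hKJ hq u := (map_zero _).symm

include hg hgs hker in
lemma ker_eq_bot_of_smooth (hF : IsSmoothFunctor F) : RingHom.ker g = ⊥ := by
  have T' : ObsTheory (hR H.ring.carrier H.ring.res) PUnit.{u + 1} :=
    pullbackObs H.family H.miniversal.1 (zeroObs hF)
  obtain ⟨ã, hã⟩ := exists_span_of_obs (Pn (k := k) n) H.ring g hgs hg hker T'
    (Module.Basis.empty PUnit.{u + 1} : Module.Basis (Fin 0) k PUnit.{u + 1})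
  rw [hã]
  have : Set.range ã = ∅ := Set.range_eq_empty ã
  rw [this, Ideal.span_empty]

include hg hgs hker in
/-- **`dim R = n` iff `F` is smooth** -/
theorem dim_eq_iff : ringKrullDim H.ring.carrier = (n : WithBot ℕ∞) ↔ IsSmoothFunctor F := by
  constructor
  · intro h
    exact smooth_of_ker_eq_bot H n g hg hgs (ker_eq_bot_of_dim_eq H n g hgs h)
  · intro hF
    have h := ker_eq_bot_of_smooth H n g hg hgs hker hF
    rw [← dim_quot H n g hgs, h, ← ps_dim_eq (k := k) n]
    exact ringKrullDim_eq_of_ringEquiv (RingEquiv.quotientBot _)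

end Bounds

end Groth.Agent.H61.HullDim
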