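import Groth.Agent.H61.EssFTNil
import Groth.Agent.H61.T1LiftLib

/-!
# The curvilinear (jet-lifting) criterion for regularity (helper61)

`ψ : P' → R` surjective, `P'` a Noetherian local `k`-algebra with residue field `k` (infinite)
having the lifting property against surjections of finite local `k`-algebras, `ker ψ ⊆ m²`.
If all jets `R → k[t]/(t^(n+1))` lift to `k[t]/(t^(n+2))` then `ψ` is injective.
-/

set_option autoImplicit false
set_option linter.style.haveILetI false
set_option linter.unusedSectionVars false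
universe u

namespace Groth.Agent.H61.Jets

open IsLocalRing Polynomial T1Lift Groth.Agent.H61.EssFT Groth.Agent.H61.T1L

section Tr

variable (k : Type u) [Field k]

/-- the transition map `k[t]/(t^(N+1)) → k[t]/(t^(M+1))` for `M ≤ N` -/
noncomputable def trn {M N : ℕ} (h : M ≤ N) : Tr k N →ₐ[k] Tr k M :=
  AdjoinRoot.liftAlgHom _ (Algebra.ofId k _) (t k M) (by
    obtain ⟨c, rfl⟩ := Nat.exists_eq_add_of_le h
    rw [eval₂_X_pow, show M + c + 1 = (M + 1) + c by omega, pow_add, t_pow, zero_mul])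

@[simp] theorem trn_t {M N : ℕ} (h : M ≤ N) : trn k h (t k N) = t k M :=
  AdjoinRoot.liftAlgHom_root _ _ _ _

theorem trn_mk {M N : ℕ} (h : M ≤ N) (p : k[X]) :
    trn k h (AdjoinRoot.mk _ p) = AdjoinRoot.mk _ p := by
  have h1 : (trn k h).comp (AdjoinRoot.mkₐ ((X : k[X]) ^ (N + 1))) =
      AdjoinRoot.mkₐ ((X : k[X]) ^ (M + 1)) := by
    apply Polynomial.algHom_ext
    change trn k h (AdjoinRoot.mk _ X) = AdjoinRoot.mk _ X
    rw [AdjoinRoot.mk_X, AdjoinRoot.mk_X]
    exact trn_t k h
  exact AlgHom.congr_fun h1 p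

theorem trn_surjective {M N : ℕ} (h : M ≤ N) : Function.Surjective (trn k h) := by
  intro x
  obtain ⟨p, rfl⟩ := AdjoinRoot.mk_surjective x
  exact ⟨AdjoinRoot.mk _ p, trn_mk k h p⟩

theorem exists_of_trn_eq_zero {M N : ℕ} (h : M ≤ N) (x : Tr k N) (hx : trn k h x = 0) :
    ∃ b : Tr k N, x = t k N ^ (M + 1) * b := by
  obtain ⟨p, rfl⟩ := AdjoinRoot.mk_surjective x
  rw [trn_mk, AdjoinRoot.mk_eq_zero] at hx
  obtain ⟨q, rfl⟩ := hx
  refine ⟨AdjoinRoot.mk _ q, ?_⟩
  rw [map_mul, map_pow, AdjoinRoot.mk_X]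

theorem trn_trn {L M N : ℕ} (h : L ≤ M) (h' : M ≤ N) (x : Tr k N) :
    trn k h (trn k h' x) = trn k (h.trans h') x := by
  obtain ⟨p, rfl⟩ := AdjoinRoot.mk_surjective x
  rw [trn_mk, trn_mk, trn_mk]

theorem mem_maximalIdeal_Tr (n : ℕ) (x : Tr k n) (hx : x ∈ maximalIdeal (Tr k n)) :
    ∃ b : Tr k n, x = t k n * b := mem_maximalIdeal_A k n x hx

theorem t_mem_maximalIdeal (n : ℕ) : t k n ∈ maximalIdeal (Tr k n) := by
  rw [mem_maximalIdeal, mem_nonunits_iff]
  intro hu
  have h1 : IsNilpotent (t k n) := ⟨n + 1, t_pow k n⟩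
  exact h1.not_isUnit hu  

theorem maximalIdeal_Tr_pow (N : ℕ) : maximalIdeal (Tr k N) ^ (N + 1) = ⊥ := by
  have h1 : maximalIdeal (Tr k N) ≤ Ideal.span {t k N} := by
    intro x hx
    obtain ⟨b, rfl⟩ := mem_maximalIdeal_Tr k N x hx
    exact Ideal.mul_mem_right _ _ (Ideal.subset_span rfl)
  rw [eq_bot_iff]
  refine (Ideal.pow_right_mono h1 (N + 1)).trans ?_
  rw [Ideal.span_singleton_pow, t_pow, Ideal.span_singleton_eq_bot.2 rfl]

theorem resk_Tr (n : ℕ) : Function.Surjective (algebraMap k (ResidueField (Tr k n))) := by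
  intro z
  obtain ⟨x, rfl⟩ := residue_surjective z
  obtain ⟨b, hb⟩ := eq_algebraMap_add_t_mul k n x
  refine ⟨resA k n x, ?_⟩
  have h1 : residue (Tr k n) (t k n * b) = 0 := by
    rw [residue_eq_zero_iff]
    exact Ideal.mul_mem_right _ _ (t_mem_maximalIdeal k n)
  conv_rhs => rw [hb, map_add, h1, add_zero]
  rfl

end Tr

section Poly

variable {k : Type u} [Field k] {σ : Type*} [Fintype σ] {T : Type*} [CommRing T] [Algebra k T]

theorem aeval_mul_of_isHomogeneous {G : MvPolynomial σ k} {e : ℕ} (hG : G.IsHomogeneous e)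
    (s : T) (c : σ → T) :
    MvPolynomial.aeval (fun i => s * c i) G = s ^ e * MvPolynomial.aeval c G := by
  rw [MvPolynomial.aeval_def, MvPolynomial.aeval_def, MvPolynomial.eval₂_eq',
    MvPolynomial.eval₂_eq', Finset.mul_sum]
  refine Finset.sum_congr rfl fun d hd => ?_
  have hdeg : d.degree = e := by
    by_contra hne
    exact (MvPolynomial.mem_support_iff.mp hd) (hG.coeff_eq_zero hne)
  have h1 : ∏ i, (s * c i) ^ d i = s ^ e * ∏ i, c i ^ d i := by
    simp_rw [mul_pow]
    rw [Finset.prod_mul_distrib, Finset.prod_pow_eq_pow_sum, ← Finsupp.degree_eq_sum, hdeg]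
  rw [h1]
  ring

theorem aeval_sub_mem_span (G : MvPolynomial σ k) (s : T) (a : σ → k) (c : σ → T)
    (hc : ∀ i, c i - algebraMap k T (a i) ∈ Ideal.span {s}) :
    MvPolynomial.aeval c G - algebraMap k T (MvPolynomial.eval a G) ∈ Ideal.span {s} := by
  rw [← Ideal.Quotient.eq]
  have h1 := MvPolynomial.comp_aeval_apply (f := c) (Ideal.Quotient.mkₐ k (Ideal.span {s})) G
  have h2 := MvPolynomial.comp_aeval_apply (f := fun i => algebraMap k T (a i))
    (Ideal.Quotient.mkₐ k (Ideal.span {s})) G
  have h3 : MvPolynomial.aeval (fun i => algebraMap k T (a i)) G =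
      algebraMap k T (MvPolynomial.eval a G) := by
    have := MvPolynomial.comp_aeval_apply (f := a) (Algebra.ofId k T) G
    have h4 : MvPolynomial.aeval a G = MvPolynomial.eval a G :=
      RingHom.congr_fun (MvPolynomial.coe_aeval_eq_eval a) G
    rw [h4] at this
    exact this.symm
  rw [h3] at h2
  change Ideal.Quotient.mkₐ k (Ideal.span {s}) _ = Ideal.Quotient.mkₐ k (Ideal.span {s}) _
  rw [h1, h2]
  congr 2
  funext i
  exact Ideal.Quotient.eq.mpr (hc i)

end Poly

section Main

variable (k : Type u) [Field k]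

/-- the lifting property against all surjections of finite local `k`-algebras -/
def LiftAll (A : Type u) [CommRing A] [Algebra k A] : Prop :=
  ∀ (B' B'' : Type u) [CommRing B'] [IsLocalRing B'] [Algebra k B'] [Module.Finite k B']
    [CommRing B''] [IsLocalRing B''] [Algebra k B''] (π : B' →ₐ[k] B''),
    Function.Surjective π → ∀ f : A →ₐ[k] B'', ∃ g : A →ₐ[k] B', π.comp g = f

/-- all jets lift one step -/
def JetsLift (R : Type u) [CommRing R] [Algebra k R] : Prop :=
  ∀ (n : ℕ) (φ : R →ₐ[k] Tr k n),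
    ∃ φ' : R →ₐ[k] Tr k (n + 1), (trn k (Nat.le_succ n)).comp φ' = φ

variable {k}

/-- a `k`-algebra map to a local algebra with residue field `k` maps `m^j` into `m^j` -/
theorem map_pow_mem {P B' : Type u} [CommRing P] [IsLocalRing P] [Algebra k P]
    [CommRing B'] [IsLocalRing B'] [Algebra k B']
    (hresB : Function.Surjective (algebraMap k (ResidueField B')))
    (χ : P →ₐ[k] B') (j : ℕ) {x : P} (hx : x ∈ maximalIdeal P ^ j) :
    χ x ∈ maximalIdeal B' ^ j := by
  have h1 : (maximalIdeal P).map (χ : P →+* B') ≤ maximalIdeal B' := by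
    rw [Ideal.map_le_iff_le_comap]
    intro z hz
    exact map_mem_maximalIdeal hresB χ hz
  have h2 : (maximalIdeal P ^ j).map (χ : P →+* B') ≤ maximalIdeal B' ^ j := by
    rw [Ideal.map_pow]
    exact Ideal.pow_right_mono h1 j
  exact h2 (Ideal.mem_map_of_mem _ hx)

variable [Infinite k]
  {P' : Type u} [CommRing P'] [IsLocalRing P'] [IsNoetherianRing P'] [Algebra k P']
  (hres : Function.Surjective (algebraMap k (ResidueField P')))
  {R : Type u} [CommRing R] [Algebra k R]

include hres in
theorem ker_eq_bot_of_jets (ψ : P' →ₐ[k] R) (hψ : Function.Surjective ψ)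
    (hker : RingHom.ker ψ ≤ maximalIdeal P' ^ 2) (hL : LiftAll k P') (hJ : JetsLift k R) :
    RingHom.ker ψ = ⊥ := by
  classical
  by_contra hne
  set I : Ideal P' := RingHom.ker ψ with hI
  set m : Ideal P' := maximalIdeal P' with hm
  -- (1) the order of `I`
  obtain ⟨e, he2, hIe, hIe'⟩ : ∃ e, 2 ≤ e ∧ I ≤ m ^ e ∧ ¬ I ≤ m ^ (e + 1) := by
    by_contra hcon
    push_neg at hcon
    have hall : ∀ n, I ≤ m ^ (n + 2) := by
      intro n
      induction n with
      | zero => exact hker
      | succ n ih => exact hcon (n + 2) (by omega) ih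
    apply hne
    rw [eq_bot_iff, ← Ideal.iInf_pow_eq_bot_of_isLocalRing m (maximalIdeal.isMaximal P').ne_top]
    refine le_iInf fun n => ?_
    exact (hall n).trans (Ideal.pow_le_pow_right (by omega))
  obtain ⟨f, hfI, hfe⟩ := SetLike.not_le_iff_exists.mp hIe'
  -- (3) minimal generators
  let 𝔟 := Module.finBasis (ResidueField P') (CotangentSpace P')
  obtain ⟨d, hd⟩ : ∃ d, d = Module.finrank (ResidueField P') (CotangentSpace P') := ⟨_, rfl⟩
  have hy : ∀ i : Fin (Module.finrank (ResidueField P') (CotangentSpace P')),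
      ∃ y : maximalIdeal P', (maximalIdeal P').toCotangent y = 𝔟 i :=
    fun i => (maximalIdeal P').toCotangent_surjective _
  choose y' hy' using hy
  let y : Fin (Module.finrank (ResidueField P') (CotangentSpace P')) → P' := fun i => (y' i : P')
  have hspan : Ideal.span (Set.range y) = m := by
    have h1 : Submodule.span (ResidueField P')
        ((maximalIdeal P').toCotangent '' Set.range y') = ⊤ := by
      rw [← Set.range_comp]
      have : (maximalIdeal P').toCotangent ∘ y' = 𝔟 := funext hy'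
      rw [this]
      exact 𝔟.span_eq
    have h2 := CotangentSpace.span_image_eq_top_iff.mp h1
    have h3 := congrArg (Submodule.map (maximalIdeal P').subtype) h2
    rw [Submodule.map_span, Submodule.map_top, Submodule.range_subtype, ← Set.range_comp] at h3
    exact h3
  let eκ : ResidueField P' ≃+* k :=
    (RingEquiv.ofBijective (algebraMap k (ResidueField P'))
      ⟨(algebraMap k (ResidueField P')).injective, hres⟩).symm
  have heκ : ∀ (z : ResidueField P') (w : CotangentSpace P'), eκ z • w = z • w := by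
    intro z w
    obtain ⟨a, rfl⟩ := hres z
    have h1 : eκ (algebraMap k (ResidueField P') a) = a :=
      (RingEquiv.ofBijective (algebraMap k (ResidueField P'))
        ⟨(algebraMap k (ResidueField P')).injective, hres⟩).symm_apply_apply a
    rw [h1, ← algebraMap_smul P' a w, ← algebraMap_smul (ResidueField P') (algebraMap k P' a) w]
    rfl
  let 𝔟' : Module.Basis _ k (CotangentSpace P') := 𝔟.mapCoeffs eκ heκ
  -- (4) the leading form
  have hfe' : f ∈ Ideal.span (Set.range y) ^ e := by rw [hspan]; exact hIe hfI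
  obtain ⟨p, hp, hpf⟩ := (Ideal.mem_span_pow_iff_exists_isHomogeneous y f).mp hfe'
  let G : MvPolynomial _ k := MvPolynomial.map (aug hres : P' →+* k) p
  have hG : G.IsHomogeneous e := hp.map _
  have hmon : ∀ α : Fin (Module.finrank (ResidueField P') (CotangentSpace P')) →₀ ℕ,
      α.degree = e → ∏ i, y i ^ α i ∈ m ^ e := by
    intro α hα
    rw [← hspan]
    refine (Ideal.mem_span_pow_iff_exists_isHomogeneous y _).mpr
      ⟨MvPolynomial.monomial α 1, MvPolynomial.isHomogeneous_monomial _ hα, ?_⟩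
    rw [MvPolynomial.eval_monomial, one_mul, Finsupp.prod_fintype]
    intro i
    exact pow_zero _
  have hr : f - MvPolynomial.aeval y G ∈ m ^ (e + 1) := by
    let q : MvPolynomial _ P' := p - MvPolynomial.map (algebraMap k P') G
    have hq : q.IsHomogeneous e := hp.sub (hG.map _)
    have hqe : MvPolynomial.eval y q = f - MvPolynomial.aeval y G := by
      rw [map_sub, hpf, MvPolynomial.aeval_def, MvPolynomial.eval₂_eq_eval_map]
    rw [← hqe, MvPolynomial.eval_eq']
    refine Ideal.sum_mem _ fun α hα => ?_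
    have hdeg : α.degree = e := by
      by_contra hne'
      exact (MvPolynomial.mem_support_iff.mp hα) (hq.coeff_eq_zero hne')
    have hc : MvPolynomial.coeff α q ∈ m := by
      rw [MvPolynomial.coeff_sub, MvPolynomial.coeff_map, MvPolynomial.coeff_map]
      exact sub_aug_mem hres _
    rw [pow_succ']
    exact Ideal.mul_mem_mul hc (hmon α hdeg)
  -- (5) a direction where the leading form does not vanish
  have hG0 : G ≠ 0 := by
    intro h0
    apply hfe
    rw [h0, map_zero, sub_zero] at hr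
    exact hr
  obtain ⟨a, ha⟩ : ∃ a : _ → k, MvPolynomial.eval a G ≠ 0 := by
    by_contra hcon
    push_neg at hcon
    exact hG0 (hG.eq_zero_of_forall_eval_eq_zero hcon)
  -- (6) the first order jet in direction `a`
  let lam0 : CotangentSpace P' →ₗ[k] k := 𝔟'.constr k a
  have hlam0 : ∀ i, lam0 ((maximalIdeal P').toCotangent (y' i)) = a i := by
    intro i
    have h1 : 𝔟' i = (maximalIdeal P').toCotangent (y' i) := by
      rw [Module.Basis.mapCoeffs_apply, hy']
    rw [← h1, Module.Basis.constr_basis]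
  let lam : CotangentSpace P' →ₗ[k] Tr k 1 :=
    (LinearMap.toSpanSingleton k (Tr k 1) (-(t k 1))).comp lam0
  have hlam : ∀ w, lam w = -(lam0 w • t k 1) := by
    intro w
    change lam0 w • (-(t k 1)) = _
    rw [smul_neg]
  have ht1 : t k 1 ∈ maximalIdeal (Tr k 1) := t_mem_maximalIdeal k 1
  have hKtop : Ideal.span {t k 1} ≠ ⊤ := by
    intro h
    have : Ideal.span {t k 1} ≤ maximalIdeal (Tr k 1) := by
      rw [Ideal.span_le, Set.singleton_subset_iff]; exact ht1
    exact (maximalIdeal.isMaximal _).ne_top (top_le_iff.mp (h ▸ this))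
  have hK : ∀ c ∈ maximalIdeal (Tr k 1), ∀ j ∈ Ideal.span {t k 1}, c * j = 0 := by
    intro c hc j hj
    obtain ⟨b, rfl⟩ := mem_maximalIdeal_Tr k 1 c hc
    obtain ⟨b', rfl⟩ := Ideal.mem_span_singleton'.mp hj
    have h2 : t k 1 ^ 2 = 0 := t_pow k 1
    linear_combination (b * b') * h2
  obtain ⟨φ₁, hφ₁⟩ := exists_deriv_hom (resk_Tr k 1) hres
    ((Algebra.ofId k (Tr k 1)).comp (aug hres)) (Ideal.span {t k 1}) hKtop hK lam (by
      intro w
      rw [hlam, Algebra.smul_def]
      exact neg_mem (Ideal.mul_mem_left _ _ (Ideal.subset_span rfl)))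
  have hφ₁y : ∀ i, φ₁ (y i) = a i • t k 1 := by
    intro i
    rw [hφ₁, hlam, tau_of_mem hres (y' i).2, hlam0, sub_neg_eq_add]
    change algebraMap k (Tr k 1) (aug hres (y i)) + _ = _
    rw [aug_eq_zero hres (y' i).2, map_zero, zero_add]
  -- (7) lift to order `e - 1`
  obtain ⟨n, rfl⟩ : ∃ n, e = n + 1 := ⟨e - 1, by omega⟩
  have hn : 1 ≤ n := by omega
  obtain ⟨φe, hφe⟩ := hL (Tr k n) (Tr k 1) (trn k hn) (trn_surjective k hn) φ₁
  -- (8) it kills `I`
  have hφeI : RingHom.ker ψ.toRingHom ≤ RingHom.ker φe.toRingHom := by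
    intro x hx
    have h1 := map_pow_mem (resk_Tr k n) φe (n + 1) (hIe hx)
    rw [maximalIdeal_Tr_pow, Ideal.mem_bot] at h1
    exact h1
  let φbar : R →ₐ[k] Tr k n := AlgHom.liftOfSurjective ψ hψ φe hφeI
  have hφbar : ∀ x, φbar (ψ x) = φe x := AlgHom.liftOfSurjective_apply ψ hψ φe hφeI
  -- (9) lift one more step
  obtain ⟨φ', hφ'⟩ := hJ n φbar
  -- (10)
  let Ψ : P' →ₐ[k] Tr k (n + 1) := φ'.comp ψ
  have hΨf : Ψ f = 0 := by
    change φ' (ψ f) = 0
    have : ψ f = 0 := hfI
    rw [this, map_zero]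
  have hΨy : ∀ i, ∃ b : Tr k (n + 1),
      Ψ (y i) = t k (n + 1) * (algebraMap k _ (a i) + t k (n + 1) * b) := by
    intro i
    have h1 : trn k (hn.trans (Nat.le_succ n)) (Ψ (y i)) = a i • t k 1 := by
      rw [← trn_trn k hn (Nat.le_succ n)]
      have h2 : trn k (Nat.le_succ n) (Ψ (y i)) = φe (y i) := by
        have := congrArg (fun F => F (ψ (y i))) hφ'
        simp only [AlgHom.comp_apply] at this
        rw [hφbar] at this
        exact this
      rw [h2]
      have := congrArg (fun F => F (y i)) hφe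
      simp only [AlgHom.comp_apply] at this
      rw [this, hφ₁y]
    have h3 : trn k (hn.trans (Nat.le_succ n)) (Ψ (y i) - a i • t k (n + 1)) = 0 := by
      rw [map_sub, h1, map_smul, trn_t, sub_self]
    obtain ⟨b, hb⟩ := exists_of_trn_eq_zero k _ _ h3
    refine ⟨b, ?_⟩
    rw [Algebra.smul_def] at hb
    linear_combination hb
  choose b hb using hΨy
  -- (11)
  have h11 : Ψ (MvPolynomial.aeval y G) = t k (n + 1) ^ (n + 1) *
      MvPolynomial.aeval (fun i => algebraMap k _ (a i) + t k (n + 1) * b i) G := by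
    rw [MvPolynomial.comp_aeval_apply, ← aeval_mul_of_isHomogeneous hG]
    congr 2
    funext i
    exact hb i
  have h12 := aeval_sub_mem_span G (t k (n + 1)) a
    (fun i => algebraMap k _ (a i) + t k (n + 1) * b i) (by
      intro i
      rw [add_sub_cancel_left]
      exact Ideal.mul_mem_right _ _ (Ideal.subset_span rfl))
  obtain ⟨w, hw⟩ := Ideal.mem_span_singleton'.mp h12
  have h13 : Ψ (f - MvPolynomial.aeval y G) = 0 := by
    have h1 := map_pow_mem (resk_Tr k (n + 1)) Ψ (n + 1 + 1) hr
    rw [maximalIdeal_Tr_pow, Ideal.mem_bot] at h1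
    exact h1
  rw [map_sub, hΨf, zero_sub, neg_eq_zero, h11] at h13
  have h14 : algebraMap k (Tr k (n + 1)) (MvPolynomial.eval a G) * t k (n + 1) ^ (n + 1) = 0 := by
    have h2 : t k (n + 1) ^ (n + 1 + 1) = 0 := t_pow k (n + 1)
    have h3 : MvPolynomial.aeval (fun i => algebraMap k _ (a i) + t k (n + 1) * b i) G =
        algebraMap k (Tr k (n + 1)) (MvPolynomial.eval a G) + w * t k (n + 1) := by
      rw [hw]; ring
    rw [h3] at h13
    rw [pow_succ] at h2
    linear_combination h13 - w * h2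
  exact ha (algebraMap_mul_t_pow_eq_zero k (n + 1) _ h14)

end Main

end Groth.Agent.H61.Jets
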