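import Groth.Agent.H61.Jets

/-!
# Jets on a finitely generated algebra at a rational point vs jets on the local ring (helper61)
-/

set_option autoImplicit false
set_option linter.style.haveILetI false
set_option linter.unusedSectionVars false
universe u

namespace Groth.Agent.H61.Jets

open IsLocalRing Polynomial T1Lift Groth.Agent.H61.EssFT Groth.Agent.H61.T1L

section Loc

variable {k : Type u} [Field k] {A : Type u} [CommRing A] [Algebra k A]
  (m : Ideal A) [m.IsMaximal]

/-- residue field `k` at a maximal ideal of a finitely generated algebra over an algebraically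
closed field -/
theorem exists_sub_mem_of_finiteType [IsAlgClosed k] [Algebra.FiniteType k A] (a : A) :
    ∃ c : k, a - algebraMap k A c ∈ m := by
  letI := Ideal.Quotient.field m
  haveI : Module.Finite k (A ⧸ m) := finite_of_finite_type_of_isJacobsonRing k (A ⧸ m)
  haveI : Algebra.IsIntegral k (A ⧸ m) := Algebra.IsIntegral.of_finite k _
  obtain ⟨c, hc⟩ := (IsAlgClosed.algebraMap_bijective_of_isIntegral (k := k) (K := A ⧸ m)).2
    (Ideal.Quotient.mk m a)
  refine ⟨c, ?_⟩
  rw [← Ideal.Quotient.eq_zero_iff_mem, map_sub, sub_eq_zero, ← hc]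
  rfl

variable (hk : ∀ a : A, ∃ c : k, a - algebraMap k A c ∈ m)

include hk in
theorem resk_loc : Function.Surjective (algebraMap k (ResidueField (Localization.AtPrime m))) := by
  intro z
  obtain ⟨x, rfl⟩ := residue_surjective z
  obtain ⟨a, s, rfl⟩ := IsLocalization.exists_mk'_eq m.primeCompl x
  obtain ⟨ca, hca⟩ := hk a
  obtain ⟨cs, hcs⟩ := hk s
  have hcs0 : cs ≠ 0 := by
    intro h0
    rw [h0, map_zero, sub_zero] at hcs
    exact s.2 hcs
  have hres : ∀ (b : A) (c : k), b - algebraMap k A c ∈ m →
      residue (Localization.AtPrime m) (algebraMap A _ b) =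
        algebraMap k (ResidueField (Localization.AtPrime m)) c := by
    intro b c hb
    have h1 : algebraMap A (Localization.AtPrime m) (b - algebraMap k A c) ∈
        maximalIdeal (Localization.AtPrime m) :=
      (IsLocalization.AtPrime.to_map_mem_maximal_iff (Localization.AtPrime m) m _).mpr hb
    rw [← residue_eq_zero_iff, map_sub, map_sub, sub_eq_zero] at h1
    rw [h1, ← IsScalarTower.algebraMap_apply]
    rfl
  refine ⟨ca / cs, ?_⟩
  have h1 : IsLocalization.mk' (Localization.AtPrime m) a s * algebraMap A _ (s : A) =
      algebraMap A _ a := IsLocalization.mk'_spec _ a s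
  have h2 := congrArg (residue (Localization.AtPrime m)) h1
  rw [map_mul, hres _ _ hcs, hres _ _ hca] at h2
  rw [map_div₀, div_eq_iff ((_root_.map_ne_zero _).mpr hcs0)]
  exact h2.symm

/-- a map killing `m` up to nilpotents extends to the local ring -/
theorem exists_extend {B : Type u} [CommRing B] [Algebra k B] (φ : A →ₐ[k] B)
    (hφ : ∀ a ∈ m, IsNilpotent (φ a)) :
    ∃ φ' : Localization.AtPrime m →ₐ[k] B,
      φ'.comp (IsScalarTower.toAlgHom k A (Localization.AtPrime m)) = φ := by
  have hunit : ∀ y : m.primeCompl, IsUnit (φ y) := by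
    intro y
    obtain ⟨b, i, hi, hbi⟩ := Ideal.IsMaximal.exists_inv (I := m) inferInstance y.2
    have h1 : φ b * φ y = 1 - φ i := by
      rw [← map_mul, ← map_one φ, ← map_sub, ← hbi]
      congr 1
      ring
    have h2 : IsUnit (φ b * φ y) := by
      rw [h1]
      exact (hφ i hi).isUnit_one_sub
    exact isUnit_of_mul_isUnit_right h2
  refine ⟨IsLocalization.liftAlgHom (M := m.primeCompl) hunit, ?_⟩
  refine AlgHom.ext fun a => ?_
  simp

/-- two maps out of the local ring agreeing on `A` are equal -/
theorem loc_algHom_ext {B : Type u} [CommRing B] [Algebra k B]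
    (f g : Localization.AtPrime m →ₐ[k] B)
    (h : f.comp (IsScalarTower.toAlgHom k A (Localization.AtPrime m)) =
      g.comp (IsScalarTower.toAlgHom k A (Localization.AtPrime m))) : f = g := by
  apply AlgHom.coe_ringHom_injective
  apply IsLocalization.ringHom_ext m.primeCompl
  refine RingHom.ext fun a => ?_
  exact AlgHom.congr_fun h a

end Loc

/-- regular local algebras essentially of finite type over an algebraically closed field with
residue field `k` lift against all surjections of finite local algebras -/
theorem liftAll_of_regular {k : Type u} [Field k] [IsAlgClosed k] {ι : Type u} [Finite ι]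
    (p : Ideal (MvPolynomial ι k)) [p.IsPrime]
    {A : Type u} [CommRing A] [IsRegularLocalRing A] [Algebra k A]
    (φ : Localization.AtPrime p →ₐ[k] A) (hφ : Function.Surjective φ)
    (hresA : Function.Surjective (algebraMap k (ResidueField A))) : LiftAll k A := by
  intro B' B'' _ _ _ _ _ _ _ π hπ f
  have hsmall : SmallLift k A := by
    intro B' B'' _ _ _ _ _ _ _ π hπ hK f
    exact small_lift p φ hφ hresA (resk_of_finite k B') π hπ hK f
  exact nil_lift hsmall _ B' B'' π hπ le_rfl f

theorem factor_eq_trn (k : Type u) [Field k] (n : ℕ)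
    (h : Ideal.span {(X : k[X]) ^ (n + 1 + 1)} ≤ Ideal.span {(X : k[X]) ^ (n + 1)})
    (x : k[X] ⧸ Ideal.span {(X : k[X]) ^ (n + 1 + 1)}) :
    Ideal.Quotient.factorₐ k h x = trn k (Nat.le_succ n) x := by
  obtain ⟨p, rfl⟩ := Ideal.Quotient.mk_surjective x
  exact (trn_mk k (Nat.le_succ n) p).symm

end Groth.Agent.H61.Jets
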