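import Groth.Agent.H61.EssFTNil

/-!
# Kähler differentials at a rational point of a local algebra (helper61)

For a local `k`-algebra `B` with residue field `k`: derivations `B → κ` correspond to functionals on
`m/m²`; if `Ω_{B/k}` is finite free then its rank is `dim m/m²`.
-/

set_option autoImplicit false
set_option linter.style.haveILetI false
set_option linter.unusedSectionVars false
universe u

namespace Groth.Agent.H61.KPt

open IsLocalRing Groth.Agent.H61.EssFT TensorProduct

section deriv

variable {k : Type u} [Field k] {P : Type u} [CommRing P] [IsLocalRing P] [Algebra k P]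
  (hres : Function.Surjective (algebraMap k (ResidueField P)))
  {M : Type u} [AddCommGroup M] [Module P M] [Module k M] [IsScalarTower k P M]
  (hM : ∀ p ∈ maximalIdeal P, ∀ z : M, p • z = 0)

include hM in
theorem smul_eq_aug_smul (p : P) (z : M) : p • z = aug hres p • z := by
  have h1 := hM _ (sub_aug_mem hres p) z
  rw [sub_smul, sub_eq_zero, algebraMap_smul] at h1
  exact h1

/-- the derivation `L ∘ τ` attached to a functional on the cotangent space -/
noncomputable def derivOfTau (L : CotangentSpace P →ₗ[k] M) : Derivation k P M where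
  toLinearMap := L.comp (tau hres)
  map_one_eq_zero' := by
    change L (tau hres 1) = 0
    rw [tau_one, map_zero]
  leibniz' a b := by
    change L (tau hres (a * b)) = a • L (tau hres b) + b • L (tau hres a)
    rw [tau_mul, map_add, map_smul, map_smul, smul_eq_aug_smul hres hM a,
      smul_eq_aug_smul hres hM b]

theorem derivOfTau_apply (L : CotangentSpace P →ₗ[k] M) (p : P) :
    derivOfTau hres hM L p = L (tau hres p) := rfl

theorem derivOfTau_of_mem (L : CotangentSpace P →ₗ[k] M) {p : P} (hp : p ∈ maximalIdeal P) :
    derivOfTau hres hM L p = L ((maximalIdeal P).toCotangent ⟨p, hp⟩) := by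
  rw [derivOfTau_apply, tau_of_mem hres hp]

end deriv

section rank

variable {k : Type u} [Field k] {B : Type u} [CommRing B] [IsLocalRing B] [IsNoetherianRing B]
  [Algebra k B] (hres : Function.Surjective (algebraMap k (ResidueField B)))

theorem smul_residueField_eq_zero (p : B) (hp : p ∈ maximalIdeal B) (z : ResidueField B) :
    p • z = 0 := by
  rw [Algebra.smul_def]
  have : algebraMap B (ResidueField B) p = 0 := (residue_eq_zero_iff p).mpr hp
  rw [this, zero_mul]

theorem isScalarTower_cot : IsScalarTower k (ResidueField B) (CotangentSpace B) := by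
  refine ⟨fun a c v => ?_⟩
  obtain ⟨b, rfl⟩ := residue_surjective c
  have h1 : a • residue B b = residue B (a • b) := by
    rw [Algebra.smul_def, Algebra.smul_def, map_mul]
    rfl
  have h2 : ∀ (b' : B) (w : CotangentSpace B), residue B b' • w = b' • w := by
    intro b' w
    rw [← IsLocalRing.ResidueField.algebraMap_eq]
    exact algebraMap_smul _ b' w
  rw [h1, h2, h2, smul_assoc]

attribute [local instance] isScalarTower_cot

theorem kaehler_hom_ext {M : Type*} [AddCommGroup M] [Module B M] [Module k M]
    [IsScalarTower k B M] (f f' : Ω[B⁄k] →ₗ[B] M)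
    (h : ∀ b, f (KaehlerDifferential.D k B b) = f' (KaehlerDifferential.D k B b)) : f = f' := by
  apply Derivation.liftKaehlerDifferential_unique
  ext b
  exact h b

/-- functionals on the cotangent space give `B`-linear maps `Ω_{B/k} → κ` -/
noncomputable def Theta :
    Module.Dual (ResidueField B) (CotangentSpace B) →ₗ[ResidueField B]
      (Ω[B⁄k] →ₗ[B] ResidueField B) where
  toFun l := (derivOfTau hres smul_residueField_eq_zero
    (l.restrictScalars k)).liftKaehlerDifferential
  map_add' l l' := by
    apply kaehler_hom_ext
    intro b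
    rw [LinearMap.add_apply, Derivation.liftKaehlerDifferential_comp_D,
      Derivation.liftKaehlerDifferential_comp_D, Derivation.liftKaehlerDifferential_comp_D]
    rfl
  map_smul' c l := by
    apply kaehler_hom_ext
    intro b
    rw [RingHom.id_apply, LinearMap.smul_apply, Derivation.liftKaehlerDifferential_comp_D,
      Derivation.liftKaehlerDifferential_comp_D]
    rfl

theorem Theta_D (l : Module.Dual (ResidueField B) (CotangentSpace B)) (b : B) :
    Theta hres l (KaehlerDifferential.D k B b) = l (tau hres b) := by
  change (derivOfTau hres smul_residueField_eq_zero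
    (l.restrictScalars k)).liftKaehlerDifferential (KaehlerDifferential.D k B b) = _
  rw [Derivation.liftKaehlerDifferential_comp_D, derivOfTau_apply]
  rfl

theorem Theta_injective : Function.Injective (Theta (k := k) hres) := by
  rw [injective_iff_map_eq_zero]
  intro l hl
  ext v
  obtain ⟨x, rfl⟩ := (maximalIdeal B).toCotangent_surjective v
  have h1 := Theta_D hres l (x : B)
  rw [hl, LinearMap.zero_apply, tau_of_mem hres x.2] at h1
  exact h1.symm

theorem Theta_surjective : Function.Surjective (Theta (k := k) hres) := by
  intro ℓ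
  -- the derivation
  have hD : ∀ a b : B, ℓ (KaehlerDifferential.D k B (a * b)) =
      a • ℓ (KaehlerDifferential.D k B b) + b • ℓ (KaehlerDifferential.D k B a) := by
    intro a b
    rw [Derivation.leibniz, map_add, map_smul, map_smul]
  let l0 : maximalIdeal B →ₗ[B] ResidueField B :=
    { toFun := fun x => ℓ (KaehlerDifferential.D k B (x : B))
      map_add' := fun x y => by
        change ℓ (KaehlerDifferential.D k B ((x : B) + (y : B))) = _
        rw [map_add, map_add]
      map_smul' := fun b x => by
        change ℓ (KaehlerDifferential.D k B (b * (x : B))) = _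
        rw [hD, smul_residueField_eq_zero _ x.2, add_zero]
        rfl }
  have hl0 : (maximalIdeal B • ⊤ : Submodule B (maximalIdeal B)) ≤ LinearMap.ker l0 := by
    rw [Submodule.smul_le]
    intro b hb x _
    rw [LinearMap.mem_ker]
    change ℓ (KaehlerDifferential.D k B (b * (x : B))) = 0
    rw [hD, smul_residueField_eq_zero _ hb, smul_residueField_eq_zero _ x.2, add_zero]
  let l1 : CotangentSpace B →ₗ[B] ResidueField B := Submodule.liftQ _ l0 hl0
  let l : Module.Dual (ResidueField B) (CotangentSpace B) :=
    l1.extendScalarsOfSurjective residue_surjective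
  refine ⟨l, ?_⟩
  apply kaehler_hom_ext
  intro b
  rw [Theta_D, tau_apply]
  change ℓ (KaehlerDifferential.D k B (b - algebraMap k B (aug hres b))) = _
  rw [map_sub, map_sub, Derivation.map_algebraMap, map_zero, sub_zero]

include hres in
/-- if `Ω_{B/k}` is finite free, its rank is the embedding dimension -/
theorem finrank_cotangentSpace_eq [Module.Free B Ω[B⁄k]] [Module.Finite B Ω[B⁄k]] :
    Module.finrank (ResidueField B) (CotangentSpace B) = Module.finrank B Ω[B⁄k] := by
  have e1 : Module.Dual (ResidueField B) (CotangentSpace B) ≃ₗ[ResidueField B]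
      (Ω[B⁄k] →ₗ[B] ResidueField B) :=
    LinearEquiv.ofBijective (Theta hres) ⟨Theta_injective hres, Theta_surjective hres⟩
  have e2 := (Module.Free.chooseBasis B Ω[B⁄k]).constr (M' := ResidueField B) (ResidueField B)
  rw [← Subspace.dual_finrank_eq, e1.finrank_eq, ← e2.finrank_eq, Module.finrank_pi,
    Module.finrank_eq_card_chooseBasisIndex]

end rank

section free

variable {k : Type u} [Field k] {P B : Type u} [CommRing P] [IsRegularLocalRing P] [Algebra k P]
  [CommRing B] [IsRegularLocalRing B] [Algebra k B] [Algebra P B] [IsScalarTower k P B]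
  (hsurj : Function.Surjective (algebraMap P B))
  (hresB : Function.Surjective (algebraMap k (ResidueField B)))
  [Module.Free P Ω[P⁄k]] [Module.Finite P Ω[P⁄k]]

include hsurj hresB in
/-- a regular quotient of a regular local `k`-algebra with finite free differentials, with residue
field `k`, has free differentials -/
theorem free_kaehler_of_regular : Module.Free B Ω[B⁄k] := by
  classical
  let φ : P →ₐ[k] B := IsScalarTower.toAlgHom k P B
  have hφ : Function.Surjective φ := hsurj
  have hresP := residue_surj_of_surjective φ hφ hresB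
  obtain ⟨I, hI⟩ : ∃ I : Ideal P, I = RingHom.ker (algebraMap P B) := ⟨_, rfl⟩
  haveI : IsRegularLocalRing (P ⧸ I) := by
    rw [hI]
    exact IsRegularLocalRing.of_ringEquiv (RingHom.quotientKerEquivOfSurjective hsurj).symm
  obtain ⟨c, k', x, hxm, 𝔟', hIx, h𝔟'⟩ := exists_basis_cot hresP I
  have hxI : ∀ i, algebraMap P B (x i) = 0 := by
    intro i
    have h1 : x i ∈ I := hIx ▸ Ideal.subset_span ⟨i, rfl⟩
    rw [hI] at h1
    exact h1
  have hM : ∀ p ∈ maximalIdeal P, ∀ z : ResidueField B, p • z = 0 := by
    intro p hp z
    have h1 : algebraMap P B p ∈ maximalIdeal B := map_mem_maximalIdeal hresB φ hp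
    rw [← algebraMap_smul B p z]
    exact smul_residueField_eq_zero _ h1 z
  let L : Fin c → (CotangentSpace P →ₗ[k] ResidueField B) := fun j =>
    (Algebra.linearMap k (ResidueField B)).comp (𝔟'.coord (Sum.inl j))
  let Dj : Fin c → Derivation k P (ResidueField B) := fun j => derivOfTau hresP hM (L j)
  have hDj : ∀ j i, Dj j (x i) = if i = j then 1 else 0 := by
    intro j i
    change derivOfTau hresP hM (L j) (x i) = _
    rw [derivOfTau_of_mem hresP hM _ (hxm i), ← h𝔟']
    change algebraMap k (ResidueField B) (𝔟'.coord (Sum.inl j) (𝔟' (Sum.inl i))) = _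
    rw [Module.Basis.coord_apply, Module.Basis.repr_self, Finsupp.single_apply]
    by_cases hij : i = j
    · rw [if_pos (by rw [hij]), if_pos hij, map_one]
    · rw [if_neg (fun h => hij (Sum.inl.inj h)), if_neg hij, map_zero]
  let F : Fin c → (ResidueField B ⊗[B] (B ⊗[P] Ω[P⁄k]) →ₗ[ResidueField B] ResidueField B) :=
    fun j => LinearMap.liftBaseChange (ResidueField B)
      (LinearMap.liftBaseChange B (Dj j).liftKaehlerDifferential)
  let f : (Fin c → B) →ₗ[B] B ⊗[P] Ω[P⁄k] :=
    (Pi.basisFun B (Fin c)).constr B (fun i => (1 : B) ⊗ₜ[P] KaehlerDifferential.D k P (x i))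
  have hf_apply : ∀ v, f v = ∑ i, v i • ((1 : B) ⊗ₜ[P] KaehlerDifferential.D k P (x i)) := by
    intro v
    change (Pi.basisFun B (Fin c)).constr B _ v = _
    rw [Module.Basis.constr_apply_fintype]
    refine Finset.sum_congr rfl fun i _ => ?_
    rw [Pi.basisFun_equivFun]
    rfl
  have hexact : Function.Exact f (KaehlerDifferential.mapBaseChange k P B) := by
    intro w
    constructor
    · intro hw
      obtain ⟨z, rfl⟩ :=
        (KaehlerDifferential.exact_kerCotangentToTensor_mapBaseChange k P B hsurj w).mp hw
      obtain ⟨⟨y, hy⟩, rfl⟩ := Ideal.toCotangent_surjective _ z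
      have hy' : y ∈ Ideal.span (Set.range x) := by rw [← hIx, hI]; exact hy
      obtain ⟨a, ha⟩ := (Ideal.mem_span_range_iff_exists_fun).mp hy'
      refine ⟨fun i => algebraMap P B (a i), ?_⟩
      rw [hf_apply, KaehlerDifferential.kerCotangentToTensor_toCotangent]
      change _ = (1 : B) ⊗ₜ[P] KaehlerDifferential.D k P y
      rw [← ha, map_sum, TensorProduct.tmul_sum]
      refine Finset.sum_congr rfl fun i _ => ?_
      rw [Derivation.leibniz, TensorProduct.tmul_add, TensorProduct.tmul_smul,
        TensorProduct.tmul_smul, ← algebraMap_smul B (x i), hxI, zero_smul, add_zero,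
        algebraMap_smul]
    · rintro ⟨v, rfl⟩
      rw [hf_apply, map_sum]
      refine Finset.sum_eq_zero fun i _ => ?_
      rw [map_smul, KaehlerDifferential.mapBaseChange_tmul, one_smul, KaehlerDifferential.map_D,
        hxI, map_zero, smul_zero]
  have hFf : ∀ (j : Fin c) (cc : ResidueField B) (v : Fin c → B),
      F j (cc ⊗ₜ[B] f v) = v j • cc := by
    intro j cc v
    change LinearMap.liftBaseChange (ResidueField B)
      (LinearMap.liftBaseChange B (Dj j).liftKaehlerDifferential) (cc ⊗ₜ[B] f v) = _
    rw [LinearMap.liftBaseChange_tmul, hf_apply, map_sum]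
    have h1 : ∀ i, (LinearMap.liftBaseChange B (Dj j).liftKaehlerDifferential)
        (v i • ((1 : B) ⊗ₜ[P] KaehlerDifferential.D k P (x i))) =
        if i = j then v i • (1 : ResidueField B) else 0 := by
      intro i
      rw [map_smul, LinearMap.liftBaseChange_tmul, one_smul,
        Derivation.liftKaehlerDifferential_comp_D, hDj]
      split_ifs
      · rfl
      · rw [smul_zero]
    simp_rw [h1]
    rw [Finset.sum_ite_eq' Finset.univ j, if_pos (Finset.mem_univ j), smul_eq_mul,
      Algebra.smul_def, Algebra.smul_def, mul_one, mul_comm]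
  let G : ResidueField B ⊗[B] (B ⊗[P] Ω[P⁄k]) → ResidueField B ⊗[B] (Fin c → B) :=
    fun w => ∑ j, (F j w) ⊗ₜ[B] (Pi.single j (1 : B))
  have hG_add : ∀ w w', G (w + w') = G w + G w' := by
    intro w w'
    change ∑ j, (F j (w + w')) ⊗ₜ[B] (Pi.single j (1 : B)) = _
    simp_rw [map_add, TensorProduct.add_tmul]
    rw [Finset.sum_add_distrib]
  have hG0 : G 0 = 0 := by
    change ∑ j, (F j 0) ⊗ₜ[B] (Pi.single j (1 : B)) = 0
    simp
  have hleft : ∀ z, G (f.lTensor (ResidueField B) z) = z := by
    intro z
    induction z using TensorProduct.induction_on with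
    | zero => rw [map_zero, hG0]
    | tmul cc v =>
      rw [LinearMap.lTensor_tmul]
      change ∑ j, (F j (cc ⊗ₜ[B] f v)) ⊗ₜ[B] (Pi.single j (1 : B)) = _
      simp_rw [hFf]
      have hv : v = ∑ j, v j • (Pi.single j (1 : B) : Fin c → B) := by
        funext i
        simp [Finset.sum_apply, Pi.single_apply]
      conv_rhs => rw [hv, TensorProduct.tmul_sum]
      refine Finset.sum_congr rfl fun j _ => ?_
      rw [TensorProduct.smul_tmul]
    | add z z' hz hz' => rw [map_add, hG_add, hz, hz']
  have hinj : Function.Injective (f.lTensor (ResidueField B)) :=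
    Function.LeftInverse.injective hleft
  exact Module.free_of_lTensor_residueField_injective f (KaehlerDifferential.mapBaseChange k P B)
    (KaehlerDifferential.mapBaseChange_surjective k P B hsurj) hexact hinj

end free

end Groth.Agent.H61.KPt
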