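/-
Associated primes of a flat local complete intersection are generic points of their fibres
(helper61).

Let `A` be Noetherian, `S = A[x₁,…,xₙ]`, `I ⊆ S` an ideal which is locally generated by `H₁`-regular
sequences and with `S/I` flat over `A`.  Then every associated prime `𝔓` of `S/I` is minimal among
the primes of `S` containing `I` with the same contraction to `A`.
-/
import Groth.Agent.H61.FlatFibre
import Groth.Agent.H61.LciUnmixed

set_option autoImplicit false

namespace Groth.Agent.H61.LciFibreMin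

universe u

open IsLocalRing TensorProduct

/-- In a regular local ring, if the quotient by an `H₁`-regular sequence has depth `0`, then it has
dimension `0`: every prime containing the sequence is the maximal ideal. -/
theorem eq_maximalIdeal_of_h1Regular {L : Type u} [CommRing L] [IsRegularLocalRing L] {c : ℕ}
    (h : Fin c → L) (hH1 : CAlgX.IsH1Regular h) (hmem : ∀ i, h i ∈ maximalIdeal L)
    (w : L) (hw : w ∉ Ideal.span (Set.range h))
    (hann : ∀ y ∈ maximalIdeal L, y * w ∈ Ideal.span (Set.range h))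
    (𝔔 : Ideal L) [h𝔔p : 𝔔.IsPrime] (h𝔔 : Ideal.span (Set.range h) ≤ 𝔔) : 𝔔 = maximalIdeal L := by
  classical
  have hQR := Groth.Agent.S2103.result h hH1
  have hWR := Groth.Agent.S5803.result L c h
    (fun i => by rw [← Ideal.jacobson_bot, IsLocalRing.jacobson_eq_maximalIdeal _ bot_ne_top]; exact hmem i) hQR
  have hCM0 := Groth.Agent.H61.LciUnmixed.isCM_of_isRegularLocalRing L
  have hxs : ∀ x ∈ List.ofFn h, x ∈ maximalIdeal L := by
    intro x hx
    obtain ⟨i, rfl⟩ := (List.mem_ofFn' h x).mp hx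
    exact hmem i
  have hCM := (Groth.Agent.S5758.result L L hCM0 (List.ofFn h) hxs).2 hWR
  have hofList : Ideal.ofList (List.ofFn h) = Ideal.span (Set.range h) := by
    rw [Ideal.ofList]
    congr 1
    ext x
    simp only [Set.mem_ofPred_eq, Set.mem_range]
    exact List.mem_ofFn' h x
  have hsub : Ideal.ofList (List.ofFn h) • (⊤ : Submodule L L) = Ideal.span (Set.range h) := by
    rw [hofList, smul_eq_mul, Ideal.mul_top]
  -- the maximal ideal is an associated prime
  have hass : maximalIdeal L ∈ associatedPrimes L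
      (L ⧸ Ideal.ofList (List.ofFn h) • (⊤ : Submodule L L)) := by
    refine (isAssociatedPrime_iff (M := L ⧸ Ideal.ofList (List.ofFn h) • (⊤ : Submodule L L))).mpr
      ⟨inferInstance, Submodule.Quotient.mk w, ?_⟩
    have hmk : ∀ a : L, a ∈ (⊥ : Submodule L (L ⧸ Ideal.ofList (List.ofFn h) • (⊤ : Submodule L L))).colon
        {Submodule.Quotient.mk w} ↔ a * w ∈ Ideal.span (Set.range h) := by
      intro a
      rw [Submodule.mem_colon_singleton, Submodule.mem_bot, ← Submodule.Quotient.mk_smul,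
        Submodule.Quotient.mk_eq_zero, hsub, smul_eq_mul]
    apply le_antisymm
    · intro a ha
      exact (hmk a).mpr (hann a ha)
    · apply IsLocalRing.le_maximalIdeal
      intro htop
      have h1 : (1 : L) ∈ (⊥ : Submodule L (L ⧸ Ideal.ofList (List.ofFn h) • (⊤ : Submodule L L))).colon
          {Submodule.Quotient.mk w} := by rw [htop]; exact Submodule.mem_top
      rw [hmk, one_mul] at h1
      exact hw h1
  have hdim := Groth.Agent.H29.CM.ringKrullDim_quotient_eq_supportDim_of_isCM hCM hass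
  letI : Field (L ⧸ maximalIdeal L) := Ideal.Quotient.field _
  rw [ringKrullDim_eq_zero_of_field] at hdim
  have hsupp := support_of_supportDim_eq_zero (dim := hdim.symm)
  have hsuppL : Module.support L L = Set.univ := by
    rw [Module.support_of_algebra, Algebra.algebraMap_self,
      (RingHom.injective_iff_ker_eq_bot _).mp Function.injective_id, Submodule.bot_coe,
      PrimeSpectrum.zeroLocus_singleton_zero]
  rw [Module.support_quotient, hsuppL, Set.univ_inter] at hsupp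
  have hmemz : (⟨𝔔, h𝔔p⟩ : PrimeSpectrum L) ∈ PrimeSpectrum.zeroLocus
      ((Ideal.ofList (List.ofFn h) : Ideal L) : Set L) := by
    rw [PrimeSpectrum.mem_zeroLocus, hofList]
    exact h𝔔
  rw [hsupp, PrimeSpectrum.mem_zeroLocus] at hmemz
  exact le_antisymm (IsLocalRing.le_maximalIdeal h𝔔p.ne_top) hmemz

/-- localized form of `FlatFibre.mem_mul_of_flat` -/
lemma mem_mul_map_of_flat {A S : Type u} [CommRing A] [CommRing S] [Algebra A S] (I : Ideal S)
    [Module.Flat A (S ⧸ I)] (𝔮 : Ideal A)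
    (M : Submonoid S) (T : Type u) [CommRing T] [Algebra S T] [IsLocalization M T]
    (x : T) (hxI : x ∈ I.map (algebraMap S T))
    (hxq : x ∈ (𝔮.map (algebraMap A S)).map (algebraMap S T)) :
    x ∈ (𝔮.map (algebraMap A S)).map (algebraMap S T) * I.map (algebraMap S T) := by
  obtain ⟨⟨a, u⟩, ha⟩ := (IsLocalization.mem_map_algebraMap_iff M T).mp hxq
  obtain ⟨⟨b, v⟩, hb⟩ := (IsLocalization.mem_map_algebraMap_iff M T).mp hxI
  simp only at ha hb
  have h1 : algebraMap S T ((a : S) * v) = algebraMap S T ((b : S) * u) := by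
    rw [map_mul, map_mul, ← ha, ← hb]
    ring
  obtain ⟨w, hw⟩ := (IsLocalization.eq_iff_exists M T).mp h1
  have hy1 : (w : S) * ((a : S) * v) ∈ 𝔮.map (algebraMap A S) :=
    Ideal.mul_mem_left _ _ (Ideal.mul_mem_right _ _ a.2)
  have hy2 : (w : S) * ((a : S) * v) ∈ I := by
    rw [hw]
    exact Ideal.mul_mem_left _ _ (Ideal.mul_mem_right _ _ b.2)
  have hy := Groth.Agent.H61.FlatFibre.mem_mul_of_flat I 𝔮 _ hy2 hy1
  have hy' : algebraMap S T ((w : S) * ((a : S) * v)) ∈
      (𝔮.map (algebraMap A S)).map (algebraMap S T) * I.map (algebraMap S T) := by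
    rw [← Ideal.map_mul]
    exact Ideal.mem_map_of_mem _ hy
  have hunit : IsUnit (algebraMap S T ((u : S) * v * w)) :=
    IsLocalization.map_units T (u * v * w)
  rw [← Ideal.mul_unit_mem_iff_mem _ hunit]
  have : x * algebraMap S T ((u : S) * v * w) = algebraMap S T ((w : S) * ((a : S) * v)) := by
    rw [map_mul, map_mul, ← mul_assoc, ← mul_assoc, ha, map_mul, map_mul]
    ring
  rw [this]
  exact hy'

variable {A : Type u} [CommRing A] [IsNoetherianRing A] {n : ℕ}

instance fibreReg (𝔮 : Ideal A) [𝔮.IsPrime] : IsRegularRing (𝔮.Fiber (MvPolynomial (Fin n) A)) :=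
  IsRegularRing.of_ringEquiv
    (MvPolynomial.algebraTensorAlgEquiv (R := A) (σ := Fin n) (A := 𝔮.ResidueField)).symm.toRingEquiv

/-- The local ring of a fibre of `Spec A[x] → Spec A` is regular. -/
theorem isRegularLocalRing_fibre (𝔮 : Ideal A) [𝔮.IsPrime] (𝔓 : Ideal (MvPolynomial (Fin n) A)) [𝔓.IsPrime]
    (h : 𝔓.comap (algebraMap A (MvPolynomial (Fin n) A)) = 𝔮) :
    IsRegularLocalRing (Localization.AtPrime 𝔓 ⧸
      (𝔮.map (algebraMap A (MvPolynomial (Fin n) A))).map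
        (algebraMap (MvPolynomial (Fin n) A) (Localization.AtPrime 𝔓))) := by
  have hlies : 𝔓.LiesOver 𝔮 := ⟨h.symm⟩
  let q0 := PrimeSpectrum.primesOverOrderIsoFiber A (MvPolynomial (Fin n) A) 𝔮 ⟨𝔓, ⟨inferInstance, hlies⟩⟩
  have hq0 : q0.asIdeal.comap (Algebra.TensorProduct.includeRight :
      MvPolynomial (Fin n) A →ₐ[A] 𝔮.Fiber (MvPolynomial (Fin n) A)) = 𝔓 := by
    have := (PrimeSpectrum.primesOverOrderIsoFiber A (MvPolynomial (Fin n) A) 𝔮).symm_apply_apply
      ⟨𝔓, ⟨inferInstance, hlies⟩⟩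
    exact congrArg Subtype.val this
  obtain ⟨q, hq, rfl⟩ : ∃ q : Ideal (𝔮.Fiber (MvPolynomial (Fin n) A)), ∃ _ : q.IsPrime,
      q.comap (Algebra.TensorProduct.includeRight :
        MvPolynomial (Fin n) A →ₐ[A] 𝔮.Fiber (MvPolynomial (Fin n) A)) = 𝔓 :=
    ⟨q0.asIdeal, q0.2, hq0⟩
  exact IsRegularLocalRing.of_ringEquiv (R := Localization.AtPrime q)
    (Ideal.Fiber.algEquivAux₂ 𝔮 q).toRingEquiv

/-- **Associated primes of a flat local complete intersection are generic in their fibres.** -/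
theorem eq_of_mem_associatedPrimes (I : Ideal (MvPolynomial (Fin n) A))
    [Module.Flat A (MvPolynomial (Fin n) A ⧸ I)]
    (hloc : ∀ (𝔓 : Ideal (MvPolynomial (Fin n) A)) [𝔓.IsPrime], I ≤ 𝔓 →
      ∃ (c : ℕ) (h : Fin c → Localization.AtPrime 𝔓), CAlgX.IsH1Regular h ∧
        I.map (algebraMap (MvPolynomial (Fin n) A) (Localization.AtPrime 𝔓)) = Ideal.span (Set.range h))
    (𝔓 : Ideal (MvPolynomial (Fin n) A))
    (h𝔓a : 𝔓 ∈ associatedPrimes (MvPolynomial (Fin n) A) (MvPolynomial (Fin n) A ⧸ I))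
    (𝔔 : Ideal (MvPolynomial (Fin n) A)) [h𝔔 : 𝔔.IsPrime] (hI𝔔 : I ≤ 𝔔) (h𝔔𝔓 : 𝔔 ≤ 𝔓)
    (hcomapA : 𝔔.comap (algebraMap A (MvPolynomial (Fin n) A)) =
      𝔓.comap (algebraMap A (MvPolynomial (Fin n) A))) : 𝔔 = 𝔓 := by
  classical
  haveI h𝔓 : 𝔓.IsPrime := h𝔓a.isPrime
  obtain ⟨-, m, hm⟩ := (isAssociatedPrime_iff (M := MvPolynomial (Fin n) A ⧸ I)).mp h𝔓a
  have hI𝔓 : I ≤ 𝔓 := hI𝔔.trans h𝔔𝔓
  set π := Ideal.Quotient.mk I with hπ
  have hπs : Function.Surjective π := Ideal.Quotient.mk_surjective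
  set 𝔭' : Ideal (MvPolynomial (Fin n) A ⧸ I) := 𝔓.map π with h𝔭'
  have hker : RingHom.ker π ≤ 𝔓 := by rw [hπ, Ideal.mk_ker]; exact hI𝔓
  haveI h𝔭'p : 𝔭'.IsPrime := Ideal.map_isPrime_of_surjective hπs hker
  have hcomap : 𝔓 = 𝔭'.comap π := by
    rw [h𝔭', Ideal.comap_map_of_surjective' π hπs]
    exact (sup_eq_left.mpr hker).symm
  set 𝔮 : Ideal A := 𝔓.comap (algebraMap A (MvPolynomial (Fin n) A)) with h𝔮
  haveI : 𝔮.IsPrime := Ideal.comap_isPrime _ _
  haveI hlies : 𝔭'.LiesOver 𝔮 := by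
    refine ⟨?_⟩
    rw [Ideal.under_def, h𝔮, hcomap, Ideal.comap_comap]
    rfl
  letI algRB : Algebra (Localization.AtPrime 𝔮) (Localization.AtPrime 𝔭') :=
    Localization.AtPrime.algebraOfLiesOver 𝔮 𝔭'
  haveI : Module.Flat (Localization.AtPrime 𝔮) (Localization.AtPrime 𝔭') := inferInstance
  haveI : IsScalarTower A (Localization.AtPrime 𝔮) (Localization.AtPrime 𝔭') := inferInstance
  haveI : IsLocalHom (algebraMap (Localization.AtPrime 𝔮) (Localization.AtPrime 𝔭')) := by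
    rw [Localization.AtPrime.IsLiesOverAlgebra.algebraMap_eq (p := 𝔮) (P := 𝔭')]
    infer_instance
  set ρ : Localization.AtPrime 𝔓 →+* Localization.AtPrime 𝔭' :=
    Localization.localRingHom 𝔓 𝔭' π hcomap with hρ
  have hT : Submonoid.map π 𝔓.primeCompl = 𝔭'.primeCompl := by
    ext x
    constructor
    · rintro ⟨a, ha, rfl⟩ hmem
      apply ha
      rw [hcomap]
      exact hmem
    · intro hx
      obtain ⟨a, rfl⟩ := hπs x
      refine ⟨a, fun ha => hx (Ideal.mem_map_of_mem _ ha), rfl⟩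
  have hρs : Function.Surjective ρ := by
    intro b
    obtain ⟨p, u, rfl⟩ := IsLocalization.exists_mk'_eq 𝔭'.primeCompl b
    obtain ⟨p', rfl⟩ := hπs p
    obtain ⟨u', hu'1, hu'2⟩ : (u : MvPolynomial (Fin n) A ⧸ I) ∈ Submonoid.map π 𝔓.primeCompl := by
      rw [hT]; exact u.2
    refine ⟨IsLocalization.mk' _ p' ⟨u', hu'1⟩, ?_⟩
    rw [hρ, Localization.localRingHom_mk']
    congr 1
    exact Subtype.ext hu'2
  have hρker : RingHom.ker ρ = I.map (algebraMap _ (Localization.AtPrime 𝔓)) := by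
    have := IsLocalization.ker_map (S := Localization.AtPrime 𝔓) (Localization.AtPrime 𝔭') π hT
    rw [Ideal.mk_ker] at this
    exact this
  -- the socle element
  set z : Localization.AtPrime 𝔭' := algebraMap _ _ m with hz
  have hmem𝔓 : ∀ a : MvPolynomial (Fin n) A, a ∈ 𝔓 ↔ π a * m = 0 := by
    intro a
    rw [hm, Submodule.mem_colon_singleton, Submodule.mem_bot]
    obtain ⟨m', rfl⟩ := hπs m
    rw [← map_mul]
    rfl
  have hz0 : z ≠ 0 := by
    intro h0
    obtain ⟨u, hu⟩ := (IsLocalization.map_eq_zero_iff 𝔭'.primeCompl _ _).mp h0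
    obtain ⟨u', hu'⟩ := hπs u.1
    have : u' ∈ 𝔓 := by rw [hmem𝔓, hu']; exact hu
    exact u.2 (hu' ▸ Ideal.mem_map_of_mem π this)
  have hzann : ∀ y ∈ maximalIdeal (Localization.AtPrime 𝔭'), y * z = 0 := by
    intro y hy
    obtain ⟨a, s, rfl⟩ := IsLocalization.exists_mk'_eq 𝔭'.primeCompl y
    rw [IsLocalization.AtPrime.mk'_mem_maximal_iff (Localization.AtPrime 𝔭') 𝔭'] at hy
    obtain ⟨a', rfl⟩ := hπs a
    have ha' : a' ∈ 𝔓 := by rw [hcomap]; exact hy
    have h1 : π a' * m = 0 := (hmem𝔓 a').mp ha'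
    have h2 : IsLocalization.mk' (Localization.AtPrime 𝔭') (π a') s * z =
        IsLocalization.mk' (Localization.AtPrime 𝔭') (π a' * m) s := by
      rw [hz, mul_comm, mul_comm (π a'), IsLocalization.mul_mk'_eq_mk'_of_mul]
    rw [h2, h1, IsLocalization.mk'_zero]
  -- Krull's intersection theorem
  have hmapmax : (maximalIdeal (Localization.AtPrime 𝔮)).map
      (algebraMap (Localization.AtPrime 𝔮) (Localization.AtPrime 𝔭')) ≤
      maximalIdeal (Localization.AtPrime 𝔭') :=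
    ((local_hom_TFAE (algebraMap (Localization.AtPrime 𝔮) (Localization.AtPrime 𝔭'))).out 0 2 rfl rfl).mp
      inferInstance
  have hkrull : ∃ k, z ∉ (maximalIdeal (Localization.AtPrime 𝔮) ^ k) •
      (⊤ : Submodule (Localization.AtPrime 𝔮) (Localization.AtPrime 𝔭')) := by
    have hinf := Ideal.iInf_pow_eq_bot_of_isLocalRing (R := Localization.AtPrime 𝔭')
      (maximalIdeal (Localization.AtPrime 𝔭')) (Ideal.IsPrime.ne_top inferInstance)
    by_contra hcon
    push Not at hcon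
    apply hz0
    have : z ∈ ⨅ i, maximalIdeal (Localization.AtPrime 𝔭') ^ i := by
      rw [Ideal.mem_iInf]
      intro k
      have hk := hcon k
      rw [Ideal.smul_top_eq_map] at hk
      have hk' : z ∈ (maximalIdeal (Localization.AtPrime 𝔮) ^ k).map
          (algebraMap (Localization.AtPrime 𝔮) (Localization.AtPrime 𝔭')) := hk
      rw [Ideal.map_pow] at hk'
      exact Ideal.pow_right_mono hmapmax k hk'
    rw [hinf] at this
    exact this
  obtain ⟨k, hk⟩ := hkrull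
  obtain ⟨w, hw, hwφ⟩ := Groth.Agent.H61.FlatFibre.exists_not_mem_smul_top
    (R := Localization.AtPrime 𝔮) (M := Localization.AtPrime 𝔭') z k hk
  -- the fibre ring
  obtain ⟨c, h, hH1, hspan⟩ := hloc 𝔓 hI𝔓
  set IT : Ideal (Localization.AtPrime 𝔓) :=
    I.map (algebraMap (MvPolynomial (Fin n) A) (Localization.AtPrime 𝔓)) with hIT
  set 𝔮T : Ideal (Localization.AtPrime 𝔓) :=
    (𝔮.map (algebraMap A (MvPolynomial (Fin n) A))).map
      (algebraMap (MvPolynomial (Fin n) A) (Localization.AtPrime 𝔓)) with h𝔮T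
  haveI hreg : IsRegularLocalRing (Localization.AtPrime 𝔓 ⧸ 𝔮T) := isRegularLocalRing_fibre 𝔮 𝔓 rfl
  set φ : Localization.AtPrime 𝔓 →+* Localization.AtPrime 𝔓 ⧸ 𝔮T := Ideal.Quotient.mk 𝔮T with hφ
  have hφs : Function.Surjective φ := Ideal.Quotient.mk_surjective
  have hφker : RingHom.ker φ = 𝔮T := Ideal.mk_ker
  haveI : IsLocalHom φ := IsLocalHom.of_surjective (R := Localization.AtPrime 𝔓) (S := Localization.AtPrime 𝔓 ⧸ 𝔮T) φ hφs
  have hH1' : CAlgX.IsH1Regular (fun i => φ (h i)) := by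
    refine Groth.Agent.H61.FlatFibre.isH1Regular_map_of_surjective (T := Localization.AtPrime 𝔓)
      (L := Localization.AtPrime 𝔓 ⧸ 𝔮T) φ hφs h hH1 ?_
    intro x hx hx0
    rw [hφker, ← hspan]
    rw [← hspan] at hx
    exact mem_mul_map_of_flat I 𝔮 𝔓.primeCompl (Localization.AtPrime 𝔓) x hx
      (by rw [← RingHom.mem_ker, hφker] at hx0; exact hx0)
  have hspan' : Ideal.span (Set.range (fun i => φ (h i))) = IT.map φ := by
    rw [hspan, Ideal.map_span, ← Set.range_comp]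
    rfl
  -- comparison of the two quotients
  have hmaxR : maximalIdeal (Localization.AtPrime 𝔮) = 𝔮.map (algebraMap A (Localization.AtPrime 𝔮)) :=
    (Localization.AtPrime.map_eq_maximalIdeal).symm
  have hmapeq : (maximalIdeal (Localization.AtPrime 𝔮)).map
      (algebraMap (Localization.AtPrime 𝔮) (Localization.AtPrime 𝔭')) = 𝔮T.map ρ := by
    rw [hmaxR, Ideal.map_map, h𝔮T, Ideal.map_map, Ideal.map_map]
    congr 1
    refine RingHom.ext fun a => ?_
    simp only [RingHom.comp_apply]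
    rw [← IsScalarTower.algebraMap_apply A (Localization.AtPrime 𝔮) (Localization.AtPrime 𝔭'), hρ,
      Localization.localRingHom_to_map,
      IsScalarTower.algebraMap_apply A (MvPolynomial (Fin n) A ⧸ I) (Localization.AtPrime 𝔭')]
    rfl
  have hsmul : ∀ b : Localization.AtPrime 𝔭', b ∈ (maximalIdeal (Localization.AtPrime 𝔮)) •
      (⊤ : Submodule (Localization.AtPrime 𝔮) (Localization.AtPrime 𝔭')) ↔ b ∈ 𝔮T.map ρ := by
    intro b
    rw [Ideal.smul_top_eq_map, ← hmapeq]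
    rfl
  have hmemsup : ∀ t : Localization.AtPrime 𝔓, ρ t ∈ 𝔮T.map ρ ↔ t ∈ 𝔮T ⊔ IT := by
    intro t
    rw [← Ideal.mem_comap, Ideal.comap_map_of_surjective' ρ hρs]
    change t ∈ 𝔮T ⊔ Ideal.comap ρ ⊥ ↔ _
    rw [← RingHom.ker_eq_comap_bot, hρker]
  have hφI : ∀ t : Localization.AtPrime 𝔓, t ∈ 𝔮T ⊔ IT ↔
      φ t ∈ Ideal.span (Set.range (fun i => φ (h i))) := by
    intro t
    rw [hspan', ← Ideal.mem_comap, Ideal.comap_map_of_surjective' φ hφs]
    change _ ↔ t ∈ IT ⊔ Ideal.comap φ ⊥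
    rw [← RingHom.ker_eq_comap_bot, hφker, sup_comm]
  obtain ⟨w', rfl⟩ := hρs w
  have hw' : φ w' ∉ Ideal.span (Set.range (fun i => φ (h i))) := by
    intro hcon
    exact hw ((hsmul _).mpr ((hmemsup w').mpr ((hφI w').mpr hcon)))
  have hmaxT : ∀ y : Localization.AtPrime 𝔓, φ y ∈ maximalIdeal (Localization.AtPrime 𝔓 ⧸ 𝔮T) →
      y ∈ maximalIdeal (Localization.AtPrime 𝔓) := by
    intro y hy
    rw [mem_maximalIdeal, mem_nonunits_iff] at hy ⊢
    exact fun hu => hy (hu.map φ)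
  have hann : ∀ y ∈ maximalIdeal (Localization.AtPrime 𝔓 ⧸ 𝔮T),
      y * φ w' ∈ Ideal.span (Set.range (fun i => φ (h i))) := by
    intro y hy
    obtain ⟨y, rfl⟩ := hφs y
    have hyT := hmaxT y hy
    have hyB : ρ y ∈ maximalIdeal (Localization.AtPrime 𝔭') := by
      rw [mem_maximalIdeal, mem_nonunits_iff] at hyT ⊢
      exact fun hu => hyT (isUnit_of_map_unit ρ y hu)
    have h1 := hzann (ρ y) hyB
    have h2 := hwφ (LinearMap.mulLeft (Localization.AtPrime 𝔮) (ρ y))
      (by rw [LinearMap.mulLeft_apply]; exact h1)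
    rw [LinearMap.mulLeft_apply, ← map_mul, hsmul, hmemsup, hφI, map_mul] at h2
    exact h2
  have hmem' : ∀ i, φ (h i) ∈ maximalIdeal (Localization.AtPrime 𝔓 ⧸ 𝔮T) := by
    intro i
    have hi : h i ∈ maximalIdeal (Localization.AtPrime 𝔓) := by
      rw [← Localization.AtPrime.map_eq_maximalIdeal (I := 𝔓)]
      have hiIT : h i ∈ IT := by rw [hspan]; exact Ideal.subset_span ⟨i, rfl⟩
      exact Ideal.map_mono hI𝔓 hiIT
    rw [mem_maximalIdeal, mem_nonunits_iff] at hi ⊢
    exact fun hu => hi (isUnit_of_map_unit φ (h i) hu)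
  -- the prime `𝔔`
  have hdisj : Disjoint (𝔓.primeCompl : Set (MvPolynomial (Fin n) A)) (𝔔 : Set (MvPolynomial (Fin n) A)) := by
    rw [Set.disjoint_left]
    intro x hx hx𝔔
    exact hx (h𝔔𝔓 hx𝔔)
  set 𝔔T : Ideal (Localization.AtPrime 𝔓) :=
    𝔔.map (algebraMap (MvPolynomial (Fin n) A) (Localization.AtPrime 𝔓)) with h𝔔T
  haveI h𝔔Tp : 𝔔T.IsPrime :=
    IsLocalization.isPrime_of_isPrime_disjoint 𝔓.primeCompl _ 𝔔 h𝔔 hdisj
  have h𝔮T𝔔T : 𝔮T ≤ 𝔔T := by
    rw [h𝔮T, h𝔔T]
    refine Ideal.map_mono (Ideal.map_le_iff_le_comap.mpr ?_)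
    rw [hcomapA]
  have hkerφ𝔔 : RingHom.ker φ ≤ 𝔔T := by rw [hφker]; exact h𝔮T𝔔T
  haveI h𝔔bar : (𝔔T.map φ).IsPrime := Ideal.map_isPrime_of_surjective hφs hkerφ𝔔
  have hle𝔔bar : Ideal.span (Set.range (fun i => φ (h i))) ≤ 𝔔T.map φ := by
    rw [hspan']
    exact Ideal.map_mono (Ideal.map_mono hI𝔔)
  have heq := eq_maximalIdeal_of_h1Regular (fun i => φ (h i)) hH1' hmem' (φ w') hw' hann
    (𝔔T.map φ) hle𝔔bar
  -- conclude
  have hmaxle : maximalIdeal (Localization.AtPrime 𝔓) ≤ 𝔔T := by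
    intro x hx
    have hx' : φ x ∈ maximalIdeal (Localization.AtPrime 𝔓 ⧸ 𝔮T) := by
      rw [mem_maximalIdeal, mem_nonunits_iff] at hx ⊢
      exact fun hu => hx (isUnit_of_map_unit φ x hu)
    rw [← heq, ← Ideal.mem_comap, Ideal.comap_map_of_surjective' φ hφs] at hx'
    have : 𝔔T ⊔ RingHom.ker φ = 𝔔T := by
      rw [sup_eq_left]
      exact hkerφ𝔔
    rw [this] at hx'
    exact hx'
  have h1 := IsLocalization.under_map_of_isPrime_disjoint 𝔓.primeCompl (Localization.AtPrime 𝔓) h𝔔 hdisj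
  refine le_antisymm h𝔔𝔓 ?_
  have h2 : (maximalIdeal (Localization.AtPrime 𝔓)).under (MvPolynomial (Fin n) A) = 𝔓 :=
    Localization.AtPrime.under_maximalIdeal
  rw [← h2, ← h1]
  exact Ideal.comap_mono hmaxle

end Groth.Agent.H61.LciFibreMin
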