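/-
Core lemma for the vanishing of `H₁` of the naive cotangent complex of flat local complete
intersections (helper61).

* `mem_sq_of_mul_mem_sq'`: if `I` is locally (at primes) generated by `H₁`-regular sequences and `s`
  is a non-zero-divisor modulo `I`, then `s` is a non-zero-divisor on `I/I²`.
* `mem_sq_of_fibre_generic`: `A` Noetherian, `I ⊆ A[x₁,…,xₙ]` locally `H₁`-regular with `A[x]/I` flat
  over `A`; if `y ∈ I` lies in `I²` locally at every prime over `I` which is generic in its fibre over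
  `A`, then `y ∈ I²`.
-/
import Groth.Agent.H61.LciFibreMin

set_option autoImplicit false

namespace Groth.Agent.H61.LciCore

universe u

/-- the colon criterion, with local `H₁`-regular data at primes -/
theorem mem_sq_of_mul_mem_sq' {P : Type u} [CommRing P] (I : Ideal P)
    (hloc : ∀ (𝔓 : Ideal P) [𝔓.IsPrime], I ≤ 𝔓 →
      ∃ (c : ℕ) (h : Fin c → Localization.AtPrime 𝔓), CAlgX.IsH1Regular h ∧
        I.map (algebraMap P (Localization.AtPrime 𝔓)) = Ideal.span (Set.range h))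
    (s y : P) (hy : y ∈ I) (hsy : s * y ∈ I ^ 2) (hs : ∀ a, s * a ∈ I → a ∈ I) : y ∈ I ^ 2 := by
  classical
  set C : Ideal P := (I ^ 2).colon {y} with hC
  have hCmem : ∀ t, t ∈ C ↔ t * y ∈ I ^ 2 := fun t => by
    rw [hC, Submodule.mem_colon_singleton, smul_eq_mul]
  suffices h1 : C = ⊤ by
    have : (1 : P) ∈ C := by rw [h1]; exact Submodule.mem_top
    rw [hCmem, one_mul] at this
    exact this
  by_contra hne
  obtain ⟨𝔪, h𝔪, hC𝔪⟩ := Ideal.exists_le_maximal C hne
  haveI := h𝔪.isPrime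
  by_cases hle : I ≤ 𝔪
  · obtain ⟨c, h, hH1, hspan⟩ := hloc 𝔪 hle
    set φ := algebraMap P (Localization.AtPrime 𝔪) with hφ
    have hsJ : ∀ x' : Localization.AtPrime 𝔪, φ s * x' ∈ I.map φ → x' ∈ I.map φ := by
      intro x' hx'
      obtain ⟨x, u, rfl⟩ := IsLocalization.exists_mk'_eq 𝔪.primeCompl x'
      have h2 : φ (s * x) ∈ I.map φ := by
        have : φ (s * x) = φ (u : P) * (φ s * IsLocalization.mk' (Localization.AtPrime 𝔪) x u) := by
          rw [map_mul, mul_left_comm, IsLocalization.mk'_spec']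
        rw [this]
        exact Ideal.mul_mem_left _ _ hx'
      obtain ⟨w, hw, hwx⟩ :=
        (IsLocalization.algebraMap_mem_map_algebraMap_iff 𝔪.primeCompl _ I (s * x)).mp h2
      have h3 : w * x ∈ I := hs _ (by rw [mul_left_comm]; exact hwx)
      exact (IsLocalization.mk'_mem_map_algebraMap_iff 𝔪.primeCompl _ I x u).mpr ⟨w, hw, h3⟩
    have hyJ : φ y ∈ Ideal.span (Set.range h) := by
      rw [← hspan]
      exact Ideal.mem_map_of_mem _ hy
    obtain ⟨a, ha⟩ := Ideal.mem_span_range_iff_exists_fun.mp hyJ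
    have hsum : ∑ i, (φ s * a i) * h i ∈ Ideal.span (Set.range h) ^ 2 := by
      have : ∑ i, (φ s * a i) * h i = φ (s * y) := by
        rw [map_mul, ← ha, Finset.mul_sum]
        exact Finset.sum_congr rfl fun i _ => mul_assoc _ _ _
      rw [this, ← hspan, ← Ideal.map_pow]
      exact Ideal.mem_map_of_mem _ hsy
    have hak : ∀ k, a k ∈ I.map φ := by
      intro k
      apply hsJ
      rw [hspan]
      exact Groth.Agent.S18939.coeff_mem_of_h1 h hH1 (fun i => φ s * a i) hsum k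
    have hy2 : φ y ∈ (I ^ 2).map φ := by
      rw [Ideal.map_pow, ← ha, pow_two]
      refine Ideal.sum_mem _ fun i _ => Ideal.mul_mem_mul (hak i) ?_
      rw [hspan]
      exact Ideal.subset_span ⟨i, rfl⟩
    obtain ⟨w, hw, hwy⟩ :=
      (IsLocalization.algebraMap_mem_map_algebraMap_iff 𝔪.primeCompl _ (I ^ 2) y).mp hy2
    have hwC : w ∈ C := (hCmem w).mpr hwy
    exact hw (hC𝔪 hwC)
  · obtain ⟨t, htI, ht𝔪⟩ := SetLike.not_le_iff_exists.mp hle
    apply ht𝔪
    apply hC𝔪
    rw [hCmem, pow_two]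
    exact Ideal.mul_mem_mul htI hy

variable {A : Type u} [CommRing A] [IsNoetherianRing A] {n : ℕ}

/-- **Core lemma.**  Membership in `I²` can be tested at the primes which are generic in their
fibres. -/
theorem mem_sq_of_fibre_generic (I : Ideal (MvPolynomial (Fin n) A))
    [Module.Flat A (MvPolynomial (Fin n) A ⧸ I)]
    (hloc : ∀ (𝔓 : Ideal (MvPolynomial (Fin n) A)) [𝔓.IsPrime], I ≤ 𝔓 →
      ∃ (c : ℕ) (h : Fin c → Localization.AtPrime 𝔓), CAlgX.IsH1Regular h ∧
        I.map (algebraMap (MvPolynomial (Fin n) A) (Localization.AtPrime 𝔓)) = Ideal.span (Set.range h))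
    (y : MvPolynomial (Fin n) A) (hy : y ∈ I)
    (hgen : ∀ (𝔓 : Ideal (MvPolynomial (Fin n) A)) [𝔓.IsPrime], I ≤ 𝔓 →
      (∀ (𝔔 : Ideal (MvPolynomial (Fin n) A)) [𝔔.IsPrime], I ≤ 𝔔 → 𝔔 ≤ 𝔓 →
        𝔔.comap (algebraMap A (MvPolynomial (Fin n) A)) =
          𝔓.comap (algebraMap A (MvPolynomial (Fin n) A)) → 𝔔 = 𝔓) →
      ∃ c : MvPolynomial (Fin n) A, c ∉ 𝔓 ∧ c * y ∈ I ^ 2) :
    y ∈ I ^ 2 := by
  classical
  set C : Ideal (MvPolynomial (Fin n) A) := (I ^ 2).colon {y} with hC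
  have hCmem : ∀ t, t ∈ C ↔ t * y ∈ I ^ 2 := fun t => by
    rw [hC, Submodule.mem_colon_singleton, smul_eq_mul]
  have hfin : (associatedPrimes (MvPolynomial (Fin n) A) (MvPolynomial (Fin n) A ⧸ I)).Finite :=
    associatedPrimes.finite _ _
  -- an element of `C` outside all associated primes
  obtain ⟨s, hsC, hsmin⟩ : ∃ s : MvPolynomial (Fin n) A, s ∈ C ∧
      ∀ p ∈ associatedPrimes (MvPolynomial (Fin n) A) (MvPolynomial (Fin n) A ⧸ I), s ∉ p := by
    by_contra hcon
    push Not at hcon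
    have hsub : (C : Set (MvPolynomial (Fin n) A)) ⊆
        ⋃ p ∈ (hfin.toFinset : Set (Ideal (MvPolynomial (Fin n) A))), (p : Set (MvPolynomial (Fin n) A)) := by
      intro c hc
      obtain ⟨p, hp, hcp⟩ := hcon c hc
      simp only [Set.mem_iUnion]
      exact ⟨p, by simpa using hp, hcp⟩
    obtain ⟨p, hp, hle⟩ := (Ideal.subset_union_prime (R := MvPolynomial (Fin n) A) (s := hfin.toFinset)
      (f := fun p => p) ⊥ ⊥ (fun p hp _ _ => ((Set.Finite.mem_toFinset hfin).mp hp).isPrime)).mp hsub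
    have hp' := (Set.Finite.mem_toFinset hfin).mp hp
    haveI hpp : p.IsPrime := hp'.isPrime
    have hIp : I ≤ p := by
      obtain ⟨-, m₀, hm₀⟩ := (isAssociatedPrime_iff (M := MvPolynomial (Fin n) A ⧸ I)).mp hp'
      intro a ha
      rw [hm₀, Submodule.mem_colon_singleton, Submodule.mem_bot]
      obtain ⟨b, rfl⟩ := Ideal.Quotient.mk_surjective m₀
      rw [← Ideal.Quotient.mk_eq_mk, ← Submodule.Quotient.mk_smul, Ideal.Quotient.mk_eq_mk,
        Ideal.Quotient.eq_zero_iff_mem, smul_eq_mul]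
      exact Ideal.mul_mem_right _ _ ha
    obtain ⟨c, hcp, hcy⟩ := hgen p hIp (fun 𝔔 _ hI𝔔 h𝔔p hcomap =>
      Groth.Agent.H61.LciFibreMin.eq_of_mem_associatedPrimes I hloc p hp' 𝔔 hI𝔔 h𝔔p hcomap)
    exact hcp (hle ((hCmem c).mpr hcy))
  -- `s` is a non-zero-divisor modulo `I`
  have hnzd : ∀ a, s * a ∈ I → a ∈ I := by
    intro a hsa
    by_contra ha
    have hne : (Ideal.Quotient.mk I a : MvPolynomial (Fin n) A ⧸ I) ≠ 0 := by
      rwa [Ne, Ideal.Quotient.eq_zero_iff_mem]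
    obtain ⟨𝔮, h𝔮, hle⟩ := exists_le_isAssociatedPrime_of_isNoetherianRing
      (MvPolynomial (Fin n) A) _ hne
    have hs𝔮 : s ∈ 𝔮 := by
      apply hle
      rw [Submodule.mem_colon_singleton, Submodule.mem_bot, ← Ideal.Quotient.mk_eq_mk,
        ← Submodule.Quotient.mk_smul, Ideal.Quotient.mk_eq_mk, Ideal.Quotient.eq_zero_iff_mem,
        smul_eq_mul]
      exact hsa
    exact hsmin 𝔮 h𝔮 hs𝔮
  exact mem_sq_of_mul_mem_sq' I hloc s y hy ((hCmem s).mp hsC) hnzd

end Groth.Agent.H61.LciCore
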