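/-
Base change of a flat, locally `H₁`-regular presentation along `A → A/J` (helper61).

`S = A[x₁,…,xₙ]`, `S' = (A/J)[x₁,…,xₙ]`, `σ : S → S'`, `I ⊆ S` with `S/I` flat over `A` and locally
generated by `H₁`-regular sequences; `I' = σ(I)S'`.  Then `S'/I'` is flat over `A/J`, `I'` is locally
generated by `H₁`-regular sequences, and primes of `S'` generic in their fibre over `A/J` pull back to
primes of `S` generic in their fibre over `A`.
-/
import Groth.Agent.H61.LciCore

set_option autoImplicit false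

namespace Groth.Agent.H61.LciBC

universe u

open IsLocalRing

/-- localization of a surjection at a prime: surjective, with the expected kernel -/
lemma localRingHom_surjective_ker {R R' : Type u} [CommRing R] [CommRing R'] (g : R →+* R')
    (hg : Function.Surjective g) (𝔓' : Ideal R') [𝔓'.IsPrime] :
    Function.Surjective (Localization.localRingHom (𝔓'.comap g) 𝔓' g rfl) ∧
      RingHom.ker (Localization.localRingHom (𝔓'.comap g) 𝔓' g rfl) =
        (RingHom.ker g).map (algebraMap R (Localization.AtPrime (𝔓'.comap g))) := by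
  have hT : Submonoid.map g (𝔓'.comap g).primeCompl = 𝔓'.primeCompl := by
    ext x
    constructor
    · rintro ⟨a, ha, rfl⟩ hmem
      exact ha hmem
    · intro hx
      obtain ⟨a, rfl⟩ := hg x
      exact ⟨a, fun ha => hx ha, rfl⟩
  constructor
  · intro b
    obtain ⟨p, u, rfl⟩ := IsLocalization.exists_mk'_eq 𝔓'.primeCompl b
    obtain ⟨p', rfl⟩ := hg p
    obtain ⟨u', hu'1, hu'2⟩ : (u : R') ∈ Submonoid.map g (𝔓'.comap g).primeCompl := by
      rw [hT]; exact u.2
    refine ⟨IsLocalization.mk' _ p' ⟨u', hu'1⟩, ?_⟩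
    rw [Localization.localRingHom_mk']
    congr 1
    exact Subtype.ext hu'2
  · exact IsLocalization.ker_map (S := Localization.AtPrime (𝔓'.comap g)) (Localization.AtPrime 𝔓') g hT

lemma smul_mk' {R S : Type*} [CommRing R] [CommRing S] [Algebra R S] (I : Ideal S) (a : R) (x : S) :
    a • Ideal.Quotient.mk I x = Ideal.Quotient.mk I (algebraMap R S a * x) := by
  rw [map_mul]
  exact Algebra.smul_def a (Ideal.Quotient.mk I x)

variable {A : Type u} [CommRing A] (J : Ideal A) {n : ℕ}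

/-- the reduction map `A[x] → (A/J)[x]` -/
noncomputable def σ : MvPolynomial (Fin n) A →+* MvPolynomial (Fin n) (A ⧸ J) :=
  MvPolynomial.map (Ideal.Quotient.mk J)

lemma σ_surjective : Function.Surjective (σ J (n := n)) :=
  MvPolynomial.map_surjective _ Ideal.Quotient.mk_surjective

lemma ker_σ : RingHom.ker (σ J (n := n)) = J.map (algebraMap A (MvPolynomial (Fin n) A)) := by
  rw [σ, MvPolynomial.ker_map, Ideal.mk_ker]
  rfl

lemma σ_C (a : A) : σ J (n := n) (MvPolynomial.C a) = MvPolynomial.C (Ideal.Quotient.mk J a) :=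
  MvPolynomial.map_C _ _

/-- flatness of the reduction -/
theorem flat_quotient (I : Ideal (MvPolynomial (Fin n) A)) [Module.Flat A (MvPolynomial (Fin n) A ⧸ I)] :
    Module.Flat (A ⧸ J) (MvPolynomial (Fin n) (A ⧸ J) ⧸ I.map (σ J)) := by
  classical
  refine Module.Flat.of_forall_isTrivialRelation ?_
  intro l a' m' hrel
  -- lift everything
  choose a ha using fun i => Ideal.Quotient.mk_surjective (a' i)
  choose m₁ hm₁ using fun i => Ideal.Quotient.mk_surjective (m' i)
  choose m hm using fun i => σ_surjective J (n := n) (m₁ i)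
  have hsum : σ J (∑ i, MvPolynomial.C (a i) * m i) ∈ I.map (σ J) := by
    rw [← Ideal.Quotient.eq_zero_iff_mem, ← hrel, map_sum, map_sum]
    refine Finset.sum_congr rfl fun i _ => ?_
    rw [← hm₁ i, ← hm i, ← ha i, smul_mk', map_mul, σ_C]
    rfl
  rw [← Ideal.mem_comap, Ideal.comap_map_of_surjective' _ (σ_surjective J), Submodule.mem_sup] at hsum
  obtain ⟨e, he, w, hw, hew⟩ := hsum
  have hw' : w ∈ J.map (algebraMap A (MvPolynomial (Fin n) A)) := by
    rw [← ker_σ]; exact hw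
  rw [Ideal.map, Ideal.span, Finsupp.mem_span_image_iff_linearCombination] at hw'
  obtain ⟨c, hc, hcw⟩ := hw'
  rw [Finsupp.linearCombination_apply, Finsupp.sum] at hcw
  -- the relation in `S/I`
  let f : Fin l ⊕ {x // x ∈ c.support} → A := Sum.elim a (fun k => -(k.1 : A))
  let x : Fin l ⊕ {x // x ∈ c.support} → MvPolynomial (Fin n) A ⧸ I :=
    Sum.elim (fun i => Ideal.Quotient.mk I (m i)) (fun k => Ideal.Quotient.mk I (c k.1))
  have hrel2 : ∑ i, f i • x i = 0 := by
    rw [Fintype.sum_sum_type]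
    simp only [f, x, Sum.elim_inl, Sum.elim_inr]
    have h1 : ∑ i, a i • Ideal.Quotient.mk I (m i) =
        Ideal.Quotient.mk I (∑ i, MvPolynomial.C (a i) * m i) := by
      rw [map_sum]
      refine Finset.sum_congr rfl fun i _ => ?_
      rw [smul_mk']
      rfl
    have h2 : ∑ k : {x // x ∈ c.support}, (-(k.1 : A)) • Ideal.Quotient.mk I (c k.1) =
        - Ideal.Quotient.mk I w := by
      rw [← hcw, map_sum, ← Finset.sum_coe_sort c.support, ← Finset.sum_neg_distrib]
      refine Finset.sum_congr rfl fun k _ => ?_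
      rw [neg_smul, smul_mk', smul_eq_mul, mul_comm]
    rw [h1, h2, ← hew, map_add, Ideal.Quotient.eq_zero_iff_mem.mpr he, zero_add, add_neg_cancel]
  obtain ⟨k, α, y, hy, hα⟩ := Module.Flat.isTrivialRelation_of_sum_smul_eq_zero hrel2
  choose y₁ hy₁ using fun t => Ideal.Quotient.mk_surjective (y t)
  refine ⟨k, fun i t => Ideal.Quotient.mk J (α (Sum.inl i) t),
    fun t => Ideal.Quotient.mk _ (σ J (y₁ t)), ?_, ?_⟩
  · intro i
    have h3 := hy (Sum.inl i)
    simp only [x, Sum.elim_inl] at h3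
    have h4 : m i - ∑ t, MvPolynomial.C (α (Sum.inl i) t) * y₁ t ∈ I := by
      rw [← Ideal.Quotient.eq_zero_iff_mem, map_sub, h3, map_sum, sub_eq_zero]
      refine Finset.sum_congr rfl fun t _ => ?_
      rw [← hy₁ t, smul_mk']
      rfl
    have h5 : σ J (m i) - ∑ t, MvPolynomial.C (Ideal.Quotient.mk J (α (Sum.inl i) t)) * σ J (y₁ t) ∈
        I.map (σ J) := by
      have := Ideal.mem_map_of_mem (σ J) h4
      rw [map_sub, map_sum] at this
      simp only [map_mul, σ_C] at this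
      exact this
    rw [← hm₁ i, ← hm i]
    rw [← Ideal.Quotient.eq_zero_iff_mem, map_sub, sub_eq_zero] at h5
    rw [h5, map_sum]
    refine Finset.sum_congr rfl fun t _ => ?_
    rw [smul_mk']
    rfl
  · intro t
    have h6 := hα t
    rw [Fintype.sum_sum_type] at h6
    simp only [f, Sum.elim_inl, Sum.elim_inr] at h6
    have h7 : Ideal.Quotient.mk J (∑ i, a i * α (Sum.inl i) t) = 0 := by
      have : ∑ i, a i * α (Sum.inl i) t =
          ∑ k : {x // x ∈ c.support}, (k.1 : A) * α (Sum.inr k) t := by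
        have := eq_neg_of_add_eq_zero_left h6
        rw [this, ← Finset.sum_neg_distrib]
        exact Finset.sum_congr rfl fun k _ => by ring
      rw [this, Ideal.Quotient.eq_zero_iff_mem]
      exact Ideal.sum_mem _ fun k _ => Ideal.mul_mem_right _ _ (hc k.2)
    rw [map_sum] at h7
    rw [← h7]
    refine Finset.sum_congr rfl fun i _ => ?_
    rw [map_mul, ha i]

/-- local `H₁`-regular data descends to the reduction -/
theorem hloc_quotient (I : Ideal (MvPolynomial (Fin n) A)) [Module.Flat A (MvPolynomial (Fin n) A ⧸ I)]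
    (hloc : ∀ (𝔓 : Ideal (MvPolynomial (Fin n) A)) [𝔓.IsPrime], I ≤ 𝔓 →
      ∃ (c : ℕ) (h : Fin c → Localization.AtPrime 𝔓), CAlgX.IsH1Regular h ∧
        I.map (algebraMap (MvPolynomial (Fin n) A) (Localization.AtPrime 𝔓)) = Ideal.span (Set.range h))
    (𝔓' : Ideal (MvPolynomial (Fin n) (A ⧸ J))) [h𝔓' : 𝔓'.IsPrime] (hle : I.map (σ J) ≤ 𝔓') :
    ∃ (c : ℕ) (h : Fin c → Localization.AtPrime 𝔓'), CAlgX.IsH1Regular h ∧
      (I.map (σ J)).map (algebraMap (MvPolynomial (Fin n) (A ⧸ J)) (Localization.AtPrime 𝔓')) =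
        Ideal.span (Set.range h) := by
  classical
  haveI : (𝔓'.comap (σ J)).IsPrime := Ideal.comap_isPrime _ _
  have hI𝔓 : I ≤ 𝔓'.comap (σ J) := Ideal.map_le_iff_le_comap.mp hle
  obtain ⟨c, h, hH1, hspan⟩ := hloc (𝔓'.comap (σ J)) hI𝔓
  obtain ⟨hρs, hρker⟩ := localRingHom_surjective_ker (σ J) (σ_surjective J) 𝔓'
  set ρ := Localization.localRingHom (𝔓'.comap (σ J)) 𝔓' (σ J) rfl with hρ
  refine ⟨c, fun i => ρ (h i), ?_, ?_⟩
  · refine Groth.Agent.H61.FlatFibre.isH1Regular_map_of_surjective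
      (T := Localization.AtPrime (𝔓'.comap (σ J))) (L := Localization.AtPrime 𝔓') ρ hρs h hH1 ?_
    intro x hx hx0
    rw [hρker, ker_σ, ← hspan]
    rw [← hspan] at hx
    refine Groth.Agent.H61.LciFibreMin.mem_mul_map_of_flat I J (𝔓'.comap (σ J)).primeCompl
      (Localization.AtPrime (𝔓'.comap (σ J))) x hx ?_
    rw [← RingHom.mem_ker, hρker, ker_σ] at hx0
    exact hx0
  · have h1 : (I.map (σ J)).map (algebraMap (MvPolynomial (Fin n) (A ⧸ J)) (Localization.AtPrime 𝔓')) =
        (I.map (algebraMap (MvPolynomial (Fin n) A) (Localization.AtPrime (𝔓'.comap (σ J))))).map ρ := by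
      rw [Ideal.map_map, Ideal.map_map]
      congr 1
      refine RingHom.ext fun a => ?_
      simp only [RingHom.comp_apply]
      rw [hρ, Localization.localRingHom_to_map]
    rw [h1, hspan, Ideal.map_span, ← Set.range_comp]
    rfl

/-- primes generic in their fibre over `A/J` pull back to primes generic in their fibre over `A` -/
theorem fibre_generic_comap (I : Ideal (MvPolynomial (Fin n) A))
    (𝔓' : Ideal (MvPolynomial (Fin n) (A ⧸ J))) [h𝔓' : 𝔓'.IsPrime]
    (hmin : ∀ (𝔔' : Ideal (MvPolynomial (Fin n) (A ⧸ J))) [𝔔'.IsPrime], I.map (σ J) ≤ 𝔔' → 𝔔' ≤ 𝔓' →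
      𝔔'.comap (algebraMap (A ⧸ J) (MvPolynomial (Fin n) (A ⧸ J))) =
        𝔓'.comap (algebraMap (A ⧸ J) (MvPolynomial (Fin n) (A ⧸ J))) → 𝔔' = 𝔓')
    (𝔔 : Ideal (MvPolynomial (Fin n) A)) [h𝔔 : 𝔔.IsPrime] (hI𝔔 : I ≤ 𝔔) (h𝔔𝔓 : 𝔔 ≤ 𝔓'.comap (σ J))
    (hcomap : 𝔔.comap (algebraMap A (MvPolynomial (Fin n) A)) =
      (𝔓'.comap (σ J)).comap (algebraMap A (MvPolynomial (Fin n) A))) :
    𝔔 = 𝔓'.comap (σ J) := by
  have hC : ∀ a : A, MvPolynomial.C a ∈ 𝔔 ↔ MvPolynomial.C (Ideal.Quotient.mk J a) ∈ 𝔓' := by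
    intro a
    have h1 : MvPolynomial.C a ∈ 𝔔 ↔ a ∈ 𝔔.comap (algebraMap A (MvPolynomial (Fin n) A)) := Iff.rfl
    rw [h1, hcomap, Ideal.mem_comap, Ideal.mem_comap, ← σ_C]
    rfl
  have hker : RingHom.ker (σ J (n := n)) ≤ 𝔔 := by
    rw [ker_σ, Ideal.map_le_iff_le_comap]
    intro j hj
    rw [Ideal.mem_comap]
    change MvPolynomial.C j ∈ 𝔔
    rw [hC, Ideal.Quotient.eq_zero_iff_mem.mpr hj, map_zero]
    exact zero_mem _
  haveI h𝔔'p : (𝔔.map (σ J)).IsPrime := Ideal.map_isPrime_of_surjective (σ_surjective J) hker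
  have hcm : (𝔔.map (σ J)).comap (σ J) = 𝔔 := by
    rw [Ideal.comap_map_of_surjective' _ (σ_surjective J)]
    exact sup_eq_left.mpr hker
  have heq := hmin (𝔔.map (σ J)) (Ideal.map_mono hI𝔔) (Ideal.map_le_iff_le_comap.mpr h𝔔𝔓) (by
    ext a'
    obtain ⟨a, rfl⟩ := Ideal.Quotient.mk_surjective a'
    rw [Ideal.mem_comap, Ideal.mem_comap]
    change MvPolynomial.C (Ideal.Quotient.mk J a) ∈ _ ↔ MvPolynomial.C (Ideal.Quotient.mk J a) ∈ _
    rw [← hC a, ← σ_C, ← Ideal.mem_comap, hcm])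
  rw [← heq, hcm]

end Groth.Agent.H61.LciBC
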