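/-
Splitting of a short exact sequence after localization at a point where the cokernel is
projective, and the consequence for `𝔞`-divisibility (helper61).
-/
import Mathlib

set_option autoImplicit false

namespace Groth.Agent.H61.SmoothSplit

open LocalizedModule

section

variable {R : Type*} [CommRing R] (S : Submonoid R)
variable {M N Q : Type*} [AddCommGroup M] [Module R M] [AddCommGroup N] [Module R N]
  [AddCommGroup Q] [Module R Q]

/-- elements of `𝔞 • ⊤` in a localized module have numerators in `𝔞 • ⊤` -/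
theorem exists_mk_of_mem_smul_top (𝔞 : Ideal R) (x : LocalizedModule S M)
    (hx : x ∈ 𝔞 • (⊤ : Submodule R (LocalizedModule S M))) :
    ∃ m' ∈ 𝔞 • (⊤ : Submodule R M), ∃ s : S, x = LocalizedModule.mk m' s := by
  refine Submodule.smul_induction_on hx ?_ ?_
  · intro a ha y _
    induction y using LocalizedModule.induction_on with
    | _ m0 s0 =>
      refine ⟨a • m0, Submodule.smul_mem_smul ha Submodule.mem_top, s0, ?_⟩
      rw [LocalizedModule.smul'_mk]
  · intro y z hy hz
    obtain ⟨m1, hm1, s1, rfl⟩ := hy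
    obtain ⟨m2, hm2, s2, rfl⟩ := hz
    refine ⟨s2 • m1 + s1 • m2, ?_, s1 * s2, ?_⟩
    · exact add_mem (Submodule.smul_mem _ _ hm1) (Submodule.smul_mem _ _ hm2)
    · rw [LocalizedModule.mk_add_mk]

theorem exists_smul_mem_of_mk_mem (𝔞 : Ideal R) (m : M)
    (hx : LocalizedModule.mk m (1 : S) ∈ 𝔞 • (⊤ : Submodule R (LocalizedModule S M))) :
    ∃ c ∈ S, c • m ∈ 𝔞 • (⊤ : Submodule R M) := by
  obtain ⟨m', hm', s, hs⟩ := exists_mk_of_mem_smul_top S 𝔞 _ hx
  obtain ⟨u, hu⟩ := LocalizedModule.mk_eq.mp hs
  refine ⟨(u * s : S), (u * s).2, ?_⟩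
  have : ((u * s : S) : R) • m = (u : R) • m' := by
    have h1 : (u : S) • (s : S) • m = (u : S) • (1 : S) • m' := hu
    rw [one_smul] at h1
    rw [Submonoid.coe_mul, mul_smul]
    exact h1
  rw [this]
  exact Submodule.smul_mem _ _ hm'

/-- **Lemma E.** If `0 → M → N → Q → 0` is exact and `Q` becomes projective after localizing at
`S`, then `d m ∈ 𝔞 N` implies `c m ∈ 𝔞 M` for some `c ∈ S`. -/
theorem exists_smul_mem_of_split (d : M →ₗ[R] N) (π : N →ₗ[R] Q) (hd : Function.Injective d)
    (hex : Function.Exact d π) (hπ : Function.Surjective π)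
    [Module.Projective (Localization S) (LocalizedModule S Q)]
    (𝔞 : Ideal R) (m : M) (hm : d m ∈ 𝔞 • (⊤ : Submodule R N)) :
    ∃ c ∈ S, c • m ∈ 𝔞 • (⊤ : Submodule R M) := by
  set d' := LocalizedModule.map S d with hd'
  set π' := LocalizedModule.map S π with hπ'
  have hex' : Function.Exact d' π' := LocalizedModule.map_exact S d π hex
  have hdi : Function.Injective d' := LocalizedModule.map_injective S d hd
  have hπs : Function.Surjective π' := LocalizedModule.map_surjective S π hπ
  -- a section of `π'`
  obtain ⟨sec, hsec⟩ := Module.projective_lifting_property π' LinearMap.id hπs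
  have hsplit : ∃ l : LocalizedModule S N →ₗ[Localization S] LocalizedModule S M,
      l ∘ₗ d' = LinearMap.id :=
    have h01 := (Function.Exact.split_tfae hex' hdi hπs).out 0 1 rfl rfl
    h01.mp ⟨sec, hsec⟩
  obtain ⟨l, hl⟩ := hsplit
  apply exists_smul_mem_of_mk_mem S 𝔞 m
  have h1 : LocalizedModule.mk m (1 : S) = l (d' (LocalizedModule.mk m 1)) := by
    have := LinearMap.congr_fun hl (LocalizedModule.mk m (1 : S))
    exact this.symm
  rw [h1, hd', LocalizedModule.map_mk]
  -- `mk (d m) 1 ∈ 𝔞 • ⊤`, pushed through `l`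
  have h2 : ∀ n ∈ 𝔞 • (⊤ : Submodule R N),
      l (LocalizedModule.mk n (1 : S)) ∈ 𝔞 • (⊤ : Submodule R (LocalizedModule S M)) := by
    intro n hn
    refine Submodule.smul_induction_on hn ?_ ?_
    · intro a ha y _
      have : LocalizedModule.mk (a • y) (1 : S) = a • LocalizedModule.mk y (1 : S) := by
        rw [LocalizedModule.smul'_mk]
      rw [this]
      have hlin : l (a • LocalizedModule.mk y (1 : S)) = a • l (LocalizedModule.mk y (1 : S)) := by
        rw [← algebraMap_smul (Localization S) a (LocalizedModule.mk y (1 : S)), map_smul,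
          algebraMap_smul]
      rw [hlin]
      exact Submodule.smul_mem_smul ha Submodule.mem_top
    · intro y z hy hz
      have : LocalizedModule.mk (y + z) (1 : S) =
          LocalizedModule.mk y (1 : S) + LocalizedModule.mk z (1 : S) := by
        rw [LocalizedModule.mk_add_mk, one_smul, one_smul, mul_one]
      rw [this, map_add]
      exact add_mem hy hz
  exact h2 _ hm

end

end Groth.Agent.H61.SmoothSplit
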