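/-
Base change of the conormal sequence of a flat lci algebra with generically smooth fibres along
`A → A/J` (helper61).
-/
import Groth.Agent.H61.LciBC
import Groth.Agent.H61.DualBC
import Groth.Agent.H61.CotProj
import Groth.Agent.H61.SmoothSplit

set_option autoImplicit false

namespace Groth.Agent.H61.LciT1BC

universe u

open TensorProduct Groth.Agent.H61.LciBC

section KC

variable {A : Type u} [CommRing A] [IsNoetherianRing A] (J : Ideal A) {n : ℕ}

/-- **Key claim in polynomial language.** -/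
theorem mem_sq_sup_of_fibre_generic (I : Ideal (MvPolynomial (Fin n) A))
    [Module.Flat A (MvPolynomial (Fin n) A ⧸ I)]
    (hloc : ∀ (𝔓 : Ideal (MvPolynomial (Fin n) A)) [𝔓.IsPrime], I ≤ 𝔓 →
      ∃ (c : ℕ) (h : Fin c → Localization.AtPrime 𝔓), CAlgX.IsH1Regular h ∧
        I.map (algebraMap (MvPolynomial (Fin n) A) (Localization.AtPrime 𝔓)) = Ideal.span (Set.range h))
    (y : MvPolynomial (Fin n) A) (hy : y ∈ I)
    (hgen : ∀ (𝔓 : Ideal (MvPolynomial (Fin n) A)) [𝔓.IsPrime], I ≤ 𝔓 →
      J.map (algebraMap A (MvPolynomial (Fin n) A)) ≤ 𝔓 →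
      (∀ (𝔔 : Ideal (MvPolynomial (Fin n) A)) [𝔔.IsPrime], I ≤ 𝔔 → 𝔔 ≤ 𝔓 →
        𝔔.comap (algebraMap A (MvPolynomial (Fin n) A)) =
          𝔓.comap (algebraMap A (MvPolynomial (Fin n) A)) → 𝔔 = 𝔓) →
      ∃ c : MvPolynomial (Fin n) A, c ∉ 𝔓 ∧
        c * y ∈ I ^ 2 ⊔ J.map (algebraMap A (MvPolynomial (Fin n) A)) * I) :
    y ∈ I ^ 2 ⊔ J.map (algebraMap A (MvPolynomial (Fin n) A)) * I := by
  classical
  set JS : Ideal (MvPolynomial (Fin n) A) := J.map (algebraMap A (MvPolynomial (Fin n) A)) with hJS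
  have hmapJS : JS.map (σ J) = ⊥ := by
    rw [Ideal.map_eq_bot_iff_le_ker, ker_σ]
  have hmap : (I ^ 2 ⊔ JS * I).map (σ J) = (I.map (σ J)) ^ 2 := by
    rw [Ideal.map_sup, Ideal.map_mul, hmapJS, Ideal.bot_mul, sup_bot_eq, Ideal.map_pow]
  haveI := flat_quotient J I
  have h1 : σ J y ∈ (I.map (σ J)) ^ 2 := by
    refine Groth.Agent.H61.LciCore.mem_sq_of_fibre_generic (I.map (σ J))
      (fun 𝔓' _ hle => hloc_quotient J I hloc 𝔓' hle) (σ J y) (Ideal.mem_map_of_mem _ hy) ?_
    intro 𝔓' _ hle hmin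
    haveI : (𝔓'.comap (σ J)).IsPrime := Ideal.comap_isPrime _ _
    obtain ⟨c, hc, hcy⟩ := hgen (𝔓'.comap (σ J)) (Ideal.map_le_iff_le_comap.mp hle)
      (by rw [hJS, ← ker_σ]; exact Ideal.ker_le_comap _)
      (fun 𝔔 _ hI𝔔 h𝔔𝔓 hcomap => fibre_generic_comap J I 𝔓' hmin 𝔔 hI𝔔 h𝔔𝔓 hcomap)
    refine ⟨σ J c, hc, ?_⟩
    rw [← map_mul, ← hmap]
    exact Ideal.mem_map_of_mem _ hcy
  rw [← Ideal.map_pow] at h1
  have h2 : y ∈ ((I ^ 2).map (σ J)).comap (σ J) := h1
  rw [Ideal.comap_map_of_surjective' _ (σ_surjective J), ker_σ] at h2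
  obtain ⟨i2, hi2, j, hj, rfl⟩ := Submodule.mem_sup.mp h2
  have hjI : j ∈ I := by
    have : j = (i2 + j) - i2 := by ring
    rw [this]
    exact sub_mem hy (Ideal.pow_le_self two_ne_zero hi2)
  exact Submodule.mem_sup.mpr
    ⟨i2, hi2, j, Groth.Agent.H61.FlatFibre.mem_mul_of_flat I J j hjI hj, rfl⟩

end KC

section CS

variable {A P : Type u} [CommRing A] [CommRing P] [Algebra A P]

open Algebra.Extension in
/-- membership of a conormal class in `𝔟 · (I/I²)` -/
theorem cotangent_mk_mem_smul_top_iff (E : Algebra.Extension.{u} A P) (𝔟 : Ideal E.Ring) (y : E.ker) :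
    Cotangent.mk y ∈ (𝔟.map (algebraMap E.Ring P)) • (⊤ : Submodule P E.Cotangent) ↔
      (y : E.Ring) ∈ E.ker ^ 2 ⊔ 𝔟 * E.ker := by
  constructor
  · intro h
    have key : ∀ x ∈ (𝔟.map (algebraMap E.Ring P)) • (⊤ : Submodule P E.Cotangent),
        ∃ w : E.ker, (w : E.Ring) ∈ 𝔟 * E.ker ∧ x = Cotangent.mk w := by
      intro x hx
      refine Submodule.smul_induction_on hx ?_ ?_
      · intro r hr z _
        obtain ⟨b, hb, rfl⟩ := (Ideal.mem_map_iff_of_surjective _ E.algebraMap_surjective).mp hr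
        obtain ⟨z, rfl⟩ := Cotangent.mk_surjective z
        refine ⟨b • z, Ideal.mul_mem_mul hb z.2, ?_⟩
        rw [map_smul, algebraMap_smul]
      · rintro _ _ ⟨w1, hw1, rfl⟩ ⟨w2, hw2, rfl⟩
        exact ⟨w1 + w2, add_mem hw1 hw2, (map_add _ _ _).symm⟩
    obtain ⟨w, hw, hyw⟩ := key _ h
    have h0 : Cotangent.mk (y - w) = 0 := by rw [map_sub, hyw, sub_self]
    rw [Cotangent.mk_eq_zero_iff] at h0
    have hy : (y : E.Ring) = ((y - w : E.ker) : E.Ring) + w := by
      simp
    rw [hy]
    exact Submodule.add_mem_sup h0 hw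
  · intro h
    obtain ⟨i2, hi2, w, hw, hyw⟩ := Submodule.mem_sup.mp h
    have hwker : w ∈ E.ker := Ideal.mul_le_right hw
    have hi2ker : i2 ∈ E.ker := Ideal.pow_le_self two_ne_zero hi2
    have hy : y = (⟨i2, hi2ker⟩ : E.ker) + ⟨w, hwker⟩ := Subtype.ext hyw.symm
    have hz : Cotangent.mk (⟨i2, hi2ker⟩ : E.ker) = 0 := (Cotangent.mk_eq_zero_iff _).mpr hi2
    rw [hy, map_add, hz, zero_add]
    have key : ∀ w ∈ 𝔟 * E.ker, ∃ hw : w ∈ E.ker,
        Cotangent.mk (⟨w, hw⟩ : E.ker) ∈
          (𝔟.map (algebraMap E.Ring P)) • (⊤ : Submodule P E.Cotangent) := by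
      intro w hw
      refine Submodule.mul_induction_on hw ?_ ?_
      · intro b hb z hz
        refine ⟨Ideal.mul_mem_left _ _ hz, ?_⟩
        have : (⟨b * z, Ideal.mul_mem_left _ _ hz⟩ : E.ker) = b • (⟨z, hz⟩ : E.ker) := rfl
        rw [this, map_smul, ← algebraMap_smul P b (Cotangent.mk (⟨z, hz⟩ : E.ker))]
        exact Submodule.smul_mem_smul (Ideal.mem_map_of_mem _ hb) Submodule.mem_top
      · rintro x1 x2 ⟨h1, h1'⟩ ⟨h2, h2'⟩
        refine ⟨add_mem h1 h2, ?_⟩
        have : (⟨x1 + x2, add_mem h1 h2⟩ : E.ker) = ⟨x1, h1⟩ + ⟨x2, h2⟩ := rfl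
        rw [this, map_add]
        exact add_mem h1' h2'
    obtain ⟨_, h⟩ := key w hw
    exact h

end CS

section Tensor

variable {P : Type*} [CommRing P] (𝔞 : Ideal P)

theorem one_tmul_eq_zero_iff {M : Type*} [AddCommGroup M] [Module P M] (x : M) :
    (1 : P ⧸ 𝔞) ⊗ₜ[P] x = 0 ↔ x ∈ 𝔞 • (⊤ : Submodule P M) := by
  rw [← (TensorProduct.quotTensorEquivQuotSMul M 𝔞).map_eq_zero_iff,
    TensorProduct.quotTensorEquivQuotSMul_mk_one_tmul, Submodule.Quotient.mk_eq_zero]

theorem baseChange_injective_of {M N : Type*} [AddCommGroup M] [Module P M] [AddCommGroup N]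
    [Module P N] (d : M →ₗ[P] N)
    (h : ∀ m, d m ∈ 𝔞 • (⊤ : Submodule P N) → m ∈ 𝔞 • (⊤ : Submodule P M)) :
    Function.Injective (d.baseChange (P ⧸ 𝔞)) := by
  rw [injective_iff_map_eq_zero]
  intro ζ hζ
  obtain ⟨m, rfl⟩ := TensorProduct.mk_surjective P M (P ⧸ 𝔞) Ideal.Quotient.mk_surjective ζ
  rw [TensorProduct.mk_apply] at hζ ⊢
  rw [LinearMap.baseChange_tmul, one_tmul_eq_zero_iff] at hζ
  exact (one_tmul_eq_zero_iff 𝔞 m).mpr (h m hζ)

end Tensor

section Kaehler

variable {A P : Type u} [CommRing A] [CommRing P] [Algebra A P] (J : Ideal A)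

/-- `Ω` commutes with the base change `P → P/JP`. -/
theorem mapBaseChange_bijective :
    Function.Bijective (KaehlerDifferential.mapBaseChange A P (P ⧸ J.map (algebraMap A P))) := by
  have hs : Function.Surjective (algebraMap P (P ⧸ J.map (algebraMap A P))) :=
    Ideal.Quotient.mk_surjective
  refine ⟨?_, KaehlerDifferential.mapBaseChange_surjective A P _ hs⟩
  rw [injective_iff_map_eq_zero]
  intro x hx
  obtain ⟨c, rfl⟩ := (KaehlerDifferential.exact_kerCotangentToTensor_mapBaseChange A P _ hs x).mp hx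
  obtain ⟨c, rfl⟩ := Ideal.toCotangent_surjective _ c
  rw [KaehlerDifferential.kerCotangentToTensor_toCotangent]
  obtain ⟨c, hc⟩ := c
  have hc' : c ∈ J.map (algebraMap A P) := by
    have : algebraMap P (P ⧸ J.map (algebraMap A P)) c = 0 := hc
    exact Ideal.Quotient.eq_zero_iff_mem.mp this
  change (1 : P ⧸ J.map (algebraMap A P)) ⊗ₜ[P] KaehlerDifferential.D A P c = 0
  rw [Ideal.map, Ideal.span] at hc'
  refine Submodule.span_induction (p := fun c _ =>
    (1 : P ⧸ J.map (algebraMap A P)) ⊗ₜ[P] KaehlerDifferential.D A P c = 0) ?_ ?_ ?_ ?_ hc'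
  · rintro _ ⟨a, _, rfl⟩
    rw [Derivation.map_algebraMap, TensorProduct.tmul_zero]
  · rw [map_zero, TensorProduct.tmul_zero]
  · intro x y _ _ hx hy
    rw [map_add, TensorProduct.tmul_add, hx, hy, add_zero]
  · intro p x hx hx0
    rw [smul_eq_mul, Derivation.leibniz, TensorProduct.tmul_add, TensorProduct.tmul_smul, hx0,
      smul_zero, zero_add, ← TensorProduct.smul_tmul]
    have : x • (1 : P ⧸ J.map (algebraMap A P)) = 0 := by
      rw [Algebra.smul_def, mul_one]
      exact Ideal.Quotient.eq_zero_iff_mem.mpr hx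
    rw [this, TensorProduct.zero_tmul]

end Kaehler

section Main

open CategoryTheory Algebra.Extension

/-- **Base change of `T¹ = Ext¹(Ω, O)`** for a flat lci algebra with generically smooth fibres,
given the vanishing of `H₁` of the naive cotangent complex. -/
theorem nonempty_t1_baseChange
    (A : Type u) [CommRing A] [IsNoetherianRing A]
    (P : Type u) [CommRing P] [Algebra A P] [Module.Flat A P] (hft : Algebra.FiniteType A P)
    {n : ℕ} (f : MvPolynomial (Fin n) A →ₐ[A] P) (hf : Function.Surjective f)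
    (hI : LCI.IsKoszulRegularIdeal (RingHom.ker f.toRingHom))
    (hH1 : Subsingleton (Algebra.H1Cotangent A P))
    (hgs : ∀ 𝔓 : PrimeSpectrum P,
      (∀ 𝔔 : PrimeSpectrum P, 𝔔 ≤ 𝔓 →
          𝔔.asIdeal.comap (algebraMap A P) = 𝔓.asIdeal.comap (algebraMap A P) → 𝔔 = 𝔓) →
        𝔓 ∈ Algebra.smoothLocus A P)
    (J : Ideal A) :
    Nonempty
      ((P ⧸ J.map (algebraMap A P)) ⊗[P]
          Abelian.Ext.{u} (ModuleCat.of P (KaehlerDifferential A P)) (ModuleCat.of P P) 1 ≃ₗ[P ⧸ J.map (algebraMap A P)]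
        Abelian.Ext.{u}
          (ModuleCat.of (P ⧸ J.map (algebraMap A P)) (KaehlerDifferential A (P ⧸ J.map (algebraMap A P))))
          (ModuleCat.of (P ⧸ J.map (algebraMap A P)) (P ⧸ J.map (algebraMap A P))) 1) := by
  classical
  haveI := hft
  haveI : IsNoetherianRing P := Algebra.FiniteType.isNoetherianRing A P
  have haev : MvPolynomial.aeval (R := A) (fun i : Fin n => f (MvPolynomial.X i)) = f := by
    refine MvPolynomial.algHom_ext fun i => ?_
    rw [MvPolynomial.aeval_X]
  have hsurj : Function.Surjective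
      (MvPolynomial.aeval (R := A) (fun i : Fin n => f (MvPolynomial.X i))) := by
    rw [haev]; exact hf
  let G : Algebra.Generators A P (Fin n) := Algebra.Generators.ofSurjective _ hsurj
  set I : Ideal (MvPolynomial (Fin n) A) := RingHom.ker f.toRingHom with hIdef
  have hmemIf : ∀ a : MvPolynomial (Fin n) A, a ∈ I ↔ f a = 0 := fun a => Iff.rfl
  have halg : ∀ y : G.toExtension.Ring,
      algebraMap G.toExtension.Ring P y = f (y : MvPolynomial (Fin n) A) := by
    intro y
    exact (Algebra.Generators.algebraMap_apply G y).trans (DFunLike.congr_fun haev y)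
  have hkerI : (G.toExtension.ker : Ideal (MvPolynomial (Fin n) A)) = I := by
    ext y
    change algebraMap G.toExtension.Ring P y = 0 ↔ f y = 0
    rw [halg]
  have hmemI : ∀ w : G.toExtension.Ring,
      w ∈ G.toExtension.ker ↔ (w : MvPolynomial (Fin n) A) ∈ I := by
    intro w
    rw [← hkerI]
    exact Iff.rfl
  have hmemI3 : ∀ w : G.toExtension.Ring,
      w ∈ G.toExtension.ker ^ 2 ⊔
          (J.map (algebraMap A G.toExtension.Ring)) * G.toExtension.ker ↔
        (w : MvPolynomial (Fin n) A) ∈ I ^ 2 ⊔ J.map (algebraMap A (MvPolynomial (Fin n) A)) * I := by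
    intro w
    rw [← hkerI]
    exact Iff.rfl
  -- flatness of `S/I`
  haveI hflat : Module.Flat A (MvPolynomial (Fin n) A ⧸ I) :=
    Module.Flat.of_linearEquiv (Ideal.quotientKerAlgEquivOfSurjective hf).toLinearEquiv
  -- local `H₁`-regular data at primes
  have hloc : ∀ (𝔓 : Ideal (MvPolynomial (Fin n) A)) [𝔓.IsPrime], I ≤ 𝔓 →
      ∃ (c : ℕ) (h : Fin c → Localization.AtPrime 𝔓), CAlgX.IsH1Regular h ∧
        I.map (algebraMap (MvPolynomial (Fin n) A) (Localization.AtPrime 𝔓)) =
          Ideal.span (Set.range h) := by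
    intro 𝔮 _ hle
    obtain ⟨g, hg, c, h, hH1r, hspan⟩ := Groth.Agent.H61.LciCot.exists_h1Regular I hI 𝔮 hle
    have hpow : Submonoid.powers g ≤ 𝔮.primeCompl := Submonoid.powers_le.mpr hg
    letI : Algebra (Localization.Away g) (Localization.AtPrime 𝔮) :=
      IsLocalization.localizationAlgebraOfSubmonoidLe _ _ _ _ hpow
    haveI : IsScalarTower (MvPolynomial (Fin n) A) (Localization.Away g) (Localization.AtPrime 𝔮) :=
      IsLocalization.localization_isScalarTower_of_submonoid_le _ _ _ _ hpow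
    haveI : IsLocalization (𝔮.primeCompl.map (algebraMap (MvPolynomial (Fin n) A) (Localization.Away g)))
        (Localization.AtPrime 𝔮) :=
      IsLocalization.isLocalization_of_submonoid_le _ _ _ _ hpow
    refine ⟨c, fun i => algebraMap (Localization.Away g) (Localization.AtPrime 𝔮) (h i),
      Groth.Agent.H61.H1RegLoc.isH1Regular_map_of_isLocalization
        (𝔮.primeCompl.map (algebraMap (MvPolynomial (Fin n) A) (Localization.Away g))) h hH1r, ?_⟩
    rw [IsScalarTower.algebraMap_eq (MvPolynomial (Fin n) A) (Localization.Away g)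
      (Localization.AtPrime 𝔮), ← Ideal.map_map, hspan, Ideal.map_span, ← Set.range_comp]
    rfl
  -- the conormal sequence
  have hIE : LCI.IsKoszulRegularIdeal G.toExtension.ker := by
    have : LCI.IsKoszulRegularIdeal (G.toExtension.ker : Ideal (MvPolynomial (Fin n) A)) := by
      rw [hkerI]; exact hI
    exact this
  haveI hprojC : Module.Projective P G.toExtension.Cotangent :=
    Groth.Agent.H61.CotProj.projective_cotangent G.toExtension hIE
  haveI hfinC : Module.Finite P G.toExtension.Cotangent := by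
    haveI : IsNoetherianRing G.toExtension.Ring :=
      (inferInstance : IsNoetherianRing (MvPolynomial (Fin n) A))
    haveI : Module.Finite G.toExtension.Ring G.toExtension.ker :=
      Module.Finite.of_fg (IsNoetherian.noetherian _)
    haveI : Module.Finite G.toExtension.Ring G.toExtension.Cotangent :=
      Module.Finite.of_surjective Cotangent.mk Cotangent.mk_surjective
    exact Module.Finite.of_restrictScalars_finite G.toExtension.Ring P _
  haveI hfreeF : Module.Free P G.toExtension.CotangentSpace :=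
    Module.Free.of_basis G.cotangentSpaceBasis
  haveI hfinF : Module.Finite P G.toExtension.CotangentSpace :=
    Module.Finite.of_basis G.cotangentSpaceBasis
  have hd : Function.Injective G.toExtension.cotangentComplex := by
    haveI : Subsingleton (LinearMap.ker G.toExtension.cotangentComplex) :=
      G.equivH1Cotangent.toEquiv.subsingleton
    rw [← LinearMap.ker_eq_bot]
    exact Submodule.eq_bot_of_subsingleton
  have hex : Function.Exact G.toExtension.cotangentComplex G.toExtension.toKaehler :=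
    G.toExtension.exact_cotangentComplex_toKaehler
  have hπ : Function.Surjective G.toExtension.toKaehler := G.toExtension.toKaehler_surjective
  -- key claim
  have h𝔟P : (J.map (algebraMap A G.toExtension.Ring)).map (algebraMap G.toExtension.Ring P) =
      J.map (algebraMap A P) := by
    rw [Ideal.map_map, ← IsScalarTower.algebraMap_eq]
  have hKC : ∀ m : G.toExtension.Cotangent,
      G.toExtension.cotangentComplex m ∈
        (J.map (algebraMap A P)) • (⊤ : Submodule P G.toExtension.CotangentSpace) →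
      m ∈ (J.map (algebraMap A P)) • (⊤ : Submodule P G.toExtension.Cotangent) := by
    intro m hm
    obtain ⟨y, rfl⟩ := Cotangent.mk_surjective m
    rw [← h𝔟P, cotangent_mk_mem_smul_top_iff, hmemI3]
    obtain ⟨y0, hy0⟩ : ∃ y0 : MvPolynomial (Fin n) A, y0 = (y : G.toExtension.Ring) := ⟨_, rfl⟩
    have hyI : y0 ∈ I := by
      rw [hy0]
      exact (hmemI _).mp y.2
    rw [← hy0]
    refine mem_sq_sup_of_fibre_generic J I hloc y0 hyI ?_
    intro 𝔓 _ hI𝔓 _ hmin
    have hker𝔓 : RingHom.ker f.toRingHom ≤ 𝔓 := hI𝔓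
    set 𝔭 : Ideal P := 𝔓.map f.toRingHom with h𝔭
    haveI h𝔭p : 𝔭.IsPrime := Ideal.map_isPrime_of_surjective hf hker𝔓
    have hcomap𝔭 : 𝔭.comap f.toRingHom = 𝔓 := by
      rw [h𝔭, Ideal.comap_map_of_surjective' f.toRingHom hf]
      exact sup_eq_left.mpr hker𝔓
    have hfibre : ∀ 𝔔 : PrimeSpectrum P, 𝔔 ≤ ⟨𝔭, h𝔭p⟩ →
        𝔔.asIdeal.comap (algebraMap A P) = (⟨𝔭, h𝔭p⟩ : PrimeSpectrum P).asIdeal.comap (algebraMap A P) →
        𝔔 = ⟨𝔭, h𝔭p⟩ := by
      intro 𝔔 hle hcomap
      haveI : (𝔔.asIdeal.comap f.toRingHom).IsPrime := Ideal.comap_isPrime _ _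
      have hfalg : f.toRingHom.comp (algebraMap A (MvPolynomial (Fin n) A)) = algebraMap A P :=
        f.comp_algebraMap
      have key := hmin (𝔔.asIdeal.comap f.toRingHom)
        (fun a ha => by
          rw [Ideal.mem_comap]
          have : f.toRingHom a = 0 := ha
          rw [this]; exact zero_mem _)
        (by rw [← hcomap𝔭]; exact Ideal.comap_mono hle)
        (by rw [← hcomap𝔭, Ideal.comap_comap, Ideal.comap_comap, hfalg]; exact hcomap)
      apply PrimeSpectrum.ext
      apply Ideal.comap_injective_of_surjective f.toRingHom hf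
      rw [hcomap𝔭]
      exact key
    have hsm := hgs ⟨𝔭, h𝔭p⟩ hfibre
    rw [Algebra.smoothLocus_eq_compl_support_inter] at hsm
    have hfree := Module.mem_freeLocus.mp hsm.2
    haveI : Module.Projective (Localization 𝔭.primeCompl)
        (LocalizedModule 𝔭.primeCompl Ω[P⁄A]) := by
      haveI := hfree
      exact Module.Projective.of_free
    obtain ⟨c, hc, hcm⟩ := Groth.Agent.H61.SmoothSplit.exists_smul_mem_of_split 𝔭.primeCompl
      G.toExtension.cotangentComplex G.toExtension.toKaehler hd hex hπ (J.map (algebraMap A P))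
      (Cotangent.mk y) hm
    obtain ⟨c0, rfl⟩ := hf c
    obtain ⟨c', hc'⟩ : ∃ c' : G.toExtension.Ring, c' = (c0 : MvPolynomial (Fin n) A) := ⟨_, rfl⟩
    have hsm' : f c0 • Cotangent.mk y = Cotangent.mk (c' • y) := by
      rw [map_smul, ← algebraMap_smul P c' (Cotangent.mk y), halg, hc']
    rw [hsm', ← h𝔟P, cotangent_mk_mem_smul_top_iff, hmemI3] at hcm
    refine ⟨c0, ?_, ?_⟩
    · intro hmem
      exact hc (Ideal.mem_map_of_mem _ hmem)
    · rw [hy0, ← hc']
      exact hcm
  -- the `P'`-side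
  have hd' : Function.Injective
      (G.toExtension.cotangentComplex.baseChange (P ⧸ J.map (algebraMap A P))) :=
    baseChange_injective_of (J.map (algebraMap A P)) _ hKC
  have hex0 : Function.Exact
      (G.toExtension.cotangentComplex.baseChange (P ⧸ J.map (algebraMap A P)))
      (G.toExtension.toKaehler.baseChange (P ⧸ J.map (algebraMap A P))) := by
    have := lTensor_exact (P ⧸ J.map (algebraMap A P)) hex hπ
    intro x
    have h1 := this x
    rw [LinearMap.baseChange_eq_ltensor, LinearMap.baseChange_eq_ltensor]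
    exact h1
  have hπ0 : Function.Surjective
      (G.toExtension.toKaehler.baseChange (P ⧸ J.map (algebraMap A P))) := by
    rw [LinearMap.baseChange_eq_ltensor]
    exact LinearMap.lTensor_surjective _ hπ
  have hκ := mapBaseChange_bijective (A := A) (P := P) J
  have hex' : Function.Exact
      (G.toExtension.cotangentComplex.baseChange (P ⧸ J.map (algebraMap A P)))
      ((KaehlerDifferential.mapBaseChange A P (P ⧸ J.map (algebraMap A P))) ∘ₗ
        (G.toExtension.toKaehler.baseChange (P ⧸ J.map (algebraMap A P)))) := by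
    rw [LinearMap.coe_comp]
    exact hex0.comp_injective _ hκ.1 (map_zero _)
  have hπ' : Function.Surjective
      ((KaehlerDifferential.mapBaseChange A P (P ⧸ J.map (algebraMap A P))) ∘ₗ
        (G.toExtension.toKaehler.baseChange (P ⧸ J.map (algebraMap A P)))) := by
    rw [LinearMap.coe_comp]
    exact hκ.2.comp hπ0
  -- assemble
  obtain ⟨e1⟩ := Groth.Agent.H61.DualBC.nonempty_ext1Equiv (Y := P)
    G.toExtension.cotangentComplex G.toExtension.toKaehler hd hex hπ
  obtain ⟨e2⟩ := Groth.Agent.H61.DualBC.nonempty_cokerDual_baseChange P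
    (P ⧸ J.map (algebraMap A P)) G.toExtension.cotangentComplex
  obtain ⟨e3⟩ := Groth.Agent.H61.DualBC.nonempty_ext1Equiv (Y := (P ⧸ J.map (algebraMap A P)))
    (G.toExtension.cotangentComplex.baseChange (P ⧸ J.map (algebraMap A P)))
    ((KaehlerDifferential.mapBaseChange A P (P ⧸ J.map (algebraMap A P))) ∘ₗ
        (G.toExtension.toKaehler.baseChange (P ⧸ J.map (algebraMap A P)))) hd' hex' hπ'
  exact ⟨((LinearEquiv.baseChange P (P ⧸ J.map (algebraMap A P)) _ _ e1).symm.trans e2).trans e3⟩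

end Main

end Groth.Agent.H61.LciT1BC
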