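/-
Trivial (Koszul) relations of a linear form `j : F → R`, their behaviour under a change of
generators and under localization, and the local-to-global principle: if the ideal generated by
`g : σ → R` is, locally at every maximal ideal containing it, generated by a weakly regular
sequence, then every relation among the `g s` with coefficients in the ideal is a trivial relation
(helper61).  Pure commutative algebra, Mathlib only.
-/
import Mathlib
import Groth.Agent.H61.KoszulRel

set_option autoImplicit false

namespace Groth.Agent.H61.TrivRel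

open Finset

section Basic

variable {R : Type*} [CommRing R] {F : Type*} [AddCommGroup F] [Module R F] (j : F →ₗ[R] R)

/-- the trivial relations `j a • b - j b • a` -/
def Triv : Submodule R F := Submodule.span R {y | ∃ a b : F, y = j a • b - j b • a}

lemma triv_le_ker : Triv j ≤ LinearMap.ker j := by
  refine Submodule.span_le.mpr ?_
  rintro _ ⟨a, b, rfl⟩
  rw [SetLike.mem_coe, LinearMap.mem_ker, map_sub, map_smul, map_smul, smul_eq_mul, smul_eq_mul, mul_comm,
    sub_self]

lemma smul_mem_triv (a q : F) (hq : j q = 0) : j a • q ∈ Triv j := by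
  refine Submodule.subset_span ⟨a, q, ?_⟩
  rw [hq, zero_smul, sub_zero]

variable {G : Type*} [AddCommGroup G] [Module R G] (jG : G →ₗ[R] R)

lemma map_triv_le (α : F →ₗ[R] G) (h : ∀ x, jG (α x) = j x) : (Triv j).map α ≤ Triv jG := by
  rw [Submodule.map_le_iff_le_comap]
  refine Submodule.span_le.mpr ?_
  rintro _ ⟨a, b, rfl⟩
  rw [SetLike.mem_coe, Submodule.mem_comap, map_sub, map_smul, map_smul, ← h a, ← h b]
  exact Submodule.subset_span ⟨α a, α b, rfl⟩

/-- change of generators: if all relations of `jG` are trivial then the relations of `j` with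
coefficients in the ideal are trivial -/
theorem mem_triv_of_homotopy (α : F →ₗ[R] G) (β : G →ₗ[R] F) (hα : ∀ x, jG (α x) = j x)
    (hβ : ∀ y, j (β y) = jG y) (hG : LinearMap.ker jG ≤ Triv jG) (q : F) (hq : j q = 0)
    (hqI : q ∈ (LinearMap.range j : Ideal R) • (⊤ : Submodule R F)) : q ∈ Triv j := by
  have h1 : β (α q) ∈ Triv j := by
    have h : α q ∈ Triv jG := hG (by rw [LinearMap.mem_ker, hα, hq])
    exact map_triv_le jG j β hβ ⟨α q, h, rfl⟩
  have h2 : ∀ x : F, x ∈ (LinearMap.range j : Ideal R) • (⊤ : Submodule R F) →
      x - β (α x) ∈ Triv j := by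
    intro x hx
    refine Submodule.smul_induction_on hx ?_ ?_
    · rintro r ⟨a, rfl⟩ n -
      have h : j a • n - β (α (j a • n)) = j a • (n - β (α n)) := by
        rw [map_smul, map_smul, smul_sub]
      rw [h]
      exact smul_mem_triv j a _ (by rw [map_sub, hβ, hα, sub_self])
    · intro x y hx hy
      have h : x + y - β (α (x + y)) = (x - β (α x)) + (y - β (α y)) := by
        rw [map_add, map_add]; abel
      rw [h]; exact add_mem hx hy
  have h3 := add_mem h1 (h2 q hqI)
  rwa [add_sub_cancel] at h3

/-- local-to-global: membership in `Triv j` can be tested at the maximal ideals containing the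
range of `j` -/
theorem mem_triv_of_forall_maximal (q : F) (hq : j q = 0)
    (h : ∀ (𝔫 : Ideal R) [𝔫.IsMaximal], (LinearMap.range j : Ideal R) ≤ 𝔫 →
      ∃ s : R, s ∉ 𝔫 ∧ s • q ∈ Triv j) : q ∈ Triv j := by
  let J : Ideal R := (Triv j).comap (LinearMap.toSpanSingleton R F q)
  have hJmem : ∀ a : R, a ∈ J ↔ a • q ∈ Triv j := fun a => by
    change LinearMap.toSpanSingleton R F q a ∈ Triv j ↔ _
    rw [LinearMap.toSpanSingleton_apply]
  by_contra hcon
  have hJ : J ≠ ⊤ := by
    intro hJ
    apply hcon
    have h1 : (1 : R) ∈ J := hJ ▸ Submodule.mem_top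
    rw [hJmem, one_smul] at h1
    exact h1
  obtain ⟨𝔫, h𝔫, hJ𝔫⟩ := Ideal.exists_le_maximal J hJ
  have hI : (LinearMap.range j : Ideal R) ≤ 𝔫 := by
    rintro a ⟨x, rfl⟩
    exact hJ𝔫 ((hJmem _).mpr (smul_mem_triv j x q hq))
  obtain ⟨s, hs, hsq⟩ := h 𝔫 hI
  exact hs (hJ𝔫 ((hJmem s).mpr hsq))

end Basic

section Localization

variable {R : Type*} [CommRing R] {F : Type*} [AddCommGroup F] [Module R F] (j : F →ₗ[R] R)
variable {R' : Type*} [CommRing R'] [Algebra R R'] (S : Submonoid R) [IsLocalization S R']
variable {F' : Type*} [AddCommGroup F'] [Module R F'] [Module R' F'] [IsScalarTower R R' F']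
variable (f : F →ₗ[R] F') [IsLocalizedModule S f] (j' : F' →ₗ[R'] R')

include S in
theorem triv_le_localized (hj : ∀ x, j' (f x) = algebraMap R R' (j x)) :
    Triv j' ≤ (Triv j).localized' R' S f := by
  refine Submodule.span_le.mpr ?_
  rintro _ ⟨a, b, rfl⟩
  obtain ⟨⟨a0, s⟩, rfl⟩ := IsLocalizedModule.mk'_surjective S f a
  obtain ⟨⟨b0, t⟩, rfl⟩ := IsLocalizedModule.mk'_surjective S f b
  simp only [Function.uncurry_apply_pair]
  have ha : IsLocalizedModule.mk' f a0 s = IsLocalization.mk' R' (1 : R) s • f a0 := by
    rw [← IsLocalizedModule.mk'_one S f a0, IsLocalizedModule.mk'_smul_mk', one_smul, mul_one]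
  have hb : IsLocalizedModule.mk' f b0 t = IsLocalization.mk' R' (1 : R) t • f b0 := by
    rw [← IsLocalizedModule.mk'_one S f b0, IsLocalizedModule.mk'_smul_mk', one_smul, mul_one]
  set u := IsLocalization.mk' R' (1 : R) s
  set v := IsLocalization.mk' R' (1 : R) t
  have key : j' (IsLocalizedModule.mk' f a0 s) • IsLocalizedModule.mk' f b0 t -
      j' (IsLocalizedModule.mk' f b0 t) • IsLocalizedModule.mk' f a0 s =
      (u * v) • f (j a0 • b0 - j b0 • a0) := by
    rw [ha, hb, map_smul, map_smul, hj, hj, map_sub, map_smul, map_smul, smul_sub,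
      ← algebraMap_smul R' (j a0) (f b0), ← algebraMap_smul R' (j b0) (f a0)]
    simp only [smul_smul, smul_eq_mul]
    congr 1
    · congr 1; ring
    · congr 1; ring
  rw [SetLike.mem_coe, key]
  refine Submodule.smul_mem _ _ ?_
  exact ⟨_, Submodule.subset_span ⟨a0, b0, rfl⟩, 1, IsLocalizedModule.mk'_one S f _⟩

include S in
theorem exists_smul_mem_triv (hj : ∀ x, j' (f x) = algebraMap R R' (j x)) (q : F)
    (h : f q ∈ Triv j') : ∃ s ∈ S, s • q ∈ Triv j := by
  obtain ⟨m, hm, s, hms⟩ := triv_le_localized j S f j' hj h
  have h1 : f m = f ((s : R) • q) := by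
    rw [map_smul, ← hms]
    exact (IsLocalizedModule.mk'_cancel' f m s).symm
  obtain ⟨c, hc⟩ := IsLocalizedModule.exists_of_eq (S := S) h1
  refine ⟨(c : R) * (s : R), mul_mem c.2 s.2, ?_⟩
  rw [mul_smul]
  have hc' : (c : R) • m = (c : R) • ((s : R) • q) := hc
  rw [← hc']
  exact Submodule.smul_mem _ _ hm

end Localization

section Local

variable {R' : Type*} [CommRing R'] {σ : Type*}

/-- in a ring where the ideal generated by the `g' s` is also generated by a weakly regular
sequence, every relation among the `g' s` with coefficients in the ideal is trivial -/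
theorem mem_triv_of_isWeaklyRegular (g' : σ → R') (rs : List R')
    (hreg : RingTheory.Sequence.IsWeaklyRegular R' rs)
    (hspan : Ideal.span (Set.range g') = Ideal.ofList rs) (q : σ →₀ R')
    (hq : Finsupp.linearCombination R' g' q = 0) (hqI : ∀ s, q s ∈ Ideal.span (Set.range g')) :
    q ∈ Triv (Finsupp.linearCombination R' g') := by
  classical
  set j' := Finsupp.linearCombination R' g' with hj'
  let gs : Fin rs.length → R' := fun i => rs.get i
  let jG : (Fin rs.length → R') →ₗ[R'] R' := Fintype.linearCombination R' gs
  have hrange' : (LinearMap.range j' : Ideal R') = Ideal.span (Set.range g') := by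
    rw [hj', Finsupp.range_linearCombination]
  have hrangeG : (LinearMap.range jG : Ideal R') = Ideal.ofList rs := by
    change LinearMap.range (Fintype.linearCombination R' gs) = _
    rw [Fintype.range_linearCombination]
    change Ideal.span (Set.range rs.get) = _
    rw [Set.range_list_get]
  -- all relations of the regular sequence are trivial
  have hReg : Koszul.Reg gs := by
    have := Koszul.reg_of_isWeaklyRegular (RingEquiv.refl R') (RingHom.id R') (fun _ => rfl) rs hreg
    exact this
  have hG : LinearMap.ker jG ≤ Triv jG := by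
    intro c hc
    have hc' : ∑ i, c i * gs i = 0 := by
      have : jG c = 0 := hc
      rwa [Fintype.linearCombination_apply] at this
    have hK := Koszul.mem_K gs hReg c hc'
    have hle : Koszul.K gs ≤ Triv jG := by
      refine Submodule.span_le.mpr ?_
      rintro _ ⟨i, k, rfl⟩
      refine Submodule.subset_span ⟨Pi.single i 1, Pi.single k 1, ?_⟩
      have h1 : ∀ l : Fin rs.length, jG (Pi.single l 1) = gs l := by
        intro l
        change Fintype.linearCombination R' gs (Pi.single l 1) = _
        rw [Fintype.linearCombination_apply_single, one_smul]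
      rw [h1, h1]
    exact hle hK
  -- the maps between the two free modules
  have hu : ∀ s, ∃ u : Fin rs.length → R', jG u = g' s := by
    intro s
    have h1 : g' s ∈ (LinearMap.range jG : Ideal R') := by
      rw [hrangeG, ← hspan]
      exact Ideal.subset_span ⟨s, rfl⟩
    exact h1
  choose u hu using hu
  have hv : ∀ i, ∃ v : σ →₀ R', j' v = gs i := by
    intro i
    have h1 : gs i ∈ (LinearMap.range j' : Ideal R') := by
      rw [hrange', hspan]
      exact Ideal.subset_span (List.get_mem rs i)
    exact h1
  choose v hv using hv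
  let α : (σ →₀ R') →ₗ[R'] (Fin rs.length → R') := Finsupp.linearCombination R' u
  let β : (Fin rs.length → R') →ₗ[R'] (σ →₀ R') := Fintype.linearCombination R' v
  have hα : ∀ x, jG (α x) = j' x := by
    intro x
    induction x using Finsupp.induction_linear with
    | zero => simp
    | add x y hx hy => rw [map_add, map_add, map_add, hx, hy]
    | single s a =>
      change jG (Finsupp.linearCombination R' u (Finsupp.single s a)) = _
      rw [Finsupp.linearCombination_single, map_smul, hu, hj', Finsupp.linearCombination_single]
  have hβ : ∀ y, j' (β y) = jG y := by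
    intro y
    change j' (Fintype.linearCombination R' v y) = Fintype.linearCombination R' gs y
    rw [Fintype.linearCombination_apply, Fintype.linearCombination_apply, map_sum]
    refine Finset.sum_congr rfl fun i _ => ?_
    rw [map_smul, hv]
  refine mem_triv_of_homotopy j' jG α β hα hβ hG q hq ?_
  rw [hrange']
  have hqsum : q = q.sum fun s a => a • Finsupp.single s (1 : R') := by
    conv_lhs => rw [← Finsupp.sum_single q]
    refine Finsupp.sum_congr fun s _ => ?_
    rw [Finsupp.smul_single, smul_eq_mul, mul_one]
  rw [hqsum]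
  refine Submodule.sum_mem _ fun s _ => ?_
  exact Submodule.smul_mem_smul (hqI s) Submodule.mem_top

end Local

section Main

variable {R : Type*} [CommRing R] {σ : Type*}

/-- **local-to-global**: if the ideal `I` generated by the `g s` is, locally at every maximal ideal
containing it, generated by a weakly regular sequence, then every relation among the `g s` with
coefficients in `I` is a trivial relation. -/
theorem mem_triv_of_locally_regular (g : σ → R) (I : Ideal R) (hI : Ideal.span (Set.range g) = I)
    (hloc : ∀ (𝔫 : Ideal R) [𝔫.IsMaximal], I ≤ 𝔫 →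
      ∃ rs : List (Localization.AtPrime 𝔫),
        RingTheory.Sequence.IsWeaklyRegular (Localization.AtPrime 𝔫) rs ∧
        I.map (algebraMap R (Localization.AtPrime 𝔫)) = Ideal.ofList rs)
    (q : σ →₀ R) (hq : Finsupp.linearCombination R g q = 0) (hqI : ∀ s, q s ∈ I) :
    q ∈ Triv (Finsupp.linearCombination R g) := by
  classical
  have hrange : (LinearMap.range (Finsupp.linearCombination R g) : Ideal R) = I := by
    rw [Finsupp.range_linearCombination]; exact hI
  refine mem_triv_of_forall_maximal _ q hq ?_
  intro 𝔫 h𝔫 hle
  rw [hrange] at hle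
  obtain ⟨rs, hreg, hrs⟩ := hloc 𝔫 hle
  let R' := Localization.AtPrime 𝔫
  let g' : σ → R' := fun s => algebraMap R R' (g s)
  let f : (σ →₀ R) →ₗ[R] (σ →₀ R') := Finsupp.mapRange.linearMap (Algebra.linearMap R R')
  have hspan' : Ideal.span (Set.range g') = I.map (algebraMap R R') := by
    rw [← hI, Ideal.map_span]
    congr 1
    ext y
    constructor
    · rintro ⟨s, rfl⟩; exact ⟨g s, ⟨s, rfl⟩, rfl⟩
    · rintro ⟨_, ⟨s, rfl⟩, rfl⟩; exact ⟨s, rfl⟩
  have hj : ∀ x, Finsupp.linearCombination R' g' (f x) =
      algebraMap R R' (Finsupp.linearCombination R g x) := by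
    intro x
    induction x using Finsupp.induction_linear with
    | zero => simp
    | add x y hx hy => rw [map_add, map_add, map_add, map_add, hx, hy]
    | single s a =>
      have hfs : f (Finsupp.single s a) = Finsupp.single s (algebraMap R R' a) := by
        simp only [f, Finsupp.mapRange.linearMap_apply, Finsupp.mapRange_single, Algebra.linearMap_apply]
      rw [hfs, Finsupp.linearCombination_single, Finsupp.linearCombination_single]
      change algebraMap R R' a • algebraMap R R' (g s) = _
      rw [smul_eq_mul, smul_eq_mul, map_mul]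
  have hmem : f q ∈ Triv (Finsupp.linearCombination R' g') := by
    refine mem_triv_of_isWeaklyRegular g' rs hreg (hspan'.trans hrs) (f q) ?_ ?_
    · rw [hj, hq, map_zero]
    · intro s
      rw [hspan']
      have hfq : f q s = algebraMap R R' (q s) := by
        simp only [f, Finsupp.mapRange.linearMap_apply, Finsupp.mapRange_apply, Algebra.linearMap_apply]
      rw [hfq]
      exact Ideal.mem_map_of_mem _ (hqI s)
  obtain ⟨s, hs, hsq⟩ := exists_smul_mem_triv (Finsupp.linearCombination R g) 𝔫.primeCompl f
    (Finsupp.linearCombination R' g') hj q hmem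
  exact ⟨s, hs, hsq⟩

end Main

end Groth.Agent.H61.TrivRel
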