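/-
`T² = 0` in coordinates for ideals that are locally generated by `H₁`-regular sequences
(local complete intersections) (helper61).
-/
import Mathlib
import Groth.Agent.H61.TrivRel
import Groth.Agent.H61.DefObs
import Groth.Prelude.Def_CAlgX

set_option autoImplicit false

namespace Groth.Agent.H61.LciT2

open Groth.Agent.H61.DefObs Groth.Agent.H61.TrivRel

section Abstract

variable {P₀ B₀ : Type*} [CommRing P₀] [CommRing B₀] [Algebra P₀ B₀]
  {σ : Type*} (f : σ → P₀)

/-- local data at `g`: the ideal `(f)` is, after inverting `g`, generated by elements `L` whose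
relations are (after inverting `g`) Koszul relations -/
def LocData (g : P₀) : Prop :=
  ∃ (c : ℕ) (L : Fin c → P₀), (∀ j, L j ∈ Ideal.span (Set.range f)) ∧
    (∃ N : ℕ, ∀ s, g ^ N * f s ∈ Ideal.span (Set.range L)) ∧
    ∀ y : Fin c →₀ P₀, lc L y = 0 → ∃ M : ℕ, g ^ M • y ∈ Triv (lc L)

variable [IsNoetherianRing P₀] [Finite σ]

/-- **local-to-global**: coordinates for module maps on the relation module killing the Koszul
relations -/
theorem exists_coord_of_locData
    (hfB : ∀ s, algebraMap P₀ B₀ (f s) = 0)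
    (hloc : ∀ 𝔭 : Ideal P₀, 𝔭.IsPrime → Ideal.span (Set.range f) ≤ 𝔭 → ∃ g, g ∉ 𝔭 ∧ LocData f g)
    (ob : LinearMap.ker (lc f) →ₗ[P₀] B₀)
    (htriv : ∀ (a b : σ →₀ P₀) (h : lc f a • b - lc f b • a ∈ LinearMap.ker (lc f)),
      ob ⟨_, h⟩ = 0) :
    ∃ g : σ → B₀, ∀ r : LinearMap.ker (lc f),
      ob r = (r : σ →₀ P₀).sum (fun s c => algebraMap P₀ B₀ c * g s) := by
  classical
  cases nonempty_fintype σ
  -- `ob` kills all trivial relations
  have htriv' : ∀ q : LinearMap.ker (lc f), (q : σ →₀ P₀) ∈ Triv (lc f) → ob q = 0 := by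
    have hle : Triv (lc f) ≤ (LinearMap.ker ob).map (LinearMap.ker (lc f)).subtype := by
      refine Submodule.span_le.mpr ?_
      rintro _ ⟨a, b, rfl⟩
      have h : lc f a • b - lc f b • a ∈ LinearMap.ker (lc f) :=
        triv_le_ker (lc f) (Submodule.subset_span ⟨a, b, rfl⟩)
      exact ⟨⟨_, h⟩, htriv a b h, rfl⟩
    intro q hq
    obtain ⟨q', hq', hqq⟩ := hle hq
    have : q' = q := Subtype.ext hqq
    rw [← this]
    exact hq'
  -- coordinates of a linear map on the free module
  have hcoord : ∀ (Ψ : (σ →₀ P₀) →ₗ[P₀] B₀) (r : σ →₀ P₀),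
      Ψ r = ∑ s, algebraMap P₀ B₀ (r s) * Ψ (Finsupp.single s 1) := by
    intro Ψ r
    conv_lhs => rw [← Finsupp.univ_sum_single r]
    rw [map_sum]
    refine Finset.sum_congr rfl fun s _ => ?_
    rw [← Finsupp.smul_single_one, map_smul, Algebra.smul_def]
  -- the ideal of good multipliers
  let Good : P₀ → Prop := fun c => ∃ g : σ → B₀, ∀ r : LinearMap.ker (lc f),
    algebraMap P₀ B₀ c * ob r = ∑ s, algebraMap P₀ B₀ ((r : σ →₀ P₀) s) * g s
  let 𝔞 : Ideal P₀ :=
    { carrier := {c | Good c}
      add_mem' := by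
        rintro c₁ c₂ ⟨g₁, h₁⟩ ⟨g₂, h₂⟩
        refine ⟨fun s => g₁ s + g₂ s, fun r => ?_⟩
        rw [map_add, add_mul, h₁, h₂, ← Finset.sum_add_distrib]
        exact Finset.sum_congr rfl fun s _ => by ring
      zero_mem' := ⟨fun _ => 0, fun r => by simp⟩
      smul_mem' := by
        rintro c' c ⟨g, hg⟩
        refine ⟨fun s => algebraMap P₀ B₀ c' * g s, fun r => ?_⟩
        rw [smul_eq_mul, map_mul, mul_assoc, hg, Finset.mul_sum]
        exact Finset.sum_congr rfl fun s _ => by ring }
  have h𝔞 : ∀ c, c ∈ 𝔞 ↔ Good c := fun c => Iff.rfl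
  suffices htop : 𝔞 = ⊤ by
    have h1 : (1 : P₀) ∈ 𝔞 := by rw [htop]; exact Submodule.mem_top
    obtain ⟨g, hg⟩ := (h𝔞 1).mp h1
    refine ⟨g, fun r => ?_⟩
    have := hg r
    rw [map_one, one_mul] at this
    rw [this, Finsupp.sum_fintype _ _ (fun s => by rw [map_zero, zero_mul])]
  by_contra hne
  obtain ⟨𝔭, h𝔭max, h𝔞𝔭⟩ := Ideal.exists_le_maximal 𝔞 hne
  haveI h𝔭 : 𝔭.IsPrime := h𝔭max.isPrime
  by_cases hle : Ideal.span (Set.range f) ≤ 𝔭
  swap
  · apply hle
    rw [Ideal.span_le]
    rintro _ ⟨s, rfl⟩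
    refine h𝔞𝔭 ((h𝔞 _).mpr ⟨fun _ => 0, fun r => ?_⟩)
    rw [hfB, zero_mul]
    simp
  obtain ⟨g, hg𝔭, c, L, hL, ⟨N, hN⟩, hrel⟩ := hloc 𝔭 h𝔭 hle
  choose D hD using fun j => exists_lc_of_mem_span f (hL j)
  choose Cc hCc using fun s => exists_lc_of_mem_span L (hN s)
  let u : (Fin c →₀ P₀) →ₗ[P₀] (σ →₀ P₀) := Finsupp.linearCombination P₀ D
  have hu : ∀ y, lc f (u y) = lc L y := by
    intro y
    induction y using Finsupp.induction_linear with
    | zero => simp
    | add x y hx hy => rw [map_add, map_add, map_add, hx, hy]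
    | single j a => simp [u, lc, hD]
  let cmap : (σ →₀ P₀) →ₗ[P₀] (Fin c →₀ P₀) := Finsupp.linearCombination P₀ Cc
  have hcmap : ∀ x, lc L (cmap x) = g ^ N * lc f x := by
    intro x
    induction x using Finsupp.induction_linear with
    | zero => simp
    | add x y hx hy => rw [map_add, map_add, map_add, hx, hy, mul_add]
    | single s a =>
      simp only [cmap, lc, Finsupp.linearCombination_single, map_smul, smul_eq_mul]
      rw [hCc]
      ring
  let ρ : (σ →₀ P₀) →ₗ[P₀] (σ →₀ P₀) := (g ^ N) • LinearMap.id - u.comp cmap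
  have hρ0 : ∀ x, lc f (ρ x) = 0 := by
    intro x
    simp only [ρ, LinearMap.sub_apply, LinearMap.smul_apply, LinearMap.id_apply,
      LinearMap.comp_apply, map_sub, map_smul, smul_eq_mul]
    rw [hu, hcmap, sub_self]
  let ρ' : (σ →₀ P₀) →ₗ[P₀] LinearMap.ker (lc f) := LinearMap.codRestrict _ ρ hρ0
  -- the stabilizing chain
  let Ψ : ℕ → (LinearMap.ker (lc f) →ₗ[P₀] B₀) := fun K =>
    (g ^ (K + N)) • ob - (g ^ K) • (ob.comp (ρ'.comp (LinearMap.ker (lc f)).subtype))
  have hΨ : ∀ K r, r ∈ LinearMap.ker (Ψ K) ↔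
      algebraMap P₀ B₀ (g ^ (K + N)) * ob r = algebraMap P₀ B₀ (g ^ K) * ob (ρ' r.1) := by
    intro K r
    simp only [Ψ, LinearMap.mem_ker, LinearMap.sub_apply, LinearMap.smul_apply,
      LinearMap.comp_apply, Submodule.subtype_apply, sub_eq_zero, Algebra.smul_def]
  let S : ℕ →o Submodule P₀ (LinearMap.ker (lc f)) :=
    ⟨fun K => LinearMap.ker (Ψ K), by
      refine monotone_nat_of_le_succ fun K r hr => ?_
      rw [hΨ] at hr ⊢
      rw [show K + 1 + N = (K + N) + 1 by ring, pow_succ, pow_succ, map_mul, map_mul,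
        mul_right_comm, hr]
      ring⟩
  obtain ⟨K₀, hK₀⟩ := monotone_stabilizes_iff_noetherian.mpr
    (inferInstance : IsNoetherian P₀ (LinearMap.ker (lc f))) S
  have hall : ∀ r : LinearMap.ker (lc f), r ∈ LinearMap.ker (Ψ K₀) := by
    intro r
    have hy : lc L (cmap r.1) = 0 := by rw [hcmap, r.2, mul_zero]
    obtain ⟨M, hM⟩ := hrel _ hy
    have h1 : u (g ^ M • cmap r.1) ∈ Triv (lc f) :=
      map_triv_le (lc L) (lc f) u hu ⟨_, hM, rfl⟩
    have h2 : (g ^ M) • ρ r.1 = (g ^ (M + N)) • r.1 - u (g ^ M • cmap r.1) := by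
      simp only [ρ, LinearMap.sub_apply, LinearMap.smul_apply, LinearMap.id_apply,
        LinearMap.comp_apply, map_smul, smul_sub, smul_smul, pow_add]
    have h3 : u (g ^ M • cmap r.1) ∈ LinearMap.ker (lc f) := triv_le_ker (lc f) h1
    have h4 : (g ^ (M + N)) • r = (g ^ M) • ρ' r.1 + ⟨_, h3⟩ := by
      apply Subtype.ext
      change (g ^ (M + N)) • r.1 = (g ^ M) • ρ r.1 + u (g ^ M • cmap r.1)
      rw [h2, sub_add_cancel]
    have h5 : r ∈ LinearMap.ker (Ψ M) := by
      rw [hΨ]
      have := congrArg ob h4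
      rw [map_add, map_smul, map_smul, htriv' ⟨_, h3⟩ h1, add_zero, Algebra.smul_def,
        Algebra.smul_def] at this
      exact this
    have h6 : S M ≤ S (max K₀ M) := S.monotone (le_max_right _ _)
    have h7 : S K₀ = S (max K₀ M) := hK₀ _ (le_max_left _ _)
    have h8 : r ∈ S (max K₀ M) := h6 h5
    rw [← h7] at h8
    exact h8
  -- conclude
  have hgood : g ^ (K₀ + N) ∈ 𝔞 := by
    refine (h𝔞 _).mpr ⟨fun s => algebraMap P₀ B₀ (g ^ K₀) *
      ob (ρ' (Finsupp.single s 1)), fun r => ?_⟩
    have hc := hcoord (ob.comp ρ') r.1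
    simp only [LinearMap.comp_apply] at hc
    rw [(hΨ K₀ r).mp (hall r), hc, Finset.mul_sum]
    refine Finset.sum_congr rfl fun s _ => ?_
    ring
  exact hg𝔭 (h𝔭.mem_of_pow_mem _ (h𝔞𝔭 hgood))

end Abstract

section Loc

universe u

variable {R : Type u} [CommRing R]

/-- `H₁`-regularity in `Finsupp` form -/
lemma ker_le_triv_of_isH1Regular {c : ℕ} (h : Fin c → R) (hH1 : CAlgX.IsH1Regular h) :
    LinearMap.ker (lc h) ≤ Triv (lc h) := by
  classical
  intro y hy
  have h0 : ∑ i, y i * h i = 0 := by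
    have : lc h y = ∑ i, y i * h i := by
      rw [Finsupp.linearCombination_apply,
        Finsupp.sum_fintype y (fun i a => a • h i) (fun i => zero_smul R (h i))]
      rfl
    rw [← this]; exact hy
  have h1 := hH1 (⇑y) h0
  let e := (Finsupp.linearEquivFunOnFinite R R (Fin c)).symm
  have h2 : e (⇑y) = y := Finsupp.ext fun i => rfl
  have hle : Submodule.span R {v : Fin c → R | ∃ i j : Fin c,
      v = Pi.single i (h j) - Pi.single j (h i)} ≤ (Triv (lc h)).comap e.toLinearMap := by
    refine Submodule.span_le.mpr ?_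
    rintro _ ⟨i, j, rfl⟩
    rw [SetLike.mem_coe, Submodule.mem_comap, LinearEquiv.coe_coe, map_sub,
      Finsupp.linearEquivFunOnFinite_symm_single, Finsupp.linearEquivFunOnFinite_symm_single]
    refine Submodule.subset_span ⟨Finsupp.single j 1, Finsupp.single i 1, ?_⟩
    simp [lc, Finsupp.smul_single]
  have h3 := hle h1
  rw [Submodule.mem_comap, LinearEquiv.coe_coe, h2] at h3
  exact h3

/-- local data from `H₁`-regular generators of the localized ideal -/
theorem locData_of_h1Regular {σ : Type*} [Finite σ] (f : σ → R) (g : R) {c : ℕ}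
    (h : Fin c → Localization.Away g) (hH1 : CAlgX.IsH1Regular h)
    (hspan : (Ideal.span (Set.range f)).map (algebraMap R (Localization.Away g)) =
      Ideal.span (Set.range h)) : LocData f g := by
  classical
  cases nonempty_fintype σ
  set S := Submonoid.powers g with hS
  set I := Ideal.span (Set.range f) with hI
  -- clear denominators
  have hmem : ∀ j, ∃ x : I × S, h j * algebraMap R (Localization.Away g) x.2 = algebraMap R (Localization.Away g) x.1 := by
    intro j
    have : h j ∈ I.map (algebraMap R (Localization.Away g)) := by rw [hspan]; exact Ideal.subset_span ⟨j, rfl⟩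
    exact (IsLocalization.mem_map_algebraMap_iff S (Localization.Away g)).mp this
  choose x hx using hmem
  let t : R := ∏ j, ((x j).2 : R)
  have htS : t ∈ S := Submonoid.prod_mem _ fun j _ => (x j).2.2
  let L : Fin c → R := fun j => (∏ i ∈ Finset.univ.erase j, ((x i).2 : R)) * ((x j).1 : R)
  have hLI : ∀ j, L j ∈ I := fun j => I.mul_mem_left _ (x j).1.2
  set τ : Localization.Away g := algebraMap R (Localization.Away g) t with hτ
  have hτu : IsUnit τ := IsLocalization.map_units (Localization.Away g) (⟨t, htS⟩ : S)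
  have hLh : ∀ j, algebraMap R (Localization.Away g) (L j) = τ * h j := by
    intro j
    have ht : t = ((x j).2 : R) * ∏ i ∈ Finset.univ.erase j, ((x i).2 : R) :=
      (Finset.mul_prod_erase Finset.univ (fun i => ((x i).2 : R)) (Finset.mem_univ j)).symm
    simp only [L]
    rw [hτ, ht, map_mul, map_mul, ← hx j]
    ring
  have hspanL : (Ideal.span (Set.range L)).map (algebraMap R (Localization.Away g)) = Ideal.span (Set.range h) := by
    rw [Ideal.map_span]
    apply le_antisymm
    · rw [Ideal.span_le]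
      rintro _ ⟨_, ⟨j, rfl⟩, rfl⟩
      rw [hLh]
      exact Ideal.mul_mem_left _ _ (Ideal.subset_span ⟨j, rfl⟩)
    · rw [Ideal.span_le]
      rintro _ ⟨j, rfl⟩
      obtain ⟨τ', hτ'⟩ := hτu.exists_left_inv
      have : h j = τ' * algebraMap R (Localization.Away g) (L j) := by
        rw [hLh, ← mul_assoc, hτ', one_mul]
      rw [this]
      exact Ideal.mul_mem_left _ _ (Ideal.subset_span ⟨L j, ⟨j, rfl⟩, rfl⟩)
  refine ⟨c, L, hLI, ?_, ?_⟩
  · -- uniform power
    have h1 : ∀ s, ∃ n : ℕ, g ^ n * f s ∈ Ideal.span (Set.range L) := by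
      intro s
      have h2 : algebraMap R (Localization.Away g) (f s) ∈ (Ideal.span (Set.range L)).map (algebraMap R (Localization.Away g)) := by
        rw [hspanL, ← hspan]
        exact Ideal.mem_map_of_mem _ (Ideal.subset_span ⟨s, rfl⟩)
      obtain ⟨m, hm, hmf⟩ :=
        (IsLocalization.algebraMap_mem_map_algebraMap_iff S (Localization.Away g) _ (f s)).mp h2
      obtain ⟨n, rfl⟩ := (Submonoid.mem_powers_iff m g).mp hm
      exact ⟨n, hmf⟩
    choose n hn using h1
    refine ⟨∑ s, n s, fun s => ?_⟩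
    have : g ^ (∑ s, n s) = g ^ (∑ s' ∈ Finset.univ.erase s, n s') * g ^ n s := by
      rw [← pow_add, Finset.sum_erase_add _ _ (Finset.mem_univ s)]
    rw [this, mul_assoc]
    exact Ideal.mul_mem_left _ _ (hn s)
  · intro y hy
    let fm : (Fin c →₀ R) →ₗ[R] (Fin c →₀ Localization.Away g) :=
      Finsupp.mapRange.linearMap (Algebra.linearMap R (Localization.Away g))
    let j' : (Fin c →₀ Localization.Away g) →ₗ[Localization.Away g] Localization.Away g := lc (fun j => algebraMap R (Localization.Away g) (L j))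
    have hj : ∀ z, j' (fm z) = algebraMap R (Localization.Away g) (lc L z) := by
      intro z
      induction z using Finsupp.induction_linear with
      | zero => simp
      | add a b ha hb => rw [map_add, map_add, map_add, map_add, ha, hb]
      | single i a =>
        have hfs : fm (Finsupp.single i a) = Finsupp.single i (algebraMap R (Localization.Away g) a) := by
          simp only [fm, Finsupp.mapRange.linearMap_apply, Finsupp.mapRange_single,
            Algebra.linearMap_apply]
        rw [hfs]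
        simp only [j', lc, Finsupp.linearCombination_single, smul_eq_mul, map_mul]
    have hj'h : ∀ z, j' z = τ * lc h z := by
      intro z
      induction z using Finsupp.induction_linear with
      | zero => simp
      | add a b ha hb => rw [map_add, map_add, ha, hb, mul_add]
      | single i a =>
        simp only [j', lc, Finsupp.linearCombination_single, smul_eq_mul]
        rw [hLh]
        ring
    have hker : fm y ∈ LinearMap.ker (lc h) := by
      rw [LinearMap.mem_ker]
      have h1 : τ * lc h (fm y) = 0 := by rw [← hj'h, hj, hy, map_zero]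
      exact (hτu.mul_right_eq_zero).mp h1
    have htriv : fm y ∈ Triv (lc h) := ker_le_triv_of_isH1Regular h hH1 hker
    have hle : Triv (lc h) ≤ Triv j' := by
      refine Submodule.span_le.mpr ?_
      rintro _ ⟨a, b, rfl⟩
      obtain ⟨τ', hτ'⟩ := hτu.exists_left_inv
      have : lc h a • b - lc h b • a = τ' • (j' a • b - j' b • a) := by
        rw [hj'h, hj'h, smul_sub, smul_smul, smul_smul, ← mul_assoc, ← mul_assoc, hτ', one_mul,
          one_mul]
      rw [this]
      exact Submodule.smul_mem _ _ (Submodule.subset_span ⟨a, b, rfl⟩)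
    obtain ⟨s, hs, hsy⟩ := exists_smul_mem_triv (lc L) S fm j' hj y (hle htriv)
    obtain ⟨M, rfl⟩ := (Submonoid.mem_powers_iff s g).mp hs
    exact ⟨M, hsy⟩

end Loc

end Groth.Agent.H61.LciT2
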