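import Groth.Agent.H61.LocHilbFlat
import Groth.Agent.H61.LocHilbLocal

/-!
# The local Hilbert functor over the base field (helper61)
-/

set_option autoImplicit false
universe u

open CategoryTheory CategoryTheory.Limits AlgebraicGeometry TopologicalSpace Opposite
open ArtFun ArtFun.Art

namespace Groth.Agent.H61.LocHilb

variable {k : Type u} [Field k] {X : Scheme.{u}} (x : X ⟶ specPt k) (I₀ : X.IdealSheafData)

lemma maximalIdeal_base : IsLocalRing.maximalIdeal (base k k) = ⊥ := by
  ext b
  rw [Art.mem_maximalIdeal_iff, Ideal.mem_bot]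
  exact Iff.rfl

lemma ρ_base_bijective (U : X.affineOpens) : Function.Bijective (ρ x (base k k) U.1) := by
  refine ⟨?_, ρ_surjective x _ U.2⟩
  rw [injective_iff_map_eq_zero]
  intro a ha
  have h : a ∈ RingHom.ker (ρ x (base k k) U.1) := ha
  rw [ker_ρ x _ U.2, maximalIdeal_base, Ideal.map_bot] at h
  exact h

theorem subsingleton_obj_base : Subsingleton ((localHilb X x I₀).obj (base k k)) := by
  refine ⟨fun I₁ I₂ => Subtype.ext ?_⟩
  refine Scheme.IdealSheafData.ext_of_iSup_eq_top
    (fun U : X.affineOpens => Wa x (base k k) U) (iSup_W_eq_top x _) fun U => ?_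
  have h1 := map_ρ_eq x I₀ I₁.1 I₁.2.2 U
  have h2 := map_ρ_eq x I₀ I₂.1 I₂.2.2 U
  have hb := ρ_base_bijective x U
  rw [← Ideal.comap_map_of_bijective _ hb (I := I₁.1.ideal (Wa x (base k k) U)),
    ← Ideal.comap_map_of_bijective _ hb (I := I₂.1.ideal (Wa x (base k k) U)), h1, h2]

theorem nonempty_obj_base : Nonempty ((localHilb X x I₀).obj (base k k)) := by
  refine ⟨⟨I₀.comap (pr x (base k k)), ?_, ?_⟩⟩
  · refine flatOver_of_quot_flat x (base k k) _ fun U => ?_
    letI : Field (base k k) := inferInstanceAs (Field k)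
    unfold RingHom.Flat
    infer_instance
  · rw [← Scheme.IdealSheafData.comap_comp, XAincl_fst, Scheme.IdealSheafData.comap_id]

end Groth.Agent.H61.LocHilb
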