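import Groth.Agent.H61.LocHilbDict

/-!
# Building ideal sheaves on `X ×_k Spec B` from families of ideals indexed by affine opens of `X`
(helper61)
-/

set_option autoImplicit false
universe u

open CategoryTheory CategoryTheory.Limits AlgebraicGeometry TopologicalSpace Opposite
open ArtFun ArtFun.Art

namespace Groth.Agent.H61.LocHilb

variable {k : Type u} [Field k] {X : Scheme.{u}} (x : X ⟶ specPt k)

instance isClosedImmersion_specRes (B : Art k k) : IsClosedImmersion (specRes B) :=
  IsClosedImmersion.spec_of_surjective _ B.res_surjective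

instance surjective_specRes (B : Art k k) : Surjective (specRes B) := by
  haveI : Subsingleton (spec B) := inferInstanceAs (Subsingleton (PrimeSpectrum B))
  haveI : Nonempty (specPt k) := inferInstanceAs (Nonempty (PrimeSpectrum k))
  exact ⟨fun y => ⟨Classical.arbitrary _, Subsingleton.elim _ _⟩⟩

instance isClosedImmersion_XAincl (B : Art k k) : IsClosedImmersion (XAincl x B) :=
  MorphismProperty.of_isPullback (P := @IsClosedImmersion) (isPullback_XAincl x B).flip
    inferInstance

instance surjective_XAincl (B : Art k k) : Surjective (XAincl x B) :=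
  MorphismProperty.of_isPullback (P := @Surjective) (isPullback_XAincl x B).flip
    inferInstance

lemma XAincl_pr (B : Art k k) (y : XA x B) : XAincl x B (pr x B y) = y := by
  obtain ⟨z, rfl⟩ := (XAincl x B).surjective y
  have h : (XAincl x B ≫ pr x B) z = z := by
    rw [XAincl_fst]; rfl
  exact congrArg (XAincl x B) h

/-- every open of `X ×_k Spec B` is the preimage of an open of `X` -/
lemma W_preimage (B : Art k k) (V : (XA x B).Opens) : W x B (XAincl x B ⁻¹ᵁ V) = V := by
  ext y
  change XAincl x B (pr x B y) ∈ V ↔ y ∈ V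
  rw [XAincl_pr]

/-- the affine open of `X` under an affine open of `X ×_k Spec B` -/
noncomputable def under (B : Art k k) (V : (XA x B).affineOpens) : X.affineOpens :=
  ⟨XAincl x B ⁻¹ᵁ V.1, V.2.preimage (XAincl x B)⟩

lemma W_under (B : Art k k) (V : (XA x B).affineOpens) : W x B (under x B V).1 = V.1 :=
  W_preimage x B V.1

lemma under_mono (B : Art k k) {V V' : (XA x B).affineOpens} (h : V'.1 ≤ V.1) :
    (under x B V').1 ≤ (under x B V).1 :=
  (XAincl x B).preimage_mono h

lemma under_Wa (B : Art k k) (U : X.affineOpens) : (under x B (Wa x B U)).1 = U.1 :=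
  XAincl_preimage_W x B U.1

/-- **Builder**: a family of ideals on the affine opens `W U` compatible with restriction is the
family of ideals of an ideal sheaf on `X ×_k Spec B`. -/
theorem exists_idealSheaf (B : Art k k)
    (𝔞 : ∀ U : X.affineOpens, Ideal Γ(XA x B, W x B U.1))
    (h𝔞 : ∀ (U V : X.affineOpens) (h : V.1 ≤ U.1),
      (𝔞 U).map ((XA x B).presheaf.map (homOfLE (W_mono x B h)).op).hom = 𝔞 V) :
    ∃ I : (XA x B).IdealSheafData, ∀ U : X.affineOpens, I.ideal (Wa x B U) = 𝔞 U := by
  -- the transport isomorphisms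
  let τ : ∀ V : (XA x B).affineOpens, Γ(XA x B, W x B (under x B V).1) ⟶ Γ(XA x B, V.1) :=
    fun V => (XA x B).presheaf.map (eqToHom (W_under x B V).symm).op
  have hτ : ∀ (V V' : (XA x B).affineOpens) (h : V'.1 ≤ V.1),
      (XA x B).presheaf.map (homOfLE (W_mono x B (under_mono x B h))).op ≫ τ V' =
        τ V ≫ (XA x B).presheaf.map (homOfLE h).op := by
    intro V V' h
    simp only [τ, ← Functor.map_comp]
    rfl
  refine ⟨{ ideal := fun V => (𝔞 (under x B V)).map (τ V).hom
            map_ideal_basicOpen := ?_ }, ?_⟩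
  · intro V f
    have h1 := h𝔞 (under x B V) (under x B ((XA x B).affineBasicOpen f))
      (under_mono x B ((XA x B).basicOpen_le f))
    rw [← h1, Ideal.map_map, Ideal.map_map, ← CommRingCat.hom_comp, ← CommRingCat.hom_comp]
    exact congrArg (fun t : Γ(XA x B, W x B (under x B V).1) ⟶
        Γ(XA x B, ((XA x B).affineBasicOpen f).1) => (𝔞 (under x B V)).map t.hom)
      (hτ V ((XA x B).affineBasicOpen f) ((XA x B).basicOpen_le f)).symm
  · intro U
    change (𝔞 (under x B (Wa x B U))).map (τ (Wa x B U)).hom = 𝔞 U
    have hle : (under x B (Wa x B U)).1 ≤ U.1 := le_of_eq (under_Wa x B U)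
    have h1 := h𝔞 U (under x B (Wa x B U)) hle
    rw [← h1, Ideal.map_map, ← CommRingCat.hom_comp]
    have h2 : (XA x B).presheaf.map (homOfLE (W_mono x B hle)).op ≫ τ (Wa x B U) = 𝟙 _ := by
      simp only [τ, ← Functor.map_comp]
      exact (XA x B).presheaf.map_id _
    rw [h2]
    exact Ideal.map_id _

end Groth.Agent.H61.LocHilb
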