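import Mathlib
import Groth.Prelude.Def_ArtFun6
import Groth.Prelude.Def_ArtFun3

/-!
# Bases of the kernels of `k[ε] → k` and `k[ε₁,ε₂] → k`, and the structure maps (helper61)
-/

set_option autoImplicit false
universe u

open CategoryTheory CategoryTheory.Limits
open ArtFun ArtFun.Art

namespace Groth.Agent.H61.LocHilb

variable {k : Type u} [Field k]

section Pure

lemma tsz_mul_eq_zero {M : Type u} [AddCommGroup M] [Module k M] [Module kᵐᵒᵖ M]
    [IsCentralScalar k M] (a b : TrivSqZeroExt k M) (ha : a.fst = 0) (hb : b.fst = 0) :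
    a * b = 0 := by
  apply TrivSqZeroExt.ext
  · rw [TrivSqZeroExt.fst_mul, ha, zero_mul]; rfl
  · rw [TrivSqZeroExt.snd_mul, ha, hb]; simp

lemma tsz_eq_inl_mul_inr (a : TrivSqZeroExt k k) (ha : a.fst = 0) :
    a = TrivSqZeroExt.inl a.snd * TrivSqZeroExt.inr 1 := by
  apply TrivSqZeroExt.ext
  · rw [ha]; simp
  · simp

lemma tsz2_eq (a : TrivSqZeroExt k (k × k)) (ha : a.fst = 0) :
    a = TrivSqZeroExt.inl a.snd.1 * TrivSqZeroExt.inr ((1 : k), (0 : k)) +
      TrivSqZeroExt.inl a.snd.2 * TrivSqZeroExt.inr ((0 : k), (1 : k)) := by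
  apply TrivSqZeroExt.ext
  · rw [ha]; simp
  · apply Prod.ext <;> simp

lemma tsz_fst_of_mul_inr (c : TrivSqZeroExt k k) (h : c * TrivSqZeroExt.inr (1 : k) = 0) :
    c.fst = 0 := by
  have h2 := congrArg TrivSqZeroExt.snd h
  simpa using h2

lemma tsz2_fst_of (c₀ c₁ : TrivSqZeroExt k (k × k))
    (h : c₀ * TrivSqZeroExt.inr ((1 : k), (0 : k)) + c₁ * TrivSqZeroExt.inr ((0 : k), (1 : k)) = 0) :
    c₀.fst = 0 ∧ c₁.fst = 0 := by
  have h2 := congrArg TrivSqZeroExt.snd h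
  have h3 : (c₀.fst, c₁.fst) = ((0 : k), (0 : k)) := by simpa using h2
  exact ⟨(Prod.ext_iff.mp h3).1, (Prod.ext_iff.mp h3).2⟩

end Pure

/-- `ε ∈ k[ε]` -/
def eps : dual k k := (TrivSqZeroExt.inr (1 : k) : TrivSqZeroExt k k)

/-- `ε₁ ∈ k[ε₁,ε₂]` -/
def eps₁ : dual2 k k := (TrivSqZeroExt.inr ((1 : k), (0 : k)) : TrivSqZeroExt k (k × k))

/-- `ε₂ ∈ k[ε₁,ε₂]` -/
def eps₂ : dual2 k k := (TrivSqZeroExt.inr ((0 : k), (1 : k)) : TrivSqZeroExt k (k × k))

/-- the basis of the kernel of `k[ε] → k` -/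
def jD : Fin 1 → dual k k := fun _ => eps

/-- the basis of the kernel of `k[ε₁,ε₂] → k` -/
def jD2 : Fin 2 → dual2 k k := ![eps₁, eps₂]

/-- the constant `c ∈ k[ε]` -/
def cD (c : k) : dual k k := (TrivSqZeroExt.inl c : TrivSqZeroExt k k)

/-- the constant `c ∈ k[ε₁,ε₂]` -/
def cD2 (c : k) : dual2 k k := (TrivSqZeroExt.inl c : TrivSqZeroExt k (k × k))

lemma res_cD (c : k) : (dual k k).res (cD c) = c := rfl

lemma mem_ker_toBase_iff_dual (a : dual k k) :
    a ∈ RingHom.ker (toBase (dual k k)).toAlgHom ↔ TrivSqZeroExt.fst (R := k) (M := k) a = 0 := by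
  rw [RingHom.mem_ker]; rfl

lemma mem_ker_toBase_iff_dual2 (a : dual2 k k) :
    a ∈ RingHom.ker (toBase (dual2 k k)).toAlgHom ↔
      TrivSqZeroExt.fst (R := k) (M := k × k) a = 0 := by
  rw [RingHom.mem_ker]; rfl

lemma mem_max_iff_dual (a : dual k k) :
    a ∈ IsLocalRing.maximalIdeal (dual k k) ↔ TrivSqZeroExt.fst (R := k) (M := k) a = 0 := by
  rw [Art.mem_maximalIdeal_iff]; rfl

lemma mem_max_iff_dual2 (a : dual2 k k) :
    a ∈ IsLocalRing.maximalIdeal (dual2 k k) ↔ TrivSqZeroExt.fst (R := k) (M := k × k) a = 0 := by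
  rw [Art.mem_maximalIdeal_iff]; rfl

theorem hjJ_D : Ideal.span (Set.range (jD (k := k))) = RingHom.ker (toBase (dual k k)).toAlgHom := by
  apply le_antisymm
  · rw [Ideal.span_le]
    rintro _ ⟨l, rfl⟩
    change eps ∈ RingHom.ker (toBase (dual k k)).toAlgHom
    rw [mem_ker_toBase_iff_dual]
    rfl
  · intro a ha
    rw [mem_ker_toBase_iff_dual] at ha
    have e : a = cD (TrivSqZeroExt.snd (R := k) (M := k) a) * eps := tsz_eq_inl_mul_inr a ha
    rw [e]
    exact Ideal.mul_mem_left _ _ (Ideal.subset_span ⟨0, rfl⟩)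

theorem hj_D (c : Fin 1 → dual k k) (h : ∑ l, c l * jD l = 0) (l : Fin 1) :
    c l ∈ IsLocalRing.maximalIdeal (dual k k) := by
  have hl : l = 0 := Subsingleton.elim _ _
  subst hl
  rw [mem_max_iff_dual]
  rw [Fin.sum_univ_one] at h
  exact tsz_fst_of_mul_inr (c 0) h

theorem hjJ_D2 :
    Ideal.span (Set.range (jD2 (k := k))) = RingHom.ker (toBase (dual2 k k)).toAlgHom := by
  apply le_antisymm
  · rw [Ideal.span_le]
    rintro _ ⟨l, rfl⟩
    change jD2 l ∈ RingHom.ker (toBase (dual2 k k)).toAlgHom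
    rw [mem_ker_toBase_iff_dual2]
    fin_cases l <;> rfl
  · intro a ha
    rw [mem_ker_toBase_iff_dual2] at ha
    have e : a = cD2 (TrivSqZeroExt.snd (R := k) (M := k × k) a).1 * eps₁ +
        cD2 (TrivSqZeroExt.snd (R := k) (M := k × k) a).2 * eps₂ :=
      tsz2_eq a ha
    rw [e]
    exact Ideal.add_mem _ (Ideal.mul_mem_left _ _ (Ideal.subset_span ⟨0, rfl⟩))
      (Ideal.mul_mem_left _ _ (Ideal.subset_span ⟨1, rfl⟩))

theorem hj_D2 (c : Fin 2 → dual2 k k) (h : ∑ l, c l * jD2 l = 0) (l : Fin 2) :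
    c l ∈ IsLocalRing.maximalIdeal (dual2 k k) := by
  rw [mem_max_iff_dual2]
  rw [Fin.sum_univ_two] at h
  have h3 := tsz2_fst_of (c 0) (c 1) h
  fin_cases l
  · exact h3.1
  · exact h3.2

theorem isSemismallExt_toBase_dual2 : IsSemismallExt (toBase (dual2 k k)) := by
  refine ⟨(dual2 k k).res_surjective, ?_⟩
  rw [eq_bot_iff, Ideal.mul_le]
  intro a ha b hb
  rw [mem_max_iff_dual2] at ha
  rw [mem_ker_toBase_iff_dual2] at hb
  rw [Ideal.mem_bot]
  exact tsz_mul_eq_zero (M := k × k) a b ha hb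

theorem isSemismallExt_toBase_dual : IsSemismallExt (toBase (dual k k)) := by
  refine ⟨(dual k k).res_surjective, ?_⟩
  rw [eq_bot_iff, Ideal.mul_le]
  intro a ha b hb
  rw [mem_max_iff_dual] at ha
  rw [mem_ker_toBase_iff_dual] at hb
  rw [Ideal.mem_bot]
  exact tsz_mul_eq_zero (M := k) a b ha hb

/-! ### values of the structure maps on the bases -/

theorem scale_eps (c : k) : scale (Λ := k) c (eps (k := k)) = cD c * eps := by
  have h : (TrivSqZeroExt.inr (c • (1 : k)) : TrivSqZeroExt k k) =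
      TrivSqZeroExt.inl c * TrivSqZeroExt.inr 1 := by
    apply TrivSqZeroExt.ext <;> simp
  have h0 : scale (Λ := k) c (eps (k := k)) =
      (TrivSqZeroExt.inr (c • (1 : k)) : TrivSqZeroExt k k) := by
    apply TrivSqZeroExt.ext
    · rfl
    · rfl
  exact h0.trans h

theorem pr₁_eps₁ : pr₁ (Λ := k) (eps₁ (k := k)) = eps := rfl
theorem pr₁_eps₂ : pr₁ (Λ := k) (eps₂ (k := k)) = 0 := rfl
theorem pr₂_eps₁ : pr₂ (Λ := k) (eps₁ (k := k)) = 0 := rfl
theorem pr₂_eps₂ : pr₂ (Λ := k) (eps₂ (k := k)) = eps := rfl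
theorem plus_eps₁ : plus (Λ := k) (eps₁ (k := k)) = eps := by
  have h : ((1 : k) + 0) = 1 := add_zero _
  exact TrivSqZeroExt.ext rfl h
theorem plus_eps₂ : plus (Λ := k) (eps₂ (k := k)) = eps := by
  have h : ((0 : k) + 1) = 1 := zero_add _
  exact TrivSqZeroExt.ext rfl h

end Groth.Agent.H61.LocHilb
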