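import Groth.Agent.H61.LocHilbTangent
import Groth.Agent.H61.DefFlat

/-!
# The local Hilbert functor and fibre products: helper lemmas
-/

set_option autoImplicit false
universe u
open CategoryTheory CategoryTheory.Limits AlgebraicGeometry TopologicalSpace Opposite OmegaSh
open ArtFun ArtFun.Art
open Groth.Agent.H39 Groth.Agent.H39.ConormalLocal Groth.Agent.H39.ConormalSect
  Groth.Agent.H39.ConormalMap

namespace Groth.Agent.H61.LocHilb

section Gen

lemma mem_ideal_of_eq {P : Scheme.{u}} (I : P.IdealSheafData) (V₁ V₂ : P.affineOpens)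
    (e : V₂.1 ≤ V₁.1) (e' : V₁.1 ≤ V₂.1) (s : Γ(P, V₁.1)) :
    P.presheaf.map (homOfLE e).op s ∈ I.ideal V₂ ↔ s ∈ I.ideal V₁ := by
  obtain rfl : V₁ = V₂ := Subtype.ext (le_antisymm e' e)
  have : (homOfLE e).op = 𝟙 _ := rfl
  rw [this, P.presheaf.map_id]
  rfl

lemma isNilpotent_maximalIdeal {k : Type u} [Field k] (B : Art k k) :
    IsNilpotent (IsLocalRing.maximalIdeal B) := by
  have h := IsArtinianRing.isNilpotent_jacobson_bot (R := B)
  rwa [IsLocalRing.jacobson_eq_maximalIdeal ⊥ bot_ne_top] at h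

lemma span_range_one {R : Type u} [CommRing R] (a : R) :
    Ideal.span (Set.range ![a]) = Ideal.span {a} := by
  congr 1
  ext y
  constructor
  · rintro ⟨i, rfl⟩
    have : i = 0 := Subsingleton.elim _ _
    subst this
    rfl
  · intro hy
    exact ⟨0, hy.symm⟩

end Gen

section Sig

variable {k : Type u} [Field k] {X : Scheme.{u}} (x : X ⟶ specPt k)

instance isAffineHom_XAmap {B A : Art k k} (p : B ⟶ A) : IsAffineHom (XAmap x p) :=
  MorphismProperty.of_isPullback (P := @IsAffineHom) (isPullback_XAmap x p).flip inferInstance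

lemma σ_comp {B B' B'' : Art k k} (g : B ⟶ B') (g' : B' ⟶ B'') (U : X.Opens)
    (s : Γ(XA x B, W x B U)) :
    σ x (g ≫ g') U s = σ x g' U (σ x g U s) := by
  unfold σ
  have h1 := Scheme.Hom.appLE_comp_appLE (XAmap x g') (XAmap x g) (W x B U) (W x B' U)
    (W x B'' U) (le_of_eq (XAmap_preimage_W x g U).symm)
    (le_of_eq (XAmap_preimage_W x g' U).symm)
  have h2 := appLE_eq_of_eq (XAmap_comp x g g') (W x B U) (W x B'' U)
    (le_of_eq (XAmap_preimage_W x (g ≫ g') U).symm)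
  rw [h2]
  exact (congr($(h1).hom s)).symm

/-- the push-forward of an ideal sheaf along `X_A ⟶ X_B`, on the standard affine opens -/
lemma mem_ideal_map_XAmap {B A : Art k k} (p : B ⟶ A) (I : (XA x A).IdealSheafData)
    (U : X.affineOpens) (s : Γ(XA x B, W x B U.1)) :
    s ∈ (I.map (XAmap x p)).ideal (Wa x B U) ↔ σ x p U.1 s ∈ I.ideal (Wa x A U) := by
  unfold Scheme.IdealSheafData.map
  rw [Scheme.Hom.ker_apply, RingHom.mem_ker]
  have hV : IsAffineOpen (XAmap x p ⁻¹ᵁ W x B U.1) := (isAffineOpen_W x B U.2).preimage _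
  have e1 : ((I.subschemeι ≫ XAmap x p).app (W x B U.1)).hom s =
      (I.subschemeι.app (XAmap x p ⁻¹ᵁ W x B U.1)).hom (((XAmap x p).app (W x B U.1)).hom s) := by
    rw [Scheme.Hom.comp_app]
    rfl
  have e2 : (I.subschemeι.app (XAmap x p ⁻¹ᵁ W x B U.1)).hom (((XAmap x p).app (W x B U.1)).hom s)
      = 0 ↔ ((XAmap x p).app (W x B U.1)).hom s ∈ I.ideal ⟨XAmap x p ⁻¹ᵁ W x B U.1, hV⟩ := by
    rw [← I.ker_subschemeι_app ⟨XAmap x p ⁻¹ᵁ W x B U.1, hV⟩, RingHom.mem_ker]
  refine Iff.trans (show _ ↔ (I.subschemeι.app (XAmap x p ⁻¹ᵁ W x B U.1)).hom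
    (((XAmap x p).app (W x B U.1)).hom s) = 0 from Iff.rfl) (e2.trans ?_)
  have e3 : σ x p U.1 s = (XA x A).presheaf.map
      (homOfLE (le_of_eq (XAmap_preimage_W x p U.1).symm)).op
      (((XAmap x p).app (W x B U.1)).hom s) := rfl
  rw [e3]
  exact (mem_ideal_of_eq I ⟨XAmap x p ⁻¹ᵁ W x B U.1, hV⟩ (Wa x A U)
    (le_of_eq (XAmap_preimage_W x p U.1).symm) (le_of_eq (XAmap_preimage_W x p U.1)) _).symm

end Sig

end Groth.Agent.H61.LocHilb
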