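import Groth.Agent.H61.LocHilbFP
import Groth.Agent.H35.LocHilbGlue_RK
import Groth.Agent.H89.LocHilbGlue_ART

/-!
# The local Hilbert functor and fibre products: existence of a glued lift
-/

set_option autoImplicit false
universe u
open CategoryTheory CategoryTheory.Limits AlgebraicGeometry TopologicalSpace Opposite OmegaSh
open ArtFun ArtFun.Art
open Groth.Agent.H39 Groth.Agent.H39.ConormalLocal Groth.Agent.H39.ConormalSect
  Groth.Agent.H39.ConormalMap

namespace Groth.Agent.H61.LocHilb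

section FP

variable {k : Type u} [Field k] {X : Scheme.{u}} (x : X ⟶ specPt k) (I₀ : X.IdealSheafData)
  {B A A' A'' : Art k k} {p' : B ⟶ A'} {p'' : B ⟶ A''} {f' : A' ⟶ A} {f'' : A'' ⟶ A}

/-- the local compatibility hypothesis of (RK) -/
lemma hcompat_aux (h : IsFibreProd p' p'' f' f'') (hf''s : Function.Surjective f'')
    (t : A'') (ht : Ideal.span {t} = RingHom.ker f''.toAlgHom)
    (I' : (localHilb X x I₀).obj A') (I'' : (localHilb X x I₀).obj A'')
    (hc : (localHilb X x I₀).map f' I' = (localHilb X x I₀).map f'' I'')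
    (U : X.affineOpens) (s : Γ(XA x B, W x B U.1))
    (hs : σ x p' U.1 s ∈ I'.1.ideal (Wa x A' U)) :
    ∃ a'' ∈ I''.1.ideal (Wa x A'' U), ∃ c'' : Γ(XA x A'', W x A'' U.1),
      σ x p'' U.1 s - a'' = β x A'' U.1 t * c'' := by
  have h1 : σ x f'' U.1 (σ x p'' U.1 s) = σ x f' U.1 (σ x p' U.1 s) := by
    rw [← σ_comp, ← σ_comp, h.w]
  have hc' : I'.1.comap (XAmap x f') = I''.1.comap (XAmap x f'') := congrArg Subtype.val hc
  have h2 : σ x f' U.1 (σ x p' U.1 s) ∈ (I''.1.ideal (Wa x A'' U)).map (σ x f'' U.1) := by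
    rw [← ideal_comap_XAmap, ← hc', ideal_comap_XAmap]
    exact Ideal.mem_map_of_mem _ hs
  obtain ⟨a'', ha'', ha''e⟩ :=
    (Ideal.mem_map_iff_of_surjective _ (σ_surjective x f'' hf''s U.2)).mp h2
  refine ⟨a'', ha'', ?_⟩
  have h3 : σ x p'' U.1 s - a'' ∈ RingHom.ker (σ x f'' U.1) := by
    rw [RingHom.mem_ker, map_sub, h1, ha''e, sub_self]
  rw [ker_σ x f'' hf''s U.2, ← ht, Ideal.map_span, Set.image_singleton] at h3
  obtain ⟨c'', hc''⟩ := Ideal.mem_span_singleton'.mp h3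
  exact ⟨c'', by rw [← hc'', mul_comm]⟩

/-- a deformation over `A'` whose image over `A` lifts to `A''` lifts to the fibre product -/
theorem exists_lift_fp (h : IsFibreProd p' p'' f' f'') (hf'' : IsSmallExt f'')
    (I' : (localHilb X x I₀).obj A') (I'' : (localHilb X x I₀).obj A'')
    (hc : (localHilb X x I₀).map f' I' = (localHilb X x I₀).map f'' I'') :
    ∃ K : (localHilb X x I₀).obj B, (localHilb X x I₀).map p' K = I' := by
  obtain ⟨τ, t, hτt, hτ, ht, hp', hjτ, hjt⟩ := Groth.Agent.H89.LocHilbGlue_ART.ART h hf''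
  rw [span_range_one] at hτ ht
  have hτk : τ ∈ RingHom.ker p'.toAlgHom := hτ ▸ Ideal.subset_span rfl
  have htk : t ∈ RingHom.ker f''.toAlgHom := ht ▸ Ideal.subset_span rfl
  obtain ⟨K₀, hK₀⟩ : ∃ K₀ : (XA x B).IdealSheafData,
      K₀ = I'.1.map (XAmap x p') ⊓ I''.1.map (XAmap x p'') := ⟨_, rfl⟩
  have hmem : ∀ (U : X.affineOpens) (s : Γ(XA x B, W x B U.1)), s ∈ K₀.ideal (Wa x B U) ↔
      σ x p' U.1 s ∈ I'.1.ideal (Wa x A' U) ∧ σ x p'' U.1 s ∈ I''.1.ideal (Wa x A'' U) := by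
    intro U s
    rw [hK₀, Scheme.IdealSheafData.ideal_inf]
    change s ∈ (I'.1.map (XAmap x p')).ideal (Wa x B U) ⊓
      (I''.1.map (XAmap x p'')).ideal (Wa x B U) ↔ _
    rw [Ideal.mem_inf, mem_ideal_map_XAmap, mem_ideal_map_XAmap]
  have hRK : ∀ U : X.affineOpens,
      ((Ideal.Quotient.mk (K₀.ideal (Wa x B U))).comp (β x B U.1)).Flat ∧
        (K₀.ideal (Wa x B U)).map (σ x p' U.1) = I'.1.ideal (Wa x A' U) := by
    intro U
    obtain ⟨K, hKf, hKm, hKmem⟩ := Groth.Agent.H35.LocHilbGlue_RK.RK (isNilpotent_maximalIdeal B)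
      (p'.toAlgHom : B →+* A') (p''.toAlgHom : B →+* A'') hp'.1
      (fun b hb => by
        rw [Art.mem_maximalIdeal_iff] at hb ⊢
        exact (Art.res_app p'' b).trans hb)
      τ hτ.symm
      (fun m hm => by
        have h1 : m * τ ∈ IsLocalRing.maximalIdeal B * RingHom.ker p'.toAlgHom :=
          Ideal.mul_mem_mul hm hτk
        rw [hp'.2.2.2, Ideal.mem_bot] at h1
        exact h1)
      (ker_le_maximalIdeal p' hτk) t hτt
      (fun c hct => hjt (fun _ => c) (by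
        rw [Fin.sum_univ_one]
        exact hct) 0)
      (fun m hm => by
        have h1 : m * t ∈ IsLocalRing.maximalIdeal A'' * RingHom.ker f''.toAlgHom :=
          Ideal.mul_mem_mul hm htk
        rw [hf''.2.2.2, Ideal.mem_bot] at h1
        exact h1)
      (β x B U.1) (β x A' U.1) (β x A'' U.1) (β_flat x B U.2)
      (σ x p' U.1) (σ x p'' U.1) (fun b => σ_β x p' U.1 b) (fun b => σ_β x p'' U.1 b)
      (σ_surjective x p' hp'.1 U.2) (ker_σ x p' hp'.1 U.2)
      (ρ x B U.1) (ρ x A' U.1) (ρ x A'' U.1) (fun s => ρ_σ x p' U.1 s) (fun s => ρ_σ x p'' U.1 s)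
      (ρ_surjective x B U.2) (ker_ρ x B U.2) (ρ_surjective x A' U.2) (ker_ρ x A' U.2)
      (ker_ρ x A'' U.2)
      (I'.1.ideal (Wa x A' U)) (I''.1.ideal (Wa x A'' U))
      (quot_flat x A' I'.1 I'.2.1 U) (quot_flat x A'' I''.1 I''.2.1 U)
      (I₀.ideal U) (map_ρ_eq x I₀ I'.1 I'.2.2 U) (map_ρ_eq x I₀ I''.1 I''.2.2 U)
      (fun s hs => hcompat_aux x I₀ h hf''.1 t ht I' I'' hc U s hs)
    have e : K₀.ideal (Wa x B U) = K := by
      ext s
      rw [hmem U s, hKmem s]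
    rw [e]
    exact ⟨hKf, hKm⟩
  have hK' : K₀.comap (XAmap x p') = I'.1 :=
    Scheme.IdealSheafData.ext_of_iSup_eq_top (fun U : X.affineOpens => Wa x A' U)
      (iSup_W_eq_top x A') (fun U => by
        rw [ideal_comap_XAmap]
        exact (hRK U).2)
  have hK0 : K₀.comap (XAincl x B) = I₀ := by
    rw [← XAincl_XAmap x p', Scheme.IdealSheafData.comap_comp, hK']
    exact I'.2.2
  exact ⟨⟨K₀, flatOver_of_quot_flat x B K₀ (fun U => (hRK U).1), hK0⟩, Subtype.ext hK'⟩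

end FP

end Groth.Agent.H61.LocHilb
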