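import Groth.Agent.H61.LocHilbFP2
import Groth.Agent.H61.ArtYoneda
import Groth.Agent.H64.LocHilbGlue_SELF

/-!
# The local Hilbert functor and fibre products: the comparison map is bijective
-/

set_option autoImplicit false
universe u
open CategoryTheory CategoryTheory.Limits AlgebraicGeometry TopologicalSpace Opposite OmegaSh
open ArtFun ArtFun.Art
open Groth.Agent.H39 Groth.Agent.H39.ConormalLocal Groth.Agent.H39.ConormalSect
  Groth.Agent.H39.ConormalMap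

namespace Groth.Agent.H61.LocHilb

section Tors

variable {k : Type u} [Field k] {X : Scheme.{u}} (x : X ⟶ specPt k) (I₀ : X.IdealSheafData)
  {B A A' A'' : Art k k} {p' : B ⟶ A'} {p'' : B ⟶ A''} {f' : A' ⟶ A} {f'' : A'' ⟶ A}

lemma sq_apply (h : IsFibreProd p' p'' f' f'') (z : (localHilb X x I₀).obj B) :
    (localHilb X x I₀).map f'' ((localHilb X x I₀).map p'' z) =
      (localHilb X x I₀).map f' ((localHilb X x I₀).map p' z) := by
  rw [← FunctorToTypes.map_comp_apply, ← FunctorToTypes.map_comp_apply, h.w]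

/-- transport of the difference along `p''` in a fibre-product square -/
lemma isDiff_map_fp (h : IsFibreProd p' p'' f' f'') (hp' : IsSmallExt p') (hf'' : IsSmallExt f'')
    (τ : B) (t : A'') (hτt : p'' τ = t)
    (hτ : Ideal.span (Set.range ![τ]) = RingHom.ker p'.toAlgHom)
    (ht : Ideal.span (Set.range ![t]) = RingHom.ker f''.toAlgHom)
    (hjτ : ∀ c : Fin 1 → B, ∑ l, c l * ![τ] l = 0 → ∀ l, c l ∈ IsLocalRing.maximalIdeal B)
    (hjt : ∀ c : Fin 1 → A'', ∑ l, c l * ![t] l = 0 → ∀ l, c l ∈ IsLocalRing.maximalIdeal A'')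
    (z₁ z₂ : (localHilb X x I₀).obj B)
    (h12 : z₁.1.comap (XAmap x p') = z₂.1.comap (XAmap x p'))
    (Φ : Fin 1 → (ClSub.idealMod I₀ ⟶ ClSub.quotMod I₀))
    (hΦ : IsDiff x I₀ ![τ] z₁.1 z₂.1 Φ) :
    IsDiff x I₀ ![t] ((localHilb X x I₀).map p'' z₁).1 ((localHilb X x I₀).map p'' z₂).1 Φ := by
  refine IsDiff.map x I₀ p' hp'.isSemismallExt f'' hf''.isSemismallExt p'' f' h.w ![τ] hτ hjτ
    ![t] ht hjt (fun _ _ => (1 : A'')) (fun m => ?_) z₁ z₂ h12 Φ hΦ Φ (fun l U s => ?_)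
  · have hm : m = 0 := Subsingleton.elim _ _
    subst hm
    rw [Fin.sum_univ_one, one_mul]
    exact hτt
  · have hl : l = 0 := Subsingleton.elim _ _
    subst hl
    rw [Fin.sum_univ_one, map_one, map_one, one_smul]

theorem cmp_injective (h : IsFibreProd p' p'' f' f'') (hf'' : IsSmallExt f'') :
    Function.Injective (cmp (localHilb X x I₀) h) := by
  obtain ⟨τ, t, hτt, hτ, ht, hp', hjτ, hjt⟩ := Groth.Agent.H89.LocHilbGlue_ART.ART h hf''
  intro z₁ z₂ hz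
  have hz1 : (localHilb X x I₀).map p' z₁ = (localHilb X x I₀).map p' z₂ :=
    congrArg (fun w => w.1.1) hz
  have hz2 : (localHilb X x I₀).map p'' z₁ = (localHilb X x I₀).map p'' z₂ :=
    congrArg (fun w => w.1.2) hz
  have h12 : z₁.1.comap (XAmap x p') = z₂.1.comap (XAmap x p') := congrArg Subtype.val hz1
  have hΦ := isDiff_δ x I₀ p' hp'.isSemismallExt ![τ] hτ hjτ z₁.1 z₂.1 z₁.2.1 z₂.2.1 z₁.2.2
    z₂.2.2 h12
  obtain ⟨Φ, hΦe⟩ : ∃ Φ : Fin 1 → (ClSub.idealMod I₀ ⟶ ClSub.quotMod I₀),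
      Φ = fun l => δ x I₀ p' hp'.isSemismallExt ![τ] hτ hjτ z₁.1 z₂.1 z₁.2.1 z₂.2.1 z₁.2.2
        z₂.2.2 h12 l := ⟨_, rfl⟩
  rw [← hΦe] at hΦ
  have hm := isDiff_map_fp x I₀ h hp' hf'' τ t hτt hτ ht hjτ hjt z₁ z₂ h12 Φ hΦ
  rw [hz2] at hm
  -- the difference of the image with itself is zero
  have hs := Groth.Agent.H64.LocHilbGlue_SELF.SELF x I₀ f'' hf''.isSemismallExt ![t] ht hjt
    ((localHilb X x I₀).map p'' z₂).1 ((localHilb X x I₀).map p'' z₂).2.1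
    ((localHilb X x I₀).map p'' z₂).2.2
  have h0 : Φ = fun _ => 0 :=
    IsDiff.unique x I₀ f'' hf''.isSemismallExt ![t] ht ((localHilb X x I₀).map p'' z₂).1
      ((localHilb X x I₀).map p'' z₂).1 ((localHilb X x I₀).map p'' z₂).2.2 rfl hm hs
  rw [h0] at hΦ
  have hs2 := Groth.Agent.H64.LocHilbGlue_SELF.SELF x I₀ p' hp'.isSemismallExt ![τ] hτ hjτ z₂.1 z₂.2.1 z₂.2.2
  exact Subtype.ext (eq_of_isDiff x I₀ p' hp'.isSemismallExt ![τ] hτ hjτ z₁.1 z₂.1 z₂.1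
    z₁.2.1 z₂.2.1 z₂.2.1 z₁.2.2 z₂.2.2 z₂.2.2 h12 rfl (fun _ => 0) hΦ hs2)

theorem cmp_surjective (h : IsFibreProd p' p'' f' f'') (hf'' : IsSmallExt f'') :
    Function.Surjective (cmp (localHilb X x I₀) h) := by
  obtain ⟨τ, t, hτt, hτ, ht, hp', hjτ, hjt⟩ := Groth.Agent.H89.LocHilbGlue_ART.ART h hf''
  rintro ⟨⟨I', I''⟩, hc⟩
  have hc' : (localHilb X x I₀).map f' I' = (localHilb X x I₀).map f'' I'' := hc
  obtain ⟨K, hK⟩ := exists_lift_fp x I₀ h hf'' I' I'' hc'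
  -- the image of `K` over `A''` and `I''` have the same image over `A`
  have hw : (localHilb X x I₀).map f'' I'' =
      (localHilb X x I₀).map f'' ((localHilb X x I₀).map p'' K) := by
    rw [sq_apply x I₀ h K, hK, hc']
  have h12'' : I''.1.comap (XAmap x f'') =
      ((localHilb X x I₀).map p'' K).1.comap (XAmap x f'') := congrArg Subtype.val hw
  have hΨ := isDiff_δ x I₀ f'' hf''.isSemismallExt ![t] ht hjt I''.1
    ((localHilb X x I₀).map p'' K).1 I''.2.1 ((localHilb X x I₀).map p'' K).2.1 I''.2.2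
    ((localHilb X x I₀).map p'' K).2.2 h12''
  obtain ⟨Ψ, hΨe⟩ : ∃ Ψ : Fin 1 → (ClSub.idealMod I₀ ⟶ ClSub.quotMod I₀),
      Ψ = fun l => δ x I₀ f'' hf''.isSemismallExt ![t] ht hjt I''.1
        ((localHilb X x I₀).map p'' K).1 I''.2.1 ((localHilb X x I₀).map p'' K).2.1 I''.2.2
        ((localHilb X x I₀).map p'' K).2.2 h12'' l := ⟨_, rfl⟩
  rw [← hΨe] at hΨ
  obtain ⟨IB, hfB, hB0, hBK, hdB⟩ := exists_lift_isDiff x I₀ p' hp'.isSemismallExt ![τ] hτ hjτ
    K.1 K.2.1 K.2.2 Ψ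
  have hzB1 : (localHilb X x I₀).map p' (⟨IB, hfB, hB0⟩ : (localHilb X x I₀).obj B) = I' := by
    rw [← hK]
    exact Subtype.ext hBK
  have hm := isDiff_map_fp x I₀ h hp' hf'' τ t hτt hτ ht hjτ hjt
    (⟨IB, hfB, hB0⟩ : (localHilb X x I₀).obj B) K hBK Ψ hdB
  have hw2 : (localHilb X x I₀).map f''
      ((localHilb X x I₀).map p'' (⟨IB, hfB, hB0⟩ : (localHilb X x I₀).obj B)) =
      (localHilb X x I₀).map f'' ((localHilb X x I₀).map p'' K) := by
    rw [sq_apply x I₀ h, sq_apply x I₀ h K, hzB1, hK]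
  have hzB2 : (localHilb X x I₀).map p'' (⟨IB, hfB, hB0⟩ : (localHilb X x I₀).obj B) = I'' :=
    Subtype.ext (eq_of_isDiff x I₀ f'' hf''.isSemismallExt ![t] ht hjt _ I''.1
      ((localHilb X x I₀).map p'' K).1
      ((localHilb X x I₀).map p'' (⟨IB, hfB, hB0⟩ : (localHilb X x I₀).obj B)).2.1 I''.2.1
      ((localHilb X x I₀).map p'' K).2.1
      ((localHilb X x I₀).map p'' (⟨IB, hfB, hB0⟩ : (localHilb X x I₀).obj B)).2.2 I''.2.2
      ((localHilb X x I₀).map p'' K).2.2 (congrArg Subtype.val hw2) h12'' Ψ hm hΨ)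
  refine ⟨⟨IB, hfB, hB0⟩, ?_⟩
  exact FibProd.ext hzB1 hzB2

theorem cmp_bijective (h : IsFibreProd p' p'' f' f'') (hf'' : IsSmallExt f'') :
    Function.Bijective (cmp (localHilb X x I₀) h) :=
  ⟨cmp_injective x I₀ h hf'', cmp_surjective x I₀ h hf''⟩

end Tors

section Conds

variable {k : Type u} [Field k] {X : Scheme.{u}} (x : X ⟶ specPt k) (I₀ : X.IdealSheafData)

theorem h0_localHilb : H0 (localHilb X x I₀) :=
  ⟨nonempty_obj_base x I₀, subsingleton_obj_base x I₀⟩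

theorem heps_localHilb : Heps (localHilb X x I₀) :=
  fun _ _ _ _ h => cmp_bijective x I₀ h Groth.Agent.H61.isSmallExt_toBase_dual

theorem hbar_localHilb : Hbar (localHilb X x I₀) :=
  fun _ _ _ _ _ _ _ _ h hf'' => cmp_surjective x I₀ h hf''

theorem hsq_localHilb : HSq (localHilb X x I₀) :=
  fun _ _ _ _ _ _ h hf => cmp_bijective x I₀ h hf

end Conds

end Groth.Agent.H61.LocHilb
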