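import Groth.Agent.H61.LocHilbBuild

/-!
# Flatness of a closed subscheme of `X ×_k Spec B` from flatness of the quotients on affine opens
(helper61)
-/

set_option autoImplicit false
universe u

open CategoryTheory CategoryTheory.Limits AlgebraicGeometry TopologicalSpace Opposite
open ArtFun ArtFun.Art

namespace Groth.Agent.H61.LocHilb

variable {k : Type u} [Field k] {X : Scheme.{u}} (x : X ⟶ specPt k)

lemma iSup_W_eq_top (B : Art k k) : (⨆ U : X.affineOpens, W x B U.1) = ⊤ := by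
  have h1 : (⨆ U : X.affineOpens, W x B U.1) = pr x B ⁻¹ᵁ (⨆ U : X.affineOpens, U.1) := by
    rw [Scheme.Hom.preimage_iSup]
    rfl
  rw [h1, iSup_affineOpens_eq_top]
  rfl

lemma XApr_appLE_eq (B : Art k k) (U : X.Opens) :
    ((XApr x B).appLE ⊤ (W x B U) le_top).hom =
      (β x B U).comp (Scheme.ΓSpecIso (CommRingCat.of B)).hom.hom := by
  ext t
  change _ = ((XApr x B).appLE ⊤ (W x B U) le_top).hom
    ((Scheme.ΓSpecIso (CommRingCat.of B)).inv.hom ((Scheme.ΓSpecIso (CommRingCat.of B)).hom.hom t))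
  have : (Scheme.ΓSpecIso (CommRingCat.of B)).inv.hom
      ((Scheme.ΓSpecIso (CommRingCat.of B)).hom.hom t) = t :=
    congr($((Scheme.ΓSpecIso (CommRingCat.of B)).hom_inv_id).hom t)
  rw [this]

theorem flatOver_of_quot_flat (B : Art k k) (I : (XA x B).IdealSheafData)
    (h : ∀ U : X.affineOpens,
      ((Ideal.Quotient.mk (I.ideal (Wa x B U))).comp (β x B U.1)).Flat) :
    FlatOver X x B I := by
  unfold FlatOver
  let V : X.affineOpens → I.subscheme.affineOpens := fun U =>
    ⟨I.subschemeι ⁻¹ᵁ W x B U.1, (isAffineOpen_W x B U.2).preimage I.subschemeι⟩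
  have hV : ⨆ U, ((V U : I.subscheme.affineOpens) : I.subscheme.Opens) = ⊤ := by
    have h1 : (⨆ U : X.affineOpens, (V U).1) =
        I.subschemeι ⁻¹ᵁ (⨆ U : X.affineOpens, W x B U.1) := by
      rw [Scheme.Hom.preimage_iSup]
    rw [h1, iSup_W_eq_top]
    rfl
  refine HasRingHomProperty.of_iSup_eq_top (P := @Flat) V hV fun U => ?_
  have e1 : (I.subschemeι ≫ XApr x B).appLE ⊤ (I.subschemeι ⁻¹ᵁ W x B U.1) le_top =
      (XApr x B).appLE ⊤ (W x B U.1) le_top ≫ I.subschemeι.app (W x B U.1) := by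
    rw [Scheme.Hom.app_eq_appLE, Scheme.Hom.appLE_comp_appLE]
  have e2 : I.subschemeι.app (W x B U.1) =
      CommRingCat.ofHom (Ideal.Quotient.mk (I.ideal (Wa x B U))) ≫
        (I.subschemeObjIso (Wa x B U)).inv := I.subschemeι_app (Wa x B U)
  have e3 := e1.trans (congrArg (fun t => (XApr x B).appLE ⊤ (W x B U.1) le_top ≫ t) e2)
  change ((I.subschemeι ≫ XApr x B).appLE ⊤ (I.subschemeι ⁻¹ᵁ W x B U.1) le_top).hom.Flat
  rw [e3]
  have h2 : ((I.subschemeObjIso (Wa x B U)).inv).hom.Flat :=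
    RingHom.Flat.of_bijective (ConcreteCategory.bijective_of_isIso _)
  have h4 : (Scheme.ΓSpecIso (CommRingCat.of B)).hom.hom.Flat :=
    RingHom.Flat.of_bijective (ConcreteCategory.bijective_of_isIso _)
  have h5 := RingHom.Flat.comp (RingHom.Flat.comp h4 (h U)) h2
  convert h5 using 1
  rw [CommRingCat.hom_comp, CommRingCat.hom_comp, XApr_appLE_eq]
  rfl

end Groth.Agent.H61.LocHilb
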