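import Groth.Agent.H61.LocHilbTorsor

/-!
# Functoriality of the difference homomorphisms in the Artin ring (helper61)
-/

set_option autoImplicit false
set_option linter.style.haveILetI false
universe u

open CategoryTheory CategoryTheory.Limits AlgebraicGeometry TopologicalSpace Opposite OmegaSh
open ArtFun ArtFun.Art

namespace Groth.Agent.H61.LocHilb

open Groth.Agent.H39 Groth.Agent.H39.ConormalLocal Groth.Agent.H39.ConormalSect
  Groth.Agent.H39.ConormalMap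

section Sigma

variable {k : Type u} [Field k] {X : Scheme.{u}} (x : X ⟶ specPt k)

lemma ΓSpecIso_inv_appTop {R R' : Type u} [CommRing R] [CommRing R'] (φ : R →+* R') (b : R) :
    (Spec.map (CommRingCat.ofHom φ)).appTop.hom
        ((Scheme.ΓSpecIso (CommRingCat.of R)).inv.hom b) =
      (Scheme.ΓSpecIso (CommRingCat.of R')).inv.hom (φ b) :=
  (congr($(Scheme.ΓSpecIso_inv_naturality (CommRingCat.ofHom φ)).hom b)).symm

/-- `σ` is compatible with the structure maps -/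
lemma σ_β {B B' : Art k k} (g : B ⟶ B') (U : X.Opens) (b : B) :
    σ x g U (β x B U b) = β x B' U (g b) := by
  have h1 := Scheme.Hom.appLE_comp_appLE (XAmap x g) (XApr x B) ⊤ (W x B U) (W x B' U) le_top
    (le_of_eq (XAmap_preimage_W x g U).symm)
  have h2 := appLE_eq_of_eq (XAmap_snd x g) ⊤ (W x B' U)
    ((le_of_eq (XAmap_preimage_W x g U).symm).trans
      ((Opens.map (XAmap x g).base).map (homOfLE (le_top : W x B U ≤ _))).le)
  have h3 := Scheme.Hom.appLE_comp_appLE (XApr x B') (specMap g) ⊤ ⊤ (W x B' U) le_top le_top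
  have h4 := h1.trans (h2.trans h3.symm)
  have h5 := congr($(h4).hom ((Scheme.ΓSpecIso (CommRingCat.of B)).inv.hom b))
  refine h5.trans ?_
  change ((XApr x B').appLE ⊤ (W x B' U) le_top).hom (((specMap g).appLE ⊤ ⊤ le_top).hom
    ((Scheme.ΓSpecIso (CommRingCat.of B)).inv.hom b)) = _
  have h6 : ((specMap g).appLE ⊤ ⊤ le_top).hom ((Scheme.ΓSpecIso (CommRingCat.of B)).inv.hom b) =
      (Scheme.ΓSpecIso (CommRingCat.of B')).inv.hom (g b) :=
    ΓSpecIso_inv_appTop g.toAlgHom.toRingHom b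
  rw [h6]
  rfl

/-- `σ` is compatible with the restrictions to the closed fibre -/
lemma ρ_σ {B B' : Art k k} (g : B ⟶ B') (U : X.Opens) (s : Γ(XA x B, W x B U)) :
    ρ x B' U (σ x g U s) = ρ x B U s := by
  have h1 := Scheme.Hom.appLE_comp_appLE (XAincl x B') (XAmap x g) (W x B U) (W x B' U) U
    (le_of_eq (XAmap_preimage_W x g U).symm) (le_of_eq (XAincl_preimage_W x B' U).symm)
  have h2 := appLE_eq_of_eq (XAincl_XAmap x g) (W x B U) U
    ((le_of_eq (XAincl_preimage_W x B' U).symm).trans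
      ((Opens.map (XAincl x B').base).map
        (homOfLE (le_of_eq (XAmap_preimage_W x g U).symm))).le)
  exact congr($(h1.trans h2).hom s)

/-- the restriction to the closed fibre of a constant -/
lemma ρ_β (B : Art k k) (U : X.Opens) (b : B) :
    ρ x B U (β x B U b) = strMap x U (B.res b) := by
  have h1 := Scheme.Hom.appLE_comp_appLE (XAincl x B) (XApr x B) ⊤ (W x B U) U le_top
    (le_of_eq (XAincl_preimage_W x B U).symm)
  have h2 := appLE_eq_of_eq (XAincl_snd x B) ⊤ U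
    ((le_of_eq (XAincl_preimage_W x B U).symm).trans
      ((Opens.map (XAincl x B).base).map (homOfLE (le_top : W x B U ≤ _))).le)
  have h3 := Scheme.Hom.appLE_comp_appLE x (specRes B) ⊤ ⊤ U le_top le_top
  have h4 := h1.trans (h2.trans h3.symm)
  have h5 := congr($(h4).hom ((Scheme.ΓSpecIso (CommRingCat.of B)).inv.hom b))
  refine h5.trans ?_
  change (x.appLE ⊤ U le_top).hom (((specRes B).appLE ⊤ ⊤ le_top).hom
    ((Scheme.ΓSpecIso (CommRingCat.of B)).inv.hom b)) = _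
  have h6 : ((specRes B).appLE ⊤ ⊤ le_top).hom ((Scheme.ΓSpecIso (CommRingCat.of B)).inv.hom b) =
      (Scheme.ΓSpecIso (CommRingCat.of k)).inv.hom (B.res b) :=
    ΓSpecIso_inv_appTop B.res.toRingHom b
  rw [h6]
  rfl

end Sigma

section Fun

variable {k : Type u} [Field k] {X : Scheme.{u}} (x : X ⟶ specPt k) (I₀ : X.IdealSheafData)
  {B A B' A' : Art k k} (p : B ⟶ A) (hp : IsSemismallExt p) (p' : B' ⟶ A')
  (hp' : IsSemismallExt p') (g : B ⟶ B') (g' : A ⟶ A') (hg : p ≫ g' = g ≫ p')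
  {r r' : ℕ} (j : Fin r → B) (hjJ : Ideal.span (Set.range j) = RingHom.ker p.toAlgHom)
  (hj : ∀ c : Fin r → B, ∑ l, c l * j l = 0 → ∀ l, c l ∈ IsLocalRing.maximalIdeal B)
  (j' : Fin r' → B') (hjJ' : Ideal.span (Set.range j') = RingHom.ker p'.toAlgHom)
  (hj' : ∀ c : Fin r' → B', ∑ l, c l * j' l = 0 → ∀ l, c l ∈ IsLocalRing.maximalIdeal B')
  (c : Fin r' → Fin r → B') (hc : ∀ m, g (j m) = ∑ l, c l m * j' l)
  (I₁ I₂ : (XA x B).IdealSheafData) (hf₁ : FlatOver X x B I₁) (hf₂ : FlatOver X x B I₂)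
  (h₁₀ : I₁.comap (XAincl x B) = I₀) (h₂₀ : I₂.comap (XAincl x B) = I₀)
  (h12 : I₁.comap (XAmap x p) = I₂.comap (XAmap x p))

include hg h12 in
lemma comap_comm : (I₁.comap (XAmap x g)).comap (XAmap x p') =
    (I₂.comap (XAmap x g)).comap (XAmap x p') := by
  rw [← Scheme.IdealSheafData.comap_comp, ← Scheme.IdealSheafData.comap_comp, ← XAmap_comp, ← hg,
    XAmap_comp, Scheme.IdealSheafData.comap_comp, Scheme.IdealSheafData.comap_comp, h12]

include hc in
/-- **Functoriality of the difference homomorphisms.** -/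
theorem δ_map (hf₁' : FlatOver X x B' (I₁.comap (XAmap x g)))
    (hf₂' : FlatOver X x B' (I₂.comap (XAmap x g)))
    (h₁₀' : (I₁.comap (XAmap x g)).comap (XAincl x B') = I₀)
    (h₂₀' : (I₂.comap (XAmap x g)).comap (XAincl x B') = I₀)
    (h12' : (I₁.comap (XAmap x g)).comap (XAmap x p') =
      (I₂.comap (XAmap x g)).comap (XAmap x p'))
    (l : Fin r') (U : X.affineOpens) (t : Γ(ClSub.idealMod I₀, U.1)) :
    (δ x I₀ p' hp' j' hjJ' hj' (I₁.comap (XAmap x g)) (I₂.comap (XAmap x g)) hf₁' hf₂' h₁₀' h₂₀'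
        h12' l).app U.1 t =
      ∑ m, strMap x U.1 (B'.res (c l m)) •
        (δ x I₀ p hp j hjJ hj I₁ I₂ hf₁ hf₂ h₁₀ h₂₀ h12 m).app U.1 t := by
  obtain ⟨a₁, a₂, s, h0, ha₁, ha₂, hrel⟩ := exists_lift_data x I₀ p hp j hjJ I₁ I₂ h₁₀ h12 U t
  have hm : ∀ m, (δ x I₀ p hp j hjJ hj I₁ I₂ hf₁ hf₂ h₁₀ h₂₀ h12 m).app U.1 t =
      qsec I₀ U.1 (ρ x B U.1 (s m)) := fun m =>
    δ_app x I₀ p hp j hjJ hj I₁ I₂ hf₁ hf₂ h₁₀ h₂₀ h12 m U t a₁ a₂ s h0 ha₁ ha₂ hrel
  -- the transported lift data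
  have ha₁' : σ x g U.1 a₁ ∈ (I₁.comap (XAmap x g)).ideal (Wa x B' U) := by
    rw [ideal_comap_XAmap]; exact Ideal.mem_map_of_mem _ ha₁
  have ha₂' : σ x g U.1 a₂ ∈ (I₂.comap (XAmap x g)).ideal (Wa x B' U) := by
    rw [ideal_comap_XAmap]; exact Ideal.mem_map_of_mem _ ha₂
  have h0' : ρ x B' U.1 (σ x g U.1 a₁) = idealSect I₀ U.1 t := by rw [ρ_σ, h0]
  have hrel' : σ x g U.1 a₁ - σ x g U.1 a₂ =
      ∑ l, β x B' U.1 (j' l) * (∑ m, β x B' U.1 (c l m) * σ x g U.1 (s m)) := by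
    rw [← map_sub, hrel, map_sum]
    have e1 : ∀ m, σ x g U.1 (β x B U.1 (j m) * s m) =
        ∑ l, β x B' U.1 (j' l) * (β x B' U.1 (c l m) * σ x g U.1 (s m)) := by
      intro m
      rw [map_mul, σ_β, hc m, map_sum, Finset.sum_mul]
      refine Finset.sum_congr rfl fun l _ => ?_
      rw [map_mul]; ring
    rw [Finset.sum_congr rfl fun m _ => e1 m, Finset.sum_comm]
    refine Finset.sum_congr rfl fun l _ => ?_
    rw [Finset.mul_sum]
  rw [δ_app x I₀ p' hp' j' hjJ' hj' (I₁.comap (XAmap x g)) (I₂.comap (XAmap x g)) hf₁' hf₂' h₁₀'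
    h₂₀' h12' l U t (σ x g U.1 a₁) (σ x g U.1 a₂)
    (fun l => ∑ m, β x B' U.1 (c l m) * σ x g U.1 (s m)) h0' ha₁' ha₂' hrel']
  rw [map_sum]
  have e2 : qsec I₀ U.1 (∑ m, ρ x B' U.1 (β x B' U.1 (c l m) * σ x g U.1 (s m))) =
      ∑ m, qsec I₀ U.1 (ρ x B' U.1 (β x B' U.1 (c l m) * σ x g U.1 (s m))) :=
    map_sum (qsecₗ I₀ U.1) _ _
  rw [e2]
  refine Finset.sum_congr rfl fun m _ => ?_
  rw [map_mul, ρ_β, ρ_σ, qsec_smul, hm m]

end Fun

end Groth.Agent.H61.LocHilb
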