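import Groth.Agent.H61.LocHilbFP3
import Groth.Agent.H61.SchlessMain
import Groth.Agent.H61.TangentStrBuild
import Groth.Agent.H61.ObsDimMain
import Groth.Agent.H17.HomSh
import Groth.Agent.H8.PullbackFinType
import Groth.Agent.H8.PullbackStalk
import Groth.Agent.H8.StructureCoh
import Groth.Agent.H29.LocHilbHfin_HFD
import Groth.Agent.H25.LocHilbHfin_HFA
import Groth.Agent.H66.LocHilbHfin_HFB

/-!
# The tangent space of the local Hilbert functor of a projective subscheme is finite-dimensional
-/

set_option autoImplicit false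
universe u
open CategoryTheory CategoryTheory.Limits AlgebraicGeometry TopologicalSpace Opposite
open ArtFun ArtFun.Art

namespace Groth.Agent.H61.LocHilb

theorem hfin_localHilb {k : Type u} [Field k] (Y : Scheme.{u}) (y : Y ⟶ Spec (CommRingCat.of k))
    [LocallyOfFiniteType y] (I₀ : Y.IdealSheafData)
    (hproj : ∃ (n : ℕ) (c : I₀.subscheme ⟶ CohB1.ProjSpaceOver n (Spec (CommRingCat.of k))),
      IsClosedImmersion c ∧
        c ≫ CohB1.ProjSpaceOver.toBase n (Spec (CommRingCat.of k)) = I₀.subschemeι ≫ y)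
    [T : TangentStr (localHilb Y y I₀)] : Hfin (localHilb Y y I₀) := by
  letI : Y.Over (Spec (CommRingCat.of k)) := ⟨y⟩
  letI : I₀.subscheme.Over (Spec (CommRingCat.of k)) := ⟨I₀.subschemeι ≫ y⟩
  haveI : IsLocallyNoetherian Y := LocallyOfFiniteType.isLocallyNoetherian y
  haveI : IsLocallyNoetherian I₀.subscheme :=
    LocallyOfFiniteType.isLocallyNoetherian I₀.subschemeι
  -- coherence of the explicit normal sheaf
  have hI := Groth.Agent.H25.LocHilbHfin_HFA.HFA I₀.subschemeι.ker
  haveI : (ClSub.idealMod I₀.subschemeι.ker).IsQuasicoherent := hI.1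
  haveI : SheafOfModules.IsFiniteType (R := Y.ringCatSheaf) (ClSub.idealMod I₀.subschemeι.ker) :=
    hI.2
  have hN : Coh.IsCoh ((Scheme.Modules.pullback I₀.subschemeι).obj
      (ClSub.idealMod I₀.subschemeι.ker)) :=
    ⟨Groth.Agent.H8.isQuasicoherent_pullback I₀.subschemeι _,
      Groth.Agent.H8.isFiniteType_pullback I₀.subschemeι _⟩
  have hO := Groth.Agent.H8.isCoh_structureModule I₀.subscheme
  have hG := Groth.Agent.H17.HomSh.isCoh_homSh _ _ hN hO
  obtain ⟨n, c, hc, hcy⟩ := hproj
  haveI := hc
  haveI hfin := Groth.Agent.H66.LocHilbHfin_HFB.HFB I₀.subscheme n c hcy _ hG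
  obtain ⟨e, he⟩ := Groth.Agent.H29.LocHilbHfin_HFD.HFD (k := k) I₀ rfl
  let f : TangentSpace (localHilb Y y I₀) →ₗ[k]
      Coh.HH I₀.subscheme (RefHull.homSh
        ((Scheme.Modules.pullback I₀.subschemeι).obj (ClSub.idealMod I₀.subschemeι.ker))
        (Coh.structureModule I₀.subscheme)) 0 :=
    { toFun := fun t => e.symm (θ y I₀ t)
      map_add' := fun y₁ y₂ => by
        rw [θ_add, map_add]
      map_smul' := fun c t => by
        apply e.injective
        rw [AddEquiv.apply_symm_apply]
        refine hom_ext_affine I₀ fun U s => ?_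
        rw [RingHom.id_apply, he c _ U.1 s, AddEquiv.apply_symm_apply, θ_smul]
        rfl }
  have hbij : Function.Bijective f := by
    constructor
    · intro y₁ y₂ h
      exact θ_injective _ I₀ (e.symm.injective h)
    · intro h
      obtain ⟨t, ht⟩ := θ_surjective y I₀ (e h)
      refine ⟨t, ?_⟩
      change e.symm (θ y I₀ t) = h
      rw [ht, AddEquiv.symm_apply_apply]
  exact Module.Finite.equiv (LinearEquiv.ofBijective f hbij).symm

end Groth.Agent.H61.LocHilb
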