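import Mathlib
import Groth.Prelude.Def_ArtFun6
import Groth.Prelude.Def_ArtFun3

/-!
# The kernel of a semismall extension as a finite-dimensional vector space (helper61)
-/

set_option autoImplicit false
universe u

open CategoryTheory CategoryTheory.Limits TensorProduct
open ArtFun ArtFun.Art

namespace Groth.Agent.H61.LocHilb

variable {k : Type u} [Field k]

/-- For generators `j` of the kernel of a semismall extension such that every relation has
coefficients in the maximal ideal, `V ⊗ ker p` is in bijection with `r`-tuples in `V`. -/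
theorem nonempty_tensor_ker_equiv {B A : Art k k} (p : B ⟶ A) (hp : IsSemismallExt p)
    {r : ℕ} (j : Fin r → B) (hjJ : Ideal.span (Set.range j) = RingHom.ker p.toAlgHom)
    (hj : ∀ c : Fin r → B, ∑ l, c l * j l = 0 → ∀ l, c l ∈ IsLocalRing.maximalIdeal B)
    (V : Type u) [AddCommGroup V] [Module k V] :
    Nonempty (V ⊗[k] ↥(RingHom.ker p.toAlgHom) ≃ (Fin r → V)) := by
  have h𝔪J : IsLocalRing.maximalIdeal B * RingHom.ker p.toAlgHom = ⊥ := hp.2
  have hjm : ∀ l, j l ∈ RingHom.ker p.toAlgHom := fun l => by
    rw [← hjJ]; exact Ideal.subset_span ⟨l, rfl⟩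
  have hdec : ∀ b : B, b - algebraMap k B (B.res b) ∈ IsLocalRing.maximalIdeal B := by
    intro b
    rw [Art.mem_maximalIdeal_iff, map_sub, AlgHom.commutes]
    simp
  have hkill : ∀ (b : B) (y : B), y ∈ RingHom.ker p.toAlgHom →
      b * y = algebraMap k B (B.res b) * y := by
    intro b y hy
    have h1 : (b - algebraMap k B (B.res b)) * y ∈
        IsLocalRing.maximalIdeal B * RingHom.ker p.toAlgHom := Ideal.mul_mem_mul (hdec b) hy
    rw [h𝔪J, Ideal.mem_bot] at h1
    linear_combination h1
  -- the linear map `(Fin r → k) → ker p`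
  let f : (Fin r → k) →ₗ[k] ↥(RingHom.ker p.toAlgHom) :=
    { toFun := fun c => ⟨∑ l, algebraMap k B (c l) * j l,
        Ideal.sum_mem _ fun l _ => Ideal.mul_mem_left _ _ (hjm l)⟩
      map_add' := fun c c' => by
        apply Subtype.ext
        simp only [Pi.add_apply, map_add, add_mul, Finset.sum_add_distrib]
        rfl
      map_smul' := fun a c => by
        apply Subtype.ext
        simp only [Pi.smul_apply, smul_eq_mul, map_mul, RingHom.id_apply]
        change _ = a • ∑ l, algebraMap k B (c l) * j l
        rw [Finset.smul_sum]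
        refine Finset.sum_congr rfl fun l _ => ?_
        rw [Algebra.smul_def, mul_assoc] }
  have hf : Function.Bijective f := by
    constructor
    · rw [← LinearMap.ker_eq_bot]
      refine (Submodule.eq_bot_iff _).mpr fun c hc => ?_
      have h0 : ∑ l, algebraMap k B (c l) * j l = 0 := congrArg Subtype.val (LinearMap.mem_ker.mp hc)
      funext l
      have h1 := hj (fun l => algebraMap k B (c l)) h0 l
      rw [Art.mem_maximalIdeal_iff, AlgHom.commutes] at h1
      simpa using h1
    · rintro ⟨y, hy⟩
      have hy' : y ∈ Ideal.span (Set.range j) := by rw [hjJ]; exact hy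
      obtain ⟨c, hc⟩ := (Ideal.mem_span_range_iff_exists_fun).mp hy'
      refine ⟨fun l => B.res (c l), Subtype.ext ?_⟩
      change ∑ l, algebraMap k B (B.res (c l)) * j l = y
      rw [← hc]
      exact Finset.sum_congr rfl fun l _ => (hkill (c l) (j l) (hjm l)).symm
  let e : (Fin r → k) ≃ₗ[k] ↥(RingHom.ker p.toAlgHom) := LinearEquiv.ofBijective f hf
  exact ⟨((TensorProduct.congr (LinearEquiv.refl k V) e.symm).trans
    (TensorProduct.piScalarRight k k V (Fin r))).toEquiv⟩

end Groth.Agent.H61.LocHilb
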