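import Groth.Agent.H61.LocHilbFlat
import Groth.Agent.Lead.LocHilb_PL

/-!
# Lifting `k`-linear endomorphisms of `Γ(X,U)` to `B`-linear endomorphisms of `Γ(X_B, W U)`
(helper61)
-/

set_option autoImplicit false
universe u

open CategoryTheory CategoryTheory.Limits AlgebraicGeometry TopologicalSpace Opposite
open ArtFun ArtFun.Art

namespace Groth.Agent.H61.LocHilb

variable {k : Type u} [Field k] {X : Scheme.{u}} (x : X ⟶ specPt k)

lemma appLE_eq_of_eq {P P' : Scheme.{u}} {f g : P ⟶ P'} (h : f = g) (U : P'.Opens) (V : P.Opens)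
    (e : V ≤ f ⁻¹ᵁ U) : f.appLE U V e = g.appLE U V (h ▸ e) := by
  subst h; rfl

lemma id_appLE_self {P : Scheme.{u}} (U : P.Opens) (e : U ≤ (𝟙 P) ⁻¹ᵁ U) :
    (𝟙 P : P ⟶ P).appLE U U e = 𝟙 _ := by
  unfold Scheme.Hom.appLE
  rw [Scheme.Hom.id_app]
  exact (P.presheaf.map_id _)

/-- the canonical section `Γ(X,U) → Γ(X_B, W U)` of `ρ` -/
noncomputable def ι (B : Art k k) (U : X.Opens) : Γ(X, U) →+* Γ(XA x B, W x B U) :=
  ((pr x B).appLE U (W x B U) le_rfl).hom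

lemma ρ_ι (B : Art k k) (U : X.Opens) (t : Γ(X, U)) : ρ x B U (ι x B U t) = t := by
  have h1 := Scheme.Hom.appLE_comp_appLE (XAincl x B) (pr x B) U (W x B U) U le_rfl
    (le_of_eq (XAincl_preimage_W x B U).symm)
  have h2 := appLE_eq_of_eq (XAincl_fst x B) U U
    ((le_of_eq (XAincl_preimage_W x B U).symm).trans
      ((Opens.map (XAincl x B).base).map (homOfLE (le_rfl : W x B U ≤ pr x B ⁻¹ᵁ U))).le)
  rw [h2, id_appLE_self] at h1
  exact congr($(h1).hom t)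

lemma hlift_aux {K B' R S : Type u} [CommRing K] [CommRing B'] [CommRing R] [CommRing S]
    (a : K →+* R) (ι : R →+* S) (βs : B' →+* S) (ρ : S →+* R) (hρι : ∀ t, ρ (ι t) = t)
    (hρβ : ∀ b', ∃ c, ρ (βs b') = a c)
    (hgen : ∀ s : S, ∃ (n : ℕ) (bs : Fin n → B') (rs : Fin n → R), s = ∑ i, βs (bs i) * ι (rs i))
    (d : R →+ R) (hd' : ∀ c t, d (a c * t) = a c * d t) (D : S →+ S)
    (hD1 : ∀ b' s, D (βs b' * s) = βs b' * D s) (hD2 : ∀ t, D (ι t) = ι (d t)) (s : S) :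
    ρ (D s) = d (ρ s) := by
  obtain ⟨n, bs, rs, rfl⟩ := hgen s
  rw [map_sum, map_sum, map_sum, map_sum]
  refine Finset.sum_congr rfl fun i _ => ?_
  obtain ⟨c, hc⟩ := hρβ (bs i)
  rw [hD1, hD2, map_mul, map_mul, hρι, hρι, hc, hd']

theorem hlift (B : Art k k) (U : X.affineOpens) (d : Γ(X, U.1) →+ Γ(X, U.1))
    (hd : ∀ (c : k) (t : Γ(X, U.1)), d (strMap x U.1 c * t) = strMap x U.1 c * d t) :
    ∃ D : Γ(XA x B, W x B U.1) →+ Γ(XA x B, W x B U.1),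
      (∀ b s, D (β x B U.1 b * s) = β x B U.1 b * D s) ∧
        ∀ s, ρ x B U.1 (D s) = d (ρ x B U.1 s) := by
  have hpo := Groth.Agent.H69.QuotFlat.isPushout_appLE
    (IsPullback.of_hasPullback x (specOver B)).flip (V := ⊤) (V' := U.1)
    (isAffineOpen_top _) U.2 le_top le_top
  obtain ⟨hgen, hl⟩ := Groth.Agent.Lead.LocHilb_PL.exists_lift_of_isPushout _ _ _ _ hpo.flip
  -- `a`-linearity of `d`
  have hd' : ∀ (c : Γ(specPt k, ⊤)) (t : Γ(X, U.1)),
      d ((x.appLE ⊤ U.1 le_top).hom c * t) = (x.appLE ⊤ U.1 le_top).hom c * d t := by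
    intro c t
    have hc : (x.appLE ⊤ U.1 le_top).hom c =
        strMap x U.1 ((Scheme.ΓSpecIso (CommRingCat.of k)).hom.hom c) := by
      change _ = (x.appLE ⊤ U.1 le_top).hom ((Scheme.ΓSpecIso (CommRingCat.of k)).inv.hom
        ((Scheme.ΓSpecIso (CommRingCat.of k)).hom.hom c))
      have : (Scheme.ΓSpecIso (CommRingCat.of k)).inv.hom
          ((Scheme.ΓSpecIso (CommRingCat.of k)).hom.hom c) = c :=
        congr($((Scheme.ΓSpecIso (CommRingCat.of k)).hom_inv_id).hom c)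
      rw [this]
    rw [hc]
    exact hd _ t
  obtain ⟨D, hD1, hD2⟩ := hl d hd'
  refine ⟨D, ?_, ?_⟩
  · intro b s
    exact hD1 ((Scheme.ΓSpecIso (CommRingCat.of B)).inv.hom b) s
  · -- ρ ∘ β_sq lands in the image of `a`
    have hρβ : ∀ b', ∃ c : Γ(specPt k, ⊤),
        ρ x B U.1 (((XApr x B).appLE (specOver B ⁻¹ᵁ ⊤) (pr x B ⁻¹ᵁ U.1) le_top).hom b') =
          (x.appLE ⊤ U.1 le_top).hom c := by
      intro b'
      have h1 := Scheme.Hom.appLE_comp_appLE (XAincl x B) (XApr x B) (specOver B ⁻¹ᵁ ⊤)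
        (W x B U.1) U.1 le_top (le_of_eq (XAincl_preimage_W x B U.1).symm)
      have h2 := appLE_eq_of_eq (XAincl_snd x B) (specOver B ⁻¹ᵁ ⊤) U.1
        ((le_of_eq (XAincl_preimage_W x B U.1).symm).trans
          ((Opens.map (XAincl x B).base).map (homOfLE (le_top : W x B U.1 ≤ _))).le)
      have h3 := Scheme.Hom.appLE_comp_appLE x (specRes B) (specOver B ⁻¹ᵁ ⊤) ⊤ U.1 le_top le_top
      refine ⟨((specRes B).appLE (specOver B ⁻¹ᵁ ⊤) ⊤ le_top).hom b', ?_⟩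
      have h4 := h1.trans (h2.trans h3.symm)
      exact congr($(h4).hom b')
    intro s
    exact hlift_aux (x.appLE ⊤ U.1 le_top).hom ((pr x B).appLE U.1 (pr x B ⁻¹ᵁ U.1) le_rfl).hom
      ((XApr x B).appLE (specOver B ⁻¹ᵁ ⊤) (pr x B ⁻¹ᵁ U.1) le_top).hom (ρ x B U.1)
      (ρ_ι x B U.1) hρβ hgen d hd' D hD1 hD2 s

end Groth.Agent.H61.LocHilb
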