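import Groth.Agent.H61.LocHilbFun
import Groth.Agent.H61.LocHilbBase
import Groth.Agent.H61.LocHilbDual

/-!
# Difference homomorphisms as a relation; the tangent space of the local Hilbert functor
(helper61)
-/

set_option autoImplicit false
set_option linter.style.haveILetI false
universe u

open CategoryTheory CategoryTheory.Limits AlgebraicGeometry TopologicalSpace Opposite OmegaSh
open ArtFun ArtFun.Art

namespace Groth.Agent.H61.LocHilb

open Groth.Agent.H39 Groth.Agent.H39.ConormalLocal Groth.Agent.H39.ConormalSect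
  Groth.Agent.H39.ConormalMap

section Rel

variable {k : Type u} [Field k] {X : Scheme.{u}} (x : X ⟶ specPt k) (I₀ : X.IdealSheafData)
  {B A : Art k k} (p : B ⟶ A) (hp : IsSemismallExt p)
  {r : ℕ} (j : Fin r → B) (hjJ : Ideal.span (Set.range j) = RingHom.ker p.toAlgHom)
  (hj : ∀ c : Fin r → B, ∑ l, c l * j l = 0 → ∀ l, c l ∈ IsLocalRing.maximalIdeal B)

/-- `Φ` is the family of difference homomorphisms of `I₁` and `I₂` -/
def IsDiff (I₁ I₂ : (XA x B).IdealSheafData)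
    (Φ : Fin r → (ClSub.idealMod I₀ ⟶ ClSub.quotMod I₀)) : Prop :=
  ∀ (l : Fin r) (U : X.affineOpens) (t : Γ(ClSub.idealMod I₀, U.1))
    (a₁ a₂ : Γ(XA x B, W x B U.1)) (s : Fin r → Γ(XA x B, W x B U.1)),
    ρ x B U.1 a₁ = idealSect I₀ U.1 t → a₁ ∈ I₁.ideal (Wa x B U) → a₂ ∈ I₂.ideal (Wa x B U) →
    a₁ - a₂ = ∑ m, β x B U.1 (j m) * s m → (Φ l).app U.1 t = qsec I₀ U.1 (ρ x B U.1 (s l))

variable (I₁ I₂ : (XA x B).IdealSheafData) (hf₁ : FlatOver X x B I₁) (hf₂ : FlatOver X x B I₂)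
  (h₁₀ : I₁.comap (XAincl x B) = I₀) (h₂₀ : I₂.comap (XAincl x B) = I₀)
  (h12 : I₁.comap (XAmap x p) = I₂.comap (XAmap x p))

theorem isDiff_δ :
    IsDiff x I₀ j I₁ I₂ (fun l => δ x I₀ p hp j hjJ hj I₁ I₂ hf₁ hf₂ h₁₀ h₂₀ h12 l) :=
  fun l U t a₁ a₂ s h0 ha₁ ha₂ hrel =>
    δ_app x I₀ p hp j hjJ hj I₁ I₂ hf₁ hf₂ h₁₀ h₂₀ h12 l U t a₁ a₂ s h0 ha₁ ha₂ hrel

include hp hjJ h₁₀ h12 in
theorem IsDiff.unique {Φ Φ' : Fin r → (ClSub.idealMod I₀ ⟶ ClSub.quotMod I₀)}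
    (h : IsDiff x I₀ j I₁ I₂ Φ) (h' : IsDiff x I₀ j I₁ I₂ Φ') : Φ = Φ' := by
  funext l
  haveI : (ClSub.idealMod I₀).IsQuasicoherent :=
    inferInstanceAs (kernel (ClSub.toSubscheme I₀)).IsQuasicoherent
  refine Groth.Agent.H41.ModGlue.hom_ext_of_affine_cover _ _ (fun U : X.affineOpens => U.1)
    (IsOpenCover.mk (iSup_affineOpens_eq_top X)) (fun U => U.2) fun U t => ?_
  obtain ⟨a₁, a₂, s, h0, ha₁, ha₂, hrel⟩ := exists_lift_data x I₀ p hp j hjJ I₁ I₂ h₁₀ h12 U t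
  rw [h l U t a₁ a₂ s h0 ha₁ ha₂ hrel, h' l U t a₁ a₂ s h0 ha₁ ha₂ hrel]

include hp hjJ hj hf₁ hf₂ h₁₀ h₂₀ h12 in
theorem IsDiff.eq_δ {Φ : Fin r → (ClSub.idealMod I₀ ⟶ ClSub.quotMod I₀)}
    (h : IsDiff x I₀ j I₁ I₂ Φ) :
    Φ = fun l => δ x I₀ p hp j hjJ hj I₁ I₂ hf₁ hf₂ h₁₀ h₂₀ h12 l :=
  IsDiff.unique x I₀ p hp j hjJ I₁ I₂ h₁₀ h12 h
    (isDiff_δ x I₀ p hp j hjJ hj I₁ I₂ hf₁ hf₂ h₁₀ h₂₀ h12)

end Rel

section Rel2

variable {k : Type u} [Field k] {X : Scheme.{u}} (x : X ⟶ specPt k) (I₀ : X.IdealSheafData)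
  {B A : Art k k} (p : B ⟶ A) (hp : IsSemismallExt p)
  {r : ℕ} (j : Fin r → B) (hjJ : Ideal.span (Set.range j) = RingHom.ker p.toAlgHom)
  (hj : ∀ c : Fin r → B, ∑ l, c l * j l = 0 → ∀ l, c l ∈ IsLocalRing.maximalIdeal B)

include hp hjJ hj in
/-- two lifts with the same family of differences from a third one are equal -/
theorem eq_of_isDiff (I₁ I₂ I' : (XA x B).IdealSheafData)
    (hf₁ : FlatOver X x B I₁) (hf₂ : FlatOver X x B I₂) (hf' : FlatOver X x B I')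
    (h₁₀ : I₁.comap (XAincl x B) = I₀) (h₂₀ : I₂.comap (XAincl x B) = I₀)
    (h'₀ : I'.comap (XAincl x B) = I₀)
    (h1' : I₁.comap (XAmap x p) = I'.comap (XAmap x p))
    (h2' : I₂.comap (XAmap x p) = I'.comap (XAmap x p))
    (Φ : Fin r → (ClSub.idealMod I₀ ⟶ ClSub.quotMod I₀))
    (hd₁ : IsDiff x I₀ j I₁ I' Φ) (hd₂ : IsDiff x I₀ j I₂ I' Φ) : I₁ = I₂ := by
  have e1 := IsDiff.eq_δ x I₀ p hp j hjJ hj I₁ I' hf₁ hf' h₁₀ h'₀ h1' hd₁
  have e2 := IsDiff.eq_δ x I₀ p hp j hjJ hj I₂ I' hf₂ hf' h₂₀ h'₀ h2' hd₂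
  have heq : ∀ l, δ x I₀ p hp j hjJ hj I₁ I' hf₁ hf' h₁₀ h'₀ h1' l =
      δ x I₀ p hp j hjJ hj I₂ I' hf₂ hf' h₂₀ h'₀ h2' l := fun l =>
    (congrFun e1 l).symm.trans (congrFun e2 l)
  exact le_antisymm
    (le_of_δ_eq x I₀ p hp j hjJ hj I₁ I₂ I' hf₁ hf₂ hf' h₁₀ h₂₀ h'₀ h1' h2' heq)
    (le_of_δ_eq x I₀ p hp j hjJ hj I₂ I₁ I' hf₂ hf₁ hf' h₂₀ h₁₀ h'₀ h2' h1'
      (fun l => (heq l).symm))

include hp hjJ hj in
/-- every family of homomorphisms is the family of differences of a lift -/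
theorem exists_lift_isDiff (I' : (XA x B).IdealSheafData) (hf' : FlatOver X x B I')
    (h'₀ : I'.comap (XAincl x B) = I₀) (Φ : Fin r → (ClSub.idealMod I₀ ⟶ ClSub.quotMod I₀)) :
    ∃ I'' : (XA x B).IdealSheafData, FlatOver X x B I'' ∧ I''.comap (XAincl x B) = I₀ ∧
      I''.comap (XAmap x p) = I'.comap (XAmap x p) ∧ IsDiff x I₀ j I'' I' Φ := by
  obtain ⟨I'', hf'', h''₀, h'', hδ⟩ := exists_lift_with_δ x I₀ p hp j hjJ hj I' hf' h'₀ Φ
  refine ⟨I'', hf'', h''₀, h'', ?_⟩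
  have h1 := isDiff_δ x I₀ p hp j hjJ hj I'' I' hf'' hf' h''₀ h'₀ h''
  have e : (fun l => δ x I₀ p hp j hjJ hj I'' I' hf'' hf' h''₀ h'₀ h'' l) = Φ := funext hδ
  rw [e] at h1
  exact h1

end Rel2

section RelMap

variable {k : Type u} [Field k] {X : Scheme.{u}} (x : X ⟶ specPt k) (I₀ : X.IdealSheafData)
  {B A B' A' : Art k k} (p : B ⟶ A) (hp : IsSemismallExt p) (p' : B' ⟶ A')
  (hp' : IsSemismallExt p') (g : B ⟶ B') (g' : A ⟶ A') (hg : p ≫ g' = g ≫ p')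
  {r r' : ℕ} (j : Fin r → B) (hjJ : Ideal.span (Set.range j) = RingHom.ker p.toAlgHom)
  (hj : ∀ c : Fin r → B, ∑ l, c l * j l = 0 → ∀ l, c l ∈ IsLocalRing.maximalIdeal B)
  (j' : Fin r' → B') (hjJ' : Ideal.span (Set.range j') = RingHom.ker p'.toAlgHom)
  (hj' : ∀ c : Fin r' → B', ∑ l, c l * j' l = 0 → ∀ l, c l ∈ IsLocalRing.maximalIdeal B')
  (c : Fin r' → Fin r → B') (hc : ∀ m, g (j m) = ∑ l, c l m * j' l)

include hp hp' hg hjJ hj hjJ' hj' hc in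
/-- functoriality of the relation `IsDiff` -/
theorem IsDiff.map (I₁ I₂ : (localHilb X x I₀).obj B)
    (h12 : I₁.1.comap (XAmap x p) = I₂.1.comap (XAmap x p))
    (Φ : Fin r → (ClSub.idealMod I₀ ⟶ ClSub.quotMod I₀)) (hΦ : IsDiff x I₀ j I₁.1 I₂.1 Φ)
    (Φ' : Fin r' → (ClSub.idealMod I₀ ⟶ ClSub.quotMod I₀))
    (hΦ' : ∀ (l : Fin r') (U : X.affineOpens) (t : Γ(ClSub.idealMod I₀, U.1)),
      (Φ' l).app U.1 t = ∑ m, strMap x U.1 (B'.res (c l m)) • (Φ m).app U.1 t) :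
    IsDiff x I₀ j' ((localHilb X x I₀).map g I₁).1 ((localHilb X x I₀).map g I₂).1 Φ' := by
  have e := IsDiff.eq_δ x I₀ p hp j hjJ hj I₁.1 I₂.1 I₁.2.1 I₂.2.1 I₁.2.2 I₂.2.2 h12 hΦ
  have h12' := comap_comm x p p' g g' hg I₁.1 I₂.1 h12
  intro l U t a₁ a₂ s h0 ha₁ ha₂ hrel
  have h1 := δ_app x I₀ p' hp' j' hjJ' hj' (I₁.1.comap (XAmap x g)) (I₂.1.comap (XAmap x g))
    ((localHilb X x I₀).map g I₁).2.1 ((localHilb X x I₀).map g I₂).2.1
    ((localHilb X x I₀).map g I₁).2.2 ((localHilb X x I₀).map g I₂).2.2 h12' l U t a₁ a₂ s h0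
    ha₁ ha₂ hrel
  have h2 := δ_map x I₀ p hp p' hp' g j hjJ hj j' hjJ' hj' c hc I₁.1 I₂.1 I₁.2.1 I₂.2.1 I₁.2.2
    I₂.2.2 h12 ((localHilb X x I₀).map g I₁).2.1 ((localHilb X x I₀).map g I₂).2.1
    ((localHilb X x I₀).map g I₁).2.2 ((localHilb X x I₀).map g I₂).2.2 h12' l U t
  rw [hΦ' l U t, ← h1, h2]
  refine Finset.sum_congr rfl fun m _ => ?_
  rw [congrFun e m]

end RelMap

section Tangent

variable {k : Type u} [Field k] {X : Scheme.{u}} (x : X ⟶ specPt k) (I₀ : X.IdealSheafData)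

/-- the trivial deformation over `A` -/
noncomputable def triv (A : Art k k) : (localHilb X x I₀).obj A :=
  (localHilb X x I₀).map (ofBase A) (Classical.choice (nonempty_obj_base x I₀))

lemma map_triv {A A' : Art k k} (g : A ⟶ A') :
    (localHilb X x I₀).map g (triv x I₀ A) = triv x I₀ A' := by
  unfold triv
  rw [← Functor.map_comp_apply, ofBase_comp]

lemma same_image {A : Art k k} (y y' : (localHilb X x I₀).obj A) :
    y.1.comap (XAmap x (toBase A)) = y'.1.comap (XAmap x (toBase A)) := by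
  haveI := subsingleton_obj_base x I₀
  exact congrArg Subtype.val (Subsingleton.elim ((localHilb X x I₀).map (toBase A) y)
    ((localHilb X x I₀).map (toBase A) y'))

lemma toBase_comm {A A' : Art k k} (g : A ⟶ A') :
    toBase A ≫ 𝟙 (base k k) = g ≫ toBase A' :=
  (eq_toBase _).trans (eq_toBase _).symm

section Sec

variable {A A' : Art k k} (hp : IsSemismallExt (toBase A)) (hp' : IsSemismallExt (toBase A'))
  (g : A ⟶ A')
  {r r' : ℕ} (j : Fin r → A) (hjJ : Ideal.span (Set.range j) = RingHom.ker (toBase A).toAlgHom)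
  (hj : ∀ c : Fin r → A, ∑ l, c l * j l = 0 → ∀ l, c l ∈ IsLocalRing.maximalIdeal A)
  (j' : Fin r' → A') (hjJ' : Ideal.span (Set.range j') = RingHom.ker (toBase A').toAlgHom)
  (hj' : ∀ c : Fin r' → A', ∑ l, c l * j' l = 0 → ∀ l, c l ∈ IsLocalRing.maximalIdeal A')
  (c : Fin r' → Fin r → A') (hc : ∀ m, g (j m) = ∑ l, c l m * j' l)

include hp hp' hjJ hj hjJ' hj' hc in
/-- the differences from the trivial deformation transform by the matrix of `g` on the kernels -/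
theorem isDiff_triv_map (y : (localHilb X x I₀).obj A)
    (Φ : Fin r → (ClSub.idealMod I₀ ⟶ ClSub.quotMod I₀))
    (hΦ : IsDiff x I₀ j y.1 (triv x I₀ A).1 Φ)
    (Φ' : Fin r' → (ClSub.idealMod I₀ ⟶ ClSub.quotMod I₀))
    (hΦ' : IsDiff x I₀ j' ((localHilb X x I₀).map g y).1 (triv x I₀ A').1 Φ')
    (l : Fin r') (U : X.affineOpens) (t : Γ(ClSub.idealMod I₀, U.1)) :
    (Φ' l).app U.1 t = ∑ m, strMap x U.1 (A'.res (c l m)) • (Φ m).app U.1 t := by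
  have h12 := same_image x I₀ y (triv x I₀ A)
  have e := IsDiff.eq_δ x I₀ (toBase A) hp j hjJ hj y.1 (triv x I₀ A).1 y.2.1 (triv x I₀ A).2.1
    y.2.2 (triv x I₀ A).2.2 h12 hΦ
  have h12' := comap_comm x (toBase A) (toBase A') g (𝟙 _) (toBase_comm g) y.1 (triv x I₀ A).1 h12
  have h2 := δ_map x I₀ (toBase A) hp (toBase A') hp' g j hjJ hj j' hjJ' hj' c hc y.1
    (triv x I₀ A).1 y.2.1 (triv x I₀ A).2.1 y.2.2 (triv x I₀ A).2.2 h12
    ((localHilb X x I₀).map g y).2.1 ((localHilb X x I₀).map g (triv x I₀ A)).2.1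
    ((localHilb X x I₀).map g y).2.2 ((localHilb X x I₀).map g (triv x I₀ A)).2.2 h12' l U t
  obtain ⟨Ψ, hΨ⟩ : ∃ Ψ : Fin r' → (ClSub.idealMod I₀ ⟶ ClSub.quotMod I₀), Ψ = fun l =>
      δ x I₀ (toBase A') hp' j' hjJ' hj' (y.1.comap (XAmap x g))
        ((triv x I₀ A).1.comap (XAmap x g)) ((localHilb X x I₀).map g y).2.1
        ((localHilb X x I₀).map g (triv x I₀ A)).2.1 ((localHilb X x I₀).map g y).2.2
        ((localHilb X x I₀).map g (triv x I₀ A)).2.2 h12' l := ⟨_, rfl⟩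
  have h3 : IsDiff x I₀ j' ((localHilb X x I₀).map g y).1
      ((localHilb X x I₀).map g (triv x I₀ A)).1 Ψ := by
    rw [hΨ]
    exact isDiff_δ x I₀ (toBase A') hp' j' hjJ' hj' (y.1.comap (XAmap x g))
      ((triv x I₀ A).1.comap (XAmap x g)) ((localHilb X x I₀).map g y).2.1
      ((localHilb X x I₀).map g (triv x I₀ A)).2.1 ((localHilb X x I₀).map g y).2.2
      ((localHilb X x I₀).map g (triv x I₀ A)).2.2 h12'
  rw [map_triv] at h3
  have h5 := IsDiff.unique x I₀ (toBase A') hp' j' hjJ' ((localHilb X x I₀).map g y).1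
    (triv x I₀ A').1 ((localHilb X x I₀).map g y).2.2
    (same_image x I₀ ((localHilb X x I₀).map g y) (triv x I₀ A')) hΦ' h3
  rw [congrFun h5 l, congrFun hΨ l, h2]
  refine Finset.sum_congr rfl fun m _ => ?_
  rw [congrFun e m]

end Sec

end Tangent

section Theta

variable {k : Type u} [Field k] {X : Scheme.{u}} (x : X ⟶ specPt k) (I₀ : X.IdealSheafData)

/-- the homomorphism `I₀ → O_X/I₀` of a first-order deformation -/
noncomputable def θ (y : (localHilb X x I₀).obj (dual k k)) :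
    ClSub.idealMod I₀ ⟶ ClSub.quotMod I₀ :=
  δ x I₀ (toBase (dual k k)) isSemismallExt_toBase_dual jD hjJ_D hj_D y.1
    (triv x I₀ (dual k k)).1 y.2.1 (triv x I₀ (dual k k)).2.1 y.2.2 (triv x I₀ (dual k k)).2.2
    (same_image x I₀ y (triv x I₀ (dual k k))) 0

lemma isDiff_θ (y : (localHilb X x I₀).obj (dual k k)) :
    IsDiff x I₀ jD y.1 (triv x I₀ (dual k k)).1 (fun _ => θ x I₀ y) := by
  have h := isDiff_δ x I₀ (toBase (dual k k)) isSemismallExt_toBase_dual jD hjJ_D hj_D y.1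
    (triv x I₀ (dual k k)).1 y.2.1 (triv x I₀ (dual k k)).2.1 y.2.2 (triv x I₀ (dual k k)).2.2
    (same_image x I₀ y (triv x I₀ (dual k k)))
  intro l
  have hl : l = 0 := Subsingleton.elim _ _
  subst hl
  exact h 0

theorem θ_injective : Function.Injective (θ x I₀) := by
  intro y y' h
  apply Subtype.ext
  have h' := isDiff_θ x I₀ y'
  rw [← h] at h'
  exact eq_of_isDiff x I₀ (toBase (dual k k)) isSemismallExt_toBase_dual jD hjJ_D hj_D y.1 y'.1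
    (triv x I₀ (dual k k)).1 y.2.1 y'.2.1 (triv x I₀ (dual k k)).2.1 y.2.2 y'.2.2
    (triv x I₀ (dual k k)).2.2 (same_image x I₀ y _) (same_image x I₀ y' _)
    (fun _ => θ x I₀ y) (isDiff_θ x I₀ y) h'

theorem θ_surjective : Function.Surjective (θ x I₀) := by
  intro φ
  obtain ⟨I'', hf'', h''₀, h'', hd⟩ := exists_lift_isDiff x I₀ (toBase (dual k k))
    isSemismallExt_toBase_dual jD hjJ_D hj_D (triv x I₀ (dual k k)).1
    (triv x I₀ (dual k k)).2.1 (triv x I₀ (dual k k)).2.2 (fun _ => φ)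
  refine ⟨⟨I'', hf'', h''₀⟩, ?_⟩
  have h1 := IsDiff.unique x I₀ (toBase (dual k k)) isSemismallExt_toBase_dual jD hjJ_D I''
    (triv x I₀ (dual k k)).1 h''₀ h'' (isDiff_θ x I₀ ⟨I'', hf'', h''₀⟩) hd
  exact congrFun h1 0

theorem θ_scale (c : k) (y : (localHilb X x I₀).obj (dual k k)) (U : X.affineOpens)
    (t : Γ(ClSub.idealMod I₀, U.1)) :
    (θ x I₀ ((localHilb X x I₀).map (scale c) y)).app U.1 t =
      strMap x U.1 c • (θ x I₀ y).app U.1 t := by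
  have h := isDiff_triv_map x I₀ isSemismallExt_toBase_dual isSemismallExt_toBase_dual (scale c)
    jD hjJ_D hj_D jD hjJ_D hj_D (fun _ _ => cD c)
    (fun m => by rw [Fin.sum_univ_one]; exact scale_eps c) y (fun _ => θ x I₀ y)
    (isDiff_θ x I₀ y) (fun _ => θ x I₀ ((localHilb X x I₀).map (scale c) y))
    (isDiff_θ x I₀ _) 0 U t
  rw [Fin.sum_univ_one] at h
  exact h

/-- the pair of homomorphisms of a deformation over `k[ε₁,ε₂]` -/
noncomputable def Θ2 (z : (localHilb X x I₀).obj (dual2 k k)) (l : Fin 2) :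
    ClSub.idealMod I₀ ⟶ ClSub.quotMod I₀ :=
  δ x I₀ (toBase (dual2 k k)) isSemismallExt_toBase_dual2 jD2 hjJ_D2 hj_D2 z.1
    (triv x I₀ (dual2 k k)).1 z.2.1 (triv x I₀ (dual2 k k)).2.1 z.2.2
    (triv x I₀ (dual2 k k)).2.2 (same_image x I₀ z (triv x I₀ (dual2 k k))) l

lemma isDiff_Θ2 (z : (localHilb X x I₀).obj (dual2 k k)) :
    IsDiff x I₀ jD2 z.1 (triv x I₀ (dual2 k k)).1 (Θ2 x I₀ z) :=
  isDiff_δ x I₀ (toBase (dual2 k k)) isSemismallExt_toBase_dual2 jD2 hjJ_D2 hj_D2 z.1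
    (triv x I₀ (dual2 k k)).1 z.2.1 (triv x I₀ (dual2 k k)).2.1 z.2.2
    (triv x I₀ (dual2 k k)).2.2 (same_image x I₀ z (triv x I₀ (dual2 k k)))

lemma hom_ext_affine {φ ψ : ClSub.idealMod I₀ ⟶ ClSub.quotMod I₀}
    (h : ∀ (U : X.affineOpens) (t : Γ(ClSub.idealMod I₀, U.1)), φ.app U.1 t = ψ.app U.1 t) :
    φ = ψ := by
  haveI : (ClSub.idealMod I₀).IsQuasicoherent :=
    inferInstanceAs (kernel (ClSub.toSubscheme I₀)).IsQuasicoherent
  exact Groth.Agent.H41.ModGlue.hom_ext_of_affine_cover _ _ (fun U : X.affineOpens => U.1)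
    (IsOpenCover.mk (iSup_affineOpens_eq_top X)) (fun U => U.2) h

/-- the general formula for a map `g : k[ε₁,ε₂] → k[ε]` with `g ε₁ = c₁ ε`, `g ε₂ = c₂ ε` -/
theorem θ_map2 (g : dual2 k k ⟶ dual k k) (c₁ c₂ : k) (h₁ : g eps₁ = cD c₁ * eps)
    (h₂ : g eps₂ = cD c₂ * eps) (z : (localHilb X x I₀).obj (dual2 k k)) (U : X.affineOpens)
    (t : Γ(ClSub.idealMod I₀, U.1)) :
    (θ x I₀ ((localHilb X x I₀).map g z)).app U.1 t =
      strMap x U.1 c₁ • (Θ2 x I₀ z 0).app U.1 t + strMap x U.1 c₂ • (Θ2 x I₀ z 1).app U.1 t := by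
  have h := isDiff_triv_map x I₀ isSemismallExt_toBase_dual2 isSemismallExt_toBase_dual g
    jD2 hjJ_D2 hj_D2 jD hjJ_D hj_D (fun _ => ![cD c₁, cD c₂])
    (fun m => by
      rw [Fin.sum_univ_one]
      fin_cases m
      · exact h₁
      · exact h₂) z (Θ2 x I₀ z) (isDiff_Θ2 x I₀ z)
    (fun _ => θ x I₀ ((localHilb X x I₀).map g z)) (isDiff_θ x I₀ _) 0 U t
  rw [Fin.sum_univ_two] at h
  exact h

theorem θ_pr₁ (z : (localHilb X x I₀).obj (dual2 k k)) :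
    θ x I₀ ((localHilb X x I₀).map pr₁ z) = Θ2 x I₀ z 0 := by
  refine hom_ext_affine I₀ fun U t => ?_
  have hc1 : pr₁ (Λ := k) (eps₁ (k := k)) = cD 1 * eps := by
    rw [pr₁_eps₁]; exact (one_mul _).symm
  have hc2 : pr₁ (Λ := k) (eps₂ (k := k)) = cD 0 * eps := by
    rw [pr₁_eps₂]; exact (zero_mul _).symm
  rw [θ_map2 x I₀ pr₁ 1 0 hc1 hc2 z U t, map_one, map_zero, one_smul, zero_smul, add_zero]

theorem θ_pr₂ (z : (localHilb X x I₀).obj (dual2 k k)) :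
    θ x I₀ ((localHilb X x I₀).map pr₂ z) = Θ2 x I₀ z 1 := by
  refine hom_ext_affine I₀ fun U t => ?_
  have hc1 : pr₂ (Λ := k) (eps₁ (k := k)) = cD 0 * eps := by
    rw [pr₂_eps₁]; exact (zero_mul _).symm
  have hc2 : pr₂ (Λ := k) (eps₂ (k := k)) = cD 1 * eps := by
    rw [pr₂_eps₂]; exact (one_mul _).symm
  rw [θ_map2 x I₀ pr₂ 0 1 hc1 hc2 z U t, map_one, map_zero, one_smul, zero_smul, zero_add]

theorem θ_plus (z : (localHilb X x I₀).obj (dual2 k k)) :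
    θ x I₀ ((localHilb X x I₀).map plus z) = Θ2 x I₀ z 0 + Θ2 x I₀ z 1 := by
  refine hom_ext_affine I₀ fun U t => ?_
  have hc1 : plus (Λ := k) (eps₁ (k := k)) = cD 1 * eps := by
    rw [plus_eps₁]; exact (one_mul _).symm
  have hc2 : plus (Λ := k) (eps₂ (k := k)) = cD 1 * eps := by
    rw [plus_eps₂]; exact (one_mul _).symm
  rw [θ_map2 x I₀ plus 1 1 hc1 hc2 z U t, map_one, one_smul, one_smul]
  rfl

/-- every pair of first-order deformations comes from a deformation over `k[ε₁,ε₂]` -/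
theorem exists_pair (y₁ y₂ : (localHilb X x I₀).obj (dual k k)) :
    ∃ z : (localHilb X x I₀).obj (dual2 k k),
      (localHilb X x I₀).map pr₁ z = y₁ ∧ (localHilb X x I₀).map pr₂ z = y₂ := by
  obtain ⟨I'', hf'', h''₀, h'', hd⟩ := exists_lift_isDiff x I₀ (toBase (dual2 k k))
    isSemismallExt_toBase_dual2 jD2 hjJ_D2 hj_D2 (triv x I₀ (dual2 k k)).1
    (triv x I₀ (dual2 k k)).2.1 (triv x I₀ (dual2 k k)).2.2 ![θ x I₀ y₁, θ x I₀ y₂]
  have h1 := IsDiff.unique x I₀ (toBase (dual2 k k)) isSemismallExt_toBase_dual2 jD2 hjJ_D2 I''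
    (triv x I₀ (dual2 k k)).1 h''₀ h'' (isDiff_Θ2 x I₀ ⟨I'', hf'', h''₀⟩) hd
  refine ⟨⟨I'', hf'', h''₀⟩, θ_injective x I₀ ?_, θ_injective x I₀ ?_⟩
  · rw [θ_pr₁, congrFun h1 0]; rfl
  · rw [θ_pr₂, congrFun h1 1]; rfl

variable [T : TangentStr (localHilb X x I₀)]

/-- `θ` is additive for any tangent-space structure on the local Hilbert functor -/
theorem θ_add (y₁ y₂ : TangentSpace (localHilb X x I₀)) :
    θ x I₀ (y₁ + y₂) = θ x I₀ y₁ + θ x I₀ y₂ := by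
  obtain ⟨z, hz₁, hz₂⟩ := exists_pair x I₀ y₁ y₂
  have h := T.add_eq z
  rw [hz₁, hz₂] at h
  have h' : y₁ + y₂ = (localHilb X x I₀).map plus z := h
  rw [h', θ_plus, ← θ_pr₁, ← θ_pr₂, hz₁, hz₂]

theorem θ_smul (c : k) (y : TangentSpace (localHilb X x I₀)) (U : X.affineOpens)
    (t : Γ(ClSub.idealMod I₀, U.1)) :
    (θ x I₀ (c • y)).app U.1 t = strMap x U.1 c • (θ x I₀ y).app U.1 t := by
  have h : c • y = (localHilb X x I₀).map (scale c) y := T.smul_eq c y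
  rw [h]
  exact θ_scale x I₀ c y U t

end Theta

end Groth.Agent.H61.LocHilb
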