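import Groth.Agent.H61.LocHilbGlue
import Groth.Agent.H61.LocHilbLift
import Groth.Agent.H61.LocHilbArt
import Groth.Agent.H96.LocHilb_CR
import Groth.Agent.Lead.LocHilb_RL2

/-!
# The translate of a flat lift by homomorphisms `I₀ → O_X/I₀` (helper61)
-/

set_option autoImplicit false
set_option linter.style.haveILetI false
universe u

open CategoryTheory CategoryTheory.Limits AlgebraicGeometry TopologicalSpace Opposite OmegaSh
open ArtFun ArtFun.Art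

namespace Groth.Agent.H61.LocHilb

open Groth.Agent.H39 Groth.Agent.H39.ConormalLocal Groth.Agent.H39.ConormalSect
  Groth.Agent.H39.ConormalMap

section Hom

variable {X : Scheme.{u}} (I₀ : X.IdealSheafData)

/-- a morphism of modules on sections over an open, as a linear map -/
noncomputable def appₗ (h : ClSub.idealMod I₀ ⟶ ClSub.quotMod I₀) (V : X.Opens) :
    Γ(ClSub.idealMod I₀, V) →ₗ[Γ(X, V)] Γ(ClSub.quotMod I₀, V) where
  toFun := h.app V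
  map_add' a b := map_add (h.app V).hom a b
  map_smul' r t := Scheme.Modules.Hom.app_smul h r t

/-- the homomorphism on an affine open, on the ideal -/
noncomputable def homU (h : ClSub.idealMod I₀ ⟶ ClSub.quotMod I₀) (U : X.affineOpens) :
    I₀.ideal U →ₗ[Γ(X, U.1)] Γ(ClSub.quotMod I₀, U.1) :=
  (appₗ I₀ h U.1) ∘ₗ (idealEquiv I₀ U).symm.toLinearMap

lemma homU_apply (h : ClSub.idealMod I₀ ⟶ ClSub.quotMod I₀) (U : X.affineOpens)
    (t : Γ(ClSub.idealMod I₀, U.1)) (h0 : idealSect I₀ U.1 t ∈ I₀.ideal U) :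
    homU I₀ h U ⟨idealSect I₀ U.1 t, h0⟩ = h.app U.1 t := by
  have e : (⟨idealSect I₀ U.1 t, h0⟩ : I₀.ideal U) = idealEquiv I₀ U t := Subtype.ext rfl
  change h.app U.1 ((idealEquiv I₀ U).symm ⟨idealSect I₀ U.1 t, h0⟩) = _
  rw [e, LinearEquiv.symm_apply_apply]

lemma qsecₗ_surjective (U : X.affineOpens) : Function.Surjective (qsecₗ I₀ U.1) :=
  I₀.subschemeι_app_surjective U

lemma ker_qsecₗ (U : X.affineOpens) : LinearMap.ker (qsecₗ I₀ U.1) = I₀.ideal U := by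
  ext t
  rw [LinearMap.mem_ker]
  exact qsec_eq_zero_iff I₀ U t

lemma homU_res (h : ClSub.idealMod I₀ ⟶ ClSub.quotMod I₀) {U V : X.affineOpens}
    (hVU : V.1 ≤ U.1) (a : Γ(X, U.1)) (ha : a ∈ I₀.ideal U)
    (ha' : X.presheaf.map (homOfLE hVU).op a ∈ I₀.ideal V) :
    homU I₀ h V ⟨X.presheaf.map (homOfLE hVU).op a, ha'⟩ =
      (ClSub.quotMod I₀).presheaf.map (homOfLE hVU).op (homU I₀ h U ⟨a, ha⟩) := by
  obtain ⟨t, rfl⟩ := exists_idealSect_eq I₀ U a ha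
  rw [homU_apply I₀ h U t ha]
  have e : X.presheaf.map (homOfLE hVU).op (idealSect I₀ U.1 t) =
      idealSect I₀ V.1 ((ClSub.idealMod I₀).presheaf.map (homOfLE hVU).op t) :=
    (idealSect_res I₀ hVU t).symm
  have h2 := homU_apply I₀ h V ((ClSub.idealMod I₀).presheaf.map (homOfLE hVU).op t) (e ▸ ha')
  have e3 : (⟨X.presheaf.map (homOfLE hVU).op (idealSect I₀ U.1 t), ha'⟩ : I₀.ideal V) =
      ⟨idealSect I₀ V.1 ((ClSub.idealMod I₀).presheaf.map (homOfLE hVU).op t), e ▸ ha'⟩ :=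
    Subtype.ext e
  rw [e3, h2]
  exact Groth.Agent.H39.PullTrack.app_res h hVU t

end Hom

section Translate

variable {k : Type u} [Field k] {X : Scheme.{u}} (x : X ⟶ specPt k) (I₀ : X.IdealSheafData)
  {B A : Art k k} (p : B ⟶ A) (hp : IsSemismallExt p)
  {r : ℕ} (j : Fin r → B) (hjJ : Ideal.span (Set.range j) = RingHom.ker p.toAlgHom)
  (I' : (XA x B).IdealSheafData) (hf' : FlatOver X x B I') (h'₀ : I'.comap (XAincl x B) = I₀)
  (Φ : Fin r → (ClSub.idealMod I₀ ⟶ ClSub.quotMod I₀))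

/-- the membership condition defining the translate on `W U` -/
def TrMem (U : X.affineOpens) (a'' : Γ(XA x B, W x B U.1)) : Prop :=
  ∃ (a' : Γ(XA x B, W x B U.1)) (s : Fin r → Γ(XA x B, W x B U.1))
    (h0 : ρ x B U.1 a' ∈ I₀.ideal U), a' ∈ I'.ideal (Wa x B U) ∧
      a'' = a' + ∑ m, β x B U.1 (j m) * s m ∧
      ∀ l, qsecₗ I₀ U.1 (ρ x B U.1 (s l)) = homU I₀ (Φ l) U ⟨ρ x B U.1 a', h0⟩

include hp hjJ hf' h'₀ in
theorem exists_translate_local (U : X.affineOpens) :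
    ∃ 𝔞 : Ideal Γ(XA x B, W x B U.1), ((Ideal.Quotient.mk 𝔞).comp (β x B U.1)).Flat ∧
      𝔞.map (ρ x B U.1) = I₀.ideal U ∧
      𝔞 ⊔ (RingHom.ker p.toAlgHom).map (β x B U.1) =
        I'.ideal (Wa x B U) ⊔ (RingHom.ker p.toAlgHom).map (β x B U.1) ∧
      ∀ a'', a'' ∈ 𝔞 ↔ TrMem x I₀ j I' Φ U a'' :=
  Groth.Agent.Lead.LocHilb_RL2.exists_translate (strMap x U.1) (β x B U.1) (IsLocalRing.maximalIdeal B)
    (RingHom.ker p.toAlgHom) hp.2 (ker_le_maximalIdeal p) j hjJ (ρ x B U.1)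
    (ρ_surjective x B U.2) (ker_ρ x B U.2) (hlift x B U) (I'.ideal (Wa x B U))
    (quot_flat x B I' hf' U) (I₀.ideal U) (map_ρ_eq x I₀ I' h'₀ U) (qsecₗ I₀ U.1)
    (qsecₗ_surjective I₀ U) (ker_qsecₗ I₀ U) (fun l => homU I₀ (Φ l) U)

/-- the translate on `W U` -/
noncomputable def tr𝔞 (U : X.affineOpens) : Ideal Γ(XA x B, W x B U.1) :=
  (exists_translate_local x I₀ p hp j hjJ I' hf' h'₀ Φ U).choose

lemma tr𝔞_flat (U : X.affineOpens) :
    ((Ideal.Quotient.mk (tr𝔞 x I₀ p hp j hjJ I' hf' h'₀ Φ U)).comp (β x B U.1)).Flat :=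
  (exists_translate_local x I₀ p hp j hjJ I' hf' h'₀ Φ U).choose_spec.1

lemma tr𝔞_map_ρ (U : X.affineOpens) :
    (tr𝔞 x I₀ p hp j hjJ I' hf' h'₀ Φ U).map (ρ x B U.1) = I₀.ideal U :=
  (exists_translate_local x I₀ p hp j hjJ I' hf' h'₀ Φ U).choose_spec.2.1

lemma tr𝔞_sup (U : X.affineOpens) :
    tr𝔞 x I₀ p hp j hjJ I' hf' h'₀ Φ U ⊔ (RingHom.ker p.toAlgHom).map (β x B U.1) =
      I'.ideal (Wa x B U) ⊔ (RingHom.ker p.toAlgHom).map (β x B U.1) :=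
  (exists_translate_local x I₀ p hp j hjJ I' hf' h'₀ Φ U).choose_spec.2.2.1

lemma tr𝔞_mem (U : X.affineOpens) (a'' : Γ(XA x B, W x B U.1)) :
    a'' ∈ tr𝔞 x I₀ p hp j hjJ I' hf' h'₀ Φ U ↔ TrMem x I₀ j I' Φ U a'' :=
  (exists_translate_local x I₀ p hp j hjJ I' hf' h'₀ Φ U).choose_spec.2.2.2 a''

lemma tr𝔞_res {U V : X.affineOpens} (h : V.1 ≤ U.1) :
    (tr𝔞 x I₀ p hp j hjJ I' hf' h'₀ Φ U).map
        ((XA x B).presheaf.map (homOfLE (W_mono x B h)).op).hom =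
      tr𝔞 x I₀ p hp j hjJ I' hf' h'₀ Φ V := by
  have hmap : (I'.ideal (Wa x B U)).map ((XA x B).presheaf.map (homOfLE (W_mono x B h)).op).hom =
      I'.ideal (Wa x B V) :=
    I'.map_ideal (U := Wa x B V) (V := Wa x B U) (W_mono x B h)
  refine Groth.Agent.H96.LocHilb_CR.translate_map_res (β x B U.1) (β x B V.1)
    ((XA x B).presheaf.map (homOfLE (W_mono x B h)).op).hom (fun b => (β_res x B h b).symm)
    (IsLocalRing.maximalIdeal B) (RingHom.ker p.toAlgHom) hp.2 (ker_le_maximalIdeal p) j hjJ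
    (ρ x B U.1) (ρ x B V.1) (X.presheaf.map (homOfLE h).op).hom (fun s => ρ_res x B h s)
    (ρ_surjective x B U.2) (ρ_surjective x B V.2) (ker_ρ x B U.2) (ker_ρ x B V.2)
    (I'.ideal (Wa x B U)) (I₀.ideal U) (map_ρ_eq x I₀ I' h'₀ U)
    (I₀.ideal V) (by rw [hmap]; exact map_ρ_eq x I₀ I' h'₀ V)
    (qsecₗ I₀ U.1) (qsecₗ I₀ V.1) ((ClSub.quotMod I₀).presheaf.map (homOfLE h).op).hom
    (fun t => (qsec_res I₀ h t).symm)
    (qsecₗ_surjective I₀ U) (ker_qsecₗ I₀ V)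
    (fun l => homU I₀ (Φ l) U) (fun l => homU I₀ (Φ l) V)
    (fun l a ha ha' => homU_res I₀ (Φ l) h a ha ha')
    (tr𝔞 x I₀ p hp j hjJ I' hf' h'₀ Φ U) (tr𝔞 x I₀ p hp j hjJ I' hf' h'₀ Φ V)
    (tr𝔞_mem x I₀ p hp j hjJ I' hf' h'₀ Φ U) ?_
  rw [hmap]
  exact tr𝔞_mem x I₀ p hp j hjJ I' hf' h'₀ Φ V

include hp hjJ hf' h'₀ in
/-- **The translate** of a flat lift `I'` by a family of homomorphisms `Φ`. -/
theorem exists_translate_global :
    ∃ I'' : (XA x B).IdealSheafData, FlatOver X x B I'' ∧ I''.comap (XAincl x B) = I₀ ∧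
      I''.comap (XAmap x p) = I'.comap (XAmap x p) ∧
      ∀ (U : X.affineOpens) (a'' : Γ(XA x B, W x B U.1)),
        a'' ∈ I''.ideal (Wa x B U) ↔ TrMem x I₀ j I' Φ U a'' := by
  obtain ⟨I'', hI''⟩ := exists_idealSheaf x B (fun U => tr𝔞 x I₀ p hp j hjJ I' hf' h'₀ Φ U)
    (fun U V h => tr𝔞_res x I₀ p hp j hjJ I' hf' h'₀ Φ h)
  refine ⟨I'', ?_, ?_, ?_, ?_⟩
  · refine flatOver_of_quot_flat x B I'' fun U => ?_
    rw [hI'' U]
    exact tr𝔞_flat x I₀ p hp j hjJ I' hf' h'₀ Φ U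
  · refine Scheme.IdealSheafData.ext (funext fun U => ?_)
    rw [ideal_comap_XAincl, hI'' U]
    exact tr𝔞_map_ρ x I₀ p hp j hjJ I' hf' h'₀ Φ U
  · refine Scheme.IdealSheafData.ext_of_iSup_eq_top (fun U : X.affineOpens => Wa x A U)
      (iSup_W_eq_top x A) fun U => ?_
    rw [ideal_comap_XAmap, ideal_comap_XAmap, hI'' U]
    have hk : ((RingHom.ker p.toAlgHom).map (β x B U.1)).map (σ x p U.1) = ⊥ := by
      rw [Ideal.map_eq_bot_iff_le_ker, ker_σ x p hp.1 U.2]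
    have h1 := congrArg (Ideal.map (σ x p U.1)) (tr𝔞_sup x I₀ p hp j hjJ I' hf' h'₀ Φ U)
    rw [Ideal.map_sup, Ideal.map_sup, hk, sup_bot_eq, sup_bot_eq] at h1
    exact h1
  · intro U a''
    rw [hI'' U]
    exact tr𝔞_mem x I₀ p hp j hjJ I' hf' h'₀ Φ U a''

end Translate

section Torsor

variable {k : Type u} [Field k] {X : Scheme.{u}} (x : X ⟶ specPt k) (I₀ : X.IdealSheafData)
  {B A : Art k k} (p : B ⟶ A) (hp : IsSemismallExt p)
  {r : ℕ} (j : Fin r → B) (hjJ : Ideal.span (Set.range j) = RingHom.ker p.toAlgHom)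
  (hj : ∀ c : Fin r → B, ∑ l, c l * j l = 0 → ∀ l, c l ∈ IsLocalRing.maximalIdeal B)

lemma ρ_β_of_mem_ker (U : X.affineOpens) (b : B) (hb : b ∈ RingHom.ker p.toAlgHom) :
    ρ x B U.1 (β x B U.1 b) = 0 := by
  have h : β x B U.1 b ∈ RingHom.ker (ρ x B U.1) := by
    rw [ker_ρ x B U.2]
    exact Ideal.mem_map_of_mem _ (ker_le_maximalIdeal p hb)
  exact h

include hjJ in
lemma j_mem (m : Fin r) : j m ∈ RingHom.ker p.toAlgHom := by
  rw [← hjJ]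
  exact Ideal.subset_span ⟨m, rfl⟩

include hjJ in
lemma ρ_sum (U : X.affineOpens) (s : Fin r → Γ(XA x B, W x B U.1)) :
    ρ x B U.1 (∑ m, β x B U.1 (j m) * s m) = 0 := by
  rw [map_sum]
  refine Finset.sum_eq_zero fun m _ => ?_
  rw [map_mul, ρ_β_of_mem_ker x p U (j m) (j_mem p j hjJ m), zero_mul]

include hp in
/-- multiplying by an element of `J` kills the ambiguity modulo `𝔪` -/
lemma β_mul_mem (I₂ : (XA x B).IdealSheafData) (h₂₀ : I₂.comap (XAincl x B) = I₀)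
    (U : X.affineOpens) (b : B) (hb : b ∈ RingHom.ker p.toAlgHom)
    (u : Γ(XA x B, W x B U.1)) (hu : ρ x B U.1 u ∈ I₀.ideal U) :
    β x B U.1 b * u ∈ I₂.ideal (Wa x B U) := by
  rw [← map_ρ_eq x I₀ I₂ h₂₀ U] at hu
  obtain ⟨c, hc, hcu⟩ := (Ideal.mem_map_iff_of_surjective _ (ρ_surjective x B U.2)).mp hu
  have h1 : u - c ∈ RingHom.ker (ρ x B U.1) := by
    rw [RingHom.mem_ker, map_sub, hcu, sub_self]
  rw [ker_ρ x B U.2] at h1
  have e : RingHom.ker p.toAlgHom * IsLocalRing.maximalIdeal B = ⊥ := by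
    rw [mul_comm]; exact hp.2
  have h2 : β x B U.1 b * (u - c) ∈
      (RingHom.ker p.toAlgHom * IsLocalRing.maximalIdeal B).map (β x B U.1) := by
    rw [Ideal.map_mul]
    exact Ideal.mul_mem_mul (Ideal.mem_map_of_mem _ hb) h1
  rw [e, Ideal.map_bot, Ideal.mem_bot] at h2
  have h3 : β x B U.1 b * u = β x B U.1 b * c := by linear_combination h2
  rw [h3]
  exact Ideal.mul_mem_left _ _ hc

section Delta

variable (I₁ I₂ : (XA x B).IdealSheafData) (hf₁ : FlatOver X x B I₁) (hf₂ : FlatOver X x B I₂)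
  (h₁₀ : I₁.comap (XAincl x B) = I₀) (h₂₀ : I₂.comap (XAincl x B) = I₀)
  (h12 : I₁.comap (XAmap x p) = I₂.comap (XAmap x p))

/-- the global difference homomorphisms of two flat lifts with the same restriction -/
noncomputable def δ (l : Fin r) : ClSub.idealMod I₀ ⟶ ClSub.quotMod I₀ :=
  (exists_global x I₀ p hp j hjJ hj I₁ I₂ hf₁ hf₂ h₁₀ h₂₀ h12 l).choose

lemma δ_app (l : Fin r) (U : X.affineOpens) (t : Γ(ClSub.idealMod I₀, U.1))
    (a₁ a₂ : Γ(XA x B, W x B U.1)) (s : Fin r → Γ(XA x B, W x B U.1))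
    (h0 : ρ x B U.1 a₁ = idealSect I₀ U.1 t)
    (ha₁ : a₁ ∈ I₁.ideal (Wa x B U)) (ha₂ : a₂ ∈ I₂.ideal (Wa x B U))
    (hrel : a₁ - a₂ = ∑ m, β x B U.1 (j m) * s m) :
    (δ x I₀ p hp j hjJ hj I₁ I₂ hf₁ hf₂ h₁₀ h₂₀ h12 l).app U.1 t =
      qsec I₀ U.1 (ρ x B U.1 (s l)) := by
  have h1 := (exists_global x I₀ p hp j hjJ hj I₁ I₂ hf₁ hf₂ h₁₀ h₂₀ h12 l).choose_spec U t
  exact h1.trans (ψ_eq x I₀ p hp j hjJ hj I₁ I₂ hf₁ hf₂ h₁₀ h₂₀ h12 l U t a₁ a₂ s h0 ha₁ ha₂ hrel)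

end Delta

/-- two lifts with the same difference from a third one are comparable -/
theorem le_of_δ_eq (I₁ I₂ I' : (XA x B).IdealSheafData)
    (hf₁ : FlatOver X x B I₁) (hf₂ : FlatOver X x B I₂) (hf' : FlatOver X x B I')
    (h₁₀ : I₁.comap (XAincl x B) = I₀) (h₂₀ : I₂.comap (XAincl x B) = I₀)
    (h'₀ : I'.comap (XAincl x B) = I₀)
    (h1' : I₁.comap (XAmap x p) = I'.comap (XAmap x p))
    (h2' : I₂.comap (XAmap x p) = I'.comap (XAmap x p))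
    (heq : ∀ l, δ x I₀ p hp j hjJ hj I₁ I' hf₁ hf' h₁₀ h'₀ h1' l =
      δ x I₀ p hp j hjJ hj I₂ I' hf₂ hf' h₂₀ h'₀ h2' l) : I₁ ≤ I₂ := by
  refine Scheme.IdealSheafData.le_of_iSup_eq_top (fun U : X.affineOpens => Wa x B U)
    (iSup_W_eq_top x B) fun U => ?_
  intro a₁ ha₁
  obtain ⟨a', ha', s, hs⟩ := exists_decomp x p hp.1 j hjJ I₁ I' h1' U a₁ ha₁
  obtain ⟨a₂, ha₂, s', hs'⟩ := exists_decomp x p hp.1 j hjJ I' I₂ h2'.symm U a' ha'
  -- the section `t` of the ideal module with `idealSect t = ρ a₁`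
  have hρ1 : ρ x B U.1 a₁ ∈ I₀.ideal U := by
    rw [← map_ρ_eq x I₀ I₁ h₁₀ U]
    exact Ideal.mem_map_of_mem _ ha₁
  obtain ⟨t, ht⟩ := exists_idealSect_eq I₀ U _ hρ1
  have hρ12 : ρ x B U.1 a₁ = ρ x B U.1 a' := by
    have := congrArg (ρ x B U.1) hs
    rw [map_sub, ρ_sum x p j hjJ U s, sub_eq_zero] at this
    exact this
  have hρ2 : ρ x B U.1 a₂ = ρ x B U.1 a' := by
    have := congrArg (ρ x B U.1) hs'
    rw [map_sub, ρ_sum x p j hjJ U s', sub_eq_zero] at this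
    exact this.symm
  have hs'' : a₂ - a' = ∑ m, β x B U.1 (j m) * (- s' m) := by
    have : a₂ - a' = -(a' - a₂) := by ring
    rw [this, hs', ← Finset.sum_neg_distrib]
    exact Finset.sum_congr rfl fun m _ => by ring
  have key : ∀ l, ρ x B U.1 (s l + s' l) ∈ I₀.ideal U := by
    intro l
    have e1 := δ_app x I₀ p hp j hjJ hj I₁ I' hf₁ hf' h₁₀ h'₀ h1' l U t a₁ a' s ht.symm ha₁ ha' hs
    have e2 := δ_app x I₀ p hp j hjJ hj I₂ I' hf₂ hf' h₂₀ h'₀ h2' l U t a₂ a' (fun m => - s' m)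
      ((hρ2.trans hρ12.symm).trans ht.symm) ha₂ ha' hs''
    rw [heq l, e2] at e1
    rw [← qsec_eq_zero_iff, map_add, qsec_add, ← e1, map_neg]
    have : qsec I₀ U.1 (-(ρ x B U.1 (s' l))) = - qsec I₀ U.1 (ρ x B U.1 (s' l)) :=
      map_neg (qsecₗ I₀ U.1) _
    rw [this, neg_add_cancel]
  have hfin : a₁ - a₂ ∈ I₂.ideal (Wa x B U) := by
    have e : a₁ - a₂ = ∑ m, β x B U.1 (j m) * (s m + s' m) := by
      have : a₁ - a₂ = (a₁ - a') + (a' - a₂) := by ring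
      rw [this, hs, hs', ← Finset.sum_add_distrib]
      exact Finset.sum_congr rfl fun m _ => by ring
    rw [e]
    exact Ideal.sum_mem _ fun m _ =>
      β_mul_mem x I₀ p hp I₂ h₂₀ U (j m) (j_mem p j hjJ m) _ (key m)
  have : a₁ = (a₁ - a₂) + a₂ := by ring
  rw [this]
  exact Ideal.add_mem _ hfin ha₂

end Torsor

section Torsor2

variable {k : Type u} [Field k] {X : Scheme.{u}} (x : X ⟶ specPt k) (I₀ : X.IdealSheafData)
  {B A : Art k k} (p : B ⟶ A) (hp : IsSemismallExt p)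
  {r : ℕ} (j : Fin r → B) (hjJ : Ideal.span (Set.range j) = RingHom.ker p.toAlgHom)
  (hj : ∀ c : Fin r → B, ∑ l, c l * j l = 0 → ∀ l, c l ∈ IsLocalRing.maximalIdeal B)

/-- the translate realises any family of homomorphisms as a difference -/
theorem exists_lift_with_δ (I' : (XA x B).IdealSheafData) (hf' : FlatOver X x B I')
    (h'₀ : I'.comap (XAincl x B) = I₀) (Φ : Fin r → (ClSub.idealMod I₀ ⟶ ClSub.quotMod I₀)) :
    ∃ (I'' : (XA x B).IdealSheafData) (hf'' : FlatOver X x B I'')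
      (h''₀ : I''.comap (XAincl x B) = I₀)
      (h'' : I''.comap (XAmap x p) = I'.comap (XAmap x p)),
      ∀ l, δ x I₀ p hp j hjJ hj I'' I' hf'' hf' h''₀ h'₀ h'' l = Φ l := by
  obtain ⟨I'', hf'', h''₀, h'', hmem⟩ := exists_translate_global x I₀ p hp j hjJ I' hf' h'₀ Φ
  refine ⟨I'', hf'', h''₀, h'', fun l => ?_⟩
  haveI : (ClSub.idealMod I₀).IsQuasicoherent :=
    inferInstanceAs (kernel (ClSub.toSubscheme I₀)).IsQuasicoherent
  refine Groth.Agent.H41.ModGlue.hom_ext_of_affine_cover _ _ (fun U : X.affineOpens => U.1)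
    (IsOpenCover.mk (iSup_affineOpens_eq_top X)) (fun U => U.2) fun U t => ?_
  have hmem0 : idealSect I₀ U.1 t ∈ (I'.ideal (Wa x B U)).map (ρ x B U.1) := by
    rw [map_ρ_eq x I₀ I' h'₀ U]; exact idealSect_mem_ideal I₀ U t
  obtain ⟨a', ha', h0⟩ := (Ideal.mem_map_iff_of_surjective _ (ρ_surjective x B U.2)).mp hmem0
  have h0' : ρ x B U.1 a' ∈ I₀.ideal U := by
    rw [h0]; exact idealSect_mem_ideal I₀ U t
  have hs : ∀ l, ∃ sl : Γ(XA x B, W x B U.1),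
      qsecₗ I₀ U.1 (ρ x B U.1 sl) = homU I₀ (Φ l) U ⟨ρ x B U.1 a', h0'⟩ := fun l => by
    obtain ⟨y, hy⟩ := qsecₗ_surjective I₀ U (homU I₀ (Φ l) U ⟨ρ x B U.1 a', h0'⟩)
    obtain ⟨sl, rfl⟩ := ρ_surjective x B U.2 y
    exact ⟨sl, hy⟩
  choose s hs using hs
  have ha'' : a' + ∑ m, β x B U.1 (j m) * s m ∈ I''.ideal (Wa x B U) :=
    (hmem U _).mpr ⟨a', s, h0', ha', rfl, hs⟩
  have hρ : ρ x B U.1 (a' + ∑ m, β x B U.1 (j m) * s m) = idealSect I₀ U.1 t := by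
    rw [map_add, ρ_sum x p j hjJ U s, add_zero, h0]
  rw [δ_app x I₀ p hp j hjJ hj I'' I' hf'' hf' h''₀ h'₀ h'' l U t _ a' s hρ ha'' ha' (by ring)]
  have h3 := hs l
  have e : (⟨ρ x B U.1 a', h0'⟩ : I₀.ideal U) =
      ⟨idealSect I₀ U.1 t, idealSect_mem_ideal I₀ U t⟩ := Subtype.ext h0
  rw [e, homU_apply] at h3
  exact h3

include hp hjJ hj in
/-- **Torsor theorem**: a nonempty fibre of the local Hilbert functor over a semismall extension
is in bijection with `r`-tuples of homomorphisms `I₀ → O_X/I₀`, `r` the dimension of the kernel. -/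
theorem nonempty_fibre_equiv (I : (localHilb X x I₀).obj A)
    (hne : ∃ I' : (localHilb X x I₀).obj B, (localHilb X x I₀).map p I' = I) :
    Nonempty ({I' : (localHilb X x I₀).obj B // (localHilb X x I₀).map p I' = I} ≃
      (Fin r → (ClSub.idealMod I₀ ⟶ ClSub.quotMod I₀))) := by
  obtain ⟨I', hI'⟩ := hne
  have hcm : ∀ I₁ : {I' : (localHilb X x I₀).obj B // (localHilb X x I₀).map p I' = I},
      I₁.1.1.comap (XAmap x p) = I'.1.comap (XAmap x p) := fun I₁ =>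
    congrArg Subtype.val (I₁.2.trans hI'.symm)
  refine ⟨Equiv.ofBijective (fun I₁ l => δ x I₀ p hp j hjJ hj I₁.1.1 I'.1 I₁.1.2.1 I'.2.1
    I₁.1.2.2 I'.2.2 (hcm I₁) l) ⟨?_, ?_⟩⟩
  · intro I₁ I₂ h
    have h' : ∀ l, δ x I₀ p hp j hjJ hj I₁.1.1 I'.1 I₁.1.2.1 I'.2.1 I₁.1.2.2 I'.2.2 (hcm I₁) l =
        δ x I₀ p hp j hjJ hj I₂.1.1 I'.1 I₂.1.2.1 I'.2.1 I₂.1.2.2 I'.2.2 (hcm I₂) l :=
      fun l => congrFun h l
    apply Subtype.ext
    apply Subtype.ext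
    exact le_antisymm
      (le_of_δ_eq x I₀ p hp j hjJ hj I₁.1.1 I₂.1.1 I'.1 I₁.1.2.1 I₂.1.2.1 I'.2.1 I₁.1.2.2
        I₂.1.2.2 I'.2.2 (hcm I₁) (hcm I₂) h')
      (le_of_δ_eq x I₀ p hp j hjJ hj I₂.1.1 I₁.1.1 I'.1 I₂.1.2.1 I₁.1.2.1 I'.2.1 I₂.1.2.2
        I₁.1.2.2 I'.2.2 (hcm I₂) (hcm I₁) (fun l => (h' l).symm))
  · intro Φ
    obtain ⟨I'', hf'', h''₀, h'', hδ⟩ :=
      exists_lift_with_δ x I₀ p hp j hjJ hj I'.1 I'.2.1 I'.2.2 Φ
    refine ⟨⟨⟨I'', hf'', h''₀⟩, ?_⟩, ?_⟩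
    · rw [← hI']
      exact Subtype.ext h''
    · funext l
      exact hδ l

end Torsor2

end Groth.Agent.H61.LocHilb
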