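import Groth.Agent.H61.SchlessMain
import Groth.Agent.H63.ArtC

/-!
# Minimal presentations of Artinian local algebras by power series rings (helper61)

Setting: `Λ` complete Noetherian local with `Λ → k` surjective.  Every object `R` of `Art Λ k` is a
quotient `ρ : Λ[[X_1..X_n]] → R` with `ker ρ ≤ m_P² + m_Λ P`.
-/

set_option autoImplicit false
set_option linter.unusedSectionVars false
set_option linter.style.haveILetI false
universe u v

namespace Groth.Agent.H61

open CategoryTheory ArtFun ArtFun.Art Groth.Agent.H63 MvPowerSeries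

variable {Λ : Type u} {k : Type u} [CommRing Λ] [Field k] [Algebra Λ k]

section Coeff

variable [IsLocalRing Λ] {n : ℕ}

theorem exists_single_of_degree_eq_one (α : Fin n →₀ ℕ) (h : Finsupp.degree α = 1) :
    ∃ i, α = Finsupp.single i 1 := by
  have h' : α ∈ {d : Fin n →₀ ℕ | d.degree = 1} := h
  rw [← Finsupp.range_single_one] at h'
  obtain ⟨i, hi⟩ := h'
  exact ⟨i, hi.symm⟩

/-- a power series whose constant and linear coefficients lie in `m_Λ` lies in `m_P² + m_Λ P` -/
theorem ps_mem_nn (f : MvPowerSeries (Fin n) Λ)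
    (h0 : constantCoeff f ∈ IsLocalRing.maximalIdeal Λ)
    (h1 : ∀ i, coeff (Finsupp.single i 1) f ∈ IsLocalRing.maximalIdeal Λ) :
    f ∈ IsLocalRing.maximalIdeal (MvPowerSeries (Fin n) Λ) ^ 2 ⊔
      (IsLocalRing.maximalIdeal Λ).map (algebraMap Λ (MvPowerSeries (Fin n) Λ)) := by
  classical
  have e : f = (f - C (constantCoeff f)) + C (constantCoeff f) := by ring
  rw [e]
  refine Submodule.add_mem_sup ?_ ?_
  · rw [PS.pow_eq_filt, PS.mem_filt]
    intro α
    rcases (by omega : Finsupp.degree α = 0 ∨ Finsupp.degree α = 1 ∨ 2 ≤ Finsupp.degree α)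
      with h | h | h
    · rw [Finsupp.degree_eq_zero_iff] at h
      subst h
      rw [map_sub, coeff_zero_eq_constantCoeff_apply, coeff_zero_eq_constantCoeff_apply,
        constantCoeff_C, sub_self]
      exact Ideal.zero_mem _
    · obtain ⟨i, rfl⟩ := exists_single_of_degree_eq_one α h
      rw [h, map_sub, coeff_C, if_neg (by simp), sub_zero, pow_one]
      exact h1 i
    · rw [Nat.sub_eq_zero_of_le h, pow_zero, Ideal.one_eq_top]
      trivial
  · have hC : (C (constantCoeff f) : MvPowerSeries (Fin n) Λ) =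
        algebraMap Λ (MvPowerSeries (Fin n) Λ) (constantCoeff f) := by
      rw [MvPowerSeries.algebraMap_apply]; rfl
    rw [hC]
    exact Ideal.mem_map_of_mem _ h0

/-- a power series minus its affine part lies in `(X)²` -/
theorem ps_sub_lin_mem (f : MvPowerSeries (Fin n) Λ) :
    f - C (constantCoeff f) - ∑ i, C (coeff (Finsupp.single i 1) f) * X i ∈
      Ideal.span (Set.range (X : Fin n → MvPowerSeries (Fin n) Λ)) ^ 2 := by
  classical
  apply PS.mem_span_X_pow_of_coeff_eq_zero
  intro α hα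
  rcases (by omega : Finsupp.degree α = 0 ∨ Finsupp.degree α = 1) with h | h
  · rw [Finsupp.degree_eq_zero_iff] at h
    subst h
    rw [map_sub, map_sub, map_sum, coeff_zero_eq_constantCoeff_apply,
      coeff_zero_eq_constantCoeff_apply, constantCoeff_C, sub_self, zero_sub, neg_eq_zero]
    refine Finset.sum_eq_zero fun i _ => ?_
    rw [coeff_zero_eq_constantCoeff_apply, map_mul, constantCoeff_X, mul_zero]
  · obtain ⟨j, rfl⟩ := exists_single_of_degree_eq_one α h
    rw [map_sub, map_sub, map_sum, coeff_C, if_neg (by simp), sub_zero]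
    rw [Finset.sum_eq_single j]
    · rw [coeff_C_mul, coeff_X, if_pos rfl, mul_one, sub_self]
    · intro i _ hij
      rw [coeff_C_mul, coeff_X, if_neg, mul_zero]
      intro hcon
      exact hij ((Finsupp.single_left_inj one_ne_zero).1 hcon).symm
    · intro hj
      exact absurd (Finset.mem_univ j) hj

end Coeff

section Pres

variable [IsLocalRing Λ] [IsNoetherianRing Λ] [IsAdicComplete (IsLocalRing.maximalIdeal Λ) Λ]
variable (hΛk : Function.Surjective (algebraMap Λ k))

include hΛk

theorem ker_algebraMap_eq : RingHom.ker (algebraMap Λ k) = IsLocalRing.maximalIdeal Λ := by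
  haveI := RingHom.ker_isMaximal_of_surjective (algebraMap Λ k) hΛk
  exact IsLocalRing.eq_maximalIdeal inferInstance

omit [IsNoetherianRing Λ] [IsAdicComplete (IsLocalRing.maximalIdeal Λ) Λ] hΛk in
/-- a generating family of `m_R` modulo `m_R² + m_Λ R` with `n` elements -/
def Gen (R : Art Λ k) (n : ℕ) : Prop :=
  ∃ x : Fin n → R, (∀ i, x i ∈ IsLocalRing.maximalIdeal (R : Type u)) ∧
    IsLocalRing.maximalIdeal (R : Type u) ≤ Ideal.span (Set.range x) ⊔
      (IsLocalRing.maximalIdeal (R : Type u) ^ 2 ⊔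
        (IsLocalRing.maximalIdeal Λ).map (algebraMap Λ R))

omit [IsNoetherianRing Λ] [IsAdicComplete (IsLocalRing.maximalIdeal Λ) Λ] hΛk in
theorem exists_gen_fam (R : Art Λ k) : ∃ n, Gen R n := by
  have hfg : (IsLocalRing.maximalIdeal (R : Type u)).FG := IsNoetherian.noetherian _
  obtain ⟨n, s, hs⟩ := Submodule.fg_iff_exists_fin_generating_family.1 hfg
  refine ⟨n, s, fun i => ?_, ?_⟩
  · rw [← hs]
    exact Submodule.subset_span ⟨i, rfl⟩
  · have : Ideal.span (Set.range s) = IsLocalRing.maximalIdeal (R : Type u) := hs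
    rw [this]
    exact le_sup_left

omit [IsNoetherianRing Λ] [IsAdicComplete (IsLocalRing.maximalIdeal Λ) Λ] hΛk in
/-- linear independence modulo `m_R² + m_Λ R` of a minimal generating family -/
theorem coeff_mem_of_minimal (R : Art Λ k) (n : ℕ) (hmin : ∀ m, m < n → ¬ Gen R m)
    (x : Fin n → R) (hx : ∀ i, x i ∈ IsLocalRing.maximalIdeal (R : Type u))
    (hgen : IsLocalRing.maximalIdeal (R : Type u) ≤ Ideal.span (Set.range x) ⊔
      (IsLocalRing.maximalIdeal (R : Type u) ^ 2 ⊔
        (IsLocalRing.maximalIdeal Λ).map (algebraMap Λ R)))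
    (a : Fin n → Λ)
    (hs : ∑ i, algebraMap Λ R (a i) * x i ∈ IsLocalRing.maximalIdeal (R : Type u) ^ 2 ⊔
        (IsLocalRing.maximalIdeal Λ).map (algebraMap Λ R)) :
    ∀ j, a j ∈ IsLocalRing.maximalIdeal Λ := by
  intro j
  by_contra hj
  have hu : IsUnit (a j) := by
    by_contra h
    exact hj ((IsLocalRing.mem_maximalIdeal _).2 h)
  obtain ⟨b, hb⟩ := isUnit_iff_exists_inv'.1 hu
  obtain ⟨n', rfl⟩ : ∃ n', n = n' + 1 := by
    cases n with
    | zero => exact j.elim0
    | succ n' => exact ⟨n', rfl⟩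
  set nnR : Ideal (R : Type u) := IsLocalRing.maximalIdeal (R : Type u) ^ 2 ⊔
    (IsLocalRing.maximalIdeal Λ).map (algebraMap Λ R) with hnnR
  set x' : Fin n' → R := fun i' => x (j.succAbove i') with hx'
  set T : Ideal (R : Type u) := Ideal.span (Set.range x') ⊔ nnR with hT
  refine hmin n' (Nat.lt_succ_self n') ⟨x', fun i' => hx _, ?_⟩
  have hxT : ∀ i, x i ∈ T := by
    intro i
    rcases Fin.eq_self_or_eq_succAbove j i with rfl | ⟨i', rfl⟩
    · have hsum := Fin.sum_univ_succAbove (fun i => algebraMap Λ R (a i) * x i) i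
      have h1 : algebraMap Λ R (a i) * x i =
          (∑ i, algebraMap Λ R (a i) * x i) - ∑ i', algebraMap Λ R (a (i.succAbove i')) * x' i' := by
        rw [hsum]
        ring
      have h2 : algebraMap Λ R (a i) * x i ∈ T := by
        rw [h1]
        refine Ideal.sub_mem _ (Ideal.mem_sup_right hs) ?_
        refine Ideal.sum_mem _ fun i' _ => ?_
        exact Ideal.mul_mem_left _ _ (Ideal.mem_sup_left (Ideal.subset_span ⟨i', rfl⟩))
      have h3 : x i = algebraMap Λ R b * (algebraMap Λ R (a i) * x i) := by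
        rw [← mul_assoc, ← map_mul, hb, map_one, one_mul]
      rw [h3]
      exact Ideal.mul_mem_left _ _ h2
    · exact Ideal.mem_sup_left (Ideal.subset_span ⟨i', rfl⟩)
  have hspan : Ideal.span (Set.range x) ≤ T := by
    rw [Ideal.span_le]
    rintro _ ⟨i, rfl⟩
    exact hxT i
  exact hgen.trans (sup_le hspan le_sup_right)

variable [Module.Finite Λ k]

/-- **Minimal presentation** of an Artinian local algebra. -/
theorem exists_min_presentation (R : Art Λ k) :
    ∃ (n : ℕ) (ρ : HomSet (psCRing hΛk n).carrier (psCRing hΛk n).res R),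
      Function.Surjective ρ.1 ∧
      RingHom.ker ρ.1 ≤ IsLocalRing.maximalIdeal (psCRing hΛk n).carrier ^ 2 ⊔
        (IsLocalRing.maximalIdeal Λ).map (algebraMap Λ (psCRing hΛk n).carrier) := by
  classical
  have hex := exists_gen_fam R
  obtain ⟨n, ⟨x, hx, hgen⟩, hmin⟩ : ∃ n, Gen R n ∧ ∀ m, m < n → ¬ Gen R m :=
    ⟨Nat.find hex, Nat.find_spec hex, fun m hm => Nat.find_min hex hm⟩
  obtain ⟨ρ, hρ⟩ := ps_exists_hom hΛk n R x hx
  have hkerΛ := ker_algebraMap_eq hΛk
  refine ⟨n, ρ, ?_, ?_⟩
  · -- surjectivity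
    apply ((Groth.Agent.S12714.result (psCRing hΛk n) (toCRing R) ρ.1 ρ.2).out 2 0).1
    apply le_antisymm
    · refine sup_le (sup_le (map_ker_le_maximalIdeal R) ?_) (Ideal.pow_le_self two_ne_zero)
      refine Ideal.map_le_iff_le_comap.2 ?_
      intro y hy
      exact homSet_map_maximalIdeal (psCRing hΛk n) ρ y hy
    · refine hgen.trans (sup_le ?_ (sup_le ?_ ?_))
      · refine Ideal.span_le.2 ?_
        rintro _ ⟨i, rfl⟩
        refine Ideal.mem_sup_left (Ideal.mem_sup_right ?_)
        rw [← hρ i]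
        exact Ideal.mem_map_of_mem _ (psX_mem hΛk n i)
      · exact le_sup_right
      · rw [hkerΛ]
        exact le_sup_of_le_left le_sup_left
  · -- the kernel
    intro f hf
    have hf0 : ρ.1 f = 0 := RingHom.mem_ker.1 hf
    set c₀ : Λ := constantCoeff (f : MvPowerSeries (Fin n) Λ) with hc₀
    set a : Fin n → Λ := fun i => coeff (Finsupp.single i 1) (f : MvPowerSeries (Fin n) Λ) with ha
    have hg := ps_sub_lin_mem (f : MvPowerSeries (Fin n) Λ)
    have hg' : ρ.1 ((f : MvPowerSeries (Fin n) Λ) - C c₀ - ∑ i, C (a i) * X i) ∈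
        IsLocalRing.maximalIdeal (R : Type u) ^ 2 :=
      homSet_map_pow (psCRing hΛk n) ρ 2 _ (Ideal.pow_right_mono PS.span_X_le 2 hg)
    have hC : ∀ c : Λ, ρ.1 (C c : MvPowerSeries (Fin n) Λ) = algebraMap Λ R c := by
      intro c
      have : (C c : MvPowerSeries (Fin n) Λ) = algebraMap Λ (MvPowerSeries (Fin n) Λ) c := by
        rw [MvPowerSeries.algebraMap_apply]; rfl
      rw [this]
      exact ρ.1.commutes c
    have hc₀m : c₀ ∈ IsLocalRing.maximalIdeal Λ := by
      rw [← hkerΛ, RingHom.mem_ker]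
      have h1 : R.res (ρ.1 f) = (psCRing hΛk n).res f := AlgHom.congr_fun ρ.2 f
      rw [hf0, map_zero] at h1
      exact h1.symm
    have hexp : ρ.1 ((f : MvPowerSeries (Fin n) Λ) - C c₀ - ∑ i, C (a i) * X i) =
        - algebraMap Λ R c₀ - ∑ i, algebraMap Λ R (a i) * x i := by
      rw [map_sub, map_sub, map_sum, hf0, hC, zero_sub]
      congr 1
      refine Finset.sum_congr rfl fun i _ => ?_
      rw [map_mul, hC]
      congr 1
      exact hρ i
    have hs : ∑ i, algebraMap Λ R (a i) * x i ∈ IsLocalRing.maximalIdeal (R : Type u) ^ 2 ⊔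
        (IsLocalRing.maximalIdeal Λ).map (algebraMap Λ R) := by
      have e : ∑ i, algebraMap Λ R (a i) * x i =
          - (- algebraMap Λ R c₀ - ∑ i, algebraMap Λ R (a i) * x i) - algebraMap Λ R c₀ := by ring
      rw [e, ← hexp]
      refine Ideal.sub_mem _ (neg_mem (Ideal.mem_sup_left hg')) (Ideal.mem_sup_right ?_)
      exact Ideal.mem_map_of_mem _ hc₀m
    have ham := coeff_mem_of_minimal R n hmin x hx hgen a hs
    exact ps_mem_nn (f : MvPowerSeries (Fin n) Λ) hc₀m ham

end Pres

end Groth.Agent.H61
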