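import Groth.Agent.H61.NLInv
import Groth.Agent.H61.CotProj

/-!
# `lci ⇒ NL` is perfect with tor amplitude in `[-1, 0]`
-/

universe u

open CategoryTheory HomologicalComplex Algebra

attribute [local instance] HasDerivedCategory.standard

namespace Groth.Agent.H61.NLPerf

open Groth.Agent.H61.NLInv

variable {A B : Type u} [CommRing A] [CommRing B] [Algebra A B]

/-- A module which is locally (on a standard open cover) finite free is finite. -/
theorem finite_of_locally_free {T : Type u} [CommRing T] {N : Type u} [AddCommGroup N] [Module T N]
    (h : ∀ q : PrimeSpectrum T, ∃ r : T, r ∉ q.asIdeal ∧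
      Module.Free (Localization.Away r) (LocalizedModule.Away r N) ∧
      Module.Finite (Localization.Away r) (LocalizedModule.Away r N)) :
    Module.Finite T N := by
  let s : Set T := {r | Module.Free (Localization.Away r)
      (LocalizedModule.Away r N) ∧ Module.Finite (Localization.Away r)
      (LocalizedModule.Away r N)}
  have hs : Ideal.span s = ⊤ := by
    by_contra hne
    obtain ⟨m, hm, hle⟩ := Ideal.exists_le_maximal _ hne
    obtain ⟨r, hr, hfree⟩ := h ⟨m, hm.isPrime⟩
    exact hr (hle (Ideal.subset_span hfree))
  have hmem : ∀ g : s, Module.Free (Localization.Away g.1) (LocalizedModule.Away g.1 N) ∧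
      Module.Finite (Localization.Away g.1) (LocalizedModule.Away g.1 N) := fun g => g.2
  haveI : Module.FinitePresentation T N :=
    Module.FinitePresentation.of_localizationSpan s hs (fun g => by
      obtain ⟨h1, h2⟩ := hmem g
      exact Module.finitePresentation_of_projective _ _)
  infer_instance

theorem finite_cotangent (E : Algebra.Extension.{u} A B) (hI : LCI.IsKoszulRegularIdeal E.ker) :
    Module.Finite B E.Cotangent :=
  finite_of_locally_free (CotProj.free_away E hI)

/-- Terms of `nl` of a finite-generators extension with Koszul-regular kernel are finite projective. -/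
theorem termwiseFiniteProjective {n : ℕ} (G : Generators A B (Fin n))
    (hI : LCI.IsKoszulRegularIdeal G.toExtension.ker) :
    DRing.TermwiseFiniteProjective (nl G.toExtension) := by
  intro i
  by_cases h₀ : i = -1
  · subst h₀
    haveI := finite_cotangent G.toExtension hI
    haveI := CotProj.projective_cotangent G.toExtension hI
    exact ⟨Module.Finite.equiv (iso₀ G.toExtension).toLinearEquiv.symm,
      Module.Projective.of_equiv (iso₀ G.toExtension).toLinearEquiv.symm⟩
  · by_cases h₁ : i = 0
    · subst h₁
      haveI : Module.Finite B G.toExtension.CotangentSpace :=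
        Module.Finite.of_basis G.cotangentSpaceBasis
      exact ⟨Module.Finite.equiv (iso₁ G.toExtension).toLinearEquiv.symm,
        Module.Projective.of_equiv (iso₁ G.toExtension).toLinearEquiv.symm⟩
    · have hz : Limits.IsZero ((nl G.toExtension).X i) := isZero_double_X _ rel i h₀ h₁
      haveI : Subsingleton ((nl G.toExtension).X i) := ModuleCat.subsingleton_of_isZero hz
      exact ⟨inferInstance, inferInstance⟩

/-- **lci ⇒ `NL` perfect with tor amplitude in `[-1, 0]`.** -/
theorem perfect_of_isLCI (h : LCI.IsLCI A B) :
    DRing.IsPerfect B (LCI.NL A B) ∧ DRing.HasTorAmplitudeIn B (-1) 0 (LCI.NL A B) := by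
  obtain ⟨_, n, f, hf, hK⟩ := h
  let G : Generators A B (Fin n) := Generators.ofAlgHom f hf
  have hker : G.toExtension.ker = RingHom.ker f.toRingHom := by
    ext x
    simp only [Extension.ker, RingHom.mem_ker]
    have : algebraMap G.toExtension.Ring B x = f x := by
      show MvPolynomial.aeval G.val x = f x
      have : (MvPolynomial.aeval G.val : MvPolynomial (Fin n) A →ₐ[A] B) = f := by
        ext i
        simp [G, Generators.ofAlgHom]
      rw [this]
    rw [this]
    rfl
  have hI : LCI.IsKoszulRegularIdeal G.toExtension.ker := hker ▸ hK
  obtain ⟨e⟩ := nonempty_NL_iso G.toExtension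
    (Generators.defaultHom G (Generators.self A B)).toExtensionHom
  have hfp := termwiseFiniteProjective G hI
  refine ⟨⟨nl G.toExtension, -1, 0, vanishesOutside _, hfp, ⟨e⟩⟩,
    ⟨nl G.toExtension, vanishesOutside _, fun i => ?_, ⟨e⟩⟩⟩
  haveI := (hfp i).2
  infer_instance

end Groth.Agent.H61.NLPerf
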