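import Groth.Agent.S7221
import Groth.Agent.H61.NLPerf

/-!
# Base change of `H^{-1}(NL)` for lci maps: the kernel is finite projective
-/

set_option autoImplicit false
set_option backward.isDefEq.respectTransparency false
universe u
open CategoryTheory CategoryTheory.Limits TensorProduct Algebra

namespace Groth.Agent.H61.NLBC

section General

variable {R S R' S' : Type u} [CommRing R] [CommRing S] [CommRing R']
    [CommRing S'] [Algebra R S] [Algebra R' S'] [Algebra R R'] [Algebra S S'] [Algebra R S']
    [IsScalarTower R R' S'] [IsScalarTower R S S']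

/-- The `S'`-linear extension of `Cotangent.map f`. -/
noncomputable abbrev Lf {P : Extension.{u} R S} {P' : Extension.{u} R' S'} (f : P.Hom P') :
    S' ⊗[S] P.Cotangent →ₗ[S'] P'.Cotangent :=
  LinearMap.liftBaseChange S' (Extension.Cotangent.map f)

/-- Two homs over the square differ by a homotopy. -/
lemma Lf_sub {P : Extension.{u} R S} {P' : Extension.{u} R' S'} (f g : P.Hom P')
    (x : S' ⊗[S] P.Cotangent) :
    Lf f x - Lf g x =
      LinearMap.liftBaseChange S' (f.sub g) (P.cotangentComplex.baseChange S' x) := by
  induction x using TensorProduct.induction_on with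
  | zero => simp
  | tmul s z =>
    rw [LinearMap.liftBaseChange_tmul, LinearMap.liftBaseChange_tmul, LinearMap.baseChange_tmul,
      LinearMap.liftBaseChange_tmul, ← smul_sub]
    congr 1
    have := DFunLike.congr_fun (Extension.Cotangent.map_sub_map f g) z
    simpa using this
  | add a b ha hb =>
    rw [map_add, map_add, map_add, map_add, ← ha, ← hb]
    abel

/-- If `x` is a cycle of the tensored complex, all homs over the square agree on it. -/
lemma Lf_eq_of_mem_ker {P : Extension.{u} R S} {P' : Extension.{u} R' S'} (f g : P.Hom P')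
    (x : S' ⊗[S] P.Cotangent) (hx : P.cotangentComplex.baseChange S' x = 0) :
    Lf f x = Lf g x := by
  have := Lf_sub f g x
  rw [hx, map_zero, sub_eq_zero] at this
  exact this

/-- Post-composition with a hom of extensions of `S'` over `R'`. -/
lemma Lf_comp_right {P : Extension.{u} R S} {P' P'' : Extension.{u} R' S'}
    (f : P.Hom P') (g : P'.Hom P'') (x : S' ⊗[S] P.Cotangent) :
    Lf (g.comp f) x = Extension.Cotangent.map g (Lf f x) := by
  induction x using TensorProduct.induction_on with
  | zero => simp
  | tmul s' z =>
    rw [LinearMap.liftBaseChange_tmul, LinearMap.liftBaseChange_tmul, map_smul,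
      Extension.Cotangent.map_comp]
    rfl
  | add a b ha hb => rw [map_add, map_add, map_add, ha, hb]

/-- Pre-composition with a hom of extensions of `S` over `R`. -/
lemma Lf_comp_left {P₁ P₂ : Extension.{u} R S} {P' : Extension.{u} R' S'}
    (a : P₁.Hom P₂) (f : P₂.Hom P') (x : S' ⊗[S] P₁.Cotangent) :
    Lf (f.comp a) x = Lf f ((Extension.Cotangent.map a).baseChange S' x) := by
  induction x using TensorProduct.induction_on with
  | zero => simp
  | tmul s' z =>
    rw [LinearMap.liftBaseChange_tmul, LinearMap.baseChange_tmul, LinearMap.liftBaseChange_tmul,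
      Extension.Cotangent.map_comp]
    rfl
  | add a b ha hb => rw [map_add, map_add, map_add, ha, hb]

/-- The square `d' ∘ L = L^{CS} ∘ (d ⊗ S')`. -/
lemma d_Lf {P : Extension.{u} R S} {P' : Extension.{u} R' S'} (f : P.Hom P')
    (x : S' ⊗[S] P.Cotangent) :
    P'.cotangentComplex (Lf f x) =
      LinearMap.liftBaseChange S' (Extension.CotangentSpace.map f)
        (P.cotangentComplex.baseChange S' x) := by
  induction x using TensorProduct.induction_on with
  | zero => simp
  | tmul s z =>
    rw [LinearMap.liftBaseChange_tmul, LinearMap.baseChange_tmul, LinearMap.liftBaseChange_tmul,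
      map_smul, Extension.CotangentSpace.map_cotangentComplex]
  | add a b ha hb => rw [map_add, map_add, map_add, map_add, ha, hb]

/-- If `L^{CS}` is injective, the kernel of `L` consists of cycles. -/
lemma ker_Lf_le {P : Extension.{u} R S} {P' : Extension.{u} R' S'} (f : P.Hom P')
    (h0 : Function.Injective (LinearMap.liftBaseChange S' (Extension.CotangentSpace.map f)))
    (x : S' ⊗[S] P.Cotangent) (hx : Lf f x = 0) :
    P.cotangentComplex.baseChange S' x = 0 := by
  apply h0
  rw [← d_Lf, hx, map_zero, map_zero]

end General

section Retract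

variable {R S : Type u} [CommRing R] [CommRing S] [Algebra R S]
  {P₁ P₂ : Extension.{u} R S} (a : P₁.Hom P₂) (b : P₂.Hom P₁)

/-- The inclusion `Cot(P₁) → Cot(P₂) × CS(P₁)`. -/
noncomputable def retI : P₁.Cotangent →ₗ[S] P₂.Cotangent × P₁.CotangentSpace :=
  (Extension.Cotangent.map a).prod P₁.cotangentComplex

/-- The retraction `Cot(P₂) × CS(P₁) → Cot(P₁)`. -/
noncomputable def retR : P₂.Cotangent × P₁.CotangentSpace →ₗ[S] P₁.Cotangent :=
  (Extension.Cotangent.map b).coprod (-((b.comp a).sub (Extension.Hom.id P₁)))

lemma retR_retI (x : P₁.Cotangent) : retR a b (retI a x) = x := by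
  show (Extension.Cotangent.map b) (Extension.Cotangent.map a x) +
    -((b.comp a).sub (Extension.Hom.id P₁)) (P₁.cotangentComplex x) = x
  have h1 := DFunLike.congr_fun
    (Extension.Cotangent.map_sub_map (b.comp a) (Extension.Hom.id P₁)) x
  have h2 := DFunLike.congr_fun (Extension.Cotangent.map_comp (f := a) (g := b)) x
  simp only [LinearMap.sub_apply, LinearMap.comp_apply, Extension.Cotangent.map_id,
    LinearMap.id_apply, LinearMap.restrictScalars_apply] at h1 h2
  rw [← h1, ← h2]
  abel

include a b in
lemma finite_cotangent_of_retract [Module.Finite S P₂.Cotangent]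
    [Module.Finite S P₁.CotangentSpace] : Module.Finite S P₁.Cotangent :=
  Module.Finite.of_surjective (retR a b) (fun x => ⟨retI a x, retR_retI a b x⟩)

include a b in
lemma projective_cotangent_of_retract [Module.Projective S P₂.Cotangent]
    [Module.Projective S P₁.CotangentSpace] : Module.Projective S P₁.Cotangent :=
  Module.Projective.of_split (retI a) (retR a b) (LinearMap.ext (retR_retI a b))

variable (S' : Type u) [CommRing S'] [Algebra S S']

/-- On cycles of the tensored complex, `(Cot.map b ⊗ S') ∘ (Cot.map a ⊗ S') = id`. -/
lemma baseChange_retract (x : S' ⊗[S] P₁.Cotangent)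
    (hx : P₁.cotangentComplex.baseChange S' x = 0) :
    (Extension.Cotangent.map b).baseChange S' ((Extension.Cotangent.map a).baseChange S' x) = x := by
  have key : ∀ y : S' ⊗[S] P₁.Cotangent,
      (Extension.Cotangent.map b).baseChange S' ((Extension.Cotangent.map a).baseChange S' y) - y =
        ((b.comp a).sub (Extension.Hom.id P₁)).baseChange S'
          (P₁.cotangentComplex.baseChange S' y) := by
    intro y
    induction y using TensorProduct.induction_on with
    | zero => simp
    | tmul s z =>
      rw [LinearMap.baseChange_tmul, LinearMap.baseChange_tmul, LinearMap.baseChange_tmul,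
        LinearMap.baseChange_tmul, ← tmul_sub]
      congr 1
      have h1 := DFunLike.congr_fun
        (Extension.Cotangent.map_sub_map (b.comp a) (Extension.Hom.id P₁)) z
      have h2 := DFunLike.congr_fun (Extension.Cotangent.map_comp (f := a) (g := b)) z
      simp only [LinearMap.sub_apply, LinearMap.comp_apply, Extension.Cotangent.map_id,
        LinearMap.id_apply, LinearMap.restrictScalars_apply] at h1 h2
      rw [← h1, ← h2]
    | add y z hy hz =>
      rw [map_add, map_add, map_add, map_add, ← hy, ← hz]
      abel
  have := key x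
  rw [hx, map_zero, sub_eq_zero] at this
  exact this

end Retract

section LCI

variable {A B : Type u} [CommRing A] [CommRing B] [Algebra A B]

/-- An lci map has a finite presentation with finite projective conormal module. -/
theorem exists_gens_of_isLCI (h : LCI.IsLCI A B) :
    ∃ (n : ℕ) (G : Generators A B (Fin n)), Module.Finite B G.toExtension.Cotangent ∧
      Module.Projective B G.toExtension.Cotangent := by
  obtain ⟨_, n, f, hf, hK⟩ := h
  let G : Generators A B (Fin n) := Generators.ofAlgHom f hf
  have hker : G.toExtension.ker = RingHom.ker f.toRingHom := by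
    ext x
    simp only [Extension.ker, RingHom.mem_ker]
    have : algebraMap G.toExtension.Ring B x = f x := by
      show MvPolynomial.aeval G.val x = f x
      have : (MvPolynomial.aeval G.val : MvPolynomial (Fin n) A →ₐ[A] B) = f := by
        ext i
        simp [G, Generators.ofAlgHom]
      rw [this]
    rw [this]
    rfl
  have hI : LCI.IsKoszulRegularIdeal G.toExtension.ker := hker ▸ hK
  exact ⟨n, G, NLPerf.finite_cotangent G.toExtension hI,
    CotProj.projective_cotangent G.toExtension hI⟩

/-- For an lci map, every presentation on finitely many variables has finite projective conormal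
module. -/
theorem finite_projective_cotangent_of_isLCI (h : LCI.IsLCI A B) {ι : Type u} [Finite ι]
    (G : Generators A B ι) :
    Module.Finite B G.toExtension.Cotangent ∧ Module.Projective B G.toExtension.Cotangent := by
  obtain ⟨n, GK, hfin, hproj⟩ := exists_gens_of_isLCI h
  haveI : Module.Finite B G.toExtension.CotangentSpace :=
    Module.Finite.of_basis G.cotangentSpaceBasis
  exact ⟨finite_cotangent_of_retract (Generators.defaultHom G GK).toExtensionHom
      (Generators.defaultHom GK G).toExtensionHom,
    projective_cotangent_of_retract (Generators.defaultHom G GK).toExtensionHom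
      (Generators.defaultHom GK G).toExtensionHom⟩

end LCI

section Pushout

variable {A B A' B' : Type u} [CommRing A] [CommRing B] [CommRing A']
    [CommRing B'] [Algebra A B] [Algebra A' B'] [Algebra A A'] [Algebra B B'] [Algebra A B']
    [IsScalarTower A A' B'] [IsScalarTower A B B'] [Algebra.IsPushout A A' B B']

/-- Base change of generators is surjective for a cocartesian square. -/
lemma aeval_bc_surjective {ι : Type u} (G : Generators A B ι) :
    Function.Surjective
      (MvPolynomial.aeval (R := A') (fun i : ι => algebraMap B B' (G.val i))) := by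
  intro x
  have H : Algebra.IsPushout A A' B B' := inferInstance
  change x ∈ (MvPolynomial.aeval (R := A') (fun i : ι => algebraMap B B' (G.val i))).range
  refine H.1.inductionOn x _ ?_ ?_ ?_ ?_
  · exact Subalgebra.zero_mem _
  · intro s
    show algebraMap B B' s ∈ _
    obtain ⟨p, rfl⟩ := G.aeval_val_surjective s
    induction p using MvPolynomial.induction_on with
    | C a =>
      rw [MvPolynomial.aeval_C, ← IsScalarTower.algebraMap_apply,
        IsScalarTower.algebraMap_apply A A' B']
      exact Subalgebra.algebraMap_mem _ _
    | add p q hp hq =>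
      rw [map_add, map_add]
      exact Subalgebra.add_mem _ hp hq
    | mul_X p i hp =>
      rw [map_mul, map_mul, MvPolynomial.aeval_X]
      exact Subalgebra.mul_mem _ hp ⟨MvPolynomial.X i, by simp⟩
  · intro r' y hy
    exact Subalgebra.smul_mem _ hy r'
  · intro y z hy hz
    exact Subalgebra.add_mem _ hy hz

/-- The base-changed presentation on the same variables. -/
noncomputable def bcGens {ι : Type u} (G : Generators A B ι) : Generators A' B' ι :=
  Generators.ofSurjective (fun i : ι => algebraMap B B' (G.val i)) (aeval_bc_surjective G)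

lemma bcGens_val {ι : Type u} (G : Generators A B ι) (i : ι) :
    (bcGens (A' := A') (B' := B') G).val i = algebraMap B B' (G.val i) := rfl

/-- The kernel of `L` for the same-variables hom of a finite presentation of an lci map (both
sides lci) is finite projective. -/
theorem ker_Lf_finite_projective (hB : LCI.IsLCI A B) (hB' : LCI.IsLCI A' B') {ι : Type u} [Finite ι]
    (G : Generators A B ι) :
    Module.Finite B' (LinearMap.ker (Lf (S' := B')
      (NLCx.sameVarsHom G (bcGens (A' := A') (B' := B') G) (bcGens_val G)).toExtensionHom)) ∧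
    Module.Projective B' (LinearMap.ker (Lf (S' := B')
      (NLCx.sameVarsHom G (bcGens (A' := A') (B' := B') G) (bcGens_val G)).toExtensionHom)) := by
  obtain ⟨hf, hp⟩ := finite_projective_cotangent_of_isLCI hB G
  obtain ⟨hf', hp'⟩ := finite_projective_cotangent_of_isLCI hB' (bcGens (A' := A') (B' := B') G)
  set L := Lf (S' := B')
    (NLCx.sameVarsHom G (bcGens (A' := A') (B' := B') G) (bcGens_val G)).toExtensionHom with hL
  have hsurj : Function.Surjective L :=
    Groth.Agent.S7221.liftBaseChange_cotangent_surjective G _ (bcGens_val G)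
  obtain ⟨s, hs⟩ := Module.projective_lifting_property L LinearMap.id hsurj
  -- retraction onto the kernel
  let r : B' ⊗[B] G.toExtension.Cotangent →ₗ[B'] LinearMap.ker L :=
    LinearMap.codRestrict (LinearMap.ker L) (LinearMap.id - s ∘ₗ L) (fun x => by
      rw [LinearMap.mem_ker, LinearMap.sub_apply, LinearMap.id_apply, LinearMap.comp_apply, map_sub]
      have := DFunLike.congr_fun hs (L x)
      rw [LinearMap.comp_apply, LinearMap.id_apply] at this
      rw [this, sub_self])
  have hr : ∀ x : LinearMap.ker L, r x.1 = x := by
    intro x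
    apply Subtype.ext
    show x.1 - s (L x.1) = x.1
    rw [LinearMap.mem_ker.1 x.2, map_zero, sub_zero]
  exact ⟨Module.Finite.of_surjective r (fun x => ⟨x.1, hr x⟩),
    Module.Projective.of_split (LinearMap.ker L).subtype r (LinearMap.ext hr)⟩

variable (A B A' B') in
/-- The same-variables hom for the presentation on all elements. -/
noncomputable abbrev svSelf :
    (Generators.self A B).toExtension.Hom (Groth.Agent.S7221.G2 A B A' B').toExtension :=
  (NLCx.sameVarsHom (Generators.self A B) (Groth.Agent.S7221.G2 A B A' B')
    (Groth.Agent.S7221.h2 A B A' B')).toExtensionHom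

/-- The kernel of `L` for the presentation on all elements is finite projective. -/
theorem ker_Lf_self_finite_projective (hB : LCI.IsLCI A B) (hB' : LCI.IsLCI A' B') :
    Module.Finite B' (LinearMap.ker (Lf (S' := B') (svSelf A B A' B'))) ∧
    Module.Projective B' (LinearMap.ker (Lf (S' := B') (svSelf A B A' B'))) := by
  obtain ⟨n, GK, -, -⟩ := exists_gens_of_isLCI hB
  let G₀ : Generators A B (ULift.{u} (Fin n)) := GK.reindex Equiv.ulift
  obtain ⟨hfin, hproj⟩ := ker_Lf_finite_projective (A' := A') (B' := B') hB hB' G₀
  set sv₀ := (NLCx.sameVarsHom G₀ (bcGens (A' := A') (B' := B') G₀) (bcGens_val G₀)).toExtensionHom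
    with hsv₀
  set svs := svSelf A B A' B' with hsvs
  let a : (Generators.self A B).toExtension.Hom G₀.toExtension :=
    (Generators.defaultHom (Generators.self A B) G₀).toExtensionHom
  let b : G₀.toExtension.Hom (Generators.self A B).toExtension :=
    (Generators.defaultHom G₀ (Generators.self A B)).toExtensionHom
  let a' : (Groth.Agent.S7221.G2 A B A' B').toExtension.Hom
      (bcGens (A' := A') (B' := B') G₀).toExtension :=
    (Generators.defaultHom (Groth.Agent.S7221.G2 A B A' B') (bcGens G₀)).toExtensionHom
  let b' : (bcGens (A' := A') (B' := B') G₀).toExtension.Hom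
      (Groth.Agent.S7221.G2 A B A' B').toExtension :=
    (Generators.defaultHom (bcGens G₀) (Groth.Agent.S7221.G2 A B A' B')).toExtensionHom
  have hcs : ∀ x, Lf (S' := B') svs x = 0 →
      (Generators.self A B).toExtension.cotangentComplex.baseChange B' x = 0 := fun x hx =>
    ker_Lf_le svs (Groth.Agent.S7221.liftBaseChange_cotangentSpace_injective _ _
      (Groth.Agent.S7221.h2 A B A' B')) x hx
  have hc0 : ∀ y, Lf (S' := B') sv₀ y = 0 →
      G₀.toExtension.cotangentComplex.baseChange B' y = 0 := fun y hy =>
    ker_Lf_le sv₀ (Groth.Agent.S7221.liftBaseChange_cotangentSpace_injective _ _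
      (bcGens_val G₀)) y hy
  let α := (Extension.Cotangent.map a).baseChange B'
  let β := (Extension.Cotangent.map b).baseChange B'
  have hα : ∀ x, Lf (S' := B') svs x = 0 → Lf (S' := B') sv₀ (α x) = 0 := by
    intro x hx
    rw [← Lf_comp_left a sv₀ x, Lf_eq_of_mem_ker (sv₀.comp a) (a'.comp svs) x (hcs x hx),
      Lf_comp_right svs a' x, hx, map_zero]
  have hβ : ∀ y, Lf (S' := B') sv₀ y = 0 → Lf (S' := B') svs (β y) = 0 := by
    intro y hy
    rw [← Lf_comp_left b svs y, Lf_eq_of_mem_ker (svs.comp b) (b'.comp sv₀) y (hc0 y hy),
      Lf_comp_right sv₀ b' y, hy, map_zero]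
  let αK : LinearMap.ker (Lf (S' := B') svs) →ₗ[B'] LinearMap.ker (Lf (S' := B') sv₀) :=
    α.restrict (fun x hx => LinearMap.mem_ker.2 (hα x (LinearMap.mem_ker.1 hx)))
  let βK : LinearMap.ker (Lf (S' := B') sv₀) →ₗ[B'] LinearMap.ker (Lf (S' := B') svs) :=
    β.restrict (fun y hy => LinearMap.mem_ker.2 (hβ y (LinearMap.mem_ker.1 hy)))
  have hβα : ∀ x, βK (αK x) = x := by
    intro x
    apply Subtype.ext
    exact baseChange_retract a b B' x.1 (hcs x.1 (LinearMap.mem_ker.1 x.2))
  exact ⟨Module.Finite.of_surjective βK (fun x => ⟨αK x, hβα x⟩),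
    Module.Projective.of_split αK βK (LinearMap.ext hβα)⟩

/-- The kernel of `bcH1Map` for the default hom is the kernel of `bcH1Map` for `svSelf`. -/
lemma bcH1Map_default_eq_zero_iff
    (x : NLCx.bcH1 (Generators.self A B).toExtension B') :
    NLCx.bcH1Map ((Generators.self A B).defaultHom (Generators.self A' B')).toExtensionHom x = 0 ↔
      Lf (S' := B') (svSelf A B A' B') x.1 = 0 := by
  rw [Groth.Agent.S7221.defaultHom_eq, Generators.Hom.toExtensionHom_comp,
    Groth.Agent.S7221.bcH1Map_comp]
  have hinj := (Extension.H1Cotangent.equiv (Groth.Agent.S7221.g2 A B A' B').toExtensionHom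
    ((Generators.self A' B').defaultHom (Groth.Agent.S7221.G2 A B A' B')).toExtensionHom).injective
  constructor
  · intro h
    have h0 : NLCx.bcH1Map (svSelf A B A' B') x = 0 := hinj (by rw [map_zero]; exact h)
    exact congrArg Subtype.val h0
  · intro h
    have h0 : NLCx.bcH1Map (svSelf A B A' B') x = 0 := Subtype.ext h
    show Extension.H1Cotangent.map _ (NLCx.bcH1Map (svSelf A B A' B') x) = 0
    rw [h0, map_zero]

/-- **Base change for lci maps: the kernel of `H^{-1}(NL_{B/A} ⊗ B') → H^{-1}(NL_{B'/A'})` is
finite projective.** -/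
theorem main (hB : LCI.IsLCI A B) (hB' : LCI.IsLCI A' B') :
    Module.Finite B' (LinearMap.ker (NLCx.bcH1Map
        ((Generators.self A B).defaultHom (Generators.self A' B')).toExtensionHom)) ∧
      Module.Projective B' (LinearMap.ker (NLCx.bcH1Map
        ((Generators.self A B).defaultHom (Generators.self A' B')).toExtensionHom)) := by
  obtain ⟨hfin, hproj⟩ := ker_Lf_self_finite_projective hB hB'
  set F := NLCx.bcH1Map
    ((Generators.self A B).defaultHom (Generators.self A' B')).toExtensionHom with hF
  set L := Lf (S' := B') (svSelf A B A' B') with hL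
  have hcs : ∀ x, L x = 0 →
      (Generators.self A B).toExtension.cotangentComplex.baseChange B' x = 0 := fun x hx =>
    ker_Lf_le (svSelf A B A' B') (Groth.Agent.S7221.liftBaseChange_cotangentSpace_injective _ _
      (Groth.Agent.S7221.h2 A B A' B')) x hx
  let φ : LinearMap.ker F →ₗ[B'] LinearMap.ker L :=
    LinearMap.codRestrict (LinearMap.ker L)
      ((NLCx.bcH1 (Generators.self A B).toExtension B').subtype ∘ₗ (LinearMap.ker F).subtype)
      (fun x => LinearMap.mem_ker.2
        ((bcH1Map_default_eq_zero_iff x.1).1 (LinearMap.mem_ker.1 x.2)))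
  have hφ : Function.Bijective φ := by
    constructor
    · intro x y hxy
      apply Subtype.ext
      apply Subtype.ext
      exact congrArg (fun z : LinearMap.ker L => z.1) hxy
    · intro y
      have hy0 : L y.1 = 0 := LinearMap.mem_ker.1 y.2
      let x0 : NLCx.bcH1 (Generators.self A B).toExtension B' :=
        ⟨y.1, LinearMap.mem_ker.2 (hcs y.1 hy0)⟩
      have hx0 : x0 ∈ LinearMap.ker F :=
        LinearMap.mem_ker.2 ((bcH1Map_default_eq_zero_iff x0).2 hy0)
      exact ⟨⟨x0, hx0⟩, Subtype.ext rfl⟩
  let e := LinearEquiv.ofBijective φ hφ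
  exact ⟨Module.Finite.equiv e.symm, Module.Projective.of_equiv e.symm⟩

end Pushout

end Groth.Agent.H61.NLBC
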