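import Groth.Agent.H61.NLQIsoCrit

/-!
# `bcMapSelf` is a quasi-isomorphism when it is so on `H¹` and `Ω` (flat case)
-/

set_option autoImplicit false
set_option linter.style.haveILetI false
set_option linter.unusedSectionVars false
set_option backward.isDefEq.respectTransparency false
universe u
open CategoryTheory TensorProduct

attribute [local instance] HasDerivedCategory.standard

namespace Groth.Agent.H61.NLEtaleBC

open Algebra KaehlerDifferential

section Compat

variable {R S R' S' : Type u} [CommRing R] [CommRing S] [CommRing R']
    [CommRing S'] [Algebra R S] [Algebra R' S'] [Algebra R R'] [Algebra S S'] [Algebra R S']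
    [IsScalarTower R R' S'] [IsScalarTower R S S']
    {P : Extension.{u} R S} {P' : Extension.{u} R' S'} (f : P.Hom P')

lemma toKaehler_map (w : P.CotangentSpace) :
    P'.toKaehler (Extension.CotangentSpace.map f w) =
      KaehlerDifferential.map R R' S S' (P.toKaehler w) := by
  induction w using TensorProduct.induction_on with
  | zero => simp
  | add a b ha hb => rw [map_add, map_add, map_add, map_add, ha, hb]
  | tmul s y =>
    obtain ⟨t, rfl⟩ := KaehlerDifferential.tensorProductTo_surjective _ _ y
    induction t using TensorProduct.induction_on with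
    | zero => simp
    | add a b ha hb =>
      rw [map_add, TensorProduct.tmul_add, map_add, map_add, map_add, map_add, ha, hb]
    | tmul a b =>
      rw [Derivation.tensorProductTo_tmul, TensorProduct.tmul_smul, TensorProduct.smul_tmul',
        Extension.CotangentSpace.map_tmul]
      simp only [Extension.toKaehler, KaehlerDifferential.mapBaseChange_tmul,
        KaehlerDifferential.map_D, map_smul]
      rw [algebraMap_smul]
      congr 2
      exact f.algebraMap_toRingHom b

lemma lbc_cotangent_ι (t : S' ⊗[S] P.H1Cotangent) :
    LinearMap.liftBaseChange S' (Extension.Cotangent.map f)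
        ((Extension.h1Cotangentι.baseChange S') t) =
      (LinearMap.liftBaseChange S' (Extension.H1Cotangent.map f) t).1 := by
  induction t using TensorProduct.induction_on with
  | zero => simp
  | add a b ha hb =>
    rw [map_add, map_add, map_add, ha, hb]
    rfl
  | tmul b h =>
    rw [LinearMap.baseChange_tmul, LinearMap.liftBaseChange_tmul, LinearMap.liftBaseChange_tmul]
    rfl

lemma toKaehler_lbc (w : S' ⊗[S] P.CotangentSpace) :
    P'.toKaehler (LinearMap.liftBaseChange S' (Extension.CotangentSpace.map f) w) =
      LinearMap.liftBaseChange S' (KaehlerDifferential.map R R' S S')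
        ((P.toKaehler.baseChange S') w) := by
  induction w using TensorProduct.induction_on with
  | zero => simp
  | add a b ha hb => rw [map_add, map_add, map_add, map_add, ha, hb]
  | tmul b h =>
    rw [LinearMap.baseChange_tmul, LinearMap.liftBaseChange_tmul, LinearMap.liftBaseChange_tmul,
      map_smul, toKaehler_map]

/-- `bcMap f` is a quasi-isomorphism if `S'` is flat over `S` and `f` induces bijections
`S' ⊗ H¹(L_P) → H¹(L_{P'})` and `S' ⊗ Ω[S/R] → Ω[S'/R']`. -/
theorem quasiIso_bcMap_of_bijective [Module.Flat S S']
    (hβ : Function.Bijective (LinearMap.liftBaseChange S' (Extension.H1Cotangent.map f)))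
    (hα : Function.Bijective (LinearMap.liftBaseChange S' (KaehlerDifferential.map R R' S S'))) :
    QuasiIso (NLCx.bcMap (S' := S') f) := by
  have ex1 : Function.Exact (Extension.h1Cotangentι.baseChange S' : S' ⊗[S] P.H1Cotangent → _)
      (P.cotangentComplex.baseChange S') := by
    rw [LinearMap.baseChange_eq_ltensor, LinearMap.baseChange_eq_ltensor]
    exact Module.Flat.lTensor_exact S' P.exact_hCotangentι_cotangentComplex
  have ex2 : Function.Exact (P.cotangentComplex.baseChange S')
      (P.toKaehler.baseChange S') := by
    rw [LinearMap.baseChange_eq_ltensor, LinearMap.baseChange_eq_ltensor]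
    exact lTensor_exact S' P.exact_cotangentComplex_toKaehler P.toKaehler_surjective
  have sur2 : Function.Surjective (P.toKaehler.baseChange S') := by
    rw [LinearMap.baseChange_eq_ltensor]
    exact LinearMap.lTensor_surjective S' P.toKaehler_surjective
  apply NLQIsoCrit.quasiIso_bcMap_of f
  · intro y hy
    obtain ⟨t, ht⟩ := hβ.2 ⟨y, LinearMap.mem_ker.mpr hy⟩
    refine ⟨(Extension.h1Cotangentι.baseChange S') t, ex1.apply_apply_eq_zero t, ?_⟩
    rw [lbc_cotangent_ι, ht]
  · intro x hx hfx
    obtain ⟨t, rfl⟩ := (ex1 x).mp hx
    rw [lbc_cotangent_ι] at hfx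
    have h0 : LinearMap.liftBaseChange S' (Extension.H1Cotangent.map f) t = 0 :=
      Subtype.ext hfx
    have ht : t = 0 := hβ.1 (h0.trans (map_zero _).symm)
    rw [ht, map_zero]
  · intro z
    obtain ⟨s, hs⟩ := hα.2 (P'.toKaehler z)
    obtain ⟨w, rfl⟩ := sur2 s
    have h0 : P'.toKaehler
        (LinearMap.liftBaseChange S' (Extension.CotangentSpace.map f) w - z) = 0 := by
      rw [map_sub, toKaehler_lbc, hs, sub_self]
    obtain ⟨y, hy⟩ := (P'.exact_cotangentComplex_toKaehler _).mp h0
    exact ⟨w, y, by rw [hy]; abel⟩
  · rintro w ⟨y, hy⟩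
    have h0 : LinearMap.liftBaseChange S' (KaehlerDifferential.map R R' S S')
        ((P.toKaehler.baseChange S') w) = 0 := by
      rw [← toKaehler_lbc, hy]
      exact P'.exact_cotangentComplex_toKaehler.apply_apply_eq_zero y
    have h1 : (P.toKaehler.baseChange S') w = 0 := hα.1 (h0.trans (map_zero _).symm)
    obtain ⟨x, hx⟩ := (ex2 w).mp h1
    exact ⟨x, hx.symm⟩

end Compat

section BaseEtale

/-! ### Changing the base along a formally étale map -/

variable (R S T : Type u) [CommRing R] [CommRing S] [CommRing T] [Algebra R S] [Algebra R T]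
  [Algebra S T] [IsScalarTower R S T]

lemma bijective_cotangentComplex_self [Subsingleton (Algebra.H1Cotangent R S)]
    [Subsingleton Ω[S⁄R]] :
    Function.Bijective (Generators.self R S).toExtension.cotangentComplex := by
  constructor
  · rw [injective_iff_map_eq_zero]
    intro x hx
    have : (⟨x, LinearMap.mem_ker.mpr hx⟩ : Algebra.H1Cotangent R S) = 0 :=
      @Subsingleton.elim (Algebra.H1Cotangent R S) _ _ _
    exact congrArg Subtype.val this
  · intro z
    have h0 : (Generators.self R S).toExtension.toKaehler z = 0 := Subsingleton.elim _ _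
    exact ((Generators.self R S).toExtension.exact_cotangentComplex_toKaehler z).mp h0

theorem bijective_kaehler_map [Subsingleton Ω[S⁄R]] :
    Function.Bijective (KaehlerDifferential.map R S T T) := by
  refine ⟨?_, KaehlerDifferential.map_surjective R S T⟩
  rw [injective_iff_map_eq_zero]
  intro x hx
  obtain ⟨y, rfl⟩ := (KaehlerDifferential.exact_mapBaseChange_map R S T x).mp hx
  have : y = 0 := Subsingleton.elim _ _
  rw [this, map_zero]

open Generators in
lemma injective_map_ofComp {ι σ : Type u} (Q : Generators S T ι) (P : Generators R S σ)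
    (hinj : Function.Injective (P.toExtension.cotangentComplex.baseChange T)) :
    Function.Injective (Extension.H1Cotangent.map (Q.ofComp P).toExtensionHom) := by
  rw [injective_iff_map_eq_zero]
  rintro ⟨x, x_in⟩ hx
  replace hx : Extension.Cotangent.map (Q.ofComp P).toExtensionHom x = 0 := by
    simpa [← Extension.h1Cotangentι_injective.eq_iff] using hx
  obtain ⟨y, rfl⟩ := (Generators.Cotangent.exact Q P x).mp hx
  have h1 : ((Extension.CotangentSpace.map (Q.toComp P).toExtensionHom).liftBaseChange T)
      ((P.toExtension.cotangentComplex.baseChange T) y) = 0 := by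
    have := congr($(Generators.H1Cotangent.map_comp_cotangentComplex_baseChange Q P) y)
    rw [LinearMap.comp_apply, LinearMap.comp_apply] at this
    rw [this]
    exact LinearMap.mem_ker.mp x_in
  have h2 := Generators.CotangentSpace.map_toComp_injective Q P (h1.trans (map_zero _).symm)
  have h3 : y = 0 := hinj (h2.trans (map_zero _).symm)
  subst h3
  apply Subtype.ext
  simp

theorem bijective_h1Cotangent_map [Subsingleton (Algebra.H1Cotangent R S)]
    [Subsingleton Ω[S⁄R]] :
    Function.Bijective (Algebra.H1Cotangent.map R S T T) := by
  constructor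
  · have hb := bijective_cotangentComplex_self R S
    have hinj : Function.Injective
        ((Generators.self R S).toExtension.cotangentComplex.baseChange T) := by
      rw [LinearMap.baseChange_eq_ltensor]
      exact (LinearEquiv.lTensor T (LinearEquiv.ofBijective _ hb)).injective
    have h1 := injective_map_ofComp R S T (Generators.self S T) (Generators.self R S) hinj
    have e : Algebra.H1Cotangent.map R S T T =
        (Extension.H1Cotangent.map
          ((Generators.self S T).ofComp (Generators.self R S)).toExtensionHom).restrictScalars T ∘ₗ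
        (Generators.H1Cotangent.equiv (Generators.self R T)
          ((Generators.self S T).comp (Generators.self R S))).toLinearMap := by
      show Extension.H1Cotangent.map _ = (Extension.H1Cotangent.map _).restrictScalars T ∘ₗ
        Extension.H1Cotangent.map _
      rw [← Extension.H1Cotangent.map_comp, Extension.H1Cotangent.map_eq]
    rw [e]
    exact h1.comp (LinearEquiv.injective _)
  · intro z
    have h0 : Algebra.H1Cotangent.δ R S T z = 0 := Subsingleton.elim _ _
    exact (Algebra.H1Cotangent.exact_map_δ R S T z).mp h0

end BaseEtale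

section TopEtale

/-! ### Changing the top along a flat formally étale map -/

variable (R S T : Type u) [CommRing R] [CommRing S] [CommRing T] [Algebra R S] [Algebra R T]
  [Algebra S T] [IsScalarTower R S T]

theorem bijective_kaehler_lbc [Algebra.FormallyEtale S T] :
    Function.Bijective (LinearMap.liftBaseChange T (KaehlerDifferential.map R R S T)) := by
  have e : ∀ t, LinearMap.liftBaseChange T (KaehlerDifferential.map R R S T) t =
      KaehlerDifferential.tensorKaehlerEquivOfFormallyEtale R S T t := by
    intro t
    induction t using TensorProduct.induction_on with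
    | zero => simp
    | add a b ha hb => rw [map_add, map_add, ha, hb]
    | tmul b h =>
      rw [LinearMap.liftBaseChange_tmul,
        KaehlerDifferential.tensorKaehlerEquivOfFormallyEtale_apply,
        KaehlerDifferential.mapBaseChange_tmul]
  have e' : ⇑(LinearMap.liftBaseChange T (KaehlerDifferential.map R R S T)) =
      ⇑(KaehlerDifferential.tensorKaehlerEquivOfFormallyEtale R S T) := funext e
  rw [e']
  exact LinearEquiv.bijective _

variable {R S T}

lemma bijective_mapKer_lbc {P : Extension.{u} R S} {Q : Extension.{u} R T} (f : P.Hom Q)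
    [alg : Algebra P.Ring Q.Ring] (halg : algebraMap P.Ring Q.Ring = f.toRingHom)
    [Module.Flat P.Ring Q.Ring] (hker : Q.ker = P.ker.map (algebraMap P.Ring Q.Ring)) :
    Function.Bijective ((f.mapKer halg).liftBaseChange Q.Ring) := by
  let μ : Q.Ring ⊗[P.Ring] P.ker →ₗ[P.Ring] Q.Ring :=
    (TensorProduct.rid P.Ring Q.Ring).toLinearMap ∘ₗ
      (LinearMap.lTensor Q.Ring (Submodule.subtype P.ker))
  have hμ : Function.Injective μ := by
    apply (TensorProduct.rid P.Ring Q.Ring).injective.comp
    exact Module.Flat.lTensor_preserves_injective_linearMap _ Subtype.val_injective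
  have hΦμ : ∀ t, (((f.mapKer halg).liftBaseChange Q.Ring t : Q.ker) : Q.Ring) = μ t := by
    intro t
    induction t using TensorProduct.induction_on with
    | zero => simp
    | add a b ha hb =>
      rw [map_add, map_add, ← ha, ← hb]
      rfl
    | tmul q x =>
      rw [LinearMap.liftBaseChange_tmul]
      show q * f.toRingHom x.1 = (TensorProduct.rid P.Ring Q.Ring) (q ⊗ₜ x.1)
      rw [TensorProduct.rid_tmul, Algebra.smul_def, halg, mul_comm]
  constructor
  · rw [injective_iff_map_eq_zero]
    intro t ht
    apply hμ
    rw [← hΦμ, ht, map_zero]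
    rfl
  · rintro ⟨y, hy⟩
    have hy' : y ∈ P.ker.map (algebraMap P.Ring Q.Ring) := by
      rw [← hker]
      exact hy
    have key : ∀ z ∈ Ideal.map (algebraMap P.Ring Q.Ring) P.ker,
        ∃ t, (((f.mapKer halg).liftBaseChange Q.Ring t : Q.ker) : Q.Ring) = z := by
      intro z hz
      refine Submodule.span_induction (p := fun z _ =>
        ∃ t, (((f.mapKer halg).liftBaseChange Q.Ring t : Q.ker) : Q.Ring) = z) ?_ ?_ ?_ ?_ hz
      · rintro _ ⟨x, hx, rfl⟩
        refine ⟨(1 : Q.Ring) ⊗ₜ ⟨x, hx⟩, ?_⟩
        rw [LinearMap.liftBaseChange_tmul, one_smul, halg]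
        rfl
      · exact ⟨0, by rw [map_zero]; rfl⟩
      · rintro a b _ _ ⟨ta, hta⟩ ⟨tb, htb⟩
        exact ⟨ta + tb, by rw [map_add, ← hta, ← htb]; rfl⟩
      · rintro q a _ ⟨ta, hta⟩
        exact ⟨q • ta, by rw [map_smul, ← hta]; rfl⟩
    obtain ⟨t, ht⟩ := key y hy'
    exact ⟨t, Subtype.ext ht⟩

set_option maxHeartbeats 1000000 in
/-- Flat formally étale change of the top ring: `T ⊗ H¹(L_{S/R}) ≅ H¹(L_{T/R})`, given a flat
formally étale algebra `Rq` over the polynomial ring presenting `S` with `Rq / I·Rq ≅ T`. -/
theorem bijective_h1Cotangent_lbc [Module.Flat S T]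
    (Rq : Type u) [CommRing Rq] [Algebra (Generators.self R S).toExtension.Ring Rq]
    [Module.Flat (Generators.self R S).toExtension.Ring Rq]
    [Algebra.FormallyEtale (Generators.self R S).toExtension.Ring Rq]
    (ψ : Rq →+* T) (hψ : Function.Surjective ψ)
    (hcomm : ψ.comp (algebraMap (Generators.self R S).toExtension.Ring Rq) =
      (algebraMap S T).comp (algebraMap (Generators.self R S).toExtension.Ring S))
    (hker : RingHom.ker ψ = (Generators.self R S).toExtension.ker.map
      (algebraMap (Generators.self R S).toExtension.Ring Rq)) :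
    Function.Bijective (LinearMap.liftBaseChange T (Algebra.H1Cotangent.map R R S T)) := by
  let P := (Generators.self R S).toExtension
  letI : Algebra R Rq := ((algebraMap P.Ring Rq).comp (algebraMap R P.Ring)).toAlgebra
  haveI : IsScalarTower R P.Ring Rq := IsScalarTower.of_algebraMap_eq' rfl
  letI : Algebra Rq T := ψ.toAlgebra
  haveI : IsScalarTower R Rq T := IsScalarTower.of_algebraMap_eq' (by
    ext r
    show algebraMap R T r = ψ (algebraMap P.Ring Rq (algebraMap R P.Ring r))
    have h := congr($hcomm (algebraMap R P.Ring r))
    rw [RingHom.comp_apply] at h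
    rw [h, RingHom.comp_apply, ← IsScalarTower.algebraMap_apply R P.Ring S,
      ← IsScalarTower.algebraMap_apply R S T])
  let Q : Extension.{u} R T :=
    { Ring := Rq
      σ := fun x => (hψ x).choose
      algebraMap_σ := fun x => (hψ x).choose_spec }
  let f : P.Hom Q :=
    { toRingHom := algebraMap P.Ring Rq
      toRingHom_algebraMap := fun r => rfl
      algebraMap_toRingHom := fun x => congr($hcomm x) }
  letI alg : Algebra P.Ring Q.Ring := inferInstanceAs (Algebra P.Ring Rq)
  have halg : algebraMap P.Ring Q.Ring = f.toRingHom := rfl
  haveI : Module.Flat P.Ring Q.Ring := inferInstanceAs (Module.Flat P.Ring Rq)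
  have H₁ : f.toRingHom.FormallyEtale :=
    RingHom.formallyEtale_algebraMap.mpr (inferInstanceAs (Algebra.FormallyEtale P.Ring Rq))
  have H₂ : Function.Bijective ((f.mapKer halg).liftBaseChange Q.Ring) :=
    bijective_mapKer_lbc f halg hker
  let T1 := Extension.tensorH1CotangentOfFormallyEtale f halg H₁ H₂
  haveI : Algebra.FormallySmooth R P.Ring :=
    inferInstanceAs (Algebra.FormallySmooth R (MvPolynomial _ _))
  haveI : Algebra.FormallySmooth P.Ring Q.Ring :=
    inferInstanceAs (Algebra.FormallySmooth P.Ring Rq)
  haveI : Algebra.FormallySmooth R Q.Ring := Algebra.FormallySmooth.comp R P.Ring Q.Ring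
  haveI : Algebra.FormallySmooth R (Generators.self R T).toExtension.Ring :=
    inferInstanceAs (Algebra.FormallySmooth R (MvPolynomial _ _))
  let E := Extension.H1Cotangent.equivOfFormallySmooth (Generators.self R T).toExtension Q
  let g : (Generators.self R T).toExtension.Hom Q := Extension.defaultHom (R := R) (S := T) Q
  let d : P.Hom (Generators.self R T).toExtension :=
    ((Generators.self R S).defaultHom (Generators.self R T)).toExtensionHom
  have key : ∀ t, E (LinearMap.liftBaseChange T (Algebra.H1Cotangent.map R R S T) t) = T1 t := by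
    intro t
    induction t using TensorProduct.induction_on with
    | zero => simp
    | add a b ha hb => rw [map_add, map_add, map_add, ha, hb]
    | tmul b h =>
      rw [LinearMap.liftBaseChange_tmul, map_smul,
        Extension.H1Cotangent.equivOfFormallySmooth_apply g]
      show b • Extension.H1Cotangent.map g (Extension.H1Cotangent.map d h) =
        LinearMap.liftBaseChange T (Extension.H1Cotangent.map f) (b ⊗ₜ h)
      rw [LinearMap.liftBaseChange_tmul]
      congr 1
      have h1 := congr($(Extension.H1Cotangent.map_comp d g) h)
      rw [Extension.H1Cotangent.map_eq (g.comp d) f] at h1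
      exact h1.symm
  have e' : ⇑(LinearMap.liftBaseChange T (Algebra.H1Cotangent.map R R S T)) =
      ⇑E.symm ∘ ⇑T1 := by
    funext t
    rw [Function.comp_apply, ← key, LinearEquiv.symm_apply_apply]
  rw [e']
  exact E.symm.bijective.comp T1.bijective

end TopEtale

section Main

variable (A B A' B' : Type u) [CommRing A] [CommRing B] [CommRing A'] [CommRing B']
  [Algebra A B] [Algebra A' B'] [Algebra A A'] [Algebra B B'] [Algebra A B']
  [IsScalarTower A A' B'] [IsScalarTower A B B']

lemma h1Cotangent_map_eq_comp :
    Algebra.H1Cotangent.map A A' B B' =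
      (Algebra.H1Cotangent.map A A' B' B').restrictScalars B ∘ₗ
        Algebra.H1Cotangent.map A A B B' := by
  show Extension.H1Cotangent.map _ = (Extension.H1Cotangent.map _).restrictScalars B ∘ₗ
    Extension.H1Cotangent.map _
  rw [← Extension.H1Cotangent.map_comp, Extension.H1Cotangent.map_eq]

lemma kaehler_map_eq_comp :
    KaehlerDifferential.map A A' B B' =
      (KaehlerDifferential.map A A' B' B').restrictScalars B ∘ₗ
        KaehlerDifferential.map A A B B' := by
  apply Derivation.liftKaehlerDifferential_unique
  ext b
  simp [KaehlerDifferential.map_D]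

set_option maxHeartbeats 1000000 in
/-- The abstract base change theorem: for a commutative square with `A → A'` formally étale,
`B → B'` flat and formally étale, and `B'` obtained from a flat formally étale algebra over the
polynomial ring presenting `B` by reduction modulo the kernel, `NL_{B/A} ⊗ B' → NL_{B'/A'}` is a
quasi-isomorphism. -/
theorem quasiIso_bcMapSelf_of_etale [Algebra.FormallyEtale A A'] [Algebra.FormallyEtale B B']
    [Module.Flat B B']
    (Rq : Type u) [CommRing Rq] [Algebra (Generators.self A B).toExtension.Ring Rq]
    [Module.Flat (Generators.self A B).toExtension.Ring Rq]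
    [Algebra.FormallyEtale (Generators.self A B).toExtension.Ring Rq]
    (ψ : Rq →+* B') (hψ : Function.Surjective ψ)
    (hcomm : ψ.comp (algebraMap (Generators.self A B).toExtension.Ring Rq) =
      (algebraMap B B').comp (algebraMap (Generators.self A B).toExtension.Ring B))
    (hker : RingHom.ker ψ = (Generators.self A B).toExtension.ker.map
      (algebraMap (Generators.self A B).toExtension.Ring Rq)) :
    QuasiIso (NLCx.bcMapSelf A B A' B') := by
  haveI : Subsingleton (Algebra.H1Cotangent A A') := inferInstance
  haveI : Subsingleton Ω[A'⁄A] := inferInstance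
  have hβ1 := bijective_h1Cotangent_lbc (R := A) (S := B) (T := B') Rq ψ hψ hcomm hker
  have hβ2 := bijective_h1Cotangent_map A A' B'
  have hα1 := bijective_kaehler_lbc A B B'
  have hα2 := bijective_kaehler_map A A' B'
  apply quasiIso_bcMap_of_bijective
  · show Function.Bijective (LinearMap.liftBaseChange B' (Algebra.H1Cotangent.map A A' B B'))
    rw [h1Cotangent_map_eq_comp, ← LinearMap.liftBaseChange_comp]
    exact hβ2.comp hβ1
  · rw [kaehler_map_eq_comp, ← LinearMap.liftBaseChange_comp]
    exact hα2.comp hα1

end Main

end Groth.Agent.H61.NLEtaleBC
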