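import Groth.Agent.S7221
import Mathlib

/-!
# Base change of the naive cotangent complex along `R → R'` when `S` is flat over `R`

For a cocartesian square `S' = S ⊗_R R'` with `S` flat over `R`, presentations `G` of `S/R` and
`G'` of `S'/R'` on the same variables: the map `S' ⊗_S I/I² → I'/I'²` is injective (it is always
surjective, `S7221.liftBaseChange_cotangent_surjective`).
-/

set_option autoImplicit false
set_option backward.isDefEq.respectTransparency false
universe u
open TensorProduct

namespace Groth.Agent.H61.NLFlatBC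

open Algebra

section General

variable {R S : Type u} [CommRing R] [CommRing S] [Algebra R S]

/-- `I/I² → P/I²` as an `R`-linear map on `P.Cotangent`. -/
noncomputable def cQ (P : Extension.{u} R S) : P.Cotangent →ₗ[R] P.Ring ⧸ P.ker ^ 2 :=
  (P.ker.cotangentToQuotientSquare.restrictScalars R) ∘ₗ
    (P.cotangentEquivCotangentKer.toLinearMap.restrictScalars R)

lemma cQ_mk (P : Extension.{u} R S) (x : P.ker) :
    cQ P (Extension.Cotangent.mk x) = Ideal.Quotient.mk (P.ker ^ 2) x.1 := by
  show P.ker.cotangentToQuotientSquare (Extension.Cotangent.mk x).val = _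
  rw [Extension.Cotangent.val_mk, Ideal.toCotangent_to_quotient_square]
  rfl

lemma cQ_injective (P : Extension.{u} R S) : Function.Injective (cQ P) := by
  intro x y hxy
  have : P.ker.cotangentToQuotientSquare x.val = P.ker.cotangentToQuotientSquare y.val := hxy
  exact Extension.Cotangent.ext (Ideal.cotangentToQuotientSquare_injective _ this)

/-- `P/I² → S`. -/
noncomputable def qS (P : Extension.{u} R S) : (P.Ring ⧸ P.ker ^ 2) →ₐ[R] S :=
  Ideal.Quotient.liftₐ (P.ker ^ 2) (IsScalarTower.toAlgHom R P.Ring S) (fun a ha => by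
    have : a ∈ P.ker := Ideal.pow_le_self two_ne_zero ha
    exact this)

lemma qS_mk (P : Extension.{u} R S) (p : P.Ring) :
    qS P (Ideal.Quotient.mk (P.ker ^ 2) p) = algebraMap P.Ring S p := rfl

lemma qS_surjective (P : Extension.{u} R S) : Function.Surjective (qS P) := by
  intro s
  obtain ⟨p, rfl⟩ := P.algebraMap_surjective s
  exact ⟨Ideal.Quotient.mk _ p, rfl⟩

lemma exact_cQ_qS (P : Extension.{u} R S) : Function.Exact (cQ P) (qS P).toLinearMap := by
  intro q
  constructor
  · intro hq
    obtain ⟨p, rfl⟩ := Ideal.Quotient.mk_surjective q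
    have hp : p ∈ P.ker := hq
    exact ⟨Extension.Cotangent.mk ⟨p, hp⟩, cQ_mk P ⟨p, hp⟩⟩
  · rintro ⟨m, rfl⟩
    obtain ⟨x, rfl⟩ := Extension.Cotangent.mk_surjective m
    rw [cQ_mk]
    exact x.2

lemma lTensor_cQ_injective (P : Extension.{u} R S) [Module.Flat R S]
    (A : Type u) [AddCommGroup A] [Module R A] :
    Function.Injective ((cQ P).lTensor A) :=
  LinearMap.lTensor_injective_of_exact_of_flat (qS P).toLinearMap (qS_surjective P) (cQ P)
    (cQ_injective P) (exact_cQ_qS P) A

end General

section SameVars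

variable {R S R' S' : Type u} [CommRing R] [CommRing S] [CommRing R']
    [CommRing S'] [Algebra R S] [Algebra R' S'] [Algebra R R'] [Algebra S S'] [Algebra R S']
    [IsScalarTower R R' S'] [IsScalarTower R S S']
    {ι : Type u} (G : Algebra.Generators R S ι) (G' : Algebra.Generators R' S' ι)
    (h : ∀ i, G'.val i = algebraMap S S' (G.val i))

/-- `R'[X] → R' ⊗_R (R[X]/I²)`. -/
noncomputable def θ : MvPolynomial ι R' →ₐ[R']
    R' ⊗[R] (G.toExtension.Ring ⧸ G.toExtension.ker ^ 2) :=
  MvPolynomial.aeval (fun i => (1 : R') ⊗ₜ[R]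
    Ideal.Quotient.mk (G.toExtension.ker ^ 2) (MvPolynomial.X i : MvPolynomial ι R))

include h in
lemma θ_φ (p : MvPolynomial ι R) :
    θ G ((NLCx.sameVarsHom G G' h).toAlgHom p) =
      (1 : R') ⊗ₜ[R] Ideal.Quotient.mk (G.toExtension.ker ^ 2) p := by
  have key : ((θ G).restrictScalars R).comp (NLCx.sameVarsHom G G' h).toAlgHom =
      (Algebra.TensorProduct.includeRight : _ →ₐ[R] R' ⊗[R] _).comp
        (Ideal.Quotient.mkₐ R (G.toExtension.ker ^ 2)) := by
    apply MvPolynomial.algHom_ext
    intro i
    simp only [AlgHom.comp_apply, AlgHom.restrictScalars_apply, Algebra.Generators.Hom.toAlgHom_X,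
      Algebra.TensorProduct.includeRight_apply, Ideal.Quotient.mkₐ_eq_mk]
    show θ G (MvPolynomial.X i) = _
    rw [θ, MvPolynomial.aeval_X]
    rfl
  exact DFunLike.congr_fun key p

variable [Algebra.IsPushout R R' S S']

include h in
lemma θ_kill (x : MvPolynomial ι R') (hx : x ∈ G'.toExtension.ker ^ 2) : θ G x = 0 := by
  have h1 : G'.toExtension.ker ^ 2 ≤ (Groth.Agent.S7221.J G G' h) ^ 2 :=
    Ideal.pow_right_mono (Groth.Agent.S7221.ker_le_J G G' h) 2
  have h2 : (Groth.Agent.S7221.J G G' h) ^ 2 =
      Ideal.map (NLCx.sameVarsHom G G' h).toAlgHom (G.ker ^ 2) := (Ideal.map_pow _ _ _).symm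
  have h3 : Ideal.map (NLCx.sameVarsHom G G' h).toAlgHom (G.ker ^ 2) ≤
      RingHom.ker (θ (R' := R') G).toRingHom := by
    rw [Ideal.map_le_iff_le_comap]
    intro z hz
    rw [Ideal.mem_comap, RingHom.mem_ker]
    show θ G ((NLCx.sameVarsHom G G' h).toAlgHom z) = 0
    rw [θ_φ G G' h, Ideal.Quotient.eq_zero_iff_mem.mpr hz, tmul_zero]
  exact h3 (h2 ▸ h1 hx)

/-- `R'[X]/I'² → R' ⊗_R (R[X]/I²)`. -/
noncomputable def θbar : (G'.toExtension.Ring ⧸ G'.toExtension.ker ^ 2) →ₐ[R']
    R' ⊗[R] (G.toExtension.Ring ⧸ G.toExtension.ker ^ 2) :=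
  Ideal.Quotient.liftₐ (G'.toExtension.ker ^ 2) (θ G) (fun a ha => θ_kill G G' h a ha)

lemma θbar_mk (x : MvPolynomial ι R') :
    θbar G G' h (Ideal.Quotient.mk (G'.toExtension.ker ^ 2) x) = θ G x := rfl

lemma key_eq [Module.Flat R S] (u : R' ⊗[R] G.toExtension.Cotangent) :
    θbar G G' h (cQ G'.toExtension (LinearMap.liftBaseChange S'
      (Algebra.Extension.Cotangent.map (NLCx.sameVarsHom G G' h).toExtensionHom)
      ((Algebra.IsPushout.cancelBaseChange R R' S S' G.toExtension.Cotangent).symm u))) =
    (cQ G.toExtension).lTensor R' u := by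
  induction u using TensorProduct.induction_on with
  | zero => simp
  | add a b ha hb => simp only [map_add, ha, hb]
  | tmul a' m =>
    obtain ⟨x, rfl⟩ := Algebra.Extension.Cotangent.mk_surjective m
    rw [Algebra.IsPushout.cancelBaseChange_symm_tmul, LinearMap.liftBaseChange_tmul,
      algebraMap_smul, map_smul, map_smul, Algebra.Extension.Cotangent.map_mk, cQ_mk,
      LinearMap.lTensor_tmul, cQ_mk, θbar_mk]
    show a' • θ G ((NLCx.sameVarsHom G G' h).toAlgHom x.1) = _
    rw [θ_φ G G' h, TensorProduct.smul_tmul', smul_eq_mul, mul_one]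
    rfl

theorem liftBaseChange_cotangent_injective [Module.Flat R S] : Function.Injective
    (LinearMap.liftBaseChange S'
      (Algebra.Extension.Cotangent.map (NLCx.sameVarsHom G G' h).toExtensionHom)) := by
  intro t₁ t₂ ht
  set e := Algebra.IsPushout.cancelBaseChange R R' S S' G.toExtension.Cotangent with he
  have h1 := key_eq G G' h (e t₁)
  have h2 := key_eq G G' h (e t₂)
  rw [LinearEquiv.symm_apply_apply] at h1 h2
  rw [ht, h2] at h1
  exact e.injective (lTensor_cQ_injective G.toExtension R' h1.symm)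

theorem liftBaseChange_cotangent_bijective [Module.Flat R S] : Function.Bijective
    (LinearMap.liftBaseChange S'
      (Algebra.Extension.Cotangent.map (NLCx.sameVarsHom G G' h).toExtensionHom)) :=
  ⟨liftBaseChange_cotangent_injective G G' h,
    Groth.Agent.S7221.liftBaseChange_cotangent_surjective G G' h⟩

omit [Algebra.IsPushout R R' S S'] in
theorem liftBaseChange_cotangentSpace_bijective : Function.Bijective
    (LinearMap.liftBaseChange S'
      (Algebra.Extension.CotangentSpace.map (NLCx.sameVarsHom G G' h).toExtensionHom)) := by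
  let b := G.cotangentSpaceBasis.baseChange S'
  let e := b.equiv G'.cotangentSpaceBasis (Equiv.refl ι)
  have : LinearMap.liftBaseChange S'
      (Algebra.Extension.CotangentSpace.map (NLCx.sameVarsHom G G' h).toExtensionHom) =
      e.toLinearMap :=
    b.ext (fun i => by
      rw [LinearEquiv.coe_coe, Module.Basis.equiv_apply, Equiv.refl_apply]
      simp only [b, Module.Basis.baseChange_apply, LinearMap.liftBaseChange_tmul, one_smul,
        Groth.Agent.S7221.cotangentSpace_map_basis])
  rw [this]
  exact e.bijective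

end SameVars

end Groth.Agent.H61.NLFlatBC
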