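import Groth.Agent.H61.NLFlatBC
import Groth.Agent.H61.NLInv
import Groth.Prelude.Def_SheafNL
import Mathlib

/-!
# Complex-level base change of the naive cotangent complex

* `bcMap_comp` : `bcMap (g.comp f) = bcMap f ≫ nlMap g`;
* `isIso_bcMap` : degreewise bijective ⇒ `bcMap f` is an isomorphism of complexes;
* `quasiIso_bcMapSelf` : for a cocartesian square with `S` flat over `R`, `bcMapSelf` is a
  quasi-isomorphism.
-/

set_option autoImplicit false
set_option backward.isDefEq.respectTransparency false
universe u
open CategoryTheory HomologicalComplex TensorProduct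

attribute [local instance] HasDerivedCategory.standard

namespace Groth.Agent.H61.NLFlatBC

open Algebra Groth.Agent.H61.NLInv

section Comp

variable {R S R' S' : Type u} [CommRing R] [CommRing S] [CommRing R']
    [CommRing S'] [Algebra R S] [Algebra R' S'] [Algebra R R'] [Algebra S S'] [Algebra R S']
    [IsScalarTower R R' S'] [IsScalarTower R S S']

lemma bc_rel : (ComplexShape.up ℤ).Rel (-1) 0 := by simp

/-- degree `-1` iso of `bcCx`. -/
noncomputable def bcIso₀ (P : Extension.{u} R S) :
    (NLCx.bcCx P S').X (-1) ≅ ModuleCat.of S' (S' ⊗[S] P.Cotangent) :=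
  doubleXIso₀ _ bc_rel

/-- degree `0` iso of `bcCx`. -/
noncomputable def bcIso₁ (P : Extension.{u} R S) :
    (NLCx.bcCx P S').X 0 ≅ ModuleCat.of S' (S' ⊗[S] P.CotangentSpace) :=
  doubleXIso₁ _ bc_rel NLInv.ne

lemma bcMap_f₀ {P : Extension.{u} R S} {P' : Extension.{u} R' S'} (f : P.Hom P') :
    (NLCx.bcMap (S' := S') f).f (-1) = (bcIso₀ P).hom ≫
      ModuleCat.ofHom (LinearMap.liftBaseChange S' (Extension.Cotangent.map f)) ≫
        (iso₀ P').inv :=
  mkHomFromDouble_f₀ _ _ _ _ _ _

lemma bcMap_f₁ {P : Extension.{u} R S} {P' : Extension.{u} R' S'} (f : P.Hom P') :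
    (NLCx.bcMap (S' := S') f).f 0 = (bcIso₁ P).hom ≫
      ModuleCat.ofHom (LinearMap.liftBaseChange S' (Extension.CotangentSpace.map f)) ≫
        (iso₁ P').inv :=
  mkHomFromDouble_f₁ _ _ _ _ _ _

lemma bcMap_comp {P : Extension.{u} R S} {P' P'' : Extension.{u} R' S'}
    (f : P.Hom P') (g : P'.Hom P'') :
    NLCx.bcMap (S' := S') (g.comp f) = NLCx.bcMap (S' := S') f ≫ nlMap g := by
  apply from_double_hom_ext
  · rw [bcMap_f₀, comp_f, bcMap_f₀, nlMap_f₀]
    simp only [Category.assoc, Iso.inv_hom_id_assoc]
    congr 1
    rw [← Category.assoc]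
    congr 1
    refine ModuleCat.hom_ext (LinearMap.ext fun t => ?_)
    show LinearMap.liftBaseChange S' (Extension.Cotangent.map (g.comp f)) t =
      Extension.Cotangent.map g (LinearMap.liftBaseChange S' (Extension.Cotangent.map f) t)
    induction t using TensorProduct.induction_on with
    | zero => simp
    | tmul s' z =>
      rw [LinearMap.liftBaseChange_tmul, LinearMap.liftBaseChange_tmul, map_smul,
        Extension.Cotangent.map_comp]
      rfl
    | add a b ha hb => rw [map_add, map_add, map_add, ha, hb]
  · rw [bcMap_f₁, comp_f, bcMap_f₁, nlMap_f₁]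
    simp only [Category.assoc, Iso.inv_hom_id_assoc]
    congr 1
    rw [← Category.assoc]
    congr 1
    refine ModuleCat.hom_ext (LinearMap.ext fun t => ?_)
    show LinearMap.liftBaseChange S' (Extension.CotangentSpace.map (g.comp f)) t =
      Extension.CotangentSpace.map g
        (LinearMap.liftBaseChange S' (Extension.CotangentSpace.map f) t)
    induction t using TensorProduct.induction_on with
    | zero => simp
    | tmul s' z =>
      rw [LinearMap.liftBaseChange_tmul, LinearMap.liftBaseChange_tmul, map_smul,
        Extension.CotangentSpace.map_comp_apply]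
    | add a b ha hb => rw [map_add, map_add, map_add, ha, hb]

lemma isIso_bcMap {P : Extension.{u} R S} {P' : Extension.{u} R' S'} (f : P.Hom P')
    (h₀ : Function.Bijective (LinearMap.liftBaseChange S' (Extension.Cotangent.map f)))
    (h₁ : Function.Bijective (LinearMap.liftBaseChange S' (Extension.CotangentSpace.map f))) :
    IsIso (NLCx.bcMap (S' := S') f) := by
  haveI : ∀ i, IsIso ((NLCx.bcMap (S' := S') f).f i) := by
    intro i
    by_cases hi0 : i = -1
    · subst hi0
      rw [bcMap_f₀]
      haveI : IsIso (ModuleCat.ofHom (LinearMap.liftBaseChange S' (Extension.Cotangent.map f))) :=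
        (ConcreteCategory.isIso_iff_bijective _).2 h₀
      infer_instance
    · by_cases hi1 : i = 0
      · subst hi1
        rw [bcMap_f₁]
        haveI : IsIso (ModuleCat.ofHom
            (LinearMap.liftBaseChange S' (Extension.CotangentSpace.map f))) :=
          (ConcreteCategory.isIso_iff_bijective _).2 h₁
        infer_instance
      · have z1 : Limits.IsZero ((NLCx.bcCx P S').X i) := isZero_double_X _ bc_rel i hi0 hi1
        have z2 : Limits.IsZero ((NLCx.cx P').X i) := isZero_double_X _ bc_rel i hi0 hi1
        exact ⟨⟨0, z1.eq_of_src _ _, z2.eq_of_src _ _⟩⟩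
  exact HomologicalComplex.Hom.isIso_of_components _

end Comp

section Self

variable (R S R' S' : Type u) [CommRing R] [CommRing S] [CommRing R']
    [CommRing S'] [Algebra R S] [Algebra R' S'] [Algebra R R'] [Algebra S S'] [Algebra R S']
    [IsScalarTower R R' S'] [IsScalarTower R S S'] [Algebra.IsPushout R R' S S']

open Groth.Agent.S7221 in
theorem quasiIso_bcMapSelf [Module.Flat R S] : QuasiIso (NLCx.bcMapSelf R S R' S') := by
  have e1 : NLCx.bcMapSelf R S R' S' =
      NLCx.bcMap (S' := S') (NLCx.sameVarsHom (Generators.self R S) (G2 R S R' S')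
        (h2 R S R' S')).toExtensionHom ≫ nlMap (g2 R S R' S').toExtensionHom := by
    rw [← bcMap_comp, ← Generators.Hom.toExtensionHom_comp, ← defaultHom_eq]
    rfl
  rw [e1]
  haveI := isIso_bcMap (S' := S') (NLCx.sameVarsHom (Generators.self R S) (G2 R S R' S')
      (h2 R S R' S')).toExtensionHom
    (liftBaseChange_cotangent_bijective _ _ _) (liftBaseChange_cotangentSpace_bijective _ _ _)
  haveI : QuasiIso (nlMap (g2 R S R' S').toExtensionHom) :=
    inferInstanceAs (QuasiIso (homotopyEquiv (g2 R S R' S').toExtensionHom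
      ((Generators.self R' S').defaultHom (G2 R S R' S')).toExtensionHom).hom)
  infer_instance

end Self

end Groth.Agent.H61.NLFlatBC
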