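import Groth.Agent.H61.NLFlatBC2

/-!
# Flat base change of the naive cotangent complex (`R → R'` flat)

Same-variables presentations over a cocartesian square with `R'` flat over `R`:
`S' ⊗_S I/I² → I'/I'²` is bijective, `bcMap` is an isomorphism of complexes, and `bcMapSelf` is
(the hom of) a homotopy equivalence.
-/

set_option autoImplicit false
set_option backward.isDefEq.respectTransparency false
universe u
open CategoryTheory HomologicalComplex TensorProduct

namespace Groth.Agent.H61.NLFlatBC

open Algebra Groth.Agent.H61.NLInv

section SameVars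

variable {R S R' S' : Type u} [CommRing R] [CommRing S] [CommRing R']
    [CommRing S'] [Algebra R S] [Algebra R' S'] [Algebra R R'] [Algebra S S'] [Algebra R S']
    [IsScalarTower R R' S'] [IsScalarTower R S S']
    {ι : Type u} (G : Algebra.Generators R S ι) (G' : Algebra.Generators R' S' ι)
    (h : ∀ i, G'.val i = algebraMap S S' (G.val i)) [Algebra.IsPushout R R' S S']

lemma key_eq' (u : R' ⊗[R] G.toExtension.Cotangent) :
    θbar G G' h (cQ G'.toExtension (LinearMap.liftBaseChange S'
      (Algebra.Extension.Cotangent.map (NLCx.sameVarsHom G G' h).toExtensionHom)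
      ((Algebra.IsPushout.cancelBaseChange R R' S S' G.toExtension.Cotangent).symm u))) =
    (cQ G.toExtension).lTensor R' u := by
  induction u using TensorProduct.induction_on with
  | zero => simp
  | add a b ha hb => simp only [map_add, ha, hb]
  | tmul a' m =>
    obtain ⟨x, rfl⟩ := Algebra.Extension.Cotangent.mk_surjective m
    rw [Algebra.IsPushout.cancelBaseChange_symm_tmul, LinearMap.liftBaseChange_tmul,
      algebraMap_smul, map_smul, map_smul, Algebra.Extension.Cotangent.map_mk, cQ_mk,
      LinearMap.lTensor_tmul, cQ_mk, θbar_mk]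
    show a' • θ G ((NLCx.sameVarsHom G G' h).toAlgHom x.1) = _
    rw [θ_φ G G' h, TensorProduct.smul_tmul', smul_eq_mul, mul_one]
    rfl

/-- general criterion: injectivity of `R' ⊗ I/I² → R' ⊗ P/I²` gives injectivity of
`S' ⊗_S I/I² → I'/I'²`. -/
theorem liftBaseChange_cotangent_injective_of
    (hinj : Function.Injective ((cQ G.toExtension).lTensor R')) : Function.Injective
    (LinearMap.liftBaseChange S'
      (Algebra.Extension.Cotangent.map (NLCx.sameVarsHom G G' h).toExtensionHom)) := by
  intro t₁ t₂ ht
  set e := Algebra.IsPushout.cancelBaseChange R R' S S' G.toExtension.Cotangent with he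
  have h1 := key_eq' G G' h (e t₁)
  have h2 := key_eq' G G' h (e t₂)
  rw [LinearEquiv.symm_apply_apply] at h1 h2
  rw [ht, h2] at h1
  exact e.injective (hinj h1.symm)

theorem liftBaseChange_cotangent_bijective_of_flat_base [Module.Flat R R'] : Function.Bijective
    (LinearMap.liftBaseChange S'
      (Algebra.Extension.Cotangent.map (NLCx.sameVarsHom G G' h).toExtensionHom)) :=
  ⟨liftBaseChange_cotangent_injective_of G G' h
    (Module.Flat.lTensor_preserves_injective_linearMap _ (cQ_injective G.toExtension)),
    Groth.Agent.S7221.liftBaseChange_cotangent_surjective G G' h⟩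

theorem isIso_bcMap_of_flat_base [Module.Flat R R'] :
    IsIso (NLCx.bcMap (S' := S') (NLCx.sameVarsHom G G' h).toExtensionHom) :=
  isIso_bcMap _ (liftBaseChange_cotangent_bijective_of_flat_base G G' h)
    (liftBaseChange_cotangentSpace_bijective G G' h)

end SameVars

section Self

variable (R S R' S' : Type u) [CommRing R] [CommRing S] [CommRing R']
    [CommRing S'] [Algebra R S] [Algebra R' S'] [Algebra R R'] [Algebra S S'] [Algebra R S']
    [IsScalarTower R R' S'] [IsScalarTower R S S'] [Algebra.IsPushout R R' S S']

open Groth.Agent.S7221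

lemma bcMapSelf_eq : NLCx.bcMapSelf R S R' S' =
    NLCx.bcMap (S' := S') (NLCx.sameVarsHom (Generators.self R S) (G2 R S R' S')
      (h2 R S R' S')).toExtensionHom ≫ nlMap (g2 R S R' S').toExtensionHom := by
  rw [← bcMap_comp, ← Generators.Hom.toExtensionHom_comp, ← defaultHom_eq]
  rfl

/-- `bcMapSelf` as a homotopy equivalence, for `R'` flat over `R`. -/
noncomputable def bcSelfHomotopyEquiv [Module.Flat R R'] :
    HomotopyEquiv (NLCx.bcCx (Generators.self R S).toExtension S')
      (NLCx.cx (Generators.self R' S').toExtension) :=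
  haveI := isIso_bcMap_of_flat_base (Generators.self R S) (G2 R S R' S') (h2 R S R' S')
  (HomotopyEquiv.ofIso (asIso (NLCx.bcMap (S' := S')
    (NLCx.sameVarsHom (Generators.self R S) (G2 R S R' S') (h2 R S R' S')).toExtensionHom))).trans
    (homotopyEquiv (g2 R S R' S').toExtensionHom
      ((Generators.self R' S').defaultHom (G2 R S R' S')).toExtensionHom)

lemma bcSelfHomotopyEquiv_hom [Module.Flat R R'] :
    (bcSelfHomotopyEquiv R S R' S').hom = NLCx.bcMapSelf R S R' S' :=
  (bcMapSelf_eq R S R' S').symm

end Self

end Groth.Agent.H61.NLFlatBC
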