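import Groth.Agent.H61.NLEtaleBC
import Groth.Agent.H47.Hens4
import Groth.Agent.H47.HensTensor
import Groth.Agent.S13598

/-!
# The naive cotangent complex and henselization
-/

set_option autoImplicit false
set_option linter.style.haveILetI false
set_option linter.unusedSectionVars false
universe u
open CategoryTheory TensorProduct IsLocalRing

attribute [local instance] HasDerivedCategory.standard

namespace Groth.Agent.H61.NLHens

open Groth.Agent.H47.Hens

section Model

variable (R : Type u) [CommRing R] (p : Ideal R) [p.IsPrime]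

/-- The henselization model is formally étale. -/
theorem formallyEtale_H : Algebra.FormallyEtale R (H R p) := by
  rw [Algebra.FormallyEtale.iff_comp_bijective]
  intro B _ _ I hI
  constructor
  · intro g₁ g₂ h
    have key : ∀ X : EtPt R p, g₁.comp (ιₐ R p X) = g₂.comp (ιₐ R p X) := fun X =>
      Algebra.FormallyUnramified.comp_injective I hI (by
        show (Ideal.Quotient.mkₐ R I).comp (g₁.comp (ιₐ R p X)) =
          (Ideal.Quotient.mkₐ R I).comp (g₂.comp (ιₐ R p X))
        rw [← AlgHom.comp_assoc, ← AlgHom.comp_assoc]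
        exact congrArg (fun t => t.comp (ιₐ R p X)) h)
    refine AlgHom.ext fun x => ?_
    obtain ⟨X, a, rfl⟩ := exists_rep R p x
    exact AlgHom.congr_fun (key X) a
  · intro g
    have hl : ∀ X : EtPt R p, ∃ l : X.A →ₐ[R] B,
        (Ideal.Quotient.mkₐ R I).comp l = g.comp (ιₐ R p X) := fun X =>
      (Algebra.FormallyEtale.comp_bijective R X.A I hI).2 _
    choose l hl using hl
    have hnat : ∀ (X Y : EtPt R p) (u : X ⟶ Y),
        ((l Y).toRingHom).comp u.f.toRingHom = (l X).toRingHom := by
      intro X Y u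
      have : (l Y).comp u.f = l X := Algebra.FormallyUnramified.comp_injective I hI (by
        show (Ideal.Quotient.mkₐ R I).comp ((l Y).comp u.f) = (Ideal.Quotient.mkₐ R I).comp (l X)
        rw [← AlgHom.comp_assoc, hl, hl, AlgHom.comp_assoc, ιₐ_comp])
      exact congrArg AlgHom.toRingHom this
    let G : H R p →ₐ[R] B :=
      { toRingHom := desc R p (fun X => (l X).toRingHom) hnat
        commutes' := fun r => by
          show desc R p _ hnat (algebraMap R (H R p) r) = algebraMap R B r
          rw [← ι_algebraMap R p (X₀ R p) r, desc_ι]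
          exact (l _).commutes r }
    refine ⟨G, AlgHom.ext fun x => ?_⟩
    obtain ⟨X, a, rfl⟩ := exists_rep R p x
    show Ideal.Quotient.mk I (desc R p _ hnat (ι R p X a)) = g (ι R p X a)
    rw [desc_ι]
    exact AlgHom.congr_fun (hl X) a

end Model

section Any

variable (R : Type u) [CommRing R] [IsLocalRing R]
  (S : Type u) [CommRing S] [IsLocalRing S] [Algebra R S] [IsLocalHom (algebraMap R S)]
  [Hensel.IsHenselization R S]

theorem formallyEtale_of_isHenselization : Algebra.FormallyEtale R S := by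
  obtain ⟨e⟩ := exists_algEquiv R S
  haveI := formallyEtale_H R (maximalIdeal R)
  exact Algebra.FormallyEtale.of_equiv e

theorem flat_of_isHenselization : Module.Flat R S := by
  obtain ⟨e⟩ := exists_algEquiv R S
  exact Module.Flat.of_linearEquiv e.symm.toLinearEquiv

end Any

section Quot

/-! ### Reduction of a local algebra modulo the kernel of a surjection -/

variable {R B : Type u} [CommRing R] [IsLocalRing R] [CommRing B] [IsLocalRing B] (π : R →+* B)
  (hπ : Function.Surjective π)
  (Rh : Type u) [CommRing Rh] [IsLocalRing Rh] [Algebra R Rh] [IsLocalHom (algebraMap R Rh)]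

/-- The extended kernel. -/
abbrev Jq : Ideal Rh := (RingHom.ker π).map (algebraMap R Rh)

/-- The reduction `Rh / (ker π) Rh`. -/
abbrev Bq : Type u := Rh ⧸ Jq π Rh

include hπ in
lemma ker_le_maximalIdeal : RingHom.ker π ≤ maximalIdeal R := by
  intro x hx
  rw [mem_maximalIdeal, mem_nonunits_iff]
  intro hu
  have h1 : IsUnit (π x) := hu.map π
  rw [RingHom.mem_ker.mp hx] at h1
  exact not_isUnit_zero h1

include hπ in
lemma Jq_le : Jq π Rh ≤ maximalIdeal Rh := by
  rw [Ideal.map_le_iff_le_comap]
  intro x hx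
  have h1 := ker_le_maximalIdeal π hπ hx
  rw [Ideal.mem_comap, mem_maximalIdeal, mem_nonunits_iff]
  intro hu
  exact (mem_maximalIdeal x).mp h1 (isUnit_of_map_unit (algebraMap R Rh) x hu)

include hπ in
lemma Jq_ne_top : Jq π Rh ≠ ⊤ := fun h =>
  (maximalIdeal.isMaximal Rh).ne_top (top_le_iff.mp (h ▸ Jq_le π hπ Rh))

include hπ in
lemma nontrivial_Bq : Nontrivial (Bq π Rh) := Ideal.Quotient.nontrivial_iff.mpr (Jq_ne_top π hπ Rh)

include hπ in
lemma isLocalRing_Bq : IsLocalRing (Bq π Rh) :=
  haveI := nontrivial_Bq π hπ Rh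
  IsLocalRing.of_surjective' (Ideal.Quotient.mk (Jq π Rh)) Ideal.Quotient.mk_surjective

/-- The structure map `B → Rh / (ker π) Rh`. -/
noncomputable def toBq : B →+* Bq π Rh :=
  RingHom.liftOfSurjective π hπ ⟨(Ideal.Quotient.mk (Jq π Rh)).comp (algebraMap R Rh), by
    intro x hx
    rw [RingHom.mem_ker, RingHom.comp_apply, Ideal.Quotient.eq_zero_iff_mem]
    exact Ideal.mem_map_of_mem _ hx⟩

lemma toBq_π (r : R) : toBq π hπ Rh (π r) = Ideal.Quotient.mk (Jq π Rh) (algebraMap R Rh r) :=
  RingHom.liftOfRightInverse_comp_apply _ _ _ _ r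

lemma isLocalHom_toBq : IsLocalHom (toBq π hπ Rh) := by
  haveI := isLocalRing_Bq π hπ Rh
  haveI : IsLocalHom (Ideal.Quotient.mk (Jq π Rh)) :=
    IsLocalHom.of_surjective _ Ideal.Quotient.mk_surjective
  refine ⟨fun b hb => ?_⟩
  obtain ⟨r, rfl⟩ := hπ b
  rw [toBq_π] at hb
  have h1 : IsUnit (algebraMap R Rh r) := isUnit_of_map_unit (Ideal.Quotient.mk (Jq π Rh)) _ hb
  exact (isUnit_of_map_unit (algebraMap R Rh) r h1).map π

variable {Rh}

/-- From a `B`-isomorphism `Bh ≃ Rh/(ker π)Rh`: the surjection `Rh → Bh` with kernel `(ker π)Rh`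
over `π`. -/
theorem exists_surjective_of_algEquiv (Bh : Type u) [CommRing Bh] [Algebra B Bh]
    (e : letI := (toBq π hπ Rh).toAlgebra; Bh ≃ₐ[B] Bq π Rh) :
    ∃ ψ : Rh →+* Bh, Function.Surjective ψ ∧
      ψ.comp (algebraMap R Rh) = (algebraMap B Bh).comp π ∧
      RingHom.ker ψ = (RingHom.ker π).map (algebraMap R Rh) := by
  letI := (toBq π hπ Rh).toAlgebra
  refine ⟨(e.symm : Bq π Rh →+* Bh).comp (Ideal.Quotient.mk (Jq π Rh)), ?_, ?_, ?_⟩
  · exact e.symm.surjective.comp Ideal.Quotient.mk_surjective
  · ext r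
    show e.symm (Ideal.Quotient.mk (Jq π Rh) (algebraMap R Rh r)) = algebraMap B Bh (π r)
    rw [← toBq_π π hπ Rh r]
    exact e.symm.commutes (π r)
  · ext x
    rw [RingHom.mem_ker, RingHom.comp_apply]
    show e.symm (Ideal.Quotient.mk (Jq π Rh) x) = 0 ↔ _
    rw [map_eq_zero_iff _ e.symm.injective, Ideal.Quotient.eq_zero_iff_mem]

end Quot

section HensQuot

variable {R B : Type u} [CommRing R] [IsLocalRing R] [CommRing B] [IsLocalRing B] (π : R →+* B)
  (hπ : Function.Surjective π)
  (Rh : Type u) [CommRing Rh] [IsLocalRing Rh] [Algebra R Rh] [IsLocalHom (algebraMap R Rh)]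
  [Hensel.IsHenselization R Rh]

/-- The reduction of a henselization modulo the kernel of a surjection is a henselization. -/
theorem isHenselization_Bq :
    letI := (toBq π hπ Rh).toAlgebra
    haveI := isLocalRing_Bq π hπ Rh
    haveI : IsLocalHom (algebraMap B (Bq π Rh)) := isLocalHom_toBq π hπ Rh
    Hensel.IsHenselization B (Bq π Rh) := by
  letI := (toBq π hπ Rh).toAlgebra
  haveI := isLocalRing_Bq π hπ Rh
  haveI : IsLocalHom (algebraMap B (Bq π Rh)) := isLocalHom_toBq π hπ Rh
  haveI hS : HenselianLocalRing Rh := Hensel.IsHenselization.henselian (R := R) (S := Rh)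
  refine { henselian := Groth.Agent.S13598.henselian_quotient _, universal := ?_ }
  intro T _ _ f hf
  haveI : IsLocalHom π := IsLocalHom.of_surjective π hπ
  have hcomp : IsLocalHom (f.comp π) := RingHom.isLocalHom_comp _ _
  obtain ⟨g₀, hg₀, huniq⟩ := Hensel.IsHenselization.universal (R := R) (S := Rh) T
    (f.comp π) hcomp
  have hkill : ∀ s ∈ Jq π Rh, g₀ s = 0 := by
    have hle : Jq π Rh ≤ RingHom.ker g₀ := by
      rw [Ideal.map_le_iff_le_comap]
      intro x hx
      rw [Ideal.mem_comap, RingHom.mem_ker]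
      have h := RingHom.congr_fun hg₀ x
      rw [RingHom.comp_apply, RingHom.comp_apply] at h
      rw [h, RingHom.mem_ker.mp hx, map_zero]
    exact fun s hs => hle hs
  refine ⟨Ideal.Quotient.lift _ g₀ hkill, ?_, ?_⟩
  · ext b
    obtain ⟨r, rfl⟩ := hπ b
    show Ideal.Quotient.lift _ g₀ hkill (toBq π hπ Rh (π r)) = f (π r)
    rw [toBq_π, Ideal.Quotient.lift_mk]
    exact RingHom.congr_fun hg₀ r
  · intro g' hg'
    apply Ideal.Quotient.ringHom_ext
    have h1 : g'.comp (Ideal.Quotient.mk (Jq π Rh)) = g₀ := by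
      apply huniq
      ext r
      show g' (Ideal.Quotient.mk (Jq π Rh) (algebraMap R Rh r)) = f (π r)
      rw [← toBq_π π hπ Rh r]
      exact RingHom.congr_fun hg' (π r)
    rw [h1]
    exact RingHom.ext fun s => (Ideal.Quotient.lift_mk _ g₀ hkill).symm

include hπ in
/-- For a henselization `Bh` of `B`: the surjection `Rh → Bh` with kernel `(ker π)Rh`. -/
theorem exists_surjective_of_isHenselization (Bh : Type u) [CommRing Bh] [IsLocalRing Bh]
    [Algebra B Bh] [IsLocalHom (algebraMap B Bh)] [Hensel.IsHenselization B Bh] :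
    ∃ ψ : Rh →+* Bh, Function.Surjective ψ ∧
      ψ.comp (algebraMap R Rh) = (algebraMap B Bh).comp π ∧
      RingHom.ker ψ = (RingHom.ker π).map (algebraMap R Rh) := by
  letI := (toBq π hπ Rh).toAlgebra
  haveI := isLocalRing_Bq π hπ Rh
  haveI : IsLocalHom (algebraMap B (Bq π Rh)) := isLocalHom_toBq π hπ Rh
  haveI := isHenselization_Bq π hπ Rh
  obtain ⟨e⟩ := Groth.Agent.H47.HensTensor.nonempty_algEquiv_of_isHenselization B Bh (Bq π Rh)
  exact exists_surjective_of_algEquiv π hπ Bh e

end HensQuot

section Loc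

/-! ### The localized polynomial presentation -/

variable (A B : Type u) [CommRing A] [CommRing B] [Algebra A B] [IsLocalRing B]

/-- The polynomial ring on all elements of `B`. -/
abbrev PR : Type u := (Algebra.Generators.self A B).toExtension.Ring

/-- The maximal ideal of the polynomial ring over the maximal ideal of `B`. -/
noncomputable def mP : Ideal (PR A B) := (maximalIdeal B).comap (algebraMap (PR A B) B)

instance : (mP A B).IsPrime := Ideal.comap_isPrime _ _

/-- The localized polynomial ring. -/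
abbrev Pm : Type u := Localization.AtPrime (mP A B)

lemma isUnit_of_notMem (y : (mP A B).primeCompl) : IsUnit (algebraMap (PR A B) B y) := by
  have h : algebraMap (PR A B) B y ∉ maximalIdeal B := fun h => y.2 h
  rwa [mem_maximalIdeal, mem_nonunits_iff, not_not] at h

/-- The surjection from the localized polynomial ring. -/
noncomputable def πm : Pm A B →+* B :=
  IsLocalization.lift (M := (mP A B).primeCompl) (isUnit_of_notMem A B)

lemma πm_algebraMap (x : PR A B) :
    πm A B (algebraMap (PR A B) (Pm A B) x) = algebraMap (PR A B) B x :=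
  IsLocalization.lift_eq _ x

lemma πm_surjective : Function.Surjective (πm A B) := fun b => by
  obtain ⟨x, rfl⟩ := (Algebra.Generators.self A B).toExtension.algebraMap_surjective b
  exact ⟨_, πm_algebraMap A B x⟩

lemma ker_πm : RingHom.ker (πm A B) =
    (Algebra.Generators.self A B).toExtension.ker.map (algebraMap (PR A B) (Pm A B)) := by
  apply le_antisymm
  · intro z hz
    obtain ⟨x, s, rfl⟩ := IsLocalization.exists_mk'_eq (mP A B).primeCompl z
    rw [RingHom.mem_ker, πm, IsLocalization.lift_mk'_spec, mul_zero] at hz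
    rw [IsLocalization.mk'_eq_mul_mk'_one]
    exact Ideal.mul_mem_right _ _ (Ideal.mem_map_of_mem _ hz)
  · rw [Ideal.map_le_iff_le_comap]
    intro x hx
    rw [Ideal.mem_comap, RingHom.mem_ker, πm_algebraMap]
    exact hx

/-- The data needed by `NLEtaleBC.quasiIso_bcMapSelf_of_etale`, for a henselization of `B`. -/
theorem exists_data (Bh : Type u) [CommRing Bh] [IsLocalRing Bh] [Algebra B Bh]
    [IsLocalHom (algebraMap B Bh)] [Hensel.IsHenselization B Bh] :
    ∃ (Rq : Type u) (_ : CommRing Rq) (_ : Algebra (PR A B) Rq) (_ : Module.Flat (PR A B) Rq)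
      (_ : Algebra.FormallyEtale (PR A B) Rq) (ψ : Rq →+* Bh), Function.Surjective ψ ∧
      ψ.comp (algebraMap (PR A B) Rq) = (algebraMap B Bh).comp (algebraMap (PR A B) B) ∧
      RingHom.ker ψ = (Algebra.Generators.self A B).toExtension.ker.map
        (algebraMap (PR A B) Rq) := by
  letI : Algebra (PR A B) (Hloc (Pm A B)) :=
    ((algebraMap (Pm A B) (Hloc (Pm A B))).comp (algebraMap (PR A B) (Pm A B))).toAlgebra
  haveI : IsScalarTower (PR A B) (Pm A B) (Hloc (Pm A B)) := IsScalarTower.of_algebraMap_eq' rfl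
  haveI : Module.Flat (Pm A B) (Hloc (Pm A B)) := Groth.Agent.H47.Hens.flat _ _
  haveI : Module.Flat (PR A B) (Hloc (Pm A B)) := Module.Flat.trans (PR A B) (Pm A B) _
  haveI : Algebra.FormallyEtale (PR A B) (Pm A B) :=
    Algebra.FormallyEtale.of_isLocalization (mP A B).primeCompl
  haveI : Algebra.FormallyEtale (Pm A B) (Hloc (Pm A B)) := formallyEtale_H _ _
  haveI : Algebra.FormallyEtale (PR A B) (Hloc (Pm A B)) :=
    Algebra.FormallyEtale.comp (PR A B) (Pm A B) _
  obtain ⟨ψ, hs, hc, hk⟩ := exists_surjective_of_isHenselization (πm A B) (πm_surjective A B)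
    (Hloc (Pm A B)) Bh
  refine ⟨Hloc (Pm A B), inferInstance, inferInstance, inferInstance, inferInstance, ψ, hs, ?_, ?_⟩
  · ext x
    have h := RingHom.congr_fun hc (algebraMap (PR A B) (Pm A B) x)
    rw [RingHom.comp_apply, RingHom.comp_apply, πm_algebraMap] at h
    exact h
  · rw [hk, ker_πm, Ideal.map_map]
    rfl

end Loc

section Final

variable (A B Ah Bh : Type u) [CommRing A] [CommRing B] [CommRing Ah]
    [CommRing Bh] [IsLocalRing A] [IsLocalRing B] [IsLocalRing Ah] [IsLocalRing Bh]
    [Algebra A B]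
    [Algebra A Ah] [IsLocalHom (algebraMap A Ah)] [Hensel.IsHenselization A Ah]
    [Algebra B Bh] [IsLocalHom (algebraMap B Bh)] [Hensel.IsHenselization B Bh]
    [Algebra Ah Bh] [Algebra A Bh] [IsScalarTower A Ah Bh] [IsScalarTower A B Bh]

theorem quasiIso_bcMapSelf_hens : QuasiIso (NLCx.bcMapSelf A B Ah Bh) := by
  haveI := formallyEtale_of_isHenselization A Ah
  haveI := formallyEtale_of_isHenselization B Bh
  haveI := flat_of_isHenselization B Bh
  obtain ⟨Rq, _, _, _, _, ψ, hs, hc, hk⟩ := exists_data A B Bh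
  exact NLEtaleBC.quasiIso_bcMapSelf_of_etale A B Ah Bh Rq ψ hs hc hk

end Final

end Groth.Agent.H61.NLHens
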