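import Groth.Agent.H61.QuasiIsoDouble
import Groth.Agent.H61.NLFlatBC2

/-!
# Quasi-isomorphism criterion for the base change map of naive cotangent complexes

`quasiIso_bcMap_of` : `NLCx.bcMap f` is a quasi-isomorphism when it is bijective on `ker d` and on
`coker d`, stated elementwise on `S' ⊗ I/I²`, `S' ⊗ (S ⊗ Ω)`.
-/

set_option autoImplicit false
set_option backward.isDefEq.respectTransparency false
universe u
open CategoryTheory HomologicalComplex TensorProduct

attribute [local instance] HasDerivedCategory.standard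

namespace Groth.Agent.H61.NLQIsoCrit

open Algebra Groth.Agent.H61.NLInv Groth.Agent.H61.NLFlatBC Groth.Agent.H61.QuasiIsoDouble

variable {R S R' S' : Type u} [CommRing R] [CommRing S] [CommRing R']
    [CommRing S'] [Algebra R S] [Algebra R' S'] [Algebra R R'] [Algebra S S'] [Algebra R S']
    [IsScalarTower R R' S'] [IsScalarTower R S S']

lemma toLE_inv {A : Type u} [Ring A] {X Y : ModuleCat.{u} A} (e : X ≅ Y) (z : Y) :
    e.toLinearEquiv (e.inv.hom z) = z := by
  show e.hom.hom (e.inv.hom z) = z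
  rw [← LinearMap.comp_apply, ← ModuleCat.hom_comp, e.inv_hom_id]
  rfl

lemma bcCx_d (P : Extension.{u} R S) :
    (NLCx.bcCx P S').d (-1) 0 = (bcIso₀ P).hom ≫
      ModuleCat.ofHom (P.cotangentComplex.baseChange S') ≫ (bcIso₁ (S' := S') P).inv :=
  double_d _ bc_rel NLInv.ne

theorem quasiIso_bcMap_of {P : Extension.{u} R S} {P' : Extension.{u} R' S'} (f : P.Hom P')
    (h1 : ∀ y : P'.Cotangent, P'.cotangentComplex y = 0 →
      ∃ x : S' ⊗[S] P.Cotangent, P.cotangentComplex.baseChange S' x = 0 ∧
        LinearMap.liftBaseChange S' (Extension.Cotangent.map f) x = y)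
    (h2 : ∀ x : S' ⊗[S] P.Cotangent, P.cotangentComplex.baseChange S' x = 0 →
      LinearMap.liftBaseChange S' (Extension.Cotangent.map f) x = 0 → x = 0)
    (h3 : ∀ z : P'.CotangentSpace, ∃ (w : S' ⊗[S] P.CotangentSpace) (y : P'.Cotangent),
      LinearMap.liftBaseChange S' (Extension.CotangentSpace.map f) w = z + P'.cotangentComplex y)
    (h4 : ∀ w : S' ⊗[S] P.CotangentSpace,
      (∃ y : P'.Cotangent, LinearMap.liftBaseChange S' (Extension.CotangentSpace.map f) w =
        P'.cotangentComplex y) →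
      ∃ x : S' ⊗[S] P.Cotangent, w = P.cotangentComplex.baseChange S' x) :
    QuasiIso (NLCx.bcMap (S' := S') f) := by
  refine quasiIso_of_two_term' (NLCx.bcMap (S' := S') f)
    (fun i hi1 hi0 => isZero_double_X _ bc_rel i hi1 hi0)
    (fun i hi1 hi0 => isZero_double_X _ bc_rel i hi1 hi0)
    (bcIso₀ (S' := S') P).toLinearEquiv (bcIso₁ (S' := S') P).toLinearEquiv
    (iso₀ P').toLinearEquiv (iso₁ P').toLinearEquiv
    (P.cotangentComplex.baseChange S') P'.cotangentComplex
    (LinearMap.liftBaseChange S' (Extension.Cotangent.map f))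
    (LinearMap.liftBaseChange S' (Extension.CotangentSpace.map f))
    ?_ ?_ ?_ ?_ h1 h2 h3 h4
  · intro x
    rw [bcCx_d]
    simp only [ModuleCat.hom_comp, ModuleCat.hom_ofHom, LinearMap.comp_apply]
    erw [toLE_inv]
    rfl
  · intro y
    have e : (NLCx.cx P').d (-1) 0 = (iso₀ P').hom ≫ ModuleCat.ofHom P'.cotangentComplex ≫
      (iso₁ P').inv := nl_d P'
    rw [e]
    simp only [ModuleCat.hom_comp, ModuleCat.hom_ofHom, LinearMap.comp_apply]
    erw [toLE_inv]
    rfl
  · intro x
    rw [bcMap_f₀]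
    simp only [ModuleCat.hom_comp, ModuleCat.hom_ofHom, LinearMap.comp_apply]
    erw [toLE_inv]
    rfl
  · intro w
    rw [bcMap_f₁]
    simp only [ModuleCat.hom_comp, ModuleCat.hom_ofHom, LinearMap.comp_apply]
    erw [toLE_inv]
    rfl

end Groth.Agent.H61.NLQIsoCrit
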