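import Groth.Agent.H61.NLHens
import Groth.Agent.H47.HensK3
import Groth.Agent.H47.HensK2

/-!
# The naive cotangent complex and strict henselization
-/

set_option autoImplicit false
set_option linter.style.haveILetI false
set_option linter.unusedSectionVars false
universe u
open CategoryTheory TensorProduct IsLocalRing

attribute [local instance] HasDerivedCategory.standard

namespace Groth.Agent.H61.NLStrictHens

open Groth.Agent.H61.NLHens

section StrictQuot

variable {R B : Type u} [CommRing R] [IsLocalRing R] [CommRing B] [IsLocalRing B] (π : R →+* B)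
  (hπ : Function.Surjective π)
  (Rs : Type u) [CommRing Rs] [IsLocalRing Rs] [Algebra R Rs] [IsLocalHom (algebraMap R Rs)]
  [Hensel.IsStrictHenselization R Rs]

set_option maxHeartbeats 1000000 in
/-- The reduction of a strict henselization modulo the kernel of a surjection is a strict
henselization. -/
theorem isStrictHenselization_Bq :
    letI := (toBq π hπ Rs).toAlgebra
    haveI := isLocalRing_Bq π hπ Rs
    haveI : IsLocalHom (algebraMap B (Bq π Rs)) := isLocalHom_toBq π hπ Rs
    Hensel.IsStrictHenselization B (Bq π Rs) := by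
  letI := (toBq π hπ Rs).toAlgebra
  haveI := isLocalRing_Bq π hπ Rs
  haveI : IsLocalHom (algebraMap B (Bq π Rs)) := isLocalHom_toBq π hπ Rs
  haveI hS : HenselianLocalRing Rs := Hensel.IsStrictHenselization.henselian (R := R) (S := Rs)
  haveI hπA : IsLocalHom π := IsLocalHom.of_surjective π hπ
  haveI hπS : IsLocalHom (Ideal.Quotient.mk (Jq π Rs)) :=
    IsLocalHom.of_surjective _ Ideal.Quotient.mk_surjective
  have hρ : Function.Bijective (ResidueField.map (Ideal.Quotient.mk (Jq π Rs))) := by
    refine ⟨RingHom.injective _, fun z => ?_⟩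
    obtain ⟨x', rfl⟩ := residue_surjective z
    obtain ⟨x, rfl⟩ := Ideal.Quotient.mk_surjective x'
    exact ⟨residue Rs x, ResidueField.map_residue _ _⟩
  have hcomm : (algebraMap (ResidueField B) (ResidueField (Bq π Rs))).comp (ResidueField.map π) =
      (ResidueField.map (Ideal.Quotient.mk (Jq π Rs))).comp
        (algebraMap (ResidueField R) (ResidueField Rs)) := by
    refine RingHom.ext fun x => ?_
    obtain ⟨a, rfl⟩ := residue_surjective x
    show residue (Bq π Rs) (toBq π hπ Rs (π a)) = residue (Bq π Rs)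
      (Ideal.Quotient.mk (Jq π Rs) (algebraMap R Rs a))
    rw [toBq_π]
  refine ⟨Groth.Agent.S13598.henselian_quotient _, ?_, ?_⟩
  · haveI hsc : IsSepClosure (ResidueField R) (ResidueField Rs) :=
      Hensel.IsStrictHenselization.isSepClosure
    haveI : IsSepClosed (ResidueField Rs) := hsc.sep_closed
    haveI : Algebra.IsSeparable (ResidueField R) (ResidueField Rs) := hsc.separable
    haveI : IsSepClosed (ResidueField (Bq π Rs)) :=
      Groth.Agent.H47.HensK.isSepClosed_of_ringEquiv (RingEquiv.ofBijective _ hρ)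
    refine ⟨inferInstance, ⟨fun z => ?_⟩⟩
    obtain ⟨w, rfl⟩ := hρ.2 z
    have hsep : (minpoly (ResidueField R) w).Separable :=
      Algebra.IsSeparable.isSeparable (ResidueField R) w
    have hroot : Polynomial.aeval
        (ResidueField.map (Ideal.Quotient.mk (Jq π Rs)) w)
        ((minpoly (ResidueField R) w).map (ResidueField.map π)) = 0 := by
      rw [Polynomial.aeval_def, Polynomial.eval₂_map, hcomm, ← Polynomial.hom_eval₂,
        ← Polynomial.aeval_def, minpoly.aeval, map_zero]
    exact (hsep.map).of_dvd (minpoly.dvd _ _ hroot)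
  · intro T _ _ f _ τ hτ
    haveI hf₀ : IsLocalHom (f.comp π) := RingHom.isLocalHom_comp _ _
    have hτ₀ : (τ.comp (ResidueField.map (Ideal.Quotient.mk (Jq π Rs)))).comp
        (ResidueField.map (algebraMap R Rs)) = ResidueField.map (f.comp π) := by
      refine RingHom.ext fun x => ?_
      obtain ⟨a, rfl⟩ := residue_surjective x
      have h := RingHom.congr_fun hτ (residue B (π a))
      rw [RingHom.comp_apply, ResidueField.map_residue, ResidueField.map_residue] at h
      rw [RingHom.comp_apply, RingHom.comp_apply, ResidueField.map_residue,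
        ResidueField.map_residue, ResidueField.map_residue, RingHom.comp_apply]
      refine Eq.trans ?_ h
      congr 2
      exact (toBq_π π hπ Rs a).symm
    obtain ⟨g, ⟨hg1, hg2⟩, hguniq⟩ := Hensel.IsStrictHenselization.universal (R := R) (S := Rs) T
      (f.comp π) (τ.comp (ResidueField.map (Ideal.Quotient.mk (Jq π Rs)))) hτ₀
    have hgJ : ∀ s ∈ Jq π Rs, g s = 0 := by
      intro s hs
      have hle : Jq π Rs ≤ RingHom.ker g := by
        rw [Ideal.map_le_iff_le_comap]
        intro a ha
        rw [Ideal.mem_comap, RingHom.mem_ker]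
        have h := RingHom.congr_fun hg1 a
        rw [RingHom.comp_apply, RingHom.comp_apply] at h
        rw [h, RingHom.mem_ker.mp ha, map_zero]
      exact hle hs
    refine ⟨Ideal.Quotient.lift _ g hgJ, ⟨?_, ?_⟩, ?_⟩
    · ext b
      obtain ⟨a, rfl⟩ := hπ b
      have h := RingHom.congr_fun hg1 a
      show (Ideal.Quotient.lift _ g hgJ) (toBq π hπ Rs (π a)) = f (π a)
      rw [toBq_π, Ideal.Quotient.lift_mk]
      exact h
    · intro x
      obtain ⟨s, rfl⟩ := Ideal.Quotient.mk_surjective x
      rw [Ideal.Quotient.lift_mk, hg2 s, RingHom.comp_apply, ResidueField.map_residue]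
    · rintro h ⟨hh1, hh2⟩
      apply Ideal.Quotient.ringHom_ext
      have hcomp : h.comp (Ideal.Quotient.mk (Jq π Rs)) = g := by
        apply hguniq
        refine ⟨?_, ?_⟩
        · ext a
          show h (Ideal.Quotient.mk (Jq π Rs) (algebraMap R Rs a)) = f (π a)
          rw [← toBq_π π hπ Rs a]
          exact RingHom.congr_fun hh1 (π a)
        · intro s
          rw [RingHom.comp_apply, hh2, RingHom.comp_apply, ResidueField.map_residue]
      rw [hcomp]
      exact RingHom.ext fun s => (Ideal.Quotient.lift_mk _ g hgJ).symm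

include hπ in
/-- For a strict henselization `Bs` of `B`: the surjection `Rs → Bs` with kernel `(ker π)Rs`. -/
theorem exists_surjective_of_isStrictHenselization (Bs : Type u) [CommRing Bs] [IsLocalRing Bs]
    [Algebra B Bs] [IsLocalHom (algebraMap B Bs)] [Hensel.IsStrictHenselization B Bs] :
    ∃ ψ : Rs →+* Bs, Function.Surjective ψ ∧
      ψ.comp (algebraMap R Rs) = (algebraMap B Bs).comp π ∧
      RingHom.ker ψ = (RingHom.ker π).map (algebraMap R Rs) := by
  letI := (toBq π hπ Rs).toAlgebra
  haveI := isLocalRing_Bq π hπ Rs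
  haveI : IsLocalHom (algebraMap B (Bq π Rs)) := isLocalHom_toBq π hπ Rs
  haveI := isStrictHenselization_Bq π hπ Rs
  obtain ⟨e⟩ := Groth.Agent.H47.HensK.nonempty_algEquiv_of_isStrictHenselization B Bs (Bq π Rs)
  exact exists_surjective_of_algEquiv π hπ Bs e

end StrictQuot

section Any

variable (R : Type u) [CommRing R] [IsLocalRing R]
  (S : Type u) [CommRing S] [IsLocalRing S] [Algebra R S] [IsLocalHom (algebraMap R S)]
  [Hensel.IsStrictHenselization R S]

theorem formallyEtale_of_isStrictHenselization : Algebra.FormallyEtale R S := by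
  obtain ⟨e⟩ := Groth.Agent.H47.HensK.exists_algEquiv_Hsh R S
  haveI := Groth.Agent.H47.HensK.formallyEtale_H R (Groth.Agent.H47.HensK.Ksep R)
  exact Algebra.FormallyEtale.of_equiv e

theorem flat_of_isStrictHenselization : Module.Flat R S := by
  obtain ⟨e⟩ := Groth.Agent.H47.HensK.exists_algEquiv_Hsh R S
  haveI : Module.Flat R (Groth.Agent.H47.HensK.Hsh R) :=
    Groth.Agent.H47.HensK.flat R (Groth.Agent.H47.HensK.Ksep R)
  exact Module.Flat.of_linearEquiv e.symm.toLinearEquiv

end Any

section Loc

open Groth.Agent.H47.HensK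

variable (A B : Type u) [CommRing A] [CommRing B] [Algebra A B] [IsLocalRing B]

/-- The data needed by `NLEtaleBC.quasiIso_bcMapSelf_of_etale`, for a strict henselization of
`B`. -/
theorem exists_data_strict (Bs : Type u) [CommRing Bs] [IsLocalRing Bs] [Algebra B Bs]
    [IsLocalHom (algebraMap B Bs)] [Hensel.IsStrictHenselization B Bs] :
    ∃ (Rq : Type u) (_ : CommRing Rq) (_ : Algebra (PR A B) Rq) (_ : Module.Flat (PR A B) Rq)
      (_ : Algebra.FormallyEtale (PR A B) Rq) (ψ : Rq →+* Bs), Function.Surjective ψ ∧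
      ψ.comp (algebraMap (PR A B) Rq) = (algebraMap B Bs).comp (algebraMap (PR A B) B) ∧
      RingHom.ker ψ = (Algebra.Generators.self A B).toExtension.ker.map
        (algebraMap (PR A B) Rq) := by
  letI : Algebra (PR A B) (Hsh (Pm A B)) :=
    ((algebraMap (Pm A B) (Hsh (Pm A B))).comp (algebraMap (PR A B) (Pm A B))).toAlgebra
  haveI : IsScalarTower (PR A B) (Pm A B) (Hsh (Pm A B)) := IsScalarTower.of_algebraMap_eq' rfl
  haveI : Module.Flat (Pm A B) (Hsh (Pm A B)) := Groth.Agent.H47.HensK.flat _ _
  haveI : Module.Flat (PR A B) (Hsh (Pm A B)) := Module.Flat.trans (PR A B) (Pm A B) _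
  haveI : Algebra.FormallyEtale (PR A B) (Pm A B) :=
    Algebra.FormallyEtale.of_isLocalization (mP A B).primeCompl
  haveI : Algebra.FormallyEtale (Pm A B) (Hsh (Pm A B)) :=
    Groth.Agent.H47.HensK.formallyEtale_H _ _
  haveI : Algebra.FormallyEtale (PR A B) (Hsh (Pm A B)) :=
    Algebra.FormallyEtale.comp (PR A B) (Pm A B) _
  haveI : IsLocalHom (algebraMap (Pm A B) (Hsh (Pm A B))) :=
    Groth.Agent.H47.HensK.isLocalHom_algebraMap _ _
  obtain ⟨ψ, hs, hc, hk⟩ := exists_surjective_of_isStrictHenselization (πm A B)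
    (πm_surjective A B) (Hsh (Pm A B)) Bs
  refine ⟨Hsh (Pm A B), inferInstance, inferInstance, inferInstance, inferInstance, ψ, hs, ?_, ?_⟩
  · ext x
    have h := RingHom.congr_fun hc (algebraMap (PR A B) (Pm A B) x)
    rw [RingHom.comp_apply, RingHom.comp_apply, πm_algebraMap] at h
    exact h
  · rw [hk, ker_πm, Ideal.map_map]
    rfl

end Loc

section Final

variable (A B Ash Bsh : Type u) [CommRing A] [CommRing B] [CommRing Ash]
    [CommRing Bsh] [IsLocalRing A] [IsLocalRing B] [IsLocalRing Ash] [IsLocalRing Bsh]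
    [Algebra A B]
    [Algebra A Ash] [IsLocalHom (algebraMap A Ash)] [Hensel.IsStrictHenselization A Ash]
    [Algebra B Bsh] [IsLocalHom (algebraMap B Bsh)] [Hensel.IsStrictHenselization B Bsh]
    [Algebra Ash Bsh] [Algebra A Bsh] [IsScalarTower A Ash Bsh] [IsScalarTower A B Bsh]

theorem quasiIso_bcMapSelf_strict : QuasiIso (NLCx.bcMapSelf A B Ash Bsh) := by
  haveI := formallyEtale_of_isStrictHenselization A Ash
  haveI := formallyEtale_of_isStrictHenselization B Bsh
  haveI := flat_of_isStrictHenselization B Bsh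
  obtain ⟨Rq, _, _, _, _, ψ, hs, hc, hk⟩ := exists_data_strict A B Bsh
  exact NLEtaleBC.quasiIso_bcMapSelf_of_etale A B Ash Bsh Rq ψ hs hc hk

end Final

end Groth.Agent.H61.NLStrictHens
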