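import Groth.Agent.H61.ObsTheory

/-!
# Transport of obstruction theories (helper61)
-/

set_option autoImplicit false
set_option linter.unusedSectionVars false
set_option linter.style.haveILetI false
universe u v

namespace Groth.Agent.H61.Obs

open CategoryTheory ArtFun ArtFun.Art TensorProduct Groth.Agent.H63

variable {k : Type u} [Field k]

theorem congr_lTensor {V V' N N' : Type*} [AddCommGroup V] [Module k V] [AddCommGroup V']
    [Module k V'] [AddCommGroup N] [Module k N] [AddCommGroup N'] [Module k N']
    (e : V ≃ₗ[k] V') (f : N →ₗ[k] N') (t : V ⊗[k] N) :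
    TensorProduct.congr e (LinearEquiv.refl k N') (LinearMap.lTensor V f t) =
      LinearMap.lTensor V' f (TensorProduct.congr e (LinearEquiv.refl k N) t) := by
  induction t using TensorProduct.induction_on with
  | zero => simp
  | tmul v n => simp
  | add x y hx hy => rw [map_add, map_add, hx, hy, map_add, map_add]

/-- transport of an obstruction theory along a linear equivalence of obstruction spaces -/
noncomputable def congrObs {F : Art k k ⥤ Type v} {V V' : Type u} [AddCommGroup V] [Module k V]
    [AddCommGroup V'] [Module k V'] (T : ObsTheory F V) (e : V ≃ₗ[k] V') : ObsTheory F V' where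
  obs p hp u := TensorProduct.congr e (LinearEquiv.refl k _) (T.obs p hp u)
  obs_eq_zero_iff p hp u := by
    rw [LinearEquiv.map_eq_zero_iff]
    exact T.obs_eq_zero_iff p hp u
  obs_quot p hp K hK hKJ hq u := by
    rw [T.obs_quot p hp K hK hKJ hq u, congr_lTensor]

/-- transport of an obstruction theory along a natural family of bijections -/
noncomputable def transferObs {F G : Art k k ⥤ Type v} {V : Type u} [AddCommGroup V] [Module k V]
    (T : ObsTheory F V) (η : F ⟶ G) (hη : ∀ A, Function.Bijective (η.app A)) : ObsTheory G V where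
  obs {C' C} p hp u := T.obs p hp (Classical.choose ((hη C).2 u))
  obs_eq_zero_iff {C' C} p hp u := by
    rw [T.obs_eq_zero_iff]
    have hs := Classical.choose_spec ((hη C).2 u)
    constructor
    · rintro ⟨u', hu'⟩
      refine ⟨η.app C' u', ?_⟩
      rw [← NatTrans.naturality_apply, hu', hs]
    · rintro ⟨v', hv'⟩
      obtain ⟨u', rfl⟩ := (hη C').2 v'
      refine ⟨u', ?_⟩
      apply (hη C).1
      rw [NatTrans.naturality_apply, hv', hs]
  obs_quot {C' C} p hp K hK hKJ hq u := T.obs_quot p hp K hK hKJ hq _

end Groth.Agent.H61.Obs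

namespace Groth.Agent.H61.Obs

open CategoryTheory ArtFun ArtFun.Art TensorProduct

/-- pull back an obstruction theory along a versal family -/
noncomputable def pullbackObs {k : Type u} [Field k] {F : Art k k ⥤ Type v} {R : Type u}
    [CommRing R] [Algebra k R] {resR : R →ₐ[k] k} (ξ : Family R resR F) (hξ : IsVersal ξ)
    {V : Type u} [AddCommGroup V] [Module k V] (T : ObsTheory F V) : ObsTheory (hR R resR) V where
  obs {C' C} p hp φ := T.obs p hp (ξ.app C φ)
  obs_eq_zero_iff {C' C} p hp φ := by
    rw [T.obs_eq_zero_iff]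
    constructor
    · rintro ⟨y, hy⟩
      obtain ⟨ψ, hψ1, -⟩ := hξ p hp.1 φ y hy
      exact ⟨ψ, hψ1⟩
    · rintro ⟨ψ, hψ⟩
      have hψ' : HomSet.map p ψ = φ := hψ
      exact ⟨ξ.app C' ψ, by rw [← ξ.natural, hψ']⟩
  obs_quot {C' C} p hp K hK hKJ hq φ := T.obs_quot p hp K hK hKJ hq _

end Groth.Agent.H61.Obs
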