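import Groth.Agent.H61.ObsCongr
import Mathlib.RingTheory.Filtration
import Mathlib.RingTheory.Nakayama

/-!
# Obstruction theories bound the number of relations (helper61)

`R = P/J` with `J ⊆ m_P²`, `P` a coefficient ring over the field `k`.  If `h_R` has an obstruction
theory with values in a vector space of dimension `r`, then `J` is generated by `r` elements.
-/

set_option autoImplicit false
set_option linter.unusedSectionVars false
set_option linter.style.haveILetI false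
universe u v

namespace Groth.Agent.H61.Obs

open CategoryTheory ArtFun ArtFun.Art TensorProduct Groth.Agent.H63

variable {k : Type u} [Field k]

/-- every element of `V ⊗ N` is a sum over a basis of `V` -/
theorem exists_basis_decomp {V N : Type*} [AddCommGroup V] [Module k V] [AddCommGroup N]
    [Module k N] {r : ℕ} (b : Module.Basis (Fin r) k V) (t : V ⊗[k] N) :
    ∃ a : Fin r → N, t = ∑ i, b i ⊗ₜ[k] a i := by
  induction t using TensorProduct.induction_on with
  | zero => exact ⟨fun _ => 0, by simp⟩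
  | tmul v n =>
    refine ⟨fun i => b.repr v i • n, ?_⟩
    conv_lhs => rw [← b.sum_repr v]
    rw [TensorProduct.sum_tmul]
    refine Finset.sum_congr rfl fun i _ => ?_
    rw [TensorProduct.smul_tmul]
  | add x y hx hy =>
    obtain ⟨a, rfl⟩ := hx
    obtain ⟨a', rfl⟩ := hy
    refine ⟨a + a', ?_⟩
    rw [← Finset.sum_add_distrib]
    refine Finset.sum_congr rfl fun i _ => ?_
    rw [Pi.add_apply, TensorProduct.tmul_add]

theorem isSemismallExt_quotFactor {C' C : Art k k} (p : C' ⟶ C) (hp : IsSemismallExt p)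
    (K : Ideal C') (hK : K ≤ IsLocalRing.maximalIdeal (C' : Type u))
    (hKJ : K ≤ RingHom.ker p.toAlgHom) : IsSemismallExt (quotFactor hK p hKJ) := by
  refine ⟨fun c => ?_, ?_⟩
  · obtain ⟨x, hx⟩ := hp.1 c
    exact ⟨quotMk C' K hK x, hx⟩
  · rw [eq_bot_iff, Ideal.mul_le]
    intro x hx y hy
    obtain ⟨x₀, rfl⟩ := quotMk_surjective C' K hK x
    obtain ⟨y₀, rfl⟩ := quotMk_surjective C' K hK y
    have hx₀ : x₀ ∈ IsLocalRing.maximalIdeal (C' : Type u) :=
      (quotMk_mem_maximalIdeal_iff C' hK x₀).1 hx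
    have hy₀ : y₀ ∈ RingHom.ker p.toAlgHom := by
      rw [RingHom.mem_ker]
      exact RingHom.mem_ker.1 hy
    have h1 := Ideal.mul_mem_mul hx₀ hy₀
    rw [hp.2, Ideal.mem_bot] at h1
    rw [Ideal.mem_bot, ← quotMk_mul, h1]
    exact map_zero (quotMk C' K hK).toAlgHom

section Span

variable (P R : CRing k k) (g : P.carrier →ₐ[k] R.carrier) (hgs : Function.Surjective g)
  (hg : R.res.comp g = P.res)
  (hJ : RingHom.ker g ≤ IsLocalRing.maximalIdeal P.carrier ^ 2)
  {V : Type u} [AddCommGroup V] [Module k V] (T : ObsTheory (hR R.carrier R.res) V)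
  {r : ℕ} (b : Module.Basis (Fin r) k V)

include hgs hg hJ T b in
/-- the kernel of a minimal presentation is generated by `dim V` elements -/
theorem exists_span_of_obs : ∃ ã : Fin r → P.carrier, RingHom.ker g = Ideal.span (Set.range ã) := by
  classical
  obtain ⟨J, hJdef⟩ : ∃ J : Ideal P.carrier, J = RingHom.ker g := ⟨_, rfl⟩
  have hJmem : ∀ x, g x = 0 ↔ x ∈ J := fun x => by rw [hJdef, RingHom.mem_ker]
  have hJsq : J ≤ IsLocalRing.maximalIdeal P.carrier ^ 2 := hJdef ▸ hJ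
  have hJm : J ≤ IsLocalRing.maximalIdeal P.carrier :=
    hJsq.trans (Ideal.pow_le_self two_ne_zero)
  -- Step 1: Artin–Rees
  obtain ⟨M, hM⟩ : ∃ M : ℕ, IsLocalRing.maximalIdeal P.carrier ^ (M + 1) ⊓ J ≤
      IsLocalRing.maximalIdeal P.carrier * J := by
    obtain ⟨c, hc⟩ := Ideal.exists_pow_inf_eq_pow_smul (IsLocalRing.maximalIdeal P.carrier)
      (J : Submodule P.carrier P.carrier)
    refine ⟨c, ?_⟩
    have h1 := hc (c + 1) (Nat.le_succ c)
    rw [Nat.add_sub_cancel_left, pow_one] at h1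
    intro x hx
    have hx' : x ∈ (IsLocalRing.maximalIdeal P.carrier ^ (c + 1) • ⊤ ⊓ J :
        Submodule P.carrier P.carrier) := by
      refine ⟨?_, hx.2⟩
      rw [smul_eq_mul, Ideal.mul_top]
      exact hx.1
    rw [h1] at hx'
    exact Submodule.smul_mono le_rfl inf_le_right hx'
  -- Step 2: the Artinian quotients
  have hτs : Function.Surjective (P.truncHom M).1 := truncHom_surjective P M
  have hτk : RingHom.ker (P.truncHom M).1 = P.mpow M := Lev.ker_truncHom M
  obtain ⟨J₀, hJ₀def⟩ : ∃ J₀ : Ideal (P.trunc M : Art k k),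
      J₀ = Ideal.map (P.truncHom M).1.toRingHom J := ⟨_, rfl⟩
  have hmA : IsLocalRing.maximalIdeal (P.trunc M : Art k k) =
      Ideal.map (P.truncHom M).1.toRingHom (IsLocalRing.maximalIdeal P.carrier) :=
    (IsLocalRing.map_maximalIdeal_of_surjective (P.truncHom M).1.toRingHom hτs).symm
  have hJ₀m : J₀ ≤ IsLocalRing.maximalIdeal (P.trunc M : Art k k) := by
    rw [hJ₀def, hmA]
    exact Ideal.map_mono hJm
  have hτJ : ∀ y, (P.truncHom M).1 y ∈ J₀ → ∃ j ∈ J, (P.truncHom M).1 j = (P.truncHom M).1 y := by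
    intro y hy
    rw [hJ₀def] at hy
    exact (Ideal.mem_map_iff_of_surjective (P.truncHom M).1.toRingHom hτs).1 hy
  obtain ⟨K₁, hK₁def⟩ : ∃ K₁ : Ideal (P.trunc M : Art k k),
      K₁ = IsLocalRing.maximalIdeal (P.trunc M : Art k k) * J₀ := ⟨_, rfl⟩
  have hK₁m : K₁ ≤ IsLocalRing.maximalIdeal (P.trunc M : Art k k) := hK₁def ▸ Ideal.mul_le_left
  have hK₁J : K₁ ≤ J₀ := hK₁def ▸ Ideal.mul_le_right
  obtain ⟨p, hpdef⟩ : ∃ p : quot (P.trunc M) K₁ hK₁m ⟶ quot (P.trunc M) J₀ hJ₀m,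
      p = quotMap (P.trunc M) hK₁m hJ₀m hK₁J := ⟨_, rfl⟩
  have hp_mk : ∀ z, p (quotMk (P.trunc M) K₁ hK₁m z) = quotMk (P.trunc M) J₀ hJ₀m z := by
    intro z
    rw [hpdef]
    rfl
  have hpcomp : quotMk (P.trunc M) K₁ hK₁m ≫ p = quotMk (P.trunc M) J₀ hJ₀m := by
    rw [hpdef]
    exact quotMk_quotFactor _ _ _
  have hp : IsSemismallExt p := by
    refine ⟨fun c => ?_, ?_⟩
    · obtain ⟨z, rfl⟩ := quotMk_surjective _ J₀ hJ₀m c
      exact ⟨quotMk _ K₁ hK₁m z, hp_mk z⟩
    · rw [eq_bot_iff, Ideal.mul_le]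
      intro x hx y hy
      obtain ⟨x₀, rfl⟩ := quotMk_surjective _ K₁ hK₁m x
      obtain ⟨y₀, rfl⟩ := quotMk_surjective _ K₁ hK₁m y
      have hx₀ := (quotMk_mem_maximalIdeal_iff (P.trunc M) hK₁m x₀).1 hx
      have hy₀ : y₀ ∈ J₀ := by
        rw [← quotMk_eq_zero_iff (P.trunc M) hJ₀m, ← hp_mk]
        exact RingHom.mem_ker.1 hy
      rw [Ideal.mem_bot, ← quotMk_mul, quotMk_eq_zero_iff, hK₁def]
      exact Ideal.mul_mem_mul hx₀ hy₀
  obtain ⟨θ, hθdef⟩ : ∃ θ : HomSet P.carrier P.res (quot (P.trunc M) K₁ hK₁m),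
      θ = HomSet.map (quotMk (P.trunc M) K₁ hK₁m) (P.truncHom M) := ⟨_, rfl⟩
  have hθs : Function.Surjective θ.1 := by
    rw [hθdef]
    exact (quotMk_surjective _ K₁ hK₁m).comp hτs
  have hθ_apply : ∀ y, θ.1 y = quotMk (P.trunc M) K₁ hK₁m ((P.truncHom M).1 y) := by
    intro y
    rw [hθdef]
    rfl
  obtain ⟨u₀, hu₀def⟩ : ∃ u₀ : HomSet P.carrier P.res (quot (P.trunc M) J₀ hJ₀m),
      u₀ = HomSet.map (quotMk (P.trunc M) J₀ hJ₀m) (P.truncHom M) := ⟨_, rfl⟩
  have hpθ : HomSet.map p θ = u₀ := by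
    rw [hθdef, hu₀def, ← homSet_map_comp, hpcomp]
  have hu₀_apply : ∀ y, u₀.1 y = quotMk (P.trunc M) J₀ hJ₀m ((P.truncHom M).1 y) := by
    intro y
    rw [hu₀def]
    rfl
  have hu₀J : ∀ j ∈ J, u₀.1 j = 0 := by
    intro j hj
    rw [hu₀_apply, quotMk_eq_zero_iff, hJ₀def]
    exact Ideal.mem_map_of_mem _ hj
  obtain ⟨u, hu⟩ := exists_descend P R.res g hgs hg J hJmem u₀ hu₀J
  -- Step 3: kill the obstruction
  obtain ⟨a, ha⟩ := exists_basis_decomp b (T.obs p hp u)
  obtain ⟨K, hKdef⟩ : ∃ K : Ideal (quot (P.trunc M) K₁ hK₁m : Art k k),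
      K = Ideal.span (Set.range fun i => ((a i : ↥(RingHom.ker p.toAlgHom)) :
        (quot (P.trunc M) K₁ hK₁m : Art k k))) := ⟨_, rfl⟩
  have hKJ : K ≤ RingHom.ker p.toAlgHom := by
    rw [hKdef, Ideal.span_le]
    rintro _ ⟨i, rfl⟩
    exact (a i).2
  have hK : K ≤ IsLocalRing.maximalIdeal (quot (P.trunc M) K₁ hK₁m : Art k k) :=
    hKJ.trans (ker_le_maximalIdeal p)
  have hq := isSemismallExt_quotFactor p hp K hK hKJ
  have hobs0 : T.obs (quotFactor hK p hKJ) hq u = 0 := by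
    rw [T.obs_quot p hp K hK hKJ hq u, ha, map_sum]
    refine Finset.sum_eq_zero fun i _ => ?_
    rw [LinearMap.lTensor_tmul]
    have h0 : ((kerToQuot hK p hKJ).restrictScalars k) (a i) = 0 := by
      apply Subtype.ext
      change Ideal.Quotient.mk K ((a i : ↥(RingHom.ker p.toAlgHom)) :
        (quot (P.trunc M) K₁ hK₁m : Art k k)) = 0
      rw [Ideal.Quotient.eq_zero_iff_mem, hKdef]
      exact Ideal.subset_span ⟨i, rfl⟩
    rw [h0, TensorProduct.tmul_zero]
  obtain ⟨u', hu''⟩ : ∃ u' : HomSet R.carrier R.res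
      (quot (quot (P.trunc M) K₁ hK₁m) K hK : Art k k),
      HomSet.map (quotFactor hK p hKJ) u' = u :=
    (T.obs_eq_zero_iff (quotFactor hK p hKJ) hq u).1 hobs0
  -- Step 4: compare the two lifts
  have hcmp := lift_eq_on_sq P (quotFactor hK p hKJ) hq (pullπ P R.res g hg u')
    (HomSet.map (quotMk _ K hK) θ)
    (by rw [← pullπ_map, hu'', hu, ← homSet_map_comp, quotMk_quotFactor, hpθ])
  have hθK : ∀ j ∈ J, θ.1 j ∈ K := by
    intro j hj
    have h1 := hcmp j (hJsq hj)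
    rw [pullπ_apply, (hJmem j).2 hj, map_zero] at h1
    rw [← quotMk_eq_zero_iff _ hK]
    exact h1.symm
  -- Step 5: lift the generators
  have hlift : ∀ x ∈ RingHom.ker p.toAlgHom, ∃ j ∈ J, θ.1 j = x := by
    intro x hx
    obtain ⟨y, rfl⟩ := hθs x
    have h1 : u₀.1 y = 0 := by
      rw [← hpθ]
      exact RingHom.mem_ker.1 hx
    rw [hu₀_apply, quotMk_eq_zero_iff] at h1
    obtain ⟨j, hj, hjy⟩ := hτJ y h1
    exact ⟨j, hj, by rw [hθ_apply, hθ_apply, hjy]⟩
  choose ã hãJ hãθ using fun i => hlift (a i) (a i).2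
  refine ⟨ã, ?_⟩
  rw [← hJdef]
  have hSJ : Ideal.span (Set.range ã) ≤ J := by
    rw [Ideal.span_le]
    rintro _ ⟨i, rfl⟩
    exact hãJ i
  apply le_antisymm _ hSJ
  have hKmap : K = Ideal.map θ.1.toRingHom (Ideal.span (Set.range ã)) := by
    rw [hKdef, Ideal.map_span, ← Set.range_comp]
    congr 2
    funext i
    exact (hãθ i).symm
  have hkerθ : RingHom.ker θ.1 ≤ IsLocalRing.maximalIdeal P.carrier * J ⊔
      IsLocalRing.maximalIdeal P.carrier ^ (M + 1) := by
    intro y hy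
    have h1 : (P.truncHom M).1 y ∈ K₁ := by
      rw [← quotMk_eq_zero_iff _ hK₁m, ← hθ_apply]
      exact RingHom.mem_ker.1 hy
    have hK₁map : K₁ = Ideal.map (P.truncHom M).1.toRingHom
        (IsLocalRing.maximalIdeal P.carrier * J) := by
      rw [hK₁def, hmA, hJ₀def, Ideal.map_mul]
    rw [hK₁map] at h1
    obtain ⟨z, hz, hzy⟩ := (Ideal.mem_map_iff_of_surjective (P.truncHom M).1.toRingHom hτs).1 h1
    have h2 : y - z ∈ P.mpow M := by
      rw [← hτk, RingHom.mem_ker, map_sub, sub_eq_zero]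
      exact hzy.symm
    have e : y = z + (y - z) := by ring
    rw [e]
    exact Submodule.add_mem_sup hz h2
  have h1 : J ≤ Ideal.span (Set.range ã) ⊔ (IsLocalRing.maximalIdeal P.carrier * J ⊔
      IsLocalRing.maximalIdeal P.carrier ^ (M + 1)) := by
    intro j hj
    have h2 := hθK j hj
    rw [hKmap] at h2
    obtain ⟨s, hs, hsj⟩ := (Ideal.mem_map_iff_of_surjective θ.1.toRingHom hθs).1 h2
    have h3 : j - s ∈ RingHom.ker θ.1 := by
      rw [RingHom.mem_ker, map_sub, sub_eq_zero]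
      exact hsj.symm
    have e : j = s + (j - s) := by ring
    rw [e]
    exact Submodule.add_mem_sup hs (hkerθ h3)
  have h2 : J ≤ Ideal.span (Set.range ã) ⊔ IsLocalRing.maximalIdeal P.carrier • J := by
    have hle : Ideal.span (Set.range ã) ⊔ IsLocalRing.maximalIdeal P.carrier * J ≤ J :=
      sup_le hSJ Ideal.mul_le_right
    have h3 : J ≤ (Ideal.span (Set.range ã) ⊔ IsLocalRing.maximalIdeal P.carrier * J ⊔
        IsLocalRing.maximalIdeal P.carrier ^ (M + 1)) ⊓ J := by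
      refine le_inf ?_ le_rfl
      rw [sup_assoc]
      exact h1
    rw [sup_inf_assoc_of_le _ hle] at h3
    refine h3.trans (sup_le le_rfl (hM.trans le_sup_right))
  refine Submodule.le_of_le_smul_of_le_jacobson_bot (IsNoetherian.noetherian J) ?_ h2
  rw [IsLocalRing.jacobson_eq_maximalIdeal ⊥ bot_ne_top]

end Span

end Groth.Agent.H61.Obs
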