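import Groth.Prelude.Def_W4bk4hartshdef114Obs
import Groth.Agent.H61.ObsDim
import Mathlib.RingTheory.HopkinsLevitzki
import Mathlib.RingTheory.RegularLocalRing.Defs

/-!
# Obstruction theories of an algebra bound the number of relations (helper61)

`P` a Noetherian local `k`-algebra with residue field `k`, `I ⊆ m_P²`.  If `P/I` has an obstruction
theory (in the sense of `W4bk4hartshdef114.ObsTheory`) with values in a vector space of dimension
`r`, then `I` is generated by `r` elements.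
-/

set_option autoImplicit false
set_option linter.unusedSectionVars false
set_option linter.style.haveILetI false
universe u

namespace Groth.Agent.H61.ObsRaw

open W4bk4hartshdef114 TensorProduct IsLocalRing

variable {k : Type u} [Field k] {P : Type u} [CommRing P] [IsLocalRing P] [IsNoetherianRing P]
  [Algebra k P]

theorem exists_scalar (hres : Function.Surjective (algebraMap k (ResidueField P))) (y : P) :
    ∃ c : k, y - algebraMap k P c ∈ maximalIdeal P := by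
  obtain ⟨c, hc⟩ := hres (residue P y)
  refine ⟨c, ?_⟩
  rw [← residue_eq_zero_iff, map_sub, sub_eq_zero, ← hc,
    IsScalarTower.algebraMap_apply k P (ResidueField P)]
  rfl

theorem isSmallExt_of_surjective (hres : Function.Surjective (algebraMap k (ResidueField P)))
    {C : Type u} [CommRing C] [Algebra k C] (θ : P →ₐ[k] C)
    (hθ : Function.Surjective θ) (N : ℕ) (hN : maximalIdeal P ^ N ≤ RingHom.ker θ)
    (hne : RingHom.ker θ ≤ maximalIdeal P) (I : Ideal P) (hIm : I ≤ maximalIdeal P)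
    (hmI : maximalIdeal P * I ≤ RingHom.ker θ) (J : Ideal C) (hJ : J ≤ Ideal.map θ I) :
    IsSmallExt k C J := by
  have h1 : (1 : P) ∉ RingHom.ker θ := fun h =>
    (Ideal.ne_top_iff_one _).1 (maximalIdeal.isMaximal P).ne_top (hne h)
  haveI : Nontrivial C := ⟨⟨θ 1, 0, fun h => h1 (RingHom.mem_ker.2 h)⟩⟩
  haveI hloc : IsLocalRing C := IsLocalRing.of_surjective' θ.toRingHom hθ
  have hmax : (maximalIdeal P).map θ.toRingHom = maximalIdeal C :=
    map_maximalIdeal_of_surjective θ.toRingHom hθ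
  haveI : IsNoetherianRing C := isNoetherianRing_of_surjective P C θ.toRingHom hθ
  have hnonunit : ∀ x : C, x ∈ nonunits C → ∃ y ∈ maximalIdeal P, θ y = x := by
    intro x hx
    have hx' : x ∈ maximalIdeal C := hx
    rw [← hmax] at hx'
    exact (Ideal.mem_map_iff_of_surjective θ.toRingHom hθ).1 hx'
  refine ⟨hloc, ?_, ?_, ?_, ?_⟩
  · rw [isArtinianRing_iff_isNilpotent_maximalIdeal]
    refine ⟨N, ?_⟩
    rw [← hmax, ← Ideal.map_pow, Ideal.zero_eq_bot, Ideal.map_eq_bot_iff_le_ker]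
    exact hN
  · intro x
    obtain ⟨y, rfl⟩ := hθ x
    obtain ⟨c, hc⟩ := exists_scalar hres y
    refine ⟨c, ?_⟩
    have e : θ y - algebraMap k C c = θ (y - algebraMap k P c) := by
      rw [map_sub, AlgHom.commutes]
    rw [e]
    change θ (y - algebraMap k P c) ∈ maximalIdeal C
    rw [← hmax]
    exact Ideal.mem_map_of_mem _ hc
  · intro x j hx hj
    obtain ⟨y, hy, rfl⟩ := hnonunit x hx
    obtain ⟨i, hi, rfl⟩ := (Ideal.mem_map_iff_of_surjective θ.toRingHom hθ).1 (hJ hj)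
    have e : θ y * θ.toRingHom i = θ (y * i) := (map_mul θ y i).symm
    rw [e]
    exact RingHom.mem_ker.1 (hmI (Ideal.mul_mem_mul hy hi))
  · intro htop
    have h2 : (1 : C) ∈ Ideal.map θ I := hJ (htop ▸ Submodule.mem_top)
    obtain ⟨i, hi, hi1⟩ := (Ideal.mem_map_iff_of_surjective θ.toRingHom hθ).1 h2
    have h3 : i - 1 ∈ RingHom.ker θ := by
      rw [RingHom.mem_ker, map_sub, map_one, sub_eq_zero]
      exact hi1
    have h4 := hne h3
    have h5 : (1 : P) ∈ maximalIdeal P := by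
      have h6 := Ideal.sub_mem _ (hIm hi) h4
      rwa [sub_sub_cancel] at h6
    exact (Ideal.ne_top_iff_one _).1 (maximalIdeal.isMaximal P).ne_top h5

/-- **The number of relations is bounded by the dimension of the obstruction space.** -/
theorem exists_span (hres : Function.Surjective (algebraMap k (ResidueField P)))
    (I : Ideal P) (hI : I ≤ maximalIdeal P ^ 2)
    {V : Type u} [AddCommGroup V] [Module k V] (T : ObsTheory k (P ⧸ I) V)
    {r : ℕ} (b : Module.Basis (Fin r) k V) :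
    ∃ ã : Fin r → P, I = Ideal.span (Set.range ã) := by
  classical
  have hIm : I ≤ maximalIdeal P := hI.trans (Ideal.pow_le_self two_ne_zero)
  -- Artin–Rees
  obtain ⟨M, hM⟩ : ∃ M : ℕ, maximalIdeal P ^ (M + 1) ⊓ I ≤ maximalIdeal P * I := by
    obtain ⟨c, hc⟩ := Ideal.exists_pow_inf_eq_pow_smul (maximalIdeal P) (I : Submodule P P)
    refine ⟨c, ?_⟩
    have h1 := hc (c + 1) (Nat.le_succ c)
    rw [Nat.add_sub_cancel_left, pow_one] at h1
    intro x hx
    have hx' : x ∈ (maximalIdeal P ^ (c + 1) • ⊤ ⊓ I : Submodule P P) := by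
      refine ⟨?_, hx.2⟩
      rw [smul_eq_mul, Ideal.mul_top]
      exact hx.1
    rw [h1] at hx'
    exact Submodule.smul_mono le_rfl inf_le_right hx'
  obtain ⟨𝔞, h𝔞⟩ : ∃ 𝔞 : Ideal P, 𝔞 = maximalIdeal P * I ⊔ maximalIdeal P ^ (M + 1) := ⟨_, rfl⟩
  have h𝔞m : 𝔞 ≤ maximalIdeal P := by
    rw [h𝔞]
    exact sup_le (Ideal.mul_le_right.trans hIm) (Ideal.pow_le_self (Nat.succ_ne_zero M))
  have h𝔞1 : maximalIdeal P ^ (M + 1) ≤ 𝔞 := by
    rw [h𝔞]
    exact le_sup_right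
  have h𝔞2 : maximalIdeal P * I ≤ 𝔞 := by
    rw [h𝔞]
    exact le_sup_left
  obtain ⟨θ, hθdef⟩ : ∃ θ : P →ₐ[k] P ⧸ 𝔞, θ = Ideal.Quotient.mkₐ k 𝔞 := ⟨_, rfl⟩
  have hθs : Function.Surjective θ := by
    rw [hθdef]
    exact Ideal.Quotient.mkₐ_surjective k 𝔞
  have hθ0 : ∀ x, θ x = 0 ↔ x ∈ 𝔞 := fun x => by
    rw [hθdef]
    exact Ideal.Quotient.eq_zero_iff_mem
  have hkerθ : RingHom.ker θ = 𝔞 := by
    ext x
    rw [RingHom.mem_ker]
    exact hθ0 x
  obtain ⟨J, hJdef⟩ : ∃ J : Ideal (P ⧸ 𝔞), J = Ideal.map θ I := ⟨_, rfl⟩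
  have hJmem : ∀ x ∈ J, ∃ i ∈ I, θ i = x := by
    intro x hx
    rw [hJdef] at hx
    exact (Ideal.mem_map_iff_of_surjective θ.toRingHom hθs).1 hx
  have hsmall : IsSmallExt k (P ⧸ 𝔞) J :=
    isSmallExt_of_surjective hres θ hθs (M + 1) (by rw [hkerθ]; exact h𝔞1)
      (by rw [hkerθ]; exact h𝔞m) I hIm (by rw [hkerθ]; exact h𝔞2) J hJdef.le
  -- the canonical map
  have hukill : ∀ i ∈ I, ((Ideal.Quotient.mkₐ k J).comp θ) i = 0 := by
    intro i hi
    change Ideal.Quotient.mk J (θ i) = 0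
    rw [Ideal.Quotient.eq_zero_iff_mem, hJdef]
    exact Ideal.mem_map_of_mem _ hi
  obtain ⟨u, hudef⟩ : ∃ u : P ⧸ I →ₐ[k] (P ⧸ 𝔞) ⧸ J,
      u = Ideal.Quotient.liftₐ I ((Ideal.Quotient.mkₐ k J).comp θ) hukill := ⟨_, rfl⟩
  have hu_mk : ∀ x : P, u (Ideal.Quotient.mk I x) = Ideal.Quotient.mk J (θ x) := by
    intro x
    rw [hudef]
    rfl
  obtain ⟨a, ha⟩ := Obs.exists_basis_decomp b (T.obs (P ⧸ 𝔞) J u)
  obtain ⟨K, hKdef⟩ : ∃ K : Ideal (P ⧸ 𝔞),
      K = Ideal.span (Set.range fun i => ((a i : ↥J) : P ⧸ 𝔞)) := ⟨_, rfl⟩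
  have hKJ : K ≤ J := by
    rw [hKdef, Ideal.span_le]
    rintro _ ⟨i, rfl⟩
    exact (a i).2
  have hq := T.obs_quot (P ⧸ 𝔞) J K hsmall hKJ u
  have hzero : LinearMap.lTensor V (idealToQuot k J K) (T.obs (P ⧸ 𝔞) J u) = 0 := by
    rw [ha, map_sum]
    refine Finset.sum_eq_zero fun i _ => ?_
    rw [LinearMap.lTensor_tmul]
    have h0 : idealToQuot k J K (a i) = 0 := by
      apply Subtype.ext
      change Ideal.Quotient.mk K ((a i : ↥J) : P ⧸ 𝔞) = 0
      rw [Ideal.Quotient.eq_zero_iff_mem, hKdef]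
      exact Ideal.subset_span ⟨i, rfl⟩
    rw [h0, TensorProduct.tmul_zero]
  rw [hzero] at hq
  -- the second small extension
  obtain ⟨θ₂, hθ₂def⟩ : ∃ θ₂ : P →ₐ[k] (P ⧸ 𝔞) ⧸ K, θ₂ = (Ideal.Quotient.mkₐ k K).comp θ :=
    ⟨_, rfl⟩
  have hθ₂_apply : ∀ x, θ₂ x = Ideal.Quotient.mk K (θ x) := fun x => by rw [hθ₂def]; rfl
  have hθ₂s : Function.Surjective θ₂ := by
    rw [hθ₂def]
    exact (Ideal.Quotient.mkₐ_surjective k K).comp hθs
  have hθ₂0 : ∀ x, θ₂ x = 0 ↔ θ x ∈ K := fun x => by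
    rw [hθ₂_apply, Ideal.Quotient.eq_zero_iff_mem]
  have h𝔞θ₂ : 𝔞 ≤ RingHom.ker θ₂ := by
    intro x hx
    rw [RingHom.mem_ker, hθ₂0, (hθ0 x).2 hx]
    exact Ideal.zero_mem _
  have hkerθ₂m : RingHom.ker θ₂ ≤ maximalIdeal P := by
    intro x hx
    have h1 : θ x ∈ K := (hθ₂0 x).1 (RingHom.mem_ker.1 hx)
    obtain ⟨i, hi, hix⟩ := hJmem _ (hKJ h1)
    have h2 : x - i ∈ 𝔞 := by
      rw [← hθ0, map_sub, sub_eq_zero]
      exact hix.symm
    have h3 := Ideal.add_mem _ (h𝔞m h2) (hIm hi)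
    rwa [sub_add_cancel] at h3
  have hJ''le : J.map (Ideal.Quotient.mkₐ k K) ≤ Ideal.map θ₂ I := by
    rw [hJdef, hθ₂def]
    exact (Ideal.map_map _ _).le
  have hsmall₂ : IsSmallExt k ((P ⧸ 𝔞) ⧸ K) (J.map (Ideal.Quotient.mkₐ k K)) :=
    isSmallExt_of_surjective hres θ₂ hθ₂s (M + 1) (h𝔞1.trans h𝔞θ₂) hkerθ₂m I hIm
      (h𝔞2.trans h𝔞θ₂) _ hJ''le
  obtain ⟨u', hu'⟩ := (T.obs_eq_zero_iff ((P ⧸ 𝔞) ⧸ K) (J.map (Ideal.Quotient.mkₐ k K)) hsmall₂
    _).1 hq
  -- compare the two lifts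
  have hδ : ∀ x : P, u' (Ideal.Quotient.mk I x) - θ₂ x ∈ J.map (Ideal.Quotient.mkₐ k K) := by
    intro x
    rw [← Ideal.Quotient.eq]
    have h1 := AlgHom.congr_fun hu' (Ideal.Quotient.mk I x)
    refine h1.trans ?_
    change (DoubleQuot.quotQuotEquivQuotOfLEₐ k hKJ).symm (u (Ideal.Quotient.mk I x)) = _
    rw [hu_mk, hθ₂_apply]
    rfl
  haveI := hsmall₂.1
  have hkill := hsmall₂.2.2.2.1
  have hJ''m : J.map (Ideal.Quotient.mkₐ k K) ≤ maximalIdeal ((P ⧸ 𝔞) ⧸ K) :=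
    le_maximalIdeal hsmall₂.2.2.2.2
  have hmax₂ : (maximalIdeal P).map θ₂.toRingHom = maximalIdeal ((P ⧸ 𝔞) ⧸ K) :=
    map_maximalIdeal_of_surjective θ₂.toRingHom hθ₂s
  have hψ₂m : ∀ x ∈ maximalIdeal P, θ₂ x ∈ nonunits ((P ⧸ 𝔞) ⧸ K) := by
    intro x hx
    change θ₂ x ∈ maximalIdeal ((P ⧸ 𝔞) ⧸ K)
    rw [← hmax₂]
    exact Ideal.mem_map_of_mem _ hx
  have hψ₁m : ∀ x ∈ maximalIdeal P, u' (Ideal.Quotient.mk I x) ∈ nonunits ((P ⧸ 𝔞) ⧸ K) := by
    intro x hx
    have h1 := Ideal.add_mem _ (hJ''m (hδ x)) (hψ₂m x hx)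
    rwa [sub_add_cancel] at h1
  have hsq : ∀ x ∈ maximalIdeal P ^ 2, u' (Ideal.Quotient.mk I x) = θ₂ x := by
    intro x hx
    rw [pow_two] at hx
    refine Submodule.smul_induction_on hx ?_ ?_
    · intro c hc d hd
      have h1 := hkill _ _ (hψ₁m c hc) (hδ d)
      have h2 := hkill _ _ (hψ₂m d hd) (hδ c)
      rw [smul_eq_mul, map_mul, map_mul, map_mul]
      linear_combination h1 + h2
    · intro x y hx hy
      rw [map_add, map_add, map_add, hx, hy]
  have hθK : ∀ i ∈ I, θ i ∈ K := by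
    intro i hi
    have h1 := hsq i (hI hi)
    have h2 : Ideal.Quotient.mk I i = 0 := Ideal.Quotient.eq_zero_iff_mem.2 hi
    rw [h2, map_zero] at h1
    exact (hθ₂0 i).1 h1.symm
  -- lift the generators
  choose ã hãI hãθ using fun i => hJmem (a i) (a i).2
  refine ⟨ã, ?_⟩
  have hSI : Ideal.span (Set.range ã) ≤ I := by
    rw [Ideal.span_le]
    rintro _ ⟨i, rfl⟩
    exact hãI i
  apply le_antisymm _ hSI
  have hKmap : K = Ideal.map θ.toRingHom (Ideal.span (Set.range ã)) := by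
    rw [hKdef, Ideal.map_span, ← Set.range_comp]
    congr 2
    funext i
    exact (hãθ i).symm
  have h1 : I ≤ Ideal.span (Set.range ã) ⊔ (maximalIdeal P * I ⊔ maximalIdeal P ^ (M + 1)) := by
    intro i hi
    have h2 := hθK i hi
    rw [hKmap] at h2
    obtain ⟨s, hs, hsi⟩ := (Ideal.mem_map_iff_of_surjective θ.toRingHom hθs).1 h2
    have h3 : i - s ∈ 𝔞 := by
      rw [← hθ0, map_sub, sub_eq_zero]
      exact hsi.symm
    rw [h𝔞] at h3
    have e : i = s + (i - s) := by ring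
    rw [e]
    exact Submodule.add_mem_sup hs h3
  have h2 : I ≤ Ideal.span (Set.range ã) ⊔ maximalIdeal P • I := by
    have hle : Ideal.span (Set.range ã) ⊔ maximalIdeal P * I ≤ I :=
      sup_le hSI Ideal.mul_le_right
    have h3 : I ≤ (Ideal.span (Set.range ã) ⊔ maximalIdeal P * I ⊔
        maximalIdeal P ^ (M + 1)) ⊓ I := by
      refine le_inf ?_ le_rfl
      rw [sup_assoc]
      exact h1
    rw [sup_inf_assoc_of_le _ hle] at h3
    refine h3.trans (sup_le le_rfl (hM.trans le_sup_right))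
  refine Submodule.le_of_le_smul_of_le_jacobson_bot (IsNoetherian.noetherian I) ?_ h2
  rw [IsLocalRing.jacobson_eq_maximalIdeal ⊥ bot_ne_top]

theorem spanFinrank_le (hres : Function.Surjective (algebraMap k (ResidueField P)))
    (I : Ideal P) (hI : I ≤ maximalIdeal P ^ 2)
    {V : Type u} [AddCommGroup V] [Module k V] [Module.Finite k V] (T : ObsTheory k (P ⧸ I) V) :
    I.spanFinrank ≤ Module.finrank k V := by
  obtain ⟨ã, hã⟩ := exists_span hres I hI T (Module.finBasis k V)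
  rw [hã]
  refine (Submodule.spanFinrank_span_le_ncard_of_finite (Set.finite_range _)).trans ?_
  rw [← Set.image_univ]
  refine (Set.ncard_image_le (Set.finite_univ)).trans ?_
  rw [Set.ncard_univ, Nat.card_fin]

end Groth.Agent.H61.ObsRaw
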