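import Groth.Agent.H61.SchlessVersal
import Groth.Agent.H61.MinPresC
import Mathlib.LinearAlgebra.Contraction

/-!
# The obstruction theory of a functor pro-represented by a quotient `P/J`, `J ⊆ m_P²` (helper61)

`P` a coefficient ring over the field `k` with the lifting property (e.g. a power series ring),
`π : P → R` a surjection with kernel `J ⊆ m_P²`, `F` a functor with a universal family over `R`.
Then `F` has an obstruction theory with values in `(J/m_P J)^∨`.
-/

set_option autoImplicit false
set_option linter.unusedSectionVars false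
set_option linter.style.haveILetI false
universe u v

namespace Groth.Agent.H61.Obs

open CategoryTheory ArtFun ArtFun.Art TensorProduct Groth.Agent.H63

variable {k : Type u} [Field k]

theorem dualTensorHom_lTensor {M N N' : Type*} [AddCommGroup M] [Module k M] [AddCommGroup N]
    [Module k N] [AddCommGroup N'] [Module k N'] (f : N →ₗ[k] N')
    (t : Module.Dual k M ⊗[k] N) :
    dualTensorHom k M N' (LinearMap.lTensor (Module.Dual k M) f t) =
      f ∘ₗ dualTensorHom k M N t := by
  induction t using TensorProduct.induction_on with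
  | zero => simp
  | tmul v n =>
    ext m
    simp [dualTensorHom_apply]
  | add x y hx hy => rw [map_add, map_add, hx, hy, map_add, LinearMap.comp_add]

variable (P : CRing k k)

/-- two lifts of the same map along a semismall extension agree on `m²` -/
theorem lift_eq_on_sq {C' C : Art k k} (p : C' ⟶ C) (hp : IsSemismallExt p)
    (ψ ψ' : HomSet P.carrier P.res C') (h : HomSet.map p ψ = HomSet.map p ψ') :
    ∀ x ∈ IsLocalRing.maximalIdeal P.carrier ^ 2, ψ.1 x = ψ'.1 x := by
  have hδ : ∀ x, ψ.1 x - ψ'.1 x ∈ RingHom.ker p.toAlgHom := by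
    intro x
    rw [RingHom.mem_ker, map_sub, sub_eq_zero]
    exact congrArg (fun t => t.1 x) h
  have hkill : ∀ a ∈ IsLocalRing.maximalIdeal (C' : Type u), ∀ b ∈ RingHom.ker p.toAlgHom,
      a * b = 0 := by
    intro a ha b hb
    have h1 := Ideal.mul_mem_mul ha hb
    rw [hp.2] at h1
    exact h1
  intro x hx
  rw [pow_two] at hx
  refine Submodule.smul_induction_on hx ?_ ?_
  · intro a ha b hb
    have h1 := hkill (ψ.1 a) (homSet_map_maximalIdeal P ψ a ha) _ (hδ b)
    have h2 := hkill (ψ'.1 b) (homSet_map_maximalIdeal P ψ' b hb) _ (hδ a)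
    rw [smul_eq_mul, map_mul, map_mul]
    linear_combination h1 + h2
  · intro x y hx hy
    rw [map_add, map_add, hx, hy]

/-- a finite module over `P` killed by the maximal ideal is finite over `k` -/
theorem finite_of_killed (M : Type*) [AddCommGroup M] [Module P.carrier M] [Module k M]
    [IsScalarTower k P.carrier M] [Module.Finite P.carrier M]
    (hM : ∀ y ∈ IsLocalRing.maximalIdeal P.carrier, ∀ v : M, y • v = 0) : Module.Finite k M := by
  obtain ⟨S, hS⟩ := (Module.Finite.fg_top : (⊤ : Submodule P.carrier M).FG)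
  refine ⟨⟨S, ?_⟩⟩
  have hsm : ∀ (x : P.carrier) (v : M), x • v = (P.res x) • v := by
    intro x v
    have h1 : x - algebraMap k P.carrier (P.res x) ∈ IsLocalRing.maximalIdeal P.carrier := by
      rw [CRing.mem_maximalIdeal_iff, map_sub, AlgHom.commutes, sub_eq_zero]
      rfl
    have h2 := hM _ h1 v
    rw [sub_smul, sub_eq_zero, algebraMap_smul] at h2
    exact h2
  let N' : Submodule P.carrier M :=
    { carrier := Submodule.span k (S : Set M)
      add_mem' := fun ha hb => Submodule.add_mem _ ha hb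
      zero_mem' := Submodule.zero_mem _
      smul_mem' := fun x v hv => by
        change x • v ∈ Submodule.span k (S : Set M)
        rw [hsm]
        exact Submodule.smul_mem _ _ hv }
  have h1 : Submodule.span P.carrier (S : Set M) ≤ N' := Submodule.span_le.2 Submodule.subset_span
  rw [hS] at h1
  rw [eq_top_iff]
  intro v _
  exact h1 trivial

/-- the quotient `J/mJ` -/
abbrev MJ (J : Ideal P.carrier) : Type u :=
  ↥J ⧸ (IsLocalRing.maximalIdeal P.carrier • ⊤ : Submodule P.carrier ↥J)

theorem finite_quot (J : Ideal P.carrier) : Module.Finite k (MJ P J) := by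
  apply finite_of_killed P
  intro y hy v
  obtain ⟨j, rfl⟩ := Submodule.Quotient.mk_surjective _ v
  rw [← Submodule.Quotient.mk_smul, Submodule.Quotient.mk_eq_zero]
  exact Submodule.smul_mem_smul hy Submodule.mem_top

section Bar

variable {C' C : Art k k} (p : C' ⟶ C) (hp : IsSemismallExt p) (J : Ideal P.carrier)
  (ψ : HomSet P.carrier P.res C') (hψ : ∀ j ∈ J, p (ψ.1 j) = 0)

/-- the restriction of a lift to `J`, with values in the kernel -/
def restrJ : ↥J →ₗ[k] ↥(RingHom.ker p.toAlgHom) where
  toFun j := ⟨ψ.1 j, RingHom.mem_ker.2 (hψ j j.2)⟩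
  map_add' a b := Subtype.ext (map_add ψ.1 (a : P.carrier) (b : P.carrier))
  map_smul' c a := Subtype.ext (map_smul ψ.1 c (a : P.carrier))

include hp in
theorem restrJ_kills :
    (IsLocalRing.maximalIdeal P.carrier • ⊤ : Submodule P.carrier ↥J).restrictScalars k ≤
      LinearMap.ker (restrJ P p J ψ hψ) := by
  intro z hz
  rw [Submodule.restrictScalars_mem] at hz
  rw [LinearMap.mem_ker]
  refine Submodule.smul_induction_on hz ?_ ?_
  · intro y hy j _
    apply Subtype.ext
    change ψ.1 (y * (j : P.carrier)) = 0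
    rw [map_mul]
    have h1 : ψ.1 y ∈ IsLocalRing.maximalIdeal (C' : Type u) := homSet_map_maximalIdeal P ψ y hy
    have h2 : ψ.1 (j : P.carrier) ∈ RingHom.ker p.toAlgHom := RingHom.mem_ker.2 (hψ j j.2)
    have h3 := Ideal.mul_mem_mul h1 h2
    rw [hp.2] at h3
    exact h3
  · intro a b ha hb
    rw [map_add, ha, hb, add_zero]

/-- the induced map `J/mJ → ker p` -/
noncomputable def barMap : MJ P J →ₗ[k] ↥(RingHom.ker p.toAlgHom) :=
  (((IsLocalRing.maximalIdeal P.carrier • ⊤ : Submodule P.carrier ↥J).restrictScalars k).liftQ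
    (restrJ P p J ψ hψ) (restrJ_kills P p hp J ψ hψ)).comp
    (Submodule.Quotient.restrictScalarsEquiv k
      (IsLocalRing.maximalIdeal P.carrier • ⊤ : Submodule P.carrier ↥J)).symm.toLinearMap

theorem barMap_mk (j : ↥J) :
    barMap P p hp J ψ hψ (Submodule.Quotient.mk j) = restrJ P p J ψ hψ j := by
  unfold barMap
  rw [LinearMap.comp_apply, LinearEquiv.coe_coe, Submodule.Quotient.restrictScalarsEquiv_symm_mk,
    Submodule.liftQ_apply]

/-- the obstruction element attached to a lift -/
noncomputable def obsElt : Module.Dual k (MJ P J) ⊗[k] ↥(RingHom.ker p.toAlgHom) :=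
  haveI := finite_quot P J
  (dualTensorHomEquiv k (MJ P J) ↥(RingHom.ker p.toAlgHom)).symm (barMap P p hp J ψ hψ)

theorem dualTensorHom_obsElt :
    dualTensorHom k (MJ P J) ↥(RingHom.ker p.toAlgHom) (obsElt P p hp J ψ hψ) =
      barMap P p hp J ψ hψ := by
  haveI := finite_quot P J
  exact (dualTensorHomEquiv k (MJ P J) ↥(RingHom.ker p.toAlgHom)).apply_symm_apply _

theorem obsElt_eq_zero_iff : obsElt P p hp J ψ hψ = 0 ↔ ∀ j ∈ J, ψ.1 j = 0 := by
  haveI := finite_quot P J
  unfold obsElt
  rw [LinearEquiv.map_eq_zero_iff]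
  constructor
  · intro h j hj
    have h1 := congrArg (fun f => ((f (Submodule.Quotient.mk ⟨j, hj⟩) :
      ↥(RingHom.ker p.toAlgHom)) : C')) h
    simp only [barMap_mk] at h1
    exact h1
  · intro h
    apply LinearMap.ext
    intro v
    obtain ⟨j, rfl⟩ := Submodule.Quotient.mk_surjective _ v
    rw [barMap_mk]
    exact Subtype.ext (h j j.2)

theorem obsElt_congr (ψ' : HomSet P.carrier P.res C') (hψ' : ∀ j ∈ J, p (ψ'.1 j) = 0)
    (h : ∀ j ∈ J, ψ.1 j = ψ'.1 j) : obsElt P p hp J ψ hψ = obsElt P p hp J ψ' hψ' := by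
  unfold obsElt
  congr 1
  apply LinearMap.ext
  intro v
  obtain ⟨j, rfl⟩ := Submodule.Quotient.mk_surjective _ v
  rw [barMap_mk, barMap_mk]
  exact Subtype.ext (h j j.2)

theorem obsElt_quot (K : Ideal C') (hK : K ≤ IsLocalRing.maximalIdeal (C' : Type u))
    (hKJ : K ≤ RingHom.ker p.toAlgHom) (hq : IsSemismallExt (quotFactor hK p hKJ))
    (hψ' : ∀ j ∈ J, quotFactor hK p hKJ ((HomSet.map (quotMk C' K hK) ψ).1 j) = 0) :
    obsElt P (quotFactor hK p hKJ) hq J (HomSet.map (quotMk C' K hK) ψ) hψ' =
      LinearMap.lTensor (Module.Dual k (MJ P J)) ((kerToQuot hK p hKJ).restrictScalars k)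
        (obsElt P p hp J ψ hψ) := by
  haveI := finite_quot P J
  apply (dualTensorHomEquiv k (MJ P J) ↥(RingHom.ker (quotFactor hK p hKJ).toAlgHom)).injective
  change dualTensorHom k _ _ _ = dualTensorHom k _ _ _
  rw [dualTensorHom_lTensor, dualTensorHom_obsElt, dualTensorHom_obsElt]
  apply LinearMap.ext
  intro v
  obtain ⟨j, rfl⟩ := Submodule.Quotient.mk_surjective _ v
  rw [LinearMap.comp_apply, barMap_mk, barMap_mk]
  rfl

end Bar

section Theory

variable (hlift : HasLift P) {R : Type u} [CommRing R] [Algebra k R] (resR : R →ₐ[k] k)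
  (π : P.carrier →ₐ[k] R) (hπ : Function.Surjective π) (hres : resR.comp π = P.res)
  (J : Ideal P.carrier) (hker : ∀ x, π x = 0 ↔ x ∈ J)
  (hJ : J ≤ IsLocalRing.maximalIdeal P.carrier ^ 2)
  {F : Art k k ⥤ Type v} (ξ : Family R resR F) (hξ : IsUniversal ξ)

/-- the inverse of a universal family -/
noncomputable def invFam {C : Art k k} (u : F.obj C) : HomSet R resR C :=
  Classical.choose ((hξ C).2 u)

theorem invFam_spec {C : Art k k} (u : F.obj C) : ξ.app C (invFam resR ξ hξ u) = u :=
  Classical.choose_spec ((hξ C).2 u)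

/-- composition with the presentation -/
def pullπ {C : Art k k} (φ : HomSet R resR C) : HomSet P.carrier P.res C :=
  ⟨φ.1.comp π, by rw [← AlgHom.comp_assoc, φ.2, hres]⟩

theorem pullπ_apply {C : Art k k} (φ : HomSet R resR C) (x : P.carrier) :
    (pullπ P resR π hres φ).1 x = φ.1 (π x) := rfl

theorem pullπ_map {C D : Art k k} (f : C ⟶ D) (φ : HomSet R resR C) :
    pullπ P resR π hres (HomSet.map f φ) = HomSet.map f (pullπ P resR π hres φ) := rfl

include hπ in
theorem pullπ_injective {C : Art k k} (φ φ' : HomSet R resR C)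
    (h : pullπ P resR π hres φ = pullπ P resR π hres φ') : φ = φ' := by
  apply Subtype.ext
  apply AlgHom.ext
  intro r
  obtain ⟨x, rfl⟩ := hπ r
  exact congrArg (fun t => t.1 x) h

include hπ hker in
theorem exists_descend {C' : Art k k} (ψ : HomSet P.carrier P.res C') (h : ∀ j ∈ J, ψ.1 j = 0) :
    ∃ φ' : HomSet R resR C', pullπ P resR π hres φ' = ψ := by
  have H : RingHom.ker π.toRingHom ≤ RingHom.ker ψ.1.toRingHom := by
    intro x hx
    rw [RingHom.mem_ker] at hx ⊢
    exact h x ((hker x).1 hx)
  refine ⟨⟨AlgHom.liftOfSurjective π hπ ψ.1 H, ?_⟩, ?_⟩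
  · apply AlgHom.ext
    intro r
    obtain ⟨x, rfl⟩ := hπ r
    change C'.res (AlgHom.liftOfSurjective π hπ ψ.1 H (π x)) = resR (π x)
    rw [AlgHom.liftOfSurjective_apply]
    exact (AlgHom.congr_fun ψ.2 x).trans (AlgHom.congr_fun hres x).symm
  · apply Subtype.ext
    apply AlgHom.ext
    intro x
    change AlgHom.liftOfSurjective π hπ ψ.1 H (π x) = ψ.1 x
    rw [AlgHom.liftOfSurjective_apply]

/-- the chosen lift -/
noncomputable def chosenLift {C' C : Art k k} (p : C' ⟶ C) (hp : Function.Surjective p)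
    (u₀ : HomSet P.carrier P.res C) : HomSet P.carrier P.res C' :=
  Classical.choose (hlift p hp u₀)

theorem chosenLift_spec {C' C : Art k k} (p : C' ⟶ C) (hp : Function.Surjective p)
    (u₀ : HomSet P.carrier P.res C) : HomSet.map p (chosenLift P hlift p hp u₀) = u₀ :=
  Classical.choose_spec (hlift p hp u₀)

include hker in
theorem chosen_kills {C' C : Art k k} (p : C' ⟶ C) (hp : Function.Surjective p) (u : F.obj C) :
    ∀ j ∈ J, p ((chosenLift P hlift p hp (pullπ P resR π hres (invFam resR ξ hξ u))).1 j) = 0 := by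
  intro j hj
  have h := congrArg (fun t => t.1 j)
    (chosenLift_spec P hlift p hp (pullπ P resR π hres (invFam resR ξ hξ u)))
  refine h.trans ?_
  rw [pullπ_apply, (hker j).2 hj, map_zero]

/-- **The obstruction theory** of a functor pro-represented by `P/J` with `J ⊆ m_P²`. -/
noncomputable def obsTheoryOfPres : ObsTheory F (Module.Dual k (MJ P J)) where
  obs {C' C} p hp u := obsElt P p hp J
    (chosenLift P hlift p hp.1 (pullπ P resR π hres (invFam resR ξ hξ u)))
    (chosen_kills P hlift resR π hres J hker ξ hξ p hp.1 u)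
  obs_eq_zero_iff {C' C} p hp u := by
    rw [obsElt_eq_zero_iff]
    constructor
    · intro h
      obtain ⟨φ', hφ'⟩ := exists_descend P resR π hπ hres J hker _ h
      refine ⟨ξ.app C' φ', ?_⟩
      rw [← ξ.natural]
      have h1 : HomSet.map p φ' = invFam resR ξ hξ u := by
        apply pullπ_injective P resR π hπ hres
        rw [pullπ_map, hφ', chosenLift_spec]
      rw [h1, invFam_spec]
    · rintro ⟨u', hu'⟩
      have hφ' : HomSet.map p (invFam resR ξ hξ u') = invFam resR ξ hξ u := by
        apply (hξ C).1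
        rw [ξ.natural, invFam_spec, invFam_spec, hu']
      intro j hj
      have hsq := lift_eq_on_sq P p hp
        (chosenLift P hlift p hp.1 (pullπ P resR π hres (invFam resR ξ hξ u)))
        (pullπ P resR π hres (invFam resR ξ hξ u'))
        (by rw [chosenLift_spec, ← pullπ_map, hφ']) j (hJ hj)
      rw [hsq, pullπ_apply, (hker j).2 hj, map_zero]
  obs_quot {C' C} p hp K hK hKJ hq u := by
    have hψ' : ∀ j ∈ J, quotFactor hK p hKJ ((HomSet.map (quotMk C' K hK)
        (chosenLift P hlift p hp.1 (pullπ P resR π hres (invFam resR ξ hξ u)))).1 j) = 0 :=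
      chosen_kills P hlift resR π hres J hker ξ hξ p hp.1 u
    rw [← obsElt_quot P p hp J _ _ K hK hKJ hq hψ']
    apply obsElt_congr
    intro j hj
    exact lift_eq_on_sq P (quotFactor hK p hKJ) hq _ _
      (by rw [chosenLift_spec, ← homSet_map_comp, quotMk_quotFactor, chosenLift_spec]) j (hJ hj)

end Theory

end Groth.Agent.H61.Obs

namespace Groth.Agent.H61.Obs

/-- a local `k`-algebra has at most one augmentation to `k` -/
theorem algHom_to_field_unique {k : Type*} [Field k] {A : Type*} [CommRing A] [IsLocalRing A]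
    [Algebra k A] (φ ψ : A →ₐ[k] k) : φ = ψ := by
  have hker : ∀ χ : A →ₐ[k] k, RingHom.ker χ.toRingHom = IsLocalRing.maximalIdeal A := by
    intro χ
    have hs : Function.Surjective χ.toRingHom := fun c => ⟨algebraMap k A c, χ.commutes c⟩
    haveI := RingHom.ker_isMaximal_of_surjective χ.toRingHom hs
    exact IsLocalRing.eq_maximalIdeal inferInstance
  apply AlgHom.ext
  intro a
  have h1 : a - algebraMap k A (ψ a) ∈ RingHom.ker ψ.toRingHom := by
    rw [RingHom.mem_ker]
    change ψ (a - algebraMap k A (ψ a)) = 0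
    rw [map_sub, AlgHom.commutes, sub_eq_zero]
    rfl
  rw [hker ψ, ← hker φ, RingHom.mem_ker] at h1
  have h2 : φ (a - algebraMap k A (ψ a)) = 0 := h1
  rw [map_sub, AlgHom.commutes, sub_eq_zero] at h2
  exact h2

end Groth.Agent.H61.Obs
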