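/-
Kähler differentials of a power series ring `k[[x₁,…,xₙ]]` over a perfect field of
characteristic `p`: free on `dxᵢ` (helper61).
-/
import Mathlib

set_option autoImplicit false

namespace Groth.Agent.H61.PSOmega

open MvPowerSeries

variable {σ : Type*} [Fintype σ] [DecidableEq σ]
variable {k : Type*} [Field k] (p : ℕ) [hp : Fact p.Prime] [CharP k p] [PerfectField k]

/-- the exponent vector attached to a residue vector -/
noncomputable def ρ (r : σ → Fin p) : σ →₀ ℕ := Finsupp.equivFunOnFinite.symm (fun i => (r i : ℕ))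

@[simp] lemma ρ_apply (r : σ → Fin p) (i : σ) : ρ p r i = (r i : ℕ) := rfl

/-- the `p`-th root part of `g` in the residue class `r` -/
noncomputable def part (g : MvPowerSeries σ k) (r : σ → Fin p) : MvPowerSeries σ k :=
  fun m => (frobeniusEquiv k p).symm (coeff (p • m + ρ p r) g)

lemma coeff_part (g : MvPowerSeries σ k) (r : σ → Fin p) (m : σ →₀ ℕ) :
    coeff m (part p g r) = (frobeniusEquiv k p).symm (coeff (p • m + ρ p r) g) := rfl

lemma coeff_part_pow (g : MvPowerSeries σ k) (r : σ → Fin p) (n : σ →₀ ℕ) :
    coeff n ((part p g r) ^ p) =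
      if ∀ i, p ∣ n i then coeff (n + ρ p r) g else 0 := by
  have hp0 : p ≠ 0 := hp.out.ne_zero
  haveI : ExpChar k p := ExpChar.prime hp.out
  rw [← map_frobenius_expand p hp0, coeff_map]
  split_ifs with h
  · -- `n = p • m`
    choose m hm using h
    have hn : n = p • (Finsupp.equivFunOnFinite.symm m) := by
      ext i
      simp [hm i]
    rw [hn, coeff_expand_smul, coeff_part, frobenius_def, ← frobeniusEquiv_def k p,
      RingEquiv.apply_symm_apply]
  · push Not at h
    obtain ⟨i, hi⟩ := h
    rw [coeff_expand_of_not_dvd p hp0 _ hi, map_zero]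

/-- **Frobenius decomposition** of a power series. -/
theorem decomposition (g : MvPowerSeries σ k) :
    g = ∑ r : σ → Fin p, monomial (ρ p r) (1 : k) * (part p g r) ^ p := by
  have hp0 : 0 < p := hp.out.pos
  ext n
  rw [map_sum]
  set r₀ : σ → Fin p := fun i => ⟨n i % p, Nat.mod_lt _ hp0⟩ with hr₀
  rw [Finset.sum_eq_single r₀]
  · have hle : ρ p r₀ ≤ n := by
      intro i
      simp only [ρ_apply, hr₀]
      exact Nat.mod_le _ _
    have hn : n - ρ p r₀ + ρ p r₀ = n := tsub_add_cancel_of_le hle
    rw [coeff_monomial_mul, if_pos hle, one_mul, coeff_part_pow, if_pos, hn]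
    · intro i
      simp only [Finsupp.coe_tsub, Pi.sub_apply, ρ_apply, hr₀]
      exact Nat.dvd_sub_mod _
  · intro r _ hr
    rw [coeff_monomial_mul]
    split_ifs with hle
    · rw [one_mul, coeff_part_pow, if_neg]
      intro hdiv
      apply hr
      funext i
      apply Fin.ext
      have h1 := hdiv i
      have h2 : (r i : ℕ) ≤ n i := hle i
      simp only [Finsupp.coe_tsub, Pi.sub_apply, ρ_apply] at h1
      simp only [hr₀]
      -- `n i - r i ≡ 0`, `r i < p`
      obtain ⟨c, hc⟩ := h1
      have h3 : n i = p * c + r i := by omega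
      rw [h3, Nat.mul_add_mod, Nat.mod_eq_of_lt (r i).2]
    · rfl
  · intro h
    exact absurd (Finset.mem_univ _) h

section Der

variable {M : Type*} [AddCommGroup M] [Module k M] [Module (MvPowerSeries σ k) M]
  [IsScalarTower k (MvPowerSeries σ k) M]

omit [Fintype σ] [DecidableEq σ] [PerfectField k] in
/-- a derivation kills `p`-th powers -/
lemma der_pow_p (E : Derivation k (MvPowerSeries σ k) M) (h : MvPowerSeries σ k) :
    E (h ^ p) = 0 := by
  rw [Derivation.leibniz_pow]
  have : (p : ℕ) • (h ^ (p - 1) • E h) = ((p : ℕ) : k) • (h ^ (p - 1) • E h) :=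
    (Nat.cast_smul_eq_nsmul k p _).symm
  rw [this, CharP.cast_eq_zero, zero_smul]

omit [Fintype σ] [hp : Fact p.Prime] [CharP k p] [PerfectField k] in
/-- a derivation vanishing on the variables kills monomials -/
lemma der_monomial (E : Derivation k (MvPowerSeries σ k) M) (hE : ∀ i, E (X i) = 0)
    (r : σ →₀ ℕ) : E (monomial r (1 : k)) = 0 := by
  induction r using Finsupp.induction_linear with
  | zero => rw [monomial_zero_one]; exact E.map_one_eq_zero
  | add a b ha hb =>
    have : monomial (a + b) (1 : k) = monomial a 1 * monomial b 1 := by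
      rw [monomial_mul_monomial, one_mul]
    rw [this, Derivation.leibniz, ha, hb, smul_zero, smul_zero, add_zero]
  | single i n =>
    rw [← X_pow_eq, Derivation.leibniz_pow, hE, smul_zero, smul_zero]

include p hp in
/-- a derivation vanishing on the variables vanishes -/
theorem der_eq_zero (E : Derivation k (MvPowerSeries σ k) M) (hE : ∀ i, E (X i) = 0)
    (g : MvPowerSeries σ k) : E g = 0 := by
  rw [decomposition p g, map_sum]
  refine Finset.sum_eq_zero fun r _ => ?_
  rw [Derivation.leibniz, der_pow_p, der_monomial E hE, smul_zero, smul_zero, add_zero]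

include p hp in
/-- **Chain rule**: every `k`-derivation of `k[[x]]` is determined by its values on the variables. -/
theorem der_formula (D : Derivation k (MvPowerSeries σ k) M) (g : MvPowerSeries σ k) :
    D g = ∑ i, (pderiv k i g) • D (X i) := by
  set E : Derivation k (MvPowerSeries σ k) M :=
    D - ∑ i, (LinearMap.toSpanSingleton (MvPowerSeries σ k) M (D (X i))).compDer (pderiv k i)
    with hEdef
  have hEapp : ∀ g, E g = D g - ∑ i, (pderiv k i g) • D (X i) := by
    intro g
    rw [hEdef, Derivation.sub_apply]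
    congr 1
    have : ∀ (s : Finset σ), (∑ i ∈ s,
        (LinearMap.toSpanSingleton (MvPowerSeries σ k) M (D (X i))).compDer (pderiv k i)) g =
        ∑ i ∈ s, (pderiv k i g) • D (X i) := by
      intro s
      induction s using Finset.induction_on with
      | empty => simp
      | insert a s ha ih =>
        rw [Finset.sum_insert ha, Finset.sum_insert ha, Derivation.add_apply, ih]
        rfl
    exact this _
  have hE : ∀ j, E (X j) = 0 := by
    intro j
    rw [hEapp, sub_eq_zero, Finset.sum_eq_single j]
    · rw [pderiv_X_self, one_smul]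
    · intro i _ hij
      rw [pderiv_X_of_ne (Ne.symm hij), zero_smul]
    · intro h; exact absurd (Finset.mem_univ _) h
  have := der_eq_zero p E hE g
  rw [hEapp, sub_eq_zero] at this
  exact this

end Der

section Omega

open KaehlerDifferential

variable (σ k)

/-- the coordinate map `Ω → Pⁿ` given by the partial derivatives -/
noncomputable def ψ : Ω[MvPowerSeries σ k⁄k] →ₗ[MvPowerSeries σ k] (σ → MvPowerSeries σ k) :=
  LinearMap.pi (fun i => (pderiv k i).liftKaehlerDifferential)

/-- the map `Pⁿ → Ω`, `eᵢ ↦ dxᵢ` -/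
noncomputable def φ : (σ → MvPowerSeries σ k) →ₗ[MvPowerSeries σ k] Ω[MvPowerSeries σ k⁄k] :=
  (Pi.basisFun (MvPowerSeries σ k) σ).constr (MvPowerSeries σ k)
    (fun i => KaehlerDifferential.D k (MvPowerSeries σ k) (X i))

lemma φ_apply (v : σ → MvPowerSeries σ k) :
    φ σ k v = ∑ i, v i • KaehlerDifferential.D k (MvPowerSeries σ k) (X i) := by
  rw [φ, Module.Basis.constr_apply_fintype]
  rfl

lemma ψ_D (g : MvPowerSeries σ k) (i : σ) :
    ψ σ k (KaehlerDifferential.D k (MvPowerSeries σ k) g) i = pderiv k i g := by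
  rw [ψ, LinearMap.pi_apply, Derivation.liftKaehlerDifferential_comp_D]

include p hp in
/-- **`Ω_{k[[x]]/k}` is free on the `dxᵢ`** (perfect field of characteristic `p`). -/
theorem omegaEquiv_exists :
    ∃ e : Ω[MvPowerSeries σ k⁄k] ≃ₗ[MvPowerSeries σ k] (σ → MvPowerSeries σ k),
      ∀ g i, e (KaehlerDifferential.D k (MvPowerSeries σ k) g) i = pderiv k i g := by
  refine ⟨LinearEquiv.ofLinear (ψ σ k) (φ σ k) ?_ ?_, fun g i => ψ_D σ k g i⟩
  · refine (Pi.basisFun (MvPowerSeries σ k) σ).ext fun j => ?_
    rw [LinearMap.comp_apply, LinearMap.id_apply, φ_apply]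
    funext i
    rw [map_sum, Finset.sum_apply, Pi.basisFun_apply]
    rw [Finset.sum_eq_single j]
    · rw [Pi.single_eq_same, one_smul, ψ_D, pderiv_X]
      exact Pi.single_comm _ _ _
    · intro l _ hlj
      rw [Pi.single_eq_of_ne hlj, zero_smul, map_zero, Pi.zero_apply]
    · intro h; exact absurd (Finset.mem_univ _) h
  · apply Derivation.liftKaehlerDifferential_unique
    ext g
    change φ σ k (ψ σ k (KaehlerDifferential.D k _ g)) = KaehlerDifferential.D k _ g
    rw [φ_apply]
    have := der_formula p (KaehlerDifferential.D k (MvPowerSeries σ k)) g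
    conv_rhs => rw [this]
    refine Finset.sum_congr rfl fun i _ => ?_
    rw [ψ_D]

end Omega

end Groth.Agent.H61.PSOmega
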