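/-
`Ext¹` and `Ext²` of the Kähler differentials of an isolated hypersurface singularity
`k[[x]]/(f)` over a perfect field of characteristic `p` (helper61).
-/
import Groth.Agent.H61.PSOmega
import Groth.Agent.H61.DualBC
import Groth.Agent.H61.PowerSeriesComplete

set_option autoImplicit false

namespace Groth.Agent.H61.PSTjurina

universe u

open MvPowerSeries TensorProduct

section NZD

variable {σ : Type*} {k : Type*} [Field k]

/-- `Xᵢ ∣ Xⱼ c` implies `Xᵢ ∣ c` for `i ≠ j` -/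
lemma X_dvd_of_dvd_X_mul {i j : σ} (hij : i ≠ j) (c : MvPowerSeries σ k)
    (h : (X i : MvPowerSeries σ k) ∣ X j * c) : (X i : MvPowerSeries σ k) ∣ c := by
  classical
  rw [X_dvd_iff] at h ⊢
  intro m hm
  have h1 := h (Finsupp.single j 1 + m) (by
    rw [Finsupp.add_apply, Finsupp.single_apply, if_neg (Ne.symm hij), hm])
  rw [X_def, coeff_add_monomial_mul, one_mul] at h1
  exact h1

/-- **Lemma L**: if `f ∣ Xᵢ b` and `f ∣ Xⱼ b` with `i ≠ j` and `f ≠ 0` then `f ∣ b`. -/
lemma dvd_of_dvd_X_mul {i j : σ} (hij : i ≠ j) (f b : MvPowerSeries σ k) (hf : f ≠ 0)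
    (hi : f ∣ X i * b) (hj : f ∣ X j * b) : f ∣ b := by
  classical
  obtain ⟨ci, hci⟩ := hi
  obtain ⟨cj, hcj⟩ := hj
  have h1 : f * (X j * ci) = f * (X i * cj) := by
    calc f * (X j * ci) = X j * (f * ci) := by ring
      _ = X j * (X i * b) := by rw [hci]
      _ = X i * (X j * b) := by ring
      _ = X i * (f * cj) := by rw [hcj]
      _ = f * (X i * cj) := by ring
  have h2 : X j * ci = X i * cj := mul_left_cancel₀ hf h1
  obtain ⟨c, hc⟩ := X_dvd_of_dvd_X_mul hij ci ⟨cj, h2⟩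
  refine ⟨c, ?_⟩
  have hX : (X i : MvPowerSeries σ k) ≠ 0 := by
    intro h0
    have := congrArg (coeff (Finsupp.single i 1)) h0
    rw [coeff_X, if_pos rfl, map_zero] at this
    exact one_ne_zero this
  apply mul_left_cancel₀ hX
  rw [hci, hc]
  ring

/-- **Lemma N**: if `f ∣ g a` for all `g ∈ 𝔪^N` then `f ∣ a` (at least two variables). -/
lemma dvd_of_forall_mem_pow [Finite σ] {i j : σ} (hij : i ≠ j) (f : MvPowerSeries σ k)
    (hf : f ≠ 0) (N : ℕ) (a : MvPowerSeries σ k)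
    (h : ∀ g ∈ IsLocalRing.maximalIdeal (MvPowerSeries σ k) ^ N, f ∣ g * a) : f ∣ a := by
  induction N with
  | zero =>
    have := h 1 (by rw [pow_zero, Ideal.one_eq_top]; exact Submodule.mem_top)
    rwa [one_mul] at this
  | succ N ih =>
    apply ih
    intro g hg
    have hmem : ∀ l : σ, X l * g ∈ IsLocalRing.maximalIdeal (MvPowerSeries σ k) ^ (N + 1) := by
      intro l
      rw [pow_succ']
      exact Ideal.mul_mem_mul (Groth.Agent.H61.PS.X_mem_maximalIdeal l) hg
    refine dvd_of_dvd_X_mul hij f (g * a) hf ?_ ?_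
    · have := h _ (hmem i)
      rwa [mul_assoc] at this
    · have := h _ (hmem j)
      rwa [mul_assoc] at this

end NZD

section Ext2

open CategoryTheory

variable {B : Type u} [CommRing B] {M F N Y : Type u} [AddCommGroup M] [Module B M]
  [AddCommGroup F] [Module B F] [AddCommGroup N] [Module B N] [AddCommGroup Y] [Module B Y]

/-- `Ext²(N, Y) = 0` when `N` has a projective resolution of length one. -/
theorem subsingleton_ext2 [Module.Projective B M] [Module.Projective B F] (d : M →ₗ[B] F)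
    (π : F →ₗ[B] N) (hd : Function.Injective d) (hex : Function.Exact d π)
    (hπ : Function.Surjective π) :
    Subsingleton (Abelian.Ext.{u} (ModuleCat.of B N) (ModuleCat.of B Y) 2) := by
  have hrange : LinearMap.range d = LinearMap.ker π := (LinearMap.exact_iff.mp hex).symm
  let ε : M ≃ₗ[B] LinearMap.ker π :=
    (LinearEquiv.ofInjective d hd).trans (LinearEquiv.ofEq _ _ hrange)
  haveI : Module.Projective B (LinearMap.ker π) := Module.Projective.of_equiv ε
  set T := π.shortComplexKer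
  have hT : T.ShortExact := LinearMap.shortExact_shortComplexKer hπ
  have h1 : HasProjectiveDimensionLT T.X₁ 1 :=
    (inferInstance : HasProjectiveDimensionLT (ModuleCat.of B (LinearMap.ker π)) 1)
  have h2 : HasProjectiveDimensionLT T.X₂ 2 :=
    (inferInstance : HasProjectiveDimensionLT (ModuleCat.of B F) 2)
  have h3 : HasProjectiveDimensionLT T.X₃ 2 := hT.hasProjectiveDimensionLT_X₃ 1 h1 h2
  have h3' : HasProjectiveDimensionLT (ModuleCat.of B N) 2 := h3
  exact HasProjectiveDimensionLT.subsingleton (ModuleCat.of B N) 2 2 le_rfl (ModuleCat.of B Y)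

end Ext2

section Main

open KaehlerDifferential CategoryTheory

variable (k : Type u) [Field k] [PerfectField k] (p : ℕ) [hp : Fact p.Prime] [CharP k p]

local notation "PS" => MvPowerSeries (Fin 3) k

lemma smul_one_eq_mk {R : Type*} [CommRing R] (I : Ideal R) (c : R) :
    c • (1 : R ⧸ I) = Ideal.Quotient.mk I c := by
  have : c • (1 : R ⧸ I) = Ideal.Quotient.mk I (c • 1) := rfl
  rw [this, smul_eq_mul, mul_one]

omit [PerfectField k] in
/-- `1 ⊗ d(c f) = c̄ ⊗ df` in `(P/(f)) ⊗ Ω`. -/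
lemma one_tmul_D_mul (f c : PS) :
    (1 : PS ⧸ Ideal.span {f}) ⊗ₜ[PS] KaehlerDifferential.D k PS (c * f) =
      (Ideal.Quotient.mk (Ideal.span {f}) c) ⊗ₜ[PS] KaehlerDifferential.D k PS f := by
  rw [Derivation.leibniz, TensorProduct.tmul_add, TensorProduct.tmul_smul, TensorProduct.tmul_smul,
    TensorProduct.smul_tmul', TensorProduct.smul_tmul']
  have h1 : c • (1 : PS ⧸ Ideal.span {f}) = Ideal.Quotient.mk (Ideal.span {f}) c :=
    smul_one_eq_mk _ c
  have h2 : f • (1 : PS ⧸ Ideal.span {f}) = 0 := by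
    rw [smul_one_eq_mk]
    exact Ideal.Quotient.eq_zero_iff_mem.mpr (Ideal.mem_span_singleton_self f)
  rw [h1, h2, TensorProduct.zero_tmul, add_zero]

include p hp in
/-- **Tjurina algebra as `T¹`** for an isolated hypersurface singularity in `k[[x,y,z]]`,
`k` perfect of characteristic `p`. -/
theorem main (f : PS)
    (hiso : ∃ N : ℕ, IsLocalRing.maximalIdeal PS ^ N ≤
      Ideal.span {f} ⊔ Ideal.span {g | ∃ D : Derivation k PS PS, g = D f}) :
    Subsingleton (Abelian.Ext.{u}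
        (ModuleCat.of (PS ⧸ Ideal.span {f}) (KaehlerDifferential k (PS ⧸ Ideal.span {f})))
        (ModuleCat.of (PS ⧸ Ideal.span {f}) (PS ⧸ Ideal.span {f})) 2) ∧
      Nonempty (Abelian.Ext.{u}
        (ModuleCat.of (PS ⧸ Ideal.span {f}) (KaehlerDifferential k (PS ⧸ Ideal.span {f})))
        (ModuleCat.of (PS ⧸ Ideal.span {f}) (PS ⧸ Ideal.span {f})) 1 ≃ₗ[PS ⧸ Ideal.span {f}]
        ((PS ⧸ Ideal.span {f}) ⧸ Ideal.map (Ideal.Quotient.mk (Ideal.span {f}))
          (Ideal.span {g | ∃ D : Derivation k PS PS, g = D f}))) := by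
  classical
  obtain ⟨N, hN⟩ := hiso
  set I : Ideal PS := Ideal.span {f} with hI
  set J : Ideal PS := Ideal.span {g | ∃ D : Derivation k PS PS, g = D f} with hJ
  have hX0 : (X 0 : PS) ≠ 0 := by
    intro h0
    have := congrArg (coeff (Finsupp.single 0 1)) h0
    rw [coeff_X, if_pos rfl, map_zero] at this
    exact one_ne_zero this
  -- `f ≠ 0`
  have hf0 : f ≠ 0 := by
    intro hf0
    have hJb : J = ⊥ := by
      rw [hJ, Ideal.span_eq_bot]
      rintro g ⟨D, rfl⟩
      rw [hf0, map_zero]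
    have hIb : I = ⊥ := by
      rw [hI, hf0]
      exact Ideal.span_singleton_eq_bot.mpr rfl
    rw [hIb, hJb, sup_bot_eq, le_bot_iff] at hN
    have hmem : (X 0 : PS) ^ N ∈ IsLocalRing.maximalIdeal PS ^ N :=
      Ideal.pow_mem_pow (Groth.Agent.H61.PS.X_mem_maximalIdeal 0) N
    rw [hN] at hmem
    exact pow_ne_zero N hX0 hmem
  -- `Ω` is free
  obtain ⟨e, he⟩ := Groth.Agent.H61.PSOmega.omegaEquiv_exists (Fin 3) k p
  haveI : Module.Free PS Ω[PS⁄k] := Module.Free.of_equiv e.symm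
  have hpJ : ∀ i, pderiv k i f ∈ J := fun i => Ideal.subset_span ⟨pderiv k i, rfl⟩
  -- the presentation
  set ω : (PS ⧸ I) ⊗[PS] Ω[PS⁄k] := (1 : PS ⧸ I) ⊗ₜ[PS] KaehlerDifferential.D k PS f with hω
  set d : (PS ⧸ I) →ₗ[PS ⧸ I] (PS ⧸ I) ⊗[PS] Ω[PS⁄k] :=
    LinearMap.toSpanSingleton (PS ⧸ I) _ ω with hd_def
  have hd_apply : ∀ a : PS ⧸ I, d a = a • ω := fun a => rfl
  have hsmulω : ∀ c : PS, (Ideal.Quotient.mk I c) • ω =
      (Ideal.Quotient.mk I c) ⊗ₜ[PS] KaehlerDifferential.D k PS f := by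
    intro c
    rw [hω, TensorProduct.smul_tmul', smul_eq_mul, mul_one]
  set π : (PS ⧸ I) ⊗[PS] Ω[PS⁄k] →ₗ[PS ⧸ I] Ω[(PS ⧸ I)⁄k] :=
    KaehlerDifferential.mapBaseChange k PS (PS ⧸ I) with hπ_def
  have hsurj : Function.Surjective (algebraMap PS (PS ⧸ I)) := Ideal.Quotient.mk_surjective
  have hπ : Function.Surjective π := KaehlerDifferential.mapBaseChange_surjective k PS _ hsurj
  have hex : Function.Exact d π := by
    have hκ := KaehlerDifferential.exact_kerCotangentToTensor_mapBaseChange k PS (PS ⧸ I) hsurj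
    intro y
    rw [hκ y]
    constructor
    · rintro ⟨c, rfl⟩
      obtain ⟨⟨x, hx⟩, rfl⟩ := Ideal.toCotangent_surjective _ c
      rw [KaehlerDifferential.kerCotangentToTensor_toCotangent]
      have hxI : x ∈ I := by
        have : algebraMap PS (PS ⧸ I) x = 0 := hx
        exact Ideal.Quotient.eq_zero_iff_mem.mp this
      obtain ⟨c, rfl⟩ := Ideal.mem_span_singleton'.mp hxI
      refine ⟨Ideal.Quotient.mk I c, ?_⟩
      rw [hd_apply, hsmulω]
      exact (one_tmul_D_mul k f c).symm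
    · rintro ⟨a, rfl⟩
      obtain ⟨c, rfl⟩ := Ideal.Quotient.mk_surjective a
      have hmem : c * f ∈ RingHom.ker (algebraMap PS (PS ⧸ I)) := by
        rw [RingHom.mem_ker]
        exact Ideal.Quotient.eq_zero_iff_mem.mpr (Ideal.mul_mem_left _ _ (Ideal.mem_span_singleton_self f))
      refine ⟨Ideal.toCotangent _ ⟨c * f, hmem⟩, ?_⟩
      rw [KaehlerDifferential.kerCotangentToTensor_toCotangent, hd_apply, hsmulω]
      exact one_tmul_D_mul k f c
  -- coordinates of `ω`
  have hωsum : ω = ∑ i, (Ideal.Quotient.mk I (pderiv k i f)) •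
      ((1 : PS ⧸ I) ⊗ₜ[PS] KaehlerDifferential.D k PS (X i)) := by
    rw [hω]
    conv_lhs => rw [Groth.Agent.H61.PSOmega.der_formula p (KaehlerDifferential.D k PS) f]
    rw [TensorProduct.tmul_sum]
    refine Finset.sum_congr rfl fun i _ => ?_
    rw [TensorProduct.tmul_smul, TensorProduct.smul_tmul', TensorProduct.smul_tmul',
      smul_one_eq_mk, smul_eq_mul, mul_one]
  -- injectivity
  have hd : Function.Injective d := by
    rw [injective_iff_map_eq_zero]
    intro a ha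
    obtain ⟨a0, rfl⟩ := Ideal.Quotient.mk_surjective a
    have hcoord : ∀ i, f ∣ a0 * pderiv k i f := by
      intro i
      set ψ : (PS ⧸ I) ⊗[PS] Ω[PS⁄k] →ₗ[PS ⧸ I] (PS ⧸ I) :=
        LinearMap.liftBaseChange (PS ⧸ I)
          ((Algebra.linearMap PS (PS ⧸ I)) ∘ₗ ((LinearMap.proj i) ∘ₗ e.toLinearMap)) with hψ
      have h1 : ψ (d (Ideal.Quotient.mk I a0)) = 0 := by rw [ha, map_zero]
      rw [hd_apply, hsmulω, hψ, LinearMap.liftBaseChange_tmul] at h1
      have h2 : ((Algebra.linearMap PS (PS ⧸ I)) ∘ₗ ((LinearMap.proj i) ∘ₗ e.toLinearMap))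
          (KaehlerDifferential.D k PS f) = Ideal.Quotient.mk I (pderiv k i f) := by
        simp only [LinearMap.comp_apply, LinearEquiv.coe_coe, LinearMap.proj_apply, he]
        rfl
      rw [h2, smul_eq_mul, ← map_mul, Ideal.Quotient.eq_zero_iff_mem] at h1
      exact Ideal.mem_span_singleton.mp h1
    have hall : ∀ g ∈ I ⊔ J, f ∣ g * a0 := by
      intro g hg
      obtain ⟨g1, hg1, g2, hg2, rfl⟩ := Submodule.mem_sup.mp hg
      rw [add_mul]
      apply dvd_add
      · obtain ⟨c, rfl⟩ := Ideal.mem_span_singleton'.mp hg1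
        exact ⟨c * a0, by ring⟩
      · rw [hJ] at hg2
        refine Submodule.span_induction (p := fun g _ => f ∣ g * a0) ?_ ?_ ?_ ?_ hg2
        · rintro _ ⟨D, rfl⟩
          rw [Groth.Agent.H61.PSOmega.der_formula p D f, Finset.sum_mul]
          refine Finset.dvd_sum fun i _ => ?_
          obtain ⟨c, hc⟩ := hcoord i
          refine ⟨c * D (X i), ?_⟩
          rw [smul_eq_mul]
          calc pderiv k i f * D (X i) * a0 = (a0 * pderiv k i f) * D (X i) := by ring
            _ = f * (c * D (X i)) := by rw [hc]; ring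
        · rw [zero_mul]; exact dvd_zero f
        · intro x y _ _ hx hy
          rw [add_mul]; exact dvd_add hx hy
        · intro c x _ hx
          rw [smul_eq_mul, mul_assoc]
          exact Dvd.dvd.mul_left hx c
    have hdvd := dvd_of_forall_mem_pow (i := (0 : Fin 3)) (j := 1) (by decide) f hf0 N a0
      (fun g hg => hall g (hN hg))
    exact Ideal.Quotient.eq_zero_iff_mem.mpr (Ideal.mem_span_singleton.mpr hdvd)
  haveI : Module.Projective (PS ⧸ I) ((PS ⧸ I) ⊗[PS] Ω[PS⁄k]) := inferInstance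
  refine ⟨subsingleton_ext2 d π hd hex hπ, ?_⟩
  obtain ⟨e1⟩ := Groth.Agent.H61.DualBC.nonempty_ext1Equiv (Y := PS ⧸ I) d π hd hex hπ
  set ev : ((PS ⧸ I) →ₗ[PS ⧸ I] (PS ⧸ I)) ≃ₗ[PS ⧸ I] (PS ⧸ I) :=
    LinearMap.ringLmapEquivSelf (PS ⧸ I) (PS ⧸ I) (PS ⧸ I) with hev
  have hmap : (LinearMap.range (LinearMap.lcomp (PS ⧸ I) (PS ⧸ I) d)).map
      (ev : _ →ₗ[PS ⧸ I] _) = (J.map (Ideal.Quotient.mk I) : Ideal (PS ⧸ I)) := by
    apply le_antisymm
    · rintro x ⟨_, ⟨ψ, rfl⟩, rfl⟩
      have hx : (ev : _ →ₗ[PS ⧸ I] _) (LinearMap.lcomp (PS ⧸ I) (PS ⧸ I) d ψ) = ψ ω := by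
        change ψ (d 1) = ψ ω
        rw [hd_apply, one_smul]
      rw [hx, hωsum, map_sum]
      refine Ideal.sum_mem _ fun i _ => ?_
      rw [map_smul, smul_eq_mul]
      exact Ideal.mul_mem_right _ _ (Ideal.mem_map_of_mem _ (hpJ i))
    · rw [Ideal.map_le_iff_le_comap, hJ, Ideal.span_le]
      rintro _ ⟨D, rfl⟩
      set ψ : (PS ⧸ I) ⊗[PS] Ω[PS⁄k] →ₗ[PS ⧸ I] (PS ⧸ I) :=
        LinearMap.liftBaseChange (PS ⧸ I)
          ((Algebra.linearMap PS (PS ⧸ I)) ∘ₗ D.liftKaehlerDifferential) with hψ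
      refine ⟨LinearMap.lcomp (PS ⧸ I) (PS ⧸ I) d ψ, ⟨ψ, rfl⟩, ?_⟩
      change ψ (d 1) = Ideal.Quotient.mk I (D f)
      rw [hd_apply, one_smul, hω, hψ, LinearMap.liftBaseChange_tmul, one_smul,
        LinearMap.comp_apply, Derivation.liftKaehlerDifferential_comp_D]
      rfl
  exact ⟨e1.symm.trans (Submodule.Quotient.equiv _ _ ev hmap)⟩

end Main

end Groth.Agent.H61.PSTjurina
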