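import Groth.Agent.H41.SheafGlueLim
import Groth.Agent.H8.QCohAffine
import Groth.Agent.H8.IsoCover
import Groth.Agent.H8.QCohQcqs

/-!
# Direct images of `M~` from affine opens and their transition maps

For an affine open `U` of a scheme `X` and a `Γ(X, U)`-module `M`, `PT hU M` is the direct image
on `X` of `M~` along `Spec Γ(X, U) ⟶ X`.  For affine opens `U' ≤ U` and a semilinear map
`M → M'` we construct the transition map `PT hU M ⟶ PT hU' M'` and compute it on the sections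
coming from `M`.
-/

set_option autoImplicit false
set_option linter.style.haveILetI false
set_option linter.unusedSectionVars false
universe u
open CategoryTheory CategoryTheory.Limits AlgebraicGeometry TopologicalSpace Opposite

noncomputable section

namespace Groth.Agent.H61.PushTilde

open Groth.Agent.H41.SheafGlueLim

/-! ### The comparison map on a spectrum -/

section Spec

variable {R R' : CommRingCat.{u}} (ρ : R ⟶ R') (M : ModuleCat.{u} R) (M' : ModuleCat.{u} R')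
  (φ : M →+ M') (hφ : ∀ (r : R) (m : M), φ (r • m) = ρ.hom r • φ m)

/-- The direct image of `M'~`. -/
abbrev G : (Spec R).Modules := (Scheme.Modules.pushforward (Spec.map ρ)).obj (tilde M')

/-- Global sections of the direct image, as an `R`-module (kept folded). -/
def Nψ : ModuleCat.{u} R := moduleSpecΓFunctor.obj (G ρ M')

/-- The map on global sections. -/
def ψfun (m : M) : Nψ ρ M' :=
  (tilde.toOpen M' ((Spec.map ρ) ⁻¹ᵁ ⊤)).hom (φ m)

lemma key (r : R) : (Spec.map ρ).app ⊤ ((Spec R).presheaf.map (⊤ : (Spec R).Opens).leTop.op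
      ((Scheme.ΓSpecIso R).inv r)) =
      (Spec R').presheaf.map ((Spec.map ρ) ⁻¹ᵁ ⊤).leTop.op ((Scheme.ΓSpecIso R').inv (ρ.hom r)) := by
  have h := Scheme.ΓSpecIso_inv_naturality ρ
  have h2 := congrArg (fun t => t.hom r) h
  simp only [CommRingCat.hom_comp, RingHom.comp_apply] at h2
  have e1 : ∀ (Z : Scheme.{u}) (x : Γ(Z, ⊤)),
      Z.presheaf.map (Opens.leTop (⊤ : Z.Opens)).op x = x := by
    intro Z x
    have : (Opens.leTop (⊤ : Z.Opens)).op = 𝟙 _ := rfl
    rw [this, Z.presheaf.map_id]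
    rfl
  rw [e1]
  refine Eq.trans ?_ (e1 (Spec R') _).symm
  exact h2.symm

include hφ in
lemma ψfun_smul (r : R) (m : M) : ψfun ρ M M' φ (r • m) = r • ψfun ρ M M' φ m := by
  unfold ψfun
  rw [hφ, map_smul]
  generalize (ModuleCat.Hom.hom (tilde.toOpen M' (Spec.map ρ ⁻¹ᵁ ⊤))) (φ m) = s
  change (show Γ(tilde M', (Spec.map ρ) ⁻¹ᵁ ⊤) from
      ((Spec R').presheaf.map (Opens.leTop ((Spec.map ρ) ⁻¹ᵁ ⊤)).op
        ((Scheme.ΓSpecIso R').inv (ρ.hom r))) • (show Γ(tilde M', (Spec.map ρ) ⁻¹ᵁ ⊤) from s)) =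
    (show Γ(tilde M', (Spec.map ρ) ⁻¹ᵁ ⊤) from
      ((Spec.map ρ).app ⊤ ((Spec R).presheaf.map (Opens.leTop (⊤ : (Spec R).Opens)).op
        ((Scheme.ΓSpecIso R).inv r))) • (show Γ(tilde M', (Spec.map ρ) ⁻¹ᵁ ⊤) from s))
  rw [key]

lemma ψfun_add (m₁ m₂ : M) :
    ψfun ρ M M' φ (m₁ + m₂) = ψfun ρ M M' φ m₁ + ψfun ρ M M' φ m₂ := by
  unfold ψfun
  rw [map_add]
  exact map_add _ _ _

/-- The map on global sections, linear. -/
def ψlin : M →ₗ[R] (Nψ ρ M') :=
  IsLinearMap.mk' (ψfun ρ M M' φ) ⟨ψfun_add ρ M M' φ, ψfun_smul ρ M M' φ hφ⟩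

/-- The map on global sections, as a morphism. -/
def ψ := ModuleCat.ofHom (ψlin ρ M M' φ hφ)

/-- The comparison map `M~ ⟶ (Spec ρ)_* M'~` attached to a semilinear map. -/
def θ : tilde M ⟶ G ρ M' :=
  (tilde.adjunction.homEquiv M (G ρ M')).symm (ψ ρ M M' φ hφ)

lemma θ_top (m : M) :
    (θ ρ M M' φ hφ).app ⊤ ((tilde.toOpen M ⊤).hom m) =
      (tilde.toOpen M' ((Spec.map ρ) ⁻¹ᵁ ⊤)).hom (φ m) := by
  have h := (tilde.adjunction.homEquiv M (G ρ M')).apply_symm_apply (ψ ρ M M' φ hφ)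
  rw [Adjunction.homEquiv_unit] at h
  have h2 := congrArg (fun t => t.hom m) h
  exact h2

lemma toOpen_res_apply (N : ModuleCat.{u} R) {O₁ O₂ : (Spec R).Opens} (i : O₂ ⟶ O₁) (m : N) :
    (tilde N).presheaf.map i.op ((tilde.toOpen N O₁).hom m) = (tilde.toOpen N O₂).hom m :=
  congrArg (fun t => t.hom m) (tilde.toOpen_res N O₁ O₂ i)

/-- The comparison map computed on the sections coming from `M`. -/
lemma θ_toOpen (O : (Spec R).Opens) (m : M) :
    (θ ρ M M' φ hφ).app O ((tilde.toOpen M O).hom m) =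
      (tilde.toOpen M' ((Spec.map ρ) ⁻¹ᵁ O)).hom (φ m) := by
  have h1 := toOpen_res_apply M (homOfLE (le_top : O ≤ ⊤)) m
  rw [← h1, Groth.Agent.H8.app_res, θ_top]
  exact toOpen_res_apply M' (homOfLE (show (Spec.map ρ) ⁻¹ᵁ O ≤ (Spec.map ρ) ⁻¹ᵁ ⊤ from
    fun _ _ => trivial)) (φ m)

end Spec

/-! ### Restriction along an inclusion `A ≤ B ≤ A` is bijective -/

theorem rs_bijective_of_le {X : Scheme.{u}} (M : X.Modules) {A B : X.Opens} (h : A ≤ B)
    (h' : B ≤ A) :
    Function.Bijective (fun x : Γ(M, B) => M.presheaf.map (homOfLE h).op x) := by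
  have hself : ∀ (C : X.Opens) (hC : C ≤ C) (x : Γ(M, C)),
      M.presheaf.map (homOfLE hC).op x = x := by
    intro C hC x
    rw [show (homOfLE hC).op = 𝟙 (op C) from rfl, M.presheaf.map_id]
    rfl
  refine Function.bijective_iff_has_inverse.mpr
    ⟨fun x => M.presheaf.map (homOfLE h').op x, fun x => ?_, fun x => ?_⟩
  · show M.presheaf.map (homOfLE h').op (M.presheaf.map (homOfLE h).op x) = x
    rw [Groth.Agent.H8.res_res M h' h x]
    exact hself _ _ x
  · show M.presheaf.map (homOfLE h).op (M.presheaf.map (homOfLE h').op x) = x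
    rw [Groth.Agent.H8.res_res M h h' x]
    exact hself _ _ x

/-! ### Bijectivity on sections can be checked on a basis -/

section Basis

variable {X : Scheme.{u}} {A B : X.Modules} (α : A ⟶ B) (U' : X.Opens) (P : X.Opens → Prop)
  (hP : ∀ (W : X.Opens), W ≤ U' → ∀ x ∈ W, ∃ V : X.Opens, P V ∧ x ∈ V ∧ V ≤ W)
  (hα : ∀ V, P V → V ≤ U' → Function.Bijective (α.app V))

include hP hα in
theorem app_injective_of_basis (W : X.Opens) (hW : W ≤ U') : Function.Injective (α.app W) := by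
  intro s t h
  refine Groth.Agent.H8.section_eq_of_cover A s t fun x hx => ?_
  obtain ⟨V, hPV, hxV, hVW⟩ := hP W hW x hx
  refine ⟨V, hVW, hxV, ?_⟩
  apply (hα V hPV (hVW.trans hW)).1
  rw [Groth.Agent.H8.app_res, Groth.Agent.H8.app_res, h]

include hP hα in
theorem app_bijective_of_basis (W : X.Opens) (hW : W ≤ U') : Function.Bijective (α.app W) := by
  classical
  refine ⟨app_injective_of_basis α U' P hP hα W hW, fun t => ?_⟩
  choose V hPV hxV hVW using fun z : W => hP W hW z.1 z.2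
  choose σ hσ using fun z : W => (hα (V z) (hPV z) ((hVW z).trans hW)).2
    (B.presheaf.map (homOfLE (hVW z)).op t)
  have hcompat : TopCat.Presheaf.IsCompatible A.presheaf V σ := by
    intro z z'
    change A.presheaf.map (homOfLE (inf_le_left : V z ⊓ V z' ≤ V z)).op (σ z) =
      A.presheaf.map (homOfLE (inf_le_right : V z ⊓ V z' ≤ V z')).op (σ z')
    apply app_injective_of_basis α U' P hP hα (V z ⊓ V z') (inf_le_left.trans ((hVW z).trans hW))
    rw [Groth.Agent.H8.app_res, Groth.Agent.H8.app_res, hσ, hσ, Groth.Agent.H8.res_res,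
      Groth.Agent.H8.res_res]
  have hcover : W ≤ iSup V := fun z hz => Opens.mem_iSup.mpr ⟨⟨z, hz⟩, hxV ⟨z, hz⟩⟩
  obtain ⟨s, hs, -⟩ := TopCat.Sheaf.existsUnique_gluing'
    (F := ⟨A.presheaf, A.isSheaf⟩) V W (fun z => homOfLE (hVW z)) hcover σ hcompat
  refine ⟨s, ?_⟩
  refine Groth.Agent.H8.section_eq_of_cover B _ _ fun x hx => ?_
  refine ⟨V ⟨x, hx⟩, hVW ⟨x, hx⟩, hxV ⟨x, hx⟩, ?_⟩
  rw [← Groth.Agent.H8.app_res]
  have h1 : A.presheaf.map (homOfLE (hVW ⟨x, hx⟩)).op s = σ ⟨x, hx⟩ := hs ⟨x, hx⟩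
  rw [h1, hσ]

end Basis

/-! ### Direct images from an affine open -/

section Sch

variable {X : Scheme.{u}} {U : X.Opens} (hU : IsAffineOpen U) (M : ModuleCat.{u} Γ(X, U))

/-- The direct image on `X` of `M~`. -/
abbrev PT : X.Modules := (Scheme.Modules.pushforward hU.fromSpec).obj (tilde M)

/-- The section over `W` coming from `m`. -/
def toPT (W : X.Opens) (m : M) : Γ(PT hU M, W) := (tilde.toOpen M (hU.fromSpec ⁻¹ᵁ W)).hom m

lemma res_toPT {W W' : X.Opens} (h : W' ≤ W) (m : M) :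
    (PT hU M).presheaf.map (homOfLE h).op (toPT hU M W m) = toPT hU M W' m :=
  toOpen_res_apply M ((Opens.map hU.fromSpec.base).map (homOfLE h)) m

lemma toPT_add (W : X.Opens) (m₁ m₂ : M) :
    toPT hU M W (m₁ + m₂) = toPT hU M W m₁ + toPT hU M W m₂ := by
  unfold toPT
  rw [map_add]
  rfl

lemma toPT_zero (W : X.Opens) : toPT hU M W 0 = 0 := by
  unfold toPT
  rw [map_zero]
  rfl

/-- The ring identity behind the compatibility of the two module structures. -/
lemma fromSpec_app_res {W : X.Opens} (h : W ≤ U) (r : Γ(X, U)) :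
    hU.fromSpec.app W (X.presheaf.map (homOfLE h).op r) =
      (Spec Γ(X, U)).presheaf.map (hU.fromSpec ⁻¹ᵁ W).leTop.op
        ((Scheme.ΓSpecIso Γ(X, U)).inv r) := by
  have hn := hU.fromSpec.naturality (homOfLE h).op
  have h1 := congrArg (fun t => t.hom r) hn
  simp only [CommRingCat.hom_comp, RingHom.comp_apply] at h1
  refine h1.trans ?_
  rw [hU.fromSpec_app_self]
  simp only [CommRingCat.hom_comp, RingHom.comp_apply]
  rw [← CommRingCat.comp_apply, ← Functor.map_comp]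
  rfl

/-- The two module structures on the sections of `PT` over `W ≤ U` agree. -/
lemma smul_eq {W : X.Opens} (h : W ≤ U) (r : Γ(X, U)) (s : Γ(PT hU M, W)) :
    X.presheaf.map (homOfLE h).op r • s =
      (show Γ(PT hU M, W) from (r • (show Γ(tilde M, hU.fromSpec ⁻¹ᵁ W) from s))) := by
  change (show Γ(tilde M, hU.fromSpec ⁻¹ᵁ W) from
    (hU.fromSpec.app W (X.presheaf.map (homOfLE h).op r)) •
      (show Γ(tilde M, hU.fromSpec ⁻¹ᵁ W) from s)) = _
  rw [fromSpec_app_res hU h r]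
  rfl

lemma toPT_smul {W : X.Opens} (h : W ≤ U) (r : Γ(X, U)) (m : M) :
    toPT hU M W (r • m) = X.presheaf.map (homOfLE h).op r • toPT hU M W m := by
  rw [smul_eq hU M h]
  unfold toPT
  rw [map_smul]
  rfl

lemma toOpen_bijective_of_eq_top (N : ModuleCat.{u} Γ(X, U)) (O : (Spec Γ(X, U)).Opens)
    (hO : O = ⊤) : Function.Bijective (tilde.toOpen N O).hom := by
  subst hO
  exact ConcreteCategory.bijective_of_isIso (tilde.toOpen N ⊤)

/-- The sections over `U` are `M`. -/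
lemma toPT_bijective : Function.Bijective (toPT hU M U) :=
  toOpen_bijective_of_eq_top M _ hU.fromSpec_preimage_self

lemma preimage_inf_eq {U' : X.Opens} (hUU' : U ≤ U') (W : X.Opens) :
    hU.fromSpec ⁻¹ᵁ (W ⊓ U') = hU.fromSpec ⁻¹ᵁ W := by
  apply le_antisymm
  · exact (Opens.map hU.fromSpec.base).monotone inf_le_left
  · intro x hx
    refine ⟨hx, hUU' ?_⟩
    have : hU.fromSpec.base x ∈ hU.fromSpec.opensRange := ⟨x, rfl⟩
    rwa [hU.opensRange_fromSpec] at this

/-- `PT hU M` is supported on `U`. -/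
lemma res_inf_bijective {U' : X.Opens} (hUU' : U ≤ U') (W : X.Opens) :
    Function.Bijective (fun x : Γ(PT hU M, W) =>
      (PT hU M).presheaf.map (homOfLE (inf_le_left : W ⊓ U' ≤ W)).op x) := by
  have e := preimage_inf_eq hU hUU' W
  exact rs_bijective_of_le (tilde M)
    (A := hU.fromSpec ⁻¹ᵁ (W ⊓ U')) (B := hU.fromSpec ⁻¹ᵁ W)
    ((Opens.map hU.fromSpec.base).monotone inf_le_left) e.ge

lemma spec_L1 {R : CommRingCat.{u}} (N : (Spec R).Modules) [N.IsQuasicoherent] (f : R)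
    (O : (Spec R).Opens) (hO : O = PrimeSpectrum.basicOpen f) (y : Γ(N, O)) :
    ∃ (n : ℕ) (x : Γ(N, ⊤)), f ^ n • y = N.presheaf.map (homOfLE (le_top : O ≤ ⊤)).op x := by
  subst hO
  exact Groth.Agent.H8.spec_exists_smul_eq_res N f y

lemma spec_L2 {R : CommRingCat.{u}} (N : (Spec R).Modules) [N.IsQuasicoherent] (f : R)
    (O : (Spec R).Opens) (hO : O = PrimeSpectrum.basicOpen f) (x : Γ(N, ⊤))
    (hx : N.presheaf.map (homOfLE (le_top : O ≤ ⊤)).op x = 0) : ∃ n : ℕ, f ^ n • x = 0 := by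
  subst hO
  exact Groth.Agent.H8.spec_exists_smul_eq_zero N f x hx

/-- Sections of `PT hU M` over a basic open of `U` are fractions. -/
theorem exists_smul_eq_toPT (a : Γ(X, U)) (W : X.Opens) (hW : W = X.basicOpen a)
    (hWU : W ≤ U) (y : Γ(PT hU M, W)) :
    ∃ (n : ℕ) (m : M), (X.presheaf.map (homOfLE hWU).op a) ^ n • y = toPT hU M W m := by
  have hO : hU.fromSpec ⁻¹ᵁ W = PrimeSpectrum.basicOpen a := by
    rw [hW]; exact hU.fromSpec_preimage_basicOpen a
  obtain ⟨n, x, hx⟩ := spec_L1 (tilde M) a (hU.fromSpec ⁻¹ᵁ W) hO y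
  obtain ⟨m, rfl⟩ := (toOpen_bijective_of_eq_top M ⊤ rfl).2 x
  refine ⟨n, m, ?_⟩
  rw [← map_pow, smul_eq hU M hWU]
  refine Eq.trans hx ?_
  exact toOpen_res_apply M (homOfLE (le_top : hU.fromSpec ⁻¹ᵁ W ≤ ⊤)) m

/-- An element of `M` vanishing over a basic open of `U` is killed by a power. -/
theorem exists_smul_eq_zero_of_toPT (a : Γ(X, U)) (W : X.Opens) (hW : W = X.basicOpen a)
    (m : M) (hm : toPT hU M W m = 0) : ∃ n : ℕ, a ^ n • m = 0 := by
  have hO : hU.fromSpec ⁻¹ᵁ W = PrimeSpectrum.basicOpen a := by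
    rw [hW]; exact hU.fromSpec_preimage_basicOpen a
  have h1 : (tilde M).presheaf.map (homOfLE (le_top : hU.fromSpec ⁻¹ᵁ W ≤ ⊤)).op
      ((tilde.toOpen M ⊤).hom m) = 0 :=
    (toOpen_res_apply M (homOfLE (le_top : hU.fromSpec ⁻¹ᵁ W ≤ ⊤)) m).trans hm
  obtain ⟨n, hn⟩ := spec_L2 (tilde M) a (hU.fromSpec ⁻¹ᵁ W) hO _ h1
  refine ⟨n, ?_⟩
  apply (toOpen_bijective_of_eq_top M ⊤ rfl).1
  rw [map_smul, map_zero]
  exact hn

end Sch

/-! ### Morphisms out of `PT hU M` are determined by their values on `M` -/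

section Ext

variable {X : Scheme.{u}} {U : X.Opens} (hU : IsAffineOpen U) (M : ModuleCat.{u} Γ(X, U))

theorem app_eq_of_toPT {B : X.Modules} (α β : PT hU M ⟶ B)
    (h : ∀ m : M, α.app U (toPT hU M U m) = β.app U (toPT hU M U m))
    (W : X.Opens) (hW : W ≤ U) (s : Γ(PT hU M, W)) : α.app W s = β.app W s := by
  refine Groth.Agent.H8.section_eq_of_cover B _ _ fun x hx => ?_
  obtain ⟨a, ha₁, ha₂⟩ := hU.exists_basicOpen_le ⟨x, hx⟩ (hW hx)
  refine ⟨X.basicOpen a, ha₁, ha₂, ?_⟩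
  rw [← Groth.Agent.H8.app_res, ← Groth.Agent.H8.app_res]
  set y := (PT hU M).presheaf.map (homOfLE ha₁).op s with hy
  obtain ⟨n, m, hnm⟩ := exists_smul_eq_toPT hU M a (X.basicOpen a) rfl (X.basicOpen_le a) y
  have hu : IsUnit ((X.presheaf.map (homOfLE (X.basicOpen_le a)).op a) ^ n) :=
    (RingedSpace.isUnit_res_basicOpen X.toRingedSpace a).pow n
  have e1 : ∀ γ : PT hU M ⟶ B, (X.presheaf.map (homOfLE (X.basicOpen_le a)).op a) ^ n •
      γ.app (X.basicOpen a) y =
      B.presheaf.map (homOfLE (X.basicOpen_le a)).op (γ.app U (toPT hU M U m)) := by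
    intro γ
    rw [← Scheme.Modules.Hom.app_smul, hnm, ← res_toPT hU M (X.basicOpen_le a) m,
      Groth.Agent.H8.app_res]
  have e2 := (e1 α).trans ((congrArg _ (h m)).trans (e1 β).symm)
  exact hu.smul_left_cancel.mp e2

theorem hom_ext_of_toPT {B : X.Modules}
    (hB : ∀ W : X.Opens, Function.Injective (fun x : Γ(B, W) =>
      B.presheaf.map (homOfLE (inf_le_left : W ⊓ U ≤ W)).op x))
    (α β : PT hU M ⟶ B)
    (h : ∀ m : M, α.app U (toPT hU M U m) = β.app U (toPT hU M U m)) : α = β := by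
  refine Scheme.Modules.hom_ext _ _ fun W => ?_
  refine ConcreteCategory.hom_ext _ _ fun s => ?_
  apply hB W
  show B.presheaf.map (homOfLE (inf_le_left : W ⊓ U ≤ W)).op (α.app W s) =
    B.presheaf.map (homOfLE (inf_le_left : W ⊓ U ≤ W)).op (β.app W s)
  rw [← Groth.Agent.H8.app_res, ← Groth.Agent.H8.app_res]
  exact app_eq_of_toPT hU M α β h (W ⊓ U) inf_le_right _

end Ext

/-! ### Transition maps -/

section Trans

variable {X : Scheme.{u}} {U U' : X.Opens} (hU : IsAffineOpen U) (hU' : IsAffineOpen U')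
  (hle : U' ≤ U) (M : ModuleCat.{u} Γ(X, U)) (M' : ModuleCat.{u} Γ(X, U'))
  (φ : M →+ M')
  (hφ : ∀ (r : Γ(X, U)) (m : M), φ (r • m) = X.presheaf.map (homOfLE hle).op r • φ m)

/-- The transition map `PT hU M ⟶ PT hU' M'` attached to a semilinear map. -/
def trans : PT hU M ⟶ PT hU' M' :=
  (Scheme.Modules.pushforward hU.fromSpec).map
      (θ (X.presheaf.map (homOfLE hle).op) M M' φ hφ) ≫
    (Scheme.Modules.pushforwardComp (Spec.map (X.presheaf.map (homOfLE hle).op))
      hU.fromSpec).hom.app (tilde M') ≫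
    (Scheme.Modules.pushforwardCongr (hU.map_fromSpec hU' (homOfLE hle).op)).hom.app (tilde M')

/-- The transition map computed on the sections coming from `M`. -/
theorem trans_toPT (W : X.Opens) (m : M) :
    (trans hU hU' hle M M' φ hφ).app W (toPT hU M W m) = toPT hU' M' W (φ m) := by
  unfold trans
  rw [Scheme.Modules.Hom.comp_app, Scheme.Modules.Hom.comp_app,
    Scheme.Modules.pushforwardComp_hom_app_app, Scheme.Modules.pushforwardCongr_hom_app_app,
    Scheme.Modules.pushforward_map_app]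
  change (tilde M').presheaf.map _ ((θ (X.presheaf.map (homOfLE hle).op) M M' φ hφ).app
    (hU.fromSpec ⁻¹ᵁ W) ((tilde.toOpen M (hU.fromSpec ⁻¹ᵁ W)).hom m)) = _
  rw [θ_toOpen]
  exact toOpen_res_apply M' _ (φ m)

end Trans

section Functoriality

variable {X : Scheme.{u}} {U U' U'' : X.Opens} (hU : IsAffineOpen U) (hU' : IsAffineOpen U')
  (hU'' : IsAffineOpen U'')

theorem trans_id (M : ModuleCat.{u} Γ(X, U)) (hle : U ≤ U) (φ : M →+ M)
    (hφ : ∀ (r : Γ(X, U)) (m : M), φ (r • m) = X.presheaf.map (homOfLE hle).op r • φ m)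
    (hid : ∀ m, φ m = m) : trans hU hU hle M M φ hφ = 𝟙 _ := by
  refine hom_ext_of_toPT hU M (fun W => (res_inf_bijective hU M le_rfl W).1) _ _ fun m => ?_
  rw [trans_toPT, hid]
  rfl

theorem trans_comp (M : ModuleCat.{u} Γ(X, U)) (M' : ModuleCat.{u} Γ(X, U'))
    (M'' : ModuleCat.{u} Γ(X, U''))
    (h₁ : U' ≤ U) (h₂ : U'' ≤ U') (h₃ : U'' ≤ U)
    (φ₁ : M →+ M')
    (hφ₁ : ∀ (r : Γ(X, U)) (m : M), φ₁ (r • m) = X.presheaf.map (homOfLE h₁).op r • φ₁ m)
    (φ₂ : M' →+ M'')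
    (hφ₂ : ∀ (r : Γ(X, U')) (m : M'), φ₂ (r • m) = X.presheaf.map (homOfLE h₂).op r • φ₂ m)
    (φ₃ : M →+ M'')
    (hφ₃ : ∀ (r : Γ(X, U)) (m : M), φ₃ (r • m) = X.presheaf.map (homOfLE h₃).op r • φ₃ m)
    (hc : ∀ m, φ₂ (φ₁ m) = φ₃ m) :
    trans hU hU' h₁ M M' φ₁ hφ₁ ≫ trans hU' hU'' h₂ M' M'' φ₂ hφ₂ =
      trans hU hU'' h₃ M M'' φ₃ hφ₃ := by
  refine hom_ext_of_toPT hU M (fun W => (res_inf_bijective hU'' M'' h₃ W).1) _ _ fun m => ?_
  rw [Scheme.Modules.Hom.comp_app]
  change (trans hU' hU'' h₂ M' M'' φ₂ hφ₂).app U ((trans hU hU' h₁ M M' φ₁ hφ₁).app U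
    (toPT hU M U m)) = _
  rw [trans_toPT, trans_toPT, trans_toPT, hc]

end Functoriality

/-! ### Bijectivity of the transition maps for localizations -/

section Bij

variable {X : Scheme.{u}} {U U' : X.Opens} (hU : IsAffineOpen U) (hU' : IsAffineOpen U')
  (hle : U' ≤ U) (M : ModuleCat.{u} Γ(X, U)) (M' : ModuleCat.{u} Γ(X, U'))
  (φ : M →+ M')
  (hφ : ∀ (r : Γ(X, U)) (m : M), φ (r • m) = X.presheaf.map (homOfLE hle).op r • φ m)
  (r : Γ(X, U)) (hr : U' = X.basicOpen r)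
  (hφ1 : ∀ m' : M', ∃ (k : ℕ) (m : M), (X.presheaf.map (homOfLE hle).op r) ^ k • m' = φ m)
  (hφ2 : ∀ m : M, φ m = 0 → ∃ k : ℕ, r ^ k • m = 0)

include hr in
lemma isUnit_res_of_le (V : X.Opens) (hVU' : V ≤ U') :
    IsUnit (X.presheaf.map (homOfLE (hVU'.trans hle)).op r) := by
  subst hr
  have h1 : IsUnit (X.presheaf.map (homOfLE (X.basicOpen_le r)).op r) :=
    RingedSpace.isUnit_res_basicOpen X.toRingedSpace r
  have h2 := h1.map (X.presheaf.map (homOfLE hVU').op).hom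
  rwa [show (X.presheaf.map (homOfLE hVU').op).hom
    (X.presheaf.map (homOfLE (X.basicOpen_le r)).op r) =
    X.presheaf.map (homOfLE (hVU'.trans hle)).op r from
      Groth.Agent.H8.ringRes_res hVU' (X.basicOpen_le r) r] at h2

include hr hφ1 hφ2 in
theorem trans_app_bijective_basicOpen (a : Γ(X, U)) (ha : X.basicOpen a ≤ U') :
    Function.Bijective ((trans hU hU' hle M M' φ hφ).app (X.basicOpen a)) := by
  have hVU : X.basicOpen a ≤ U := X.basicOpen_le a
  have hW : X.basicOpen a = X.basicOpen (X.presheaf.map (homOfLE hle).op a) := by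
    rw [X.basicOpen_res]; exact (inf_eq_right.mpr ha).symm
  have hau : IsUnit (X.presheaf.map (homOfLE hVU).op a) :=
    RingedSpace.isUnit_res_basicOpen X.toRingedSpace a
  have hru : IsUnit (X.presheaf.map (homOfLE hVU).op r) := isUnit_res_of_le hle r hr _ ha
  have ea : X.presheaf.map (homOfLE ha).op (X.presheaf.map (homOfLE hle).op a) =
      X.presheaf.map (homOfLE hVU).op a := Groth.Agent.H8.ringRes_res ha hle a
  have er : X.presheaf.map (homOfLE ha).op (X.presheaf.map (homOfLE hle).op r) =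
      X.presheaf.map (homOfLE hVU).op r := Groth.Agent.H8.ringRes_res ha hle r
  constructor
  · have key : ∀ y, (trans hU hU' hle M M' φ hφ).app (X.basicOpen a) y = 0 → y = 0 := by
      intro y hy
      obtain ⟨n, m, hnm⟩ := exists_smul_eq_toPT hU M a (X.basicOpen a) rfl hVU y
      have h1 : toPT hU' M' (X.basicOpen a) (φ m) = 0 := by
        rw [← trans_toPT hU hU' hle M M' φ hφ (X.basicOpen a) m, ← hnm,
          Scheme.Modules.Hom.app_smul, hy, smul_zero]
      obtain ⟨k, hk⟩ := exists_smul_eq_zero_of_toPT hU' M' _ (X.basicOpen a) hW (φ m) h1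
      have h2 : φ (a ^ k • m) = 0 := by rw [hφ, map_pow]; exact hk
      obtain ⟨j, hj⟩ := hφ2 _ h2
      have h3 : (X.presheaf.map (homOfLE hVU).op r) ^ j • (X.presheaf.map (homOfLE hVU).op a) ^ k •
          toPT hU M (X.basicOpen a) m = 0 := by
        rw [← map_pow, ← map_pow, ← toPT_smul hU M hVU, ← toPT_smul hU M hVU, hj, toPT_zero]
      have h4 : toPT hU M (X.basicOpen a) m = 0 :=
        ((hau.pow k).smul_eq_zero).mp (((hru.pow j).smul_eq_zero).mp h3)
      rw [h4] at hnm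
      exact ((hau.pow n).smul_eq_zero).mp hnm
    intro y₁ y₂ h
    have := key (y₁ - y₂) (by rw [map_sub, h, sub_self])
    exact sub_eq_zero.mp this
  · intro y'
    obtain ⟨n, m', hnm'⟩ := exists_smul_eq_toPT hU' M' _ (X.basicOpen a) hW ha y'
    rw [ea] at hnm'
    obtain ⟨k, m, hkm⟩ := hφ1 m'
    have e1 : toPT hU' M' (X.basicOpen a) (φ m) =
        (X.presheaf.map (homOfLE hVU).op r) ^ k • toPT hU' M' (X.basicOpen a) m' := by
      rw [← hkm, toPT_smul hU' M' ha, map_pow, er]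
    have e2 := trans_toPT hU hU' hle M M' φ hφ (X.basicOpen a) m
    obtain ⟨v, hv⟩ := (hru.pow k).mul (hau.pow n)
    refine ⟨(↑v⁻¹ : Γ(X, X.basicOpen a)) • toPT hU M (X.basicOpen a) m, ?_⟩
    rw [Scheme.Modules.Hom.app_smul, e2, e1, ← hnm', smul_smul, smul_smul, mul_assoc, ← hv,
      Units.inv_mul, one_smul]

include hr hφ1 hφ2 in
/-- For a localization, the transition map is bijective on the sections over every open of the
smaller affine open. -/
theorem trans_app_bijective (W : X.Opens) (hW : W ≤ U') :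
    Function.Bijective ((trans hU hU' hle M M' φ hφ).app W) := by
  refine app_bijective_of_basis (trans hU hU' hle M M' φ hφ) U'
    (fun V => ∃ a : Γ(X, U), V = X.basicOpen a) ?_ ?_ W hW
  · intro W hW x hx
    obtain ⟨a, ha₁, ha₂⟩ := hU.exists_basicOpen_le ⟨x, hx⟩ (hle (hW hx))
    exact ⟨X.basicOpen a, ⟨a, rfl⟩, ha₂, ha₁⟩
  · rintro V ⟨a, rfl⟩ hV
    exact trans_app_bijective_basicOpen hU hU' hle M M' φ hφ r hr hφ1 hφ2 a hV

end Bij

end Groth.Agent.H61.PushTilde
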