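import Mathlib

/-!
# A concrete quasi-isomorphism criterion for two-term complexes of modules

* `quasiIso_of` : a map of short complexes of modules is a quasi-isomorphism if it is bijective on
  `ker g / im f`, stated elementwise.
* `quasiIso_of_two_term` : a map of cochain complexes of modules concentrated in degrees `-1, 0` is
  a quasi-isomorphism if it is bijective on `ker d` and on `coker d`, stated elementwise.
-/

set_option autoImplicit false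
universe u v
open CategoryTheory

namespace Groth.Agent.H61.QuasiIsoDouble

section ShortComplex

variable {R : Type u} [Ring R] {S₁ S₂ : ShortComplex (ModuleCat.{v} R)} (ψ : S₁ ⟶ S₂)

lemma comm₂₃_apply (x : S₁.X₂) : S₂.g.hom (ψ.τ₂.hom x) = ψ.τ₃.hom (S₁.g.hom x) :=
  congr($(ψ.comm₂₃).hom x)

lemma comm₁₂_apply (x : S₁.X₁) : S₂.f.hom (ψ.τ₁.hom x) = ψ.τ₂.hom (S₁.f.hom x) :=
  congr($(ψ.comm₁₂).hom x)

/-- The restriction of `τ₂` to cycles. -/
noncomputable def cyc : LinearMap.ker S₁.g.hom →ₗ[R] LinearMap.ker S₂.g.hom :=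
  ψ.τ₂.hom.restrict (p := LinearMap.ker S₁.g.hom) (q := LinearMap.ker S₂.g.hom) (fun x hx => by
    rw [LinearMap.mem_ker] at hx ⊢
    rw [comm₂₃_apply, hx, map_zero])

lemma cyc_coe (x : LinearMap.ker S₁.g.hom) : ((cyc ψ x : LinearMap.ker S₂.g.hom) : S₂.X₂) =
    ψ.τ₂.hom x.1 := rfl

lemma range_le : LinearMap.range S₁.moduleCatToCycles ≤
    (LinearMap.range S₂.moduleCatToCycles).comap (cyc ψ) := by
  rintro _ ⟨s, rfl⟩
  refine ⟨ψ.τ₁.hom s, Subtype.ext ?_⟩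
  exact comm₁₂_apply ψ s

/-- Explicit homology map data for modules. -/
noncomputable def mapData : ShortComplex.LeftHomologyMapData ψ S₁.moduleCatLeftHomologyData
    S₂.moduleCatLeftHomologyData where
  φK := ModuleCat.ofHom (cyc ψ)
  φH := ModuleCat.ofHom (Submodule.mapQ _ _ (cyc ψ) (range_le ψ))
  commi := by
    ext x
    rfl
  commf' := by
    ext x
    exact Subtype.ext (comm₁₂_apply ψ x).symm
  commπ := by
    ext x
    rfl

/-- A map of short complexes of modules is a quasi-isomorphism if it is bijective on homology,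
elementwise. -/
theorem quasiIso_of
    (hs : ∀ y : S₂.X₂, S₂.g.hom y = 0 →
      ∃ x : S₁.X₂, S₁.g.hom x = 0 ∧ ∃ t : S₂.X₁, ψ.τ₂.hom x = y + S₂.f.hom t)
    (hi : ∀ x : S₁.X₂, S₁.g.hom x = 0 → (∃ t : S₂.X₁, ψ.τ₂.hom x = S₂.f.hom t) →
      ∃ s : S₁.X₁, x = S₁.f.hom s) : ShortComplex.QuasiIso ψ := by
  rw [(mapData ψ).quasiIso_iff, ConcreteCategory.isIso_iff_bijective]
  show Function.Bijective (Submodule.mapQ _ _ (cyc ψ) (range_le ψ))
  constructor
  · rw [injective_iff_map_eq_zero]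
    intro a ha
    obtain ⟨k, rfl⟩ := Submodule.Quotient.mk_surjective _ a
    rw [Submodule.mapQ_apply, Submodule.Quotient.mk_eq_zero] at ha
    obtain ⟨t, ht⟩ := ha
    have h1 : ψ.τ₂.hom k.1 = S₂.f.hom t := (congrArg Subtype.val ht).symm
    obtain ⟨s, hs'⟩ := hi k.1 (LinearMap.mem_ker.mp k.2) ⟨t, h1⟩
    rw [Submodule.Quotient.mk_eq_zero]
    exact ⟨s, Subtype.ext hs'.symm⟩
  · intro b
    obtain ⟨k, rfl⟩ := Submodule.Quotient.mk_surjective _ b
    obtain ⟨x, hx, t, hxt⟩ := hs k.1 (LinearMap.mem_ker.mp k.2)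
    refine ⟨Submodule.Quotient.mk ⟨x, LinearMap.mem_ker.mpr hx⟩, ?_⟩
    rw [Submodule.mapQ_apply, Submodule.Quotient.eq]
    refine ⟨t, Subtype.ext ?_⟩
    show S₂.f.hom t = ψ.τ₂.hom x - k.1
    rw [hxt]
    abel

end ShortComplex

section Complex

variable {R : Type u} [Ring R] {K L : CochainComplex (ModuleCat.{v} R) ℤ} (φ : K ⟶ L)

/-- A map of cochain complexes of modules concentrated in degrees `-1, 0` is a quasi-isomorphism
if it is bijective on `ker d` and on `coker d` (elementwise). -/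
theorem quasiIso_of_two_term
    (hK : ∀ i : ℤ, i ≠ -1 → i ≠ 0 → Limits.IsZero (K.X i))
    (hL : ∀ i : ℤ, i ≠ -1 → i ≠ 0 → Limits.IsZero (L.X i))
    (h1 : ∀ y : L.X (-1), (L.d (-1) 0).hom y = 0 →
      ∃ x : K.X (-1), (K.d (-1) 0).hom x = 0 ∧ (φ.f (-1)).hom x = y)
    (h2 : ∀ x : K.X (-1), (K.d (-1) 0).hom x = 0 → (φ.f (-1)).hom x = 0 → x = 0)
    (h3 : ∀ z : L.X 0, ∃ (w : K.X 0) (y : L.X (-1)), (φ.f 0).hom w = z + (L.d (-1) 0).hom y)
    (h4 : ∀ w : K.X 0, (∃ y : L.X (-1), (φ.f 0).hom w = (L.d (-1) 0).hom y) →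
      ∃ x : K.X (-1), w = (K.d (-1) 0).hom x) :
    QuasiIso φ := by
  rw [quasiIso_iff]
  intro i
  by_cases hi1 : i = -1
  · subst hi1
    rw [quasiIsoAt_iff' φ (-2) (-1) 0 (by simp) (by simp)]
    apply quasiIso_of
    · intro y hy
      obtain ⟨x, hx, hxy⟩ := h1 y hy
      refine ⟨x, hx, 0, ?_⟩
      rw [map_zero, add_zero]
      exact hxy
    · intro x hx ⟨t, ht⟩
      have ht0 : t = 0 :=
        (ModuleCat.subsingleton_of_isZero (hL (-2) (by decide) (by decide))).elim _ _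
      refine ⟨0, ?_⟩
      rw [map_zero]
      apply h2 x hx
      refine Eq.trans ht ?_
      rw [ht0, map_zero]
      rfl
  · by_cases hi0 : i = 0
    · subst hi0
      rw [quasiIsoAt_iff' φ (-1) 0 1 (by simp) (by simp)]
      apply quasiIso_of
      · intro z _
        obtain ⟨w, y, h⟩ := h3 z
        refine ⟨w, ?_, y, h⟩
        exact (ModuleCat.subsingleton_of_isZero (hK 1 (by decide) (by decide))).elim _ _
      · intro w _ ⟨t, ht⟩
        exact h4 w ⟨t, ht⟩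
    · have eK : K.ExactAt i := ShortComplex.exact_of_isZero_X₂ _ (hK i hi1 hi0)
      have eL : L.ExactAt i := ShortComplex.exact_of_isZero_X₂ _ (hL i hi1 hi0)
      rw [quasiIsoAt_iff_exactAt φ i eK]
      exact eL

/-- Transported form of `quasiIso_of_two_term`. -/
theorem quasiIso_of_two_term' {M₁ M₀ N₁ N₀ : Type v} [AddCommGroup M₁] [AddCommGroup M₀]
    [AddCommGroup N₁] [AddCommGroup N₀] [Module R M₁] [Module R M₀] [Module R N₁] [Module R N₀]
    (hK : ∀ i : ℤ, i ≠ -1 → i ≠ 0 → Limits.IsZero (K.X i))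
    (hL : ∀ i : ℤ, i ≠ -1 → i ≠ 0 → Limits.IsZero (L.X i))
    (eK₁ : K.X (-1) ≃ₗ[R] M₁) (eK₀ : K.X 0 ≃ₗ[R] M₀) (eL₁ : L.X (-1) ≃ₗ[R] N₁)
    (eL₀ : L.X 0 ≃ₗ[R] N₀) (d : M₁ →ₗ[R] M₀) (d' : N₁ →ₗ[R] N₀) (f₁ : M₁ →ₗ[R] N₁)
    (f₀ : M₀ →ₗ[R] N₀)
    (hd : ∀ x, eK₀ ((K.d (-1) 0).hom x) = d (eK₁ x))
    (hd' : ∀ y, eL₀ ((L.d (-1) 0).hom y) = d' (eL₁ y))
    (hf₁ : ∀ x, eL₁ ((φ.f (-1)).hom x) = f₁ (eK₁ x))
    (hf₀ : ∀ w, eL₀ ((φ.f 0).hom w) = f₀ (eK₀ w))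
    (h1 : ∀ y, d' y = 0 → ∃ x, d x = 0 ∧ f₁ x = y) (h2 : ∀ x, d x = 0 → f₁ x = 0 → x = 0)
    (h3 : ∀ z, ∃ w y, f₀ w = z + d' y) (h4 : ∀ w, (∃ y, f₀ w = d' y) → ∃ x, w = d x) :
    QuasiIso φ := by
  apply quasiIso_of_two_term φ hK hL
  · intro y hy
    have h0 : d' (eL₁ y) = 0 := by rw [← hd', hy, map_zero]
    obtain ⟨x, hx, hxy⟩ := h1 _ h0
    refine ⟨eK₁.symm x, ?_, ?_⟩
    · apply eK₀.injective
      rw [hd, LinearEquiv.apply_symm_apply, hx, map_zero]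
    · apply eL₁.injective
      rw [hf₁, LinearEquiv.apply_symm_apply, hxy]
  · intro x hx hfx
    have h0 := h2 (eK₁ x) (by rw [← hd, hx, map_zero]) (by rw [← hf₁, hfx, map_zero])
    exact eK₁.injective (h0.trans (map_zero _).symm)
  · intro z
    obtain ⟨w, y, h⟩ := h3 (eL₀ z)
    refine ⟨eK₀.symm w, eL₁.symm y, ?_⟩
    apply eL₀.injective
    rw [hf₀, LinearEquiv.apply_symm_apply, map_add, hd', LinearEquiv.apply_symm_apply, h]
  · rintro w ⟨y, hy⟩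
    obtain ⟨x, hx⟩ := h4 (eK₀ w) ⟨eL₁ y, by rw [← hf₀, hy, hd']⟩
    exact ⟨eK₁.symm x, eK₀.injective (by rw [hd, LinearEquiv.apply_symm_apply, hx])⟩

end Complex

end Groth.Agent.H61.QuasiIsoDouble
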