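/-
Formal triviality of deformations of a rigid algebra (helper61).

If every square-zero extension of the `k`-algebra `B₀` by (a module isomorphic to) `B₀` splits, `τ` is
a nonzerodivisor of the `k`-algebra `B` and `B/τB ≅ B₀`, then `B/τ^{j+1}B → B₀` has a `k`-algebra
section for every `j`.  Pure commutative algebra, Mathlib only.
-/
import Mathlib

set_option autoImplicit false

namespace Groth.Agent.H61.RigidTriv

universe u v

variable {k : Type v} {B B₀ : Type u} [CommRing k] [CommRing B] [Algebra k B] [CommRing B₀] [Algebra k B₀]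

/-- the rigidity hypothesis in elementary form: square-zero extensions of `B₀` whose kernel is free of
rank one over `B₀` split -/
def Rigid (k : Type v) (B₀ : Type u) [CommRing k] [CommRing B₀] [Algebra k B₀] : Prop :=
  ∀ (E : Type u) [CommRing E] [Algebra k E] (p : E →ₐ[k] B₀), Function.Surjective p → ∀ x₀ : E,
    (∀ y, p y = 0 ↔ ∃ e, y = e * x₀) → (∀ e, e * x₀ = 0 ↔ p e = 0) →
    ∃ s : B₀ →ₐ[k] E, ∀ b, p (s b) = b

variable (τ : B) (π : B →ₐ[k] B₀)

/-- the induced map `B/τ^{j+1} → B₀` -/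
noncomputable def πq (hker : ∀ x, π x = 0 ↔ ∃ y, x = τ * y) (j : ℕ) :
    B ⧸ Ideal.span {τ ^ (j + 1)} →ₐ[k] B₀ :=
  Ideal.Quotient.liftₐ _ π (by
    intro a ha
    rw [Ideal.mem_span_singleton] at ha
    obtain ⟨y, rfl⟩ := ha
    exact (hker _).mpr ⟨τ ^ j * y, by rw [pow_succ']; ring⟩)

lemma πq_mk (hker : ∀ x, π x = 0 ↔ ∃ y, x = τ * y) (j : ℕ) (c : B) :
    πq τ π hker j (Ideal.Quotient.mk _ c) = π c := rfl

variable {τ π}

lemma pow_cancel (hτ : ∀ x, τ * x = 0 → x = 0) (j : ℕ) (x : B) (h : τ ^ j * x = 0) : x = 0 := by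
  induction j with
  | zero => simpa using h
  | succ j ih =>
    apply ih
    apply hτ
    rw [← mul_assoc, ← pow_succ']
    exact h

lemma mk_pow_mul_eq (hker : ∀ x, π x = 0 ↔ ∃ y, x = τ * y) (j : ℕ) (c c' : B) (h : π c = π c') :
    (Ideal.Quotient.mk (Ideal.span {τ ^ (j + 2)}) (τ ^ (j + 1) * c)) =
      Ideal.Quotient.mk _ (τ ^ (j + 1) * c') := by
  rw [Ideal.Quotient.eq, Ideal.mem_span_singleton]
  have h1 : π (c - c') = 0 := by rw [map_sub, h, sub_self]
  obtain ⟨y, hy⟩ := (hker _).mp h1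
  exact ⟨y, by rw [← mul_sub, hy]; ring⟩

lemma mk_pow_mul_eq_zero_iff (hτ : ∀ x, τ * x = 0 → x = 0) (hker : ∀ x, π x = 0 ↔ ∃ y, x = τ * y)
    (j : ℕ) (c : B) :
    (Ideal.Quotient.mk (Ideal.span {τ ^ (j + 2)}) (τ ^ (j + 1) * c)) = 0 ↔ π c = 0 := by
  rw [Ideal.Quotient.eq_zero_iff_mem, Ideal.mem_span_singleton]
  constructor
  · rintro ⟨y, hy⟩
    have h1 : τ ^ (j + 1) * (c - τ * y) = 0 := by
      rw [mul_sub, hy]; ring
    have h2 := pow_cancel hτ _ _ h1
    exact (hker _).mpr ⟨y, sub_eq_zero.mp h2⟩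
  · intro h
    obtain ⟨y, rfl⟩ := (hker _).mp h
    exact ⟨y, by ring⟩

theorem exists_section_quot (hτ : ∀ x, τ * x = 0 → x = 0) (hπ : Function.Surjective π)
    (hker : ∀ x, π x = 0 ↔ ∃ y, x = τ * y) (hrig : Rigid k B₀) (j : ℕ) :
    ∃ σ : B₀ →ₐ[k] B ⧸ Ideal.span {τ ^ (j + 1)}, ∀ b, πq τ π hker j (σ b) = b := by
  induction j with
  | zero =>
    have hbij : Function.Bijective (πq τ π hker 0) := by
      constructor
      · rw [injective_iff_map_eq_zero]
        intro x hx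
        obtain ⟨c, rfl⟩ := Ideal.Quotient.mk_surjective x
        rw [πq_mk] at hx
        obtain ⟨y, rfl⟩ := (hker _).mp hx
        rw [Ideal.Quotient.eq_zero_iff_mem, Ideal.mem_span_singleton]
        exact ⟨y, by ring⟩
      · intro b
        obtain ⟨c, rfl⟩ := hπ b
        exact ⟨Ideal.Quotient.mk _ c, rfl⟩
    let e := AlgEquiv.ofBijective (πq τ π hker 0) hbij
    exact ⟨e.symm.toAlgHom, fun b => e.apply_symm_apply b⟩
  | succ j ih =>
    obtain ⟨σ, hσ⟩ := ih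
    have hle : Ideal.span {τ ^ (j + 1 + 1)} ≤ Ideal.span {τ ^ (j + 1)} := by
      rw [Ideal.span_singleton_le_span_singleton]
      exact ⟨τ, by ring⟩
    let fac : (B ⧸ Ideal.span {τ ^ (j + 1 + 1)}) →ₐ[k] (B ⧸ Ideal.span {τ ^ (j + 1)}) :=
      Ideal.Quotient.factorₐ k hle
    have hfac : ∀ c : B, fac (Ideal.Quotient.mk _ c) = Ideal.Quotient.mk _ c := fun c => rfl
    let E : Subalgebra k (B₀ × (B ⧸ Ideal.span {τ ^ (j + 1 + 1)})) :=
      AlgHom.equalizer (σ.comp (AlgHom.fst k _ _)) (fac.comp (AlgHom.snd k _ _))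
    have hmemE : ∀ (b : B₀) (c : B), (b, Ideal.Quotient.mk (Ideal.span {τ ^ (j + 1 + 1)}) c) ∈ E ↔
        σ b = Ideal.Quotient.mk _ c := by
      intro b c
      rw [AlgHom.mem_equalizer]
      rfl
    have hEπ : ∀ (b : B₀) (c : B), (b, Ideal.Quotient.mk (Ideal.span {τ ^ (j + 1 + 1)}) c) ∈ E →
        π c = b := by
      intro b c h
      have h1 := hσ b
      rw [(hmemE b c).mp h, πq_mk] at h1
      exact h1
    let p : E →ₐ[k] B₀ := (AlgHom.fst k B₀ _).comp E.val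
    have hx₀ : ((0 : B₀), Ideal.Quotient.mk (Ideal.span {τ ^ (j + 1 + 1)}) (τ ^ (j + 1))) ∈ E := by
      rw [hmemE, map_zero, eq_comm, Ideal.Quotient.eq_zero_iff_mem]
      exact Ideal.subset_span rfl
    let x₀ : E := ⟨_, hx₀⟩
    have hp_surj : Function.Surjective p := by
      intro b
      obtain ⟨c, hc⟩ := Ideal.Quotient.mk_surjective (σ b)
      exact ⟨⟨(b, Ideal.Quotient.mk _ c), (hmemE b c).mpr hc.symm⟩, rfl⟩
    have hcondb : ∀ y : E, p y = 0 ↔ ∃ e : E, y = e * x₀ := by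
      rintro ⟨⟨b, q⟩, hy⟩
      obtain ⟨c, rfl⟩ := Ideal.Quotient.mk_surjective q
      constructor
      · intro hb
        have hb0 : b = 0 := hb
        subst hb0
        have h1 := (hmemE 0 c).mp hy
        rw [map_zero, eq_comm, Ideal.Quotient.eq_zero_iff_mem, Ideal.mem_span_singleton] at h1
        obtain ⟨c', rfl⟩ := h1
        obtain ⟨c'', hc''⟩ := Ideal.Quotient.mk_surjective (σ (π c'))
        have hmem : (π c', Ideal.Quotient.mk (Ideal.span {τ ^ (j + 1 + 1)}) c'') ∈ E :=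
          (hmemE _ _).mpr hc''.symm
        refine ⟨⟨_, hmem⟩, ?_⟩
        apply Subtype.ext
        change ((0 : B₀), Ideal.Quotient.mk (Ideal.span {τ ^ (j + 1 + 1)}) (τ ^ (j + 1) * c')) =
          (π c' * 0, Ideal.Quotient.mk _ c'' * Ideal.Quotient.mk _ (τ ^ (j + 1)))
        rw [mul_zero, ← map_mul, mul_comm c'']
        congr 1
        exact mk_pow_mul_eq hker j c' c'' (hEπ _ _ hmem).symm
      · rintro ⟨e, he⟩
        rw [he, map_mul]
        have : p x₀ = 0 := rfl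
        rw [this, mul_zero]
    have hcondc : ∀ e : E, e * x₀ = 0 ↔ p e = 0 := by
      rintro ⟨⟨b, q⟩, he⟩
      obtain ⟨c, rfl⟩ := Ideal.Quotient.mk_surjective q
      have hπc := hEπ b c he
      have h1 : (⟨(b, Ideal.Quotient.mk (Ideal.span {τ ^ (j + 1 + 1)}) c), he⟩ : E) * x₀ = 0 ↔
          Ideal.Quotient.mk (Ideal.span {τ ^ (j + 1 + 1)}) (τ ^ (j + 1) * c) = 0 := by
        rw [Subtype.ext_iff]
        change (b * 0, Ideal.Quotient.mk (Ideal.span {τ ^ (j + 1 + 1)}) c *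
          Ideal.Quotient.mk _ (τ ^ (j + 1))) = (0, 0) ↔ _
        rw [mul_zero, ← map_mul, mul_comm c, Prod.mk.injEq]
        exact ⟨fun h => h.2, fun h => ⟨rfl, h⟩⟩
      rw [h1, mk_pow_mul_eq_zero_iff hτ hker, hπc]
      rfl
    obtain ⟨s, hs⟩ := hrig E p hp_surj x₀ hcondb hcondc
    refine ⟨(AlgHom.snd k B₀ _).comp (E.val.comp s), ?_⟩
    intro b
    have h1 : ((s b : E) : B₀ × (B ⧸ Ideal.span {τ ^ (j + 1 + 1)})).1 = b := hs b
    obtain ⟨c, hc⟩ := Ideal.Quotient.mk_surjective ((s b : E) : B₀ × (B ⧸ Ideal.span {τ ^ (j + 1 + 1)})).2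
    have hmem : (b, Ideal.Quotient.mk (Ideal.span {τ ^ (j + 1 + 1)}) c) ∈ E := by
      have h2 : ((s b : E) : B₀ × (B ⧸ Ideal.span {τ ^ (j + 1 + 1)})) =
          (b, Ideal.Quotient.mk (Ideal.span {τ ^ (j + 1 + 1)}) c) := Prod.ext h1 hc.symm
      rw [← h2]
      exact (s b).2
    change πq τ π hker (j + 1) ((s b : E) : B₀ × (B ⧸ Ideal.span {τ ^ (j + 1 + 1)})).2 = b
    rw [← hc, πq_mk]
    exact hEπ b c hmem

end Groth.Agent.H61.RigidTriv
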