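/-
Rigid algebras have only trivial deformations over Artinian local bases: the algebra (helper61).
Pure commutative algebra, Mathlib + RigidTriv.
-/
import Groth.Agent.H61.RigidTriv

set_option autoImplicit false

namespace Groth.Agent.H61.RigidArt

open RigidTriv

universe u v

section Step

variable {k : Type v} {R R₁ B₀ : Type u} [CommRing k] [CommRing R] [Algebra k R] [CommRing R₁]
  [Algebra k R₁] [CommRing B₀] [Algebra k B₀]

/-- one step of lifting a section along a principal square-zero-like thickening -/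
theorem exists_section_step (q : R →ₐ[k] R₁) (hqs : Function.Surjective q)
    (π₁ : R₁ →ₐ[k] B₀) (t : R)
    (hq : ∀ x, q x = 0 ↔ ∃ y, x = t * y)
    (ht1 : ∀ x, π₁ (q x) = 0 → t * x = 0) (ht2 : ∀ x, t * x = 0 → π₁ (q x) = 0)
    (σ : B₀ →ₐ[k] R₁) (hσ : ∀ b, π₁ (σ b) = b) (hrig : Rigid k B₀) :
    ∃ σ' : B₀ →ₐ[k] R, ∀ b, q (σ' b) = σ b := by
  let E : Subalgebra k (B₀ × R) :=
    AlgHom.equalizer (σ.comp (AlgHom.fst k _ _)) (q.comp (AlgHom.snd k _ _))
  have hmemE : ∀ (b : B₀) (c : R), (b, c) ∈ E ↔ σ b = q c := by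
    intro b c
    rw [AlgHom.mem_equalizer]
    rfl
  have hEπ : ∀ (b : B₀) (c : R), (b, c) ∈ E → π₁ (q c) = b := by
    intro b c h
    rw [← (hmemE b c).mp h, hσ]
  let p : E →ₐ[k] B₀ := (AlgHom.fst k B₀ _).comp E.val
  have hx₀ : ((0 : B₀), t) ∈ E := by
    rw [hmemE, map_zero, eq_comm, hq]
    exact ⟨1, (mul_one t).symm⟩
  let x₀ : E := ⟨_, hx₀⟩
  have hp_surj : Function.Surjective p := by
    intro b
    obtain ⟨c, hc⟩ := hqs (σ b)
    exact ⟨⟨(b, c), (hmemE b c).mpr hc.symm⟩, rfl⟩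
  have hcondb : ∀ y : E, p y = 0 ↔ ∃ e : E, y = e * x₀ := by
    rintro ⟨⟨b, c⟩, hy⟩
    constructor
    · intro hb
      have hb0 : b = 0 := hb
      subst hb0
      have h1 := (hmemE 0 c).mp hy
      rw [map_zero, eq_comm, hq] at h1
      obtain ⟨c', rfl⟩ := h1
      obtain ⟨c'', hc''⟩ := hqs (σ (π₁ (q c')))
      have hmem : (π₁ (q c'), c'') ∈ E := (hmemE _ _).mpr hc''.symm
      refine ⟨⟨_, hmem⟩, ?_⟩
      apply Subtype.ext
      change ((0 : B₀), t * c') = (π₁ (q c') * 0, c'' * t)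
      rw [mul_zero, mul_comm c'']
      congr 1
      have h2 : π₁ (q (c' - c'')) = 0 := by
        rw [map_sub, map_sub, hEπ _ _ hmem, sub_self]
      have h3 := ht1 _ h2
      rw [mul_sub, sub_eq_zero] at h3
      exact h3
    · rintro ⟨e, he⟩
      rw [he, map_mul]
      have : p x₀ = 0 := rfl
      rw [this, mul_zero]
  have hcondc : ∀ e : E, e * x₀ = 0 ↔ p e = 0 := by
    rintro ⟨⟨b, c⟩, he⟩
    have hπc := hEπ b c he
    have h1 : (⟨(b, c), he⟩ : E) * x₀ = 0 ↔ t * c = 0 := by
      rw [Subtype.ext_iff]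
      change (b * 0, c * t) = (0, 0) ↔ _
      rw [mul_zero, mul_comm c, Prod.mk.injEq]
      exact ⟨fun h => h.2, fun h => ⟨rfl, h⟩⟩
    rw [h1]
    change _ ↔ b = 0
    rw [← hπc]
    exact ⟨ht2 c, ht1 c⟩
  obtain ⟨s, hs⟩ := hrig E p hp_surj x₀ hcondb hcondc
  refine ⟨(AlgHom.snd k B₀ _).comp (E.val.comp s), ?_⟩
  intro b
  have h1 : ((s b : E) : B₀ × R).1 = b := hs b
  have hmem : (b, ((s b : E) : B₀ × R).2) ∈ E := by
    have h2 : ((s b : E) : B₀ × R) = (b, ((s b : E) : B₀ × R).2) := Prod.ext h1 rfl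
    rw [← h2]
    exact (s b).2
  exact ((hmemE _ _).mp hmem).symm

end Step

section Colon
variable {A B : Type*} [CommRing A] [AddCommGroup B] [Module A B] [Module.Flat A B]

/-- flatness and colon ideals: if `x • b ∈ I' B` then `b ∈ K B` whenever `(I' : x) ≤ K` -/
lemma mem_smul_top_of_smul_mem (I' K : Ideal A) (x : A) (hK : ∀ a, x * a ∈ I' → a ∈ K) (b : B)
    (h : x • b ∈ I' • (⊤ : Submodule A B)) : b ∈ K • (⊤ : Submodule A B) := by
  classical
  have h' : x • b ∈ I' • Submodule.span A (Set.range (id : B → B)) := by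
    rw [Set.range_id, Submodule.span_univ]; exact h
  rw [Submodule.mem_ideal_smul_span_iff_exists_sum] at h'
  obtain ⟨a, ha, hsum⟩ := h'
  let f : Option a.support → A := fun o => match o with
    | none => x
    | some β => - a β.1
  let z : Option a.support → B := fun o => match o with
    | none => b
    | some β => β.1
  have hrel : ∑ o, f o • z o = 0 := by
    rw [Fintype.sum_option]
    change x • b + ∑ β : a.support, (- a β.1) • (β.1 : B) = 0
    rw [← hsum, Finsupp.sum, ← Finset.sum_coe_sort a.support]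
    simp
  obtain ⟨κ, α, y, hy1, hy2⟩ := Module.Flat.isTrivialRelation_of_sum_smul_eq_zero hrel
  have hb : b = ∑ j, α none j • y j := hy1 none
  rw [hb]
  refine Submodule.sum_mem _ fun j _ => Submodule.smul_mem_smul (hK _ ?_) trivial
  have h2 := hy2 j
  rw [Fintype.sum_option] at h2
  change x * α none j + ∑ β : a.support, (- a β.1) * α (some β) j = 0 at h2
  rw [add_eq_zero_iff_eq_neg] at h2
  rw [h2]
  refine I'.neg_mem (Ideal.sum_mem _ fun β _ => ?_)
  rw [neg_mul]
  exact I'.neg_mem (I'.mul_mem_right _ (ha β.1))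

end Colon

section Artin

open IsLocalRing

variable {k : Type v} [Field k] {A B : Type u} [CommRing A] [IsLocalRing A] [IsArtinianRing A]
  [Algebra k A] [CommRing B] [Algebra A B] [Algebra k B] [IsScalarTower k A B] [Module.Flat A B]

theorem exists_section_artin
    (hrig : Rigid k (B ⧸ (maximalIdeal A).map (algebraMap A B))) :
    ∃ s : (B ⧸ (maximalIdeal A).map (algebraMap A B)) →ₐ[k] B,
      ∀ x, Ideal.Quotient.mk ((maximalIdeal A).map (algebraMap A B)) (s x) = x := by
  classical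
  set J : Ideal B := (maximalIdeal A).map (algebraMap A B) with hJ
  let S : Set (Ideal A) := {I | I ≤ maximalIdeal A ∧
    ∃ σ : (B ⧸ J) →ₐ[k] (B ⧸ I.map (algebraMap A B)),
      ∀ (y : B ⧸ J) (b : B), σ y = Ideal.Quotient.mk _ b → Ideal.Quotient.mk J b = y}
  have hmS : maximalIdeal A ∈ S := by
    refine ⟨le_rfl, AlgHom.id k _, ?_⟩
    intro y b h
    exact h.symm
  obtain ⟨I, ⟨hIm, σ, hσ⟩, hImin⟩ := IsArtinian.set_has_minimal S ⟨_, hmS⟩
  by_cases hI0 : I = ⊥
  · subst hI0
    let r : (B ⧸ (⊥ : Ideal A).map (algebraMap A B)) →ₐ[k] B :=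
      Ideal.Quotient.liftₐ _ (AlgHom.id k B) (by
        intro a ha
        rw [Ideal.map_bot, Ideal.mem_bot] at ha
        rw [ha, map_zero])
    refine ⟨r.comp σ, fun y => ?_⟩
    obtain ⟨b, hb⟩ := Ideal.Quotient.mk_surjective (σ y)
    have h1 : (r.comp σ) y = b := by
      change r (σ y) = b
      rw [← hb]
      rfl
    rw [h1]
    exact hσ y b hb.symm
  · exfalso
    haveI : IsNoetherianRing A := inferInstance
    obtain ⟨I', hI'lt, hI'max⟩ :
        ∃ I' : Ideal A, I' < I ∧ ∀ I'' : Ideal A, I'' < I → ¬ I' < I'' := by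
      obtain ⟨I', h1, h2⟩ := (set_has_maximal_iff_noetherian (R := A) (M := A)).mpr inferInstance
        {I'' | I'' < I} ⟨⊥, bot_lt_iff_ne_bot.mpr hI0⟩
      exact ⟨I', h1, h2⟩
    obtain ⟨x, hxI, hxI'⟩ := SetLike.exists_of_lt hI'lt
    have hsup : I' ⊔ Ideal.span {x} = I := by
      by_contra hne
      have h1 : I' ⊔ Ideal.span {x} ≤ I :=
        sup_le hI'lt.le ((Ideal.span_singleton_le_iff_mem _).mpr hxI)
      have h2 : I' ⊔ Ideal.span {x} < I := lt_of_le_of_ne h1 hne
      apply hI'max _ h2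
      refine lt_of_le_of_ne le_sup_left ?_
      intro heq
      apply hxI'
      rw [heq]
      exact Ideal.mem_sup_right (Ideal.mem_span_singleton_self x)
    have hmI : maximalIdeal A * I ≤ I' := by
      by_contra hnle
      have h1 : I' ⊔ maximalIdeal A * I ≤ I := sup_le hI'lt.le Ideal.mul_le_right
      have h2 : I' < I' ⊔ maximalIdeal A * I :=
        lt_of_le_of_ne le_sup_left (fun heq => hnle (heq ▸ le_sup_right))
      have h3 : I' ⊔ maximalIdeal A * I = I := by
        by_contra hne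
        exact hI'max _ (lt_of_le_of_ne h1 hne) h2
      have h4 : I ≤ I' :=
        Submodule.le_of_le_smul_of_le_jacobson_bot (IsNoetherian.noetherian I)
          (IsLocalRing.maximalIdeal_le_jacobson _) (by rw [smul_eq_mul]; exact h3.ge)
      exact absurd h4 (not_le_of_gt hI'lt)
    have hxm : ∀ a ∈ maximalIdeal A, a * x ∈ I' := fun a ha => hmI (Ideal.mul_mem_mul ha hxI)
    have hcolon : ∀ a, x * a ∈ I' → a ∈ maximalIdeal A := by
      intro a ha
      by_contra hna
      have hu : IsUnit a := by rwa [mem_maximalIdeal, mem_nonunits_iff, not_not] at hna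
      obtain ⟨u, rfl⟩ := hu
      apply hxI'
      have : x = (x * u) * ↑u⁻¹ := by rw [mul_assoc, Units.mul_inv, mul_one]
      rw [this]
      exact I'.mul_mem_right _ ha
    have hle : Ideal.map (algebraMap A B) I' ≤ Ideal.map (algebraMap A B) I := Ideal.map_mono hI'lt.le
    have hleJ : Ideal.map (algebraMap A B) I ≤ J := Ideal.map_mono hIm
    let q : (B ⧸ Ideal.map (algebraMap A B) I') →ₐ[k] (B ⧸ Ideal.map (algebraMap A B) I) :=
      Ideal.Quotient.factorₐ k hle
    let π₁ : (B ⧸ Ideal.map (algebraMap A B) I) →ₐ[k] (B ⧸ J) := Ideal.Quotient.factorₐ k hleJ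
    have hq_mk : ∀ b : B, q (Ideal.Quotient.mk _ b) = Ideal.Quotient.mk _ b := fun b => rfl
    have hπ₁_mk : ∀ b : B, π₁ (Ideal.Quotient.mk _ b) = Ideal.Quotient.mk _ b := fun b => rfl
    have hqs : Function.Surjective q := by
      intro y
      obtain ⟨b, rfl⟩ := Ideal.Quotient.mk_surjective y
      exact ⟨Ideal.Quotient.mk _ b, rfl⟩
    let t : B ⧸ Ideal.map (algebraMap A B) I' := Ideal.Quotient.mk _ (algebraMap A B x)
    have hq : ∀ r, q r = 0 ↔ ∃ y, r = t * y := by
      intro r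
      obtain ⟨b, rfl⟩ := Ideal.Quotient.mk_surjective r
      rw [hq_mk, Ideal.Quotient.eq_zero_iff_mem]
      constructor
      · intro hb
        rw [← hsup, Ideal.map_sup, Ideal.map_span, Set.image_singleton] at hb
        obtain ⟨b', hb', c, hc, rfl⟩ := Submodule.mem_sup.mp hb
        obtain ⟨c', rfl⟩ := Ideal.mem_span_singleton.mp hc
        refine ⟨Ideal.Quotient.mk _ c', ?_⟩
        rw [map_add, Ideal.Quotient.eq_zero_iff_mem.mpr hb', zero_add, map_mul]
      · rintro ⟨y, hy⟩
        obtain ⟨c, rfl⟩ := Ideal.Quotient.mk_surjective y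
        rw [← map_mul, Ideal.Quotient.eq] at hy
        have h1 : algebraMap A B x * c ∈ Ideal.map (algebraMap A B) I :=
          Ideal.mul_mem_right _ _ (Ideal.mem_map_of_mem _ hxI)
        have h2 := add_mem (hle hy) h1
        rwa [sub_add_cancel] at h2
    have ht1 : ∀ r, π₁ (q r) = 0 → t * r = 0 := by
      intro r hr
      obtain ⟨b, rfl⟩ := Ideal.Quotient.mk_surjective r
      rw [hq_mk, hπ₁_mk, Ideal.Quotient.eq_zero_iff_mem] at hr
      rw [← map_mul, Ideal.Quotient.eq_zero_iff_mem]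
      have h1 : algebraMap A B x * b ∈ (Ideal.span {x} * maximalIdeal A).map (algebraMap A B) := by
        rw [Ideal.map_mul]
        exact Ideal.mul_mem_mul (Ideal.mem_map_of_mem _ (Ideal.mem_span_singleton_self x)) hr
      refine Ideal.map_mono ?_ h1
      rw [mul_comm]
      exact le_trans (Ideal.mul_mono_right ((Ideal.span_singleton_le_iff_mem _).mpr hxI)) hmI
    have ht2 : ∀ r, t * r = 0 → π₁ (q r) = 0 := by
      intro r hr
      obtain ⟨b, rfl⟩ := Ideal.Quotient.mk_surjective r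
      rw [← map_mul, Ideal.Quotient.eq_zero_iff_mem] at hr
      rw [hq_mk, hπ₁_mk, Ideal.Quotient.eq_zero_iff_mem]
      have h1 : x • b ∈ I' • (⊤ : Submodule A B) := by
        rw [Ideal.smul_top_eq_map, Submodule.restrictScalars_mem, Algebra.smul_def]
        exact hr
      have h2 := mem_smul_top_of_smul_mem I' (maximalIdeal A) x hcolon b h1
      rw [Ideal.smul_top_eq_map, Submodule.restrictScalars_mem] at h2
      exact h2
    have hσ1 : ∀ y, π₁ (σ y) = y := by
      intro y
      obtain ⟨b, hb⟩ := Ideal.Quotient.mk_surjective (σ y)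
      rw [← hb, hπ₁_mk]
      exact hσ y b hb.symm
    obtain ⟨σ', hσ'⟩ := exists_section_step q hqs π₁ t hq ht1 ht2 σ hσ1 hrig
    have hI'S : I' ∈ S := by
      refine ⟨hI'lt.le.trans hIm, σ', fun y b hb => hσ y b ?_⟩
      rw [← hσ', hb]
      rfl
    exact hImin I' hI'S hI'lt

end Artin

end Groth.Agent.H61.RigidArt
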