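/-
The splitting lemma behind "rigid singularities are not smoothable" (helper61).

Let `R = A[X₁..Xₙ] ⊇ I`, and suppose there are `gᵢ ∈ I` with `Σ ∂ᵢx · gᵢ ≡ t^{n₀} x (mod I²)` for all
`x ∈ I` (a quasi-retraction of the conormal map).  If `R → A_N ⊗_k B₀` (`A_N = A/t^{n₀+1}`) kills `I`,
hits the constants `1 ⊗ b` and has kernel inside `I + (t^{n₀+1})`, then every square-zero extension
`E₀ → B₀` of `k`-algebras splits.  Pure commutative algebra, Mathlib only.
-/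
import Mathlib

set_option autoImplicit false

namespace Groth.Agent.H61.RigidSplit

open TensorProduct MvPolynomial

theorem exists_section
    {k A B₀ E₀ : Type*} [Field k] [CommRing A] [Algebra k A] [CommRing B₀] [Algebra k B₀]
    [CommRing E₀] [Algebra k E₀] (t : A) (n₀ : ℕ)
    (resN : (A ⧸ Ideal.span {t ^ (n₀ + 1)}) →ₐ[k] k)
    (c : (A ⧸ Ideal.span {t ^ (n₀ + 1)}) →ₗ[k] k)
    (hc : ∀ a, c (Ideal.Quotient.mk _ (t ^ n₀) * a) = resN a)
    {n : ℕ} (I : Ideal (MvPolynomial (Fin n) A)) (g : Fin n → MvPolynomial (Fin n) A)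
    (hg : ∀ i, g i ∈ I)
    (hstar : ∀ x ∈ I, ∑ i, pderiv i x * g i - C (t ^ n₀) * x ∈ I ^ 2)
    (π₀ : E₀ →ₐ[k] B₀) (hπ₀ : Function.Surjective π₀)
    (hsq : ∀ x y, π₀ x = 0 → π₀ y = 0 → x * y = 0)
    (ψ : MvPolynomial (Fin n) A →ₐ[A] (A ⧸ Ideal.span {t ^ (n₀ + 1)}) ⊗[k] B₀)
    (hψI : ∀ x ∈ I, ψ x = 0) (hψsurj : ∀ b : B₀, ∃ r, ψ r = 1 ⊗ₜ b)
    (hψker : ∀ r, ψ r = 0 → ∃ x ∈ I, ∃ r'', r = x + C (t ^ (n₀ + 1)) * r'') :
    ∃ s : B₀ →ₐ[k] E₀, ∀ b, π₀ (s b) = b := by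
  classical
  set AN := A ⧸ Ideal.span {t ^ (n₀ + 1)} with hAN
  let pE : AN ⊗[k] E₀ →ₐ[A] AN ⊗[k] B₀ := Algebra.TensorProduct.map (AlgHom.id A AN) π₀
  have hpE_tmul : ∀ (a : AN) (e : E₀), pE (a ⊗ₜ e) = a ⊗ₜ π₀ e := fun a e => rfl
  have hpE_surj : Function.Surjective pE := by
    intro y
    induction y using TensorProduct.induction_on with
    | zero => exact ⟨0, map_zero _⟩
    | tmul a b =>
      obtain ⟨e, rfl⟩ := hπ₀ b
      exact ⟨a ⊗ₜ e, rfl⟩
    | add y y' hy hy' =>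
      obtain ⟨z, rfl⟩ := hy
      obtain ⟨z', rfl⟩ := hy'
      exact ⟨z + z', map_add _ _ _⟩
  -- the kernel of pE has square zero
  have hker : RingHom.ker pE = Ideal.map Algebra.TensorProduct.includeRight (RingHom.ker π₀) := by
    have h1 := Algebra.TensorProduct.map_ker (AlgHom.id A AN) π₀ Function.surjective_id hπ₀
    have h2 : RingHom.ker (AlgHom.id A AN) = ⊥ := by
      ext x; simp [RingHom.mem_ker]
    rw [h2, Ideal.map_bot, bot_sup_eq] at h1
    exact h1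
  have hM0 : ∀ y ∈ Ideal.map (Algebra.TensorProduct.includeRight : E₀ →ₐ[k] AN ⊗[k] E₀) (RingHom.ker π₀),
      ∀ m : E₀, π₀ m = 0 → y * ((1 : AN) ⊗ₜ m) = 0 := by
    intro y hy m hm
    refine Submodule.span_induction ?_ ?_ ?_ ?_ hy
    · rintro _ ⟨m', hm', rfl⟩
      change ((1 : AN) ⊗ₜ[k] m') * ((1 : AN) ⊗ₜ m) = 0
      rw [Algebra.TensorProduct.tmul_mul_tmul, hsq m' m hm' hm, TensorProduct.tmul_zero]
    · exact zero_mul _
    · intro x y _ _ hx hy; rw [add_mul, hx, hy, add_zero]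
    · intro a x _ hx; rw [smul_eq_mul, mul_assoc, hx, mul_zero]
  have hM1 : ∀ y y', pE y = 0 → pE y' = 0 → y * y' = 0 := by
    intro y y' hy hy'
    have hy1 : y ∈ Ideal.map Algebra.TensorProduct.includeRight (RingHom.ker π₀) := by
      rw [← hker]; exact hy
    have hy2 : y' ∈ Ideal.map Algebra.TensorProduct.includeRight (RingHom.ker π₀) := by
      rw [← hker]; exact hy'
    refine Submodule.span_induction ?_ ?_ ?_ ?_ hy2
    · rintro _ ⟨m, hm, rfl⟩
      exact hM0 y hy1 m hm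
    · exact mul_zero _
    · intro x z _ _ hx hz; rw [mul_add, hx, hz, add_zero]
    · intro a x _ hx; rw [smul_eq_mul, mul_left_comm, hx, mul_zero]
  -- the lift ρ
  let ρ : MvPolynomial (Fin n) A →ₐ[A] AN ⊗[k] E₀ :=
    MvPolynomial.aeval (fun i => (hpE_surj (ψ (X i))).choose)
  have hρ : ∀ r, pE (ρ r) = ψ r := by
    have h : pE.comp ρ = ψ := by
      refine MvPolynomial.algHom_ext fun i => ?_
      change pE (ρ (X i)) = ψ (X i)
      rw [show ρ (X i) = (hpE_surj (ψ (X i))).choose from MvPolynomial.aeval_X _ i]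
      exact (hpE_surj (ψ (X i))).choose_spec
    exact fun r => AlgHom.congr_fun h r
  have hρI : ∀ x ∈ I, pE (ρ x) = 0 := fun x hx => by rw [hρ, hψI x hx]
  have hρI2 : ∀ x ∈ I ^ 2, ρ x = 0 := by
    intro x hx
    rw [pow_two] at hx
    refine Submodule.mul_induction_on hx ?_ ?_
    · intro a ha b hb
      rw [map_mul]
      exact hM1 _ _ (hρI a ha) (hρI b hb)
    · intro a b ha hb; rw [map_add, ha, hb, add_zero]
  -- the two projections to E₀
  let Φ : AN ⊗[k] E₀ →ₐ[k] E₀ :=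
    (Algebra.TensorProduct.lid k E₀).toAlgHom.comp (Algebra.TensorProduct.map resN (AlgHom.id k E₀))
  let Ψ : AN ⊗[k] E₀ →ₗ[k] E₀ :=
    (TensorProduct.lid k E₀).toLinearMap ∘ₗ TensorProduct.map c LinearMap.id
  let ΦB : AN ⊗[k] B₀ →ₐ[k] B₀ :=
    (Algebra.TensorProduct.lid k B₀).toAlgHom.comp (Algebra.TensorProduct.map resN (AlgHom.id k B₀))
  let ΨB : AN ⊗[k] B₀ →ₗ[k] B₀ :=
    (TensorProduct.lid k B₀).toLinearMap ∘ₗ TensorProduct.map c LinearMap.id
  have hΦ_tmul : ∀ (a : AN) (e : E₀), Φ (a ⊗ₜ e) = resN a • e := fun a e => by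
    simp [Φ]
  have hΨ_tmul : ∀ (a : AN) (e : E₀), Ψ (a ⊗ₜ e) = c a • e := fun a e => by
    simp [Ψ]
  have hΦB_tmul : ∀ (a : AN) (b : B₀), ΦB (a ⊗ₜ b) = resN a • b := fun a b => by
    simp [ΦB]
  have hΨB_tmul : ∀ (a : AN) (b : B₀), ΨB (a ⊗ₜ b) = c a • b := fun a b => by
    simp [ΨB]
  have hΨ1 : ∀ y : AN ⊗[k] E₀, Ψ ((t ^ n₀) • y) = Φ y := by
    intro y
    induction y using TensorProduct.induction_on with
    | zero => rw [smul_zero, map_zero, map_zero]
    | tmul a e =>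
      have hsm : (t ^ n₀) • a = Ideal.Quotient.mk _ (t ^ n₀) * a := Algebra.smul_def _ _
      rw [TensorProduct.smul_tmul', hΨ_tmul, hΦ_tmul, ← hc a, hsm]
    | add y y' hy hy' => rw [smul_add, map_add, map_add, hy, hy']
  have hΨ2 : ∀ (e : E₀) (y : AN ⊗[k] E₀), Ψ (((1 : AN) ⊗ₜ e) * y) = e * Ψ y := by
    intro e y
    induction y using TensorProduct.induction_on with
    | zero => rw [mul_zero, map_zero, mul_zero]
    | tmul a e' =>
      rw [Algebra.TensorProduct.tmul_mul_tmul, one_mul, hΨ_tmul, hΨ_tmul, mul_smul_comm]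
    | add y y' hy hy' => rw [mul_add, map_add, map_add, hy, hy', mul_add]
  have hΨ3 : ∀ y : AN ⊗[k] E₀, π₀ (Ψ y) = ΨB (pE y) := by
    intro y
    induction y using TensorProduct.induction_on with
    | zero => simp
    | tmul a e => rw [hΨ_tmul, hpE_tmul, hΨB_tmul, map_smul]
    | add y y' hy hy' => rw [map_add, map_add, map_add, map_add, hy, hy']
  have hΦ1 : ∀ y : AN ⊗[k] E₀, π₀ (Φ y) = ΦB (pE y) := by
    intro y
    induction y using TensorProduct.induction_on with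
    | zero => simp
    | tmul a e => rw [hΦ_tmul, hpE_tmul, hΦB_tmul, map_smul]
    | add y y' hy hy' => rw [map_add, map_add, map_add, map_add, hy, hy']
  have hΦB_one : ∀ b : B₀, ΦB ((1 : AN) ⊗ₜ b) = b := fun b => by
    rw [hΦB_tmul, map_one, one_smul]
  -- the ρ-derivation D
  let D : MvPolynomial (Fin n) A → AN ⊗[k] E₀ := fun r => ∑ i, ρ (pderiv i r) * ρ (g i)
  have hD_add : ∀ r r', D (r + r') = D r + D r' := by
    intro r r'
    simp only [D, map_add, add_mul, Finset.sum_add_distrib]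
  have hD_mul : ∀ r r', D (r * r') = ρ r * D r' + ρ r' * D r := by
    intro r r'
    simp only [D, Derivation.leibniz, smul_eq_mul, map_add, map_mul, add_mul, Finset.sum_add_distrib,
      Finset.mul_sum]
    congr 1 <;> refine Finset.sum_congr rfl fun i _ => ?_ <;> ring
  have hD_ker : ∀ r, pE (D r) = 0 := by
    intro r
    simp only [D, map_sum, map_mul]
    refine Finset.sum_eq_zero fun i _ => ?_
    rw [hρI (g i) (hg i), mul_zero]
  have hD_C : ∀ a : A, D (C a) = 0 := by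
    intro a
    simp only [D, pderiv_C, map_zero, zero_mul, Finset.sum_const_zero]
  have hD_I : ∀ x ∈ I, D x = (t ^ n₀) • ρ x := by
    intro x hx
    have h1 := hρI2 _ (hstar x hx)
    rw [map_sub, map_sum, sub_eq_zero] at h1
    simp only [map_mul] at h1
    change D x = _ at h1
    rw [h1, ← map_mul, MvPolynomial.C_mul', map_smul]
  have htN : ∀ y : AN ⊗[k] E₀, (t ^ (n₀ + 1)) • y = 0 := by
    intro y
    induction y using TensorProduct.induction_on with
    | zero => rw [smul_zero]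
    | tmul a e =>
      rw [TensorProduct.smul_tmul', Algebra.smul_def]
      have : algebraMap A AN (t ^ (n₀ + 1)) = 0 :=
        Ideal.Quotient.eq_zero_iff_mem.mpr (Ideal.subset_span rfl)
      rw [this, zero_mul, TensorProduct.zero_tmul]
    | add y y' hy hy' => rw [smul_add, hy, hy', add_zero]
  -- the candidate section
  let s₀ : MvPolynomial (Fin n) A → E₀ := fun r => Φ (ρ r) - Ψ (D r)
  have hs₀_add : ∀ r r', s₀ (r + r') = s₀ r + s₀ r' := by
    intro r r'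
    simp only [s₀, map_add, hD_add]
    abel
  have hs₀_ker : ∀ r, ψ r = 0 → s₀ r = 0 := by
    intro r hr
    obtain ⟨x, hx, r'', rfl⟩ := hψker r hr
    have h1 : ρ (x + C (t ^ (n₀ + 1)) * r'') = ρ x := by
      rw [map_add, MvPolynomial.C_mul', map_smul, htN, add_zero]
    have h2 : D (x + C (t ^ (n₀ + 1)) * r'') = D x := by
      have h3 : ρ (C (t ^ (n₀ + 1))) = 0 := by
        rw [← MvPolynomial.algebraMap_eq, AlgHom.commutes, Algebra.algebraMap_eq_smul_one, htN]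
      rw [hD_add, hD_mul, hD_C, mul_zero, add_zero, h3, zero_mul, add_zero]
    change Φ (ρ (x + C (t ^ (n₀ + 1)) * r'')) - Ψ (D (x + C (t ^ (n₀ + 1)) * r'')) = 0
    rw [h1, h2, hD_I x hx, hΨ1, sub_self]
  have hs₀_eq : ∀ r r', ψ r = ψ r' → s₀ r = s₀ r' := by
    intro r r' h
    have h1 : ψ (r - r') = 0 := by rw [map_sub, h, sub_self]
    have h2 := hs₀_ker _ h1
    have h3 : s₀ r = s₀ (r - r') + s₀ r' := by rw [← hs₀_add, sub_add_cancel]
    rw [h3, h2, zero_add]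
  have hπs₀ : ∀ r b, ψ r = 1 ⊗ₜ b → π₀ (s₀ r) = b := by
    intro r b hr
    change π₀ (Φ (ρ r) - Ψ (D r)) = b
    rw [map_sub, hΦ1, hΨ3, hρ, hr, hD_ker, map_zero, sub_zero, hΦB_one]
  have hC2 : ∀ r b, ψ r = 1 ⊗ₜ b → ∀ y, pE y = 0 → Ψ (ρ r * y) = Φ (ρ r) * Ψ y := by
    intro r b hr y hy
    obtain ⟨eb, heb⟩ := hπ₀ b
    have h1 : pE (ρ r - (1 : AN) ⊗ₜ eb) = 0 := by
      rw [map_sub, hρ, hr, hpE_tmul, heb, sub_self]
    have h2 : ρ r * y = ((1 : AN) ⊗ₜ eb) * y := by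
      have := hM1 _ _ h1 hy
      rw [sub_mul, sub_eq_zero] at this
      exact this
    rw [h2, hΨ2]
    have h3 : π₀ (Φ (ρ r) - eb) = 0 := by
      rw [map_sub, hΦ1, hρ, hr, hΦB_one, heb, sub_self]
    have h4 : π₀ (Ψ y) = 0 := by rw [hΨ3, hy, map_zero]
    have h5 := hsq _ _ h3 h4
    rw [sub_mul, sub_eq_zero] at h5
    exact h5.symm
  have hs₀_mul : ∀ r r' b b', ψ r = 1 ⊗ₜ b → ψ r' = 1 ⊗ₜ b' → s₀ (r * r') = s₀ r * s₀ r' := by
    intro r r' b b' hr hr'
    change Φ (ρ (r * r')) - Ψ (D (r * r')) = (Φ (ρ r) - Ψ (D r)) * (Φ (ρ r') - Ψ (D r'))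
    rw [hD_mul, map_add, hC2 r b hr _ (hD_ker r'), hC2 r' b' hr' _ (hD_ker r), map_mul, map_mul]
    have h4 : Ψ (D r) * Ψ (D r') = 0 :=
      hsq _ _ (by rw [hΨ3, hD_ker, map_zero]) (by rw [hΨ3, hD_ker, map_zero])
    have : (Φ (ρ r) - Ψ (D r)) * (Φ (ρ r') - Ψ (D r')) =
        Φ (ρ r) * Φ (ρ r') - (Φ (ρ r) * Ψ (D r') + Φ (ρ r') * Ψ (D r)) + Ψ (D r) * Ψ (D r') := by ring
    rw [this, h4, add_zero]
  -- assemble
  choose rb hrb using hψsurj
  have hψC : ∀ a : k, ψ (C (algebraMap k A a)) = 1 ⊗ₜ (algebraMap k B₀ a) := by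
    intro a
    rw [← MvPolynomial.algebraMap_eq, AlgHom.commutes, Algebra.TensorProduct.algebraMap_apply,
      Algebra.algebraMap_eq_smul_one (R := k) (A := B₀), ← TensorProduct.smul_tmul, 
      ← Algebra.algebraMap_eq_smul_one, ← IsScalarTower.algebraMap_apply k A AN]
  refine ⟨{ toFun := fun b => s₀ (rb b)
            map_one' := ?_
            map_mul' := ?_
            map_zero' := ?_
            map_add' := ?_
            commutes' := ?_ }, fun b => hπs₀ _ _ (hrb b)⟩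
  · have h1 : s₀ (rb 1) = s₀ 1 := hs₀_eq _ _ (by rw [hrb, map_one]; rfl)
    rw [h1]
    change Φ (ρ 1) - Ψ (D 1) = 1
    rw [map_one, map_one, show (1 : MvPolynomial (Fin n) A) = C 1 from rfl, hD_C, map_zero, sub_zero]
  · intro b b'
    have h1 : s₀ (rb (b * b')) = s₀ (rb b * rb b') := hs₀_eq _ _ (by
      rw [hrb, map_mul, hrb, hrb, Algebra.TensorProduct.tmul_mul_tmul, one_mul])
    rw [h1]
    exact hs₀_mul _ _ b b' (hrb b) (hrb b')
  · have h1 : s₀ (rb 0) = s₀ 0 := hs₀_eq _ _ (by rw [hrb, map_zero, TensorProduct.tmul_zero])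
    rw [h1]
    exact hs₀_ker 0 (map_zero _)
  · intro b b'
    have h1 : s₀ (rb (b + b')) = s₀ (rb b + rb b') := hs₀_eq _ _ (by
      rw [hrb, map_add, hrb, hrb, TensorProduct.tmul_add])
    rw [h1, hs₀_add]
  · intro a
    have h1 : s₀ (rb (algebraMap k B₀ a)) = s₀ (C (algebraMap k A a)) := hs₀_eq _ _ (by
      rw [hrb, hψC])
    change s₀ (rb (algebraMap k B₀ a)) = _
    rw [h1]
    change Φ (ρ (C (algebraMap k A a))) - Ψ (D (C (algebraMap k A a))) = _
    rw [hD_C, map_zero, sub_zero, ← MvPolynomial.algebraMap_eq, AlgHom.commutes,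
      ← IsScalarTower.algebraMap_apply k A, AlgHom.commutes]

end Groth.Agent.H61.RigidSplit
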