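/-
From a quasi-retraction of the conormal map to a "Jacobian-type" relation (helper61).
Mathlib only.
-/
import Mathlib

set_option autoImplicit false

namespace Groth.Agent.H61.RigidStar

open MvPolynomial TensorProduct

universe u
variable {A B : Type u} [CommRing A] [CommRing B] [Algebra A B]
variable {n r : ℕ} (P : Algebra.Presentation A B (Fin n) (Fin r))

theorem exists_g (t : A) (n₀ : ℕ)
    (l : P.toExtension.CotangentSpace →ₗ[B] P.toExtension.Cotangent)
    (hl : l ∘ₗ P.toExtension.cotangentComplex = (algebraMap A B t) ^ n₀ • LinearMap.id) :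
    ∃ g : Fin n → MvPolynomial (Fin n) A,
      (∀ i, g i ∈ (P.toExtension.ker : Ideal (MvPolynomial (Fin n) A))) ∧
      ∀ x : MvPolynomial (Fin n) A, x ∈ (P.toExtension.ker : Ideal (MvPolynomial (Fin n) A)) →
        ∑ i, pderiv i x * g i - C (t ^ n₀) * x ∈
          (P.toExtension.ker : Ideal (MvPolynomial (Fin n) A)) ^ 2 := by
  classical
  choose g' hg' using fun i =>
    Algebra.Extension.Cotangent.mk_surjective (l (P.toGenerators.cotangentSpaceBasis i))
  refine ⟨fun i => (g' i).1, fun i => (g' i).2, ?_⟩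
  intro x hx
  have h1 := LinearMap.congr_fun hl (Algebra.Extension.Cotangent.mk ⟨x, hx⟩)
  rw [LinearMap.comp_apply, Algebra.Extension.cotangentComplex_mk] at h1
  have h2 : ((1 : B) ⊗ₜ[P.toExtension.Ring] KaehlerDifferential.D A P.toExtension.Ring x :
      P.toExtension.CotangentSpace) =
      ∑ i, (aeval P.val (pderiv i x)) • P.toGenerators.cotangentSpaceBasis i := by
    apply P.toGenerators.cotangentSpaceBasis.repr.injective
    ext i
    rw [Algebra.Generators.cotangentSpaceBasis_repr_one_tmul]
    simp [Finsupp.single_apply]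
  change l ((1 : B) ⊗ₜ[P.toExtension.Ring] KaehlerDifferential.D A P.toExtension.Ring x) = _ at h1
  rw [h2, map_sum] at h1
  simp only [map_smul, ← hg'] at h1
  have h3 : ∀ (p : P.toExtension.Ring) (y : P.toExtension.ker),
      (aeval P.val p : B) • Algebra.Extension.Cotangent.mk y
        = Algebra.Extension.Cotangent.mk (p • y) := by
    intro p y
    rw [map_smul, ← P.toGenerators.algebraMap_apply]
    exact algebraMap_smul B p (Algebra.Extension.Cotangent.mk y)
  obtain ⟨cτ, hcτ⟩ : ∃ cτ : P.toExtension.Ring, cτ = (C (t ^ n₀) : MvPolynomial (Fin n) A) :=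
    ⟨_, rfl⟩
  have hτ : (algebraMap A B t) ^ n₀ = aeval P.val cτ := by
    rw [hcτ, aeval_C, map_pow]
  have h4 : ((algebraMap A B) t ^ n₀ • (LinearMap.id : P.toExtension.Cotangent →ₗ[B] _))
        (Algebra.Extension.Cotangent.mk ⟨x, hx⟩)
      = Algebra.Extension.Cotangent.mk (P := P.toExtension)
        (cτ • (⟨x, hx⟩ : P.toExtension.ker)) := by
    rw [LinearMap.smul_apply, LinearMap.id_apply, hτ, h3]
  simp only [h3] at h1
  rw [h4, ← map_sum, Algebra.Extension.Cotangent.mk_eq_mk_iff_sub_mem] at h1
  convert h1 using 1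
  rw [Submodule.coe_sum, hcτ]
  rfl

end Groth.Agent.H61.RigidStar
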