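/-
A section `σ : B₀ → B/τ^N` of a flat family trivializes it: `A/t^N ⊗_k B₀ ≅ B/τ^N` (helper61).
Pure commutative algebra, Mathlib only.
-/
import Mathlib

set_option autoImplicit false

namespace Groth.Agent.H61.RigidTheta

open TensorProduct

variable {k A B B₀ : Type*} [Field k] [CommRing A] [CommRing B] [CommRing B₀]
variable [Algebra k A] [Algebra k B] [Algebra A B] [IsScalarTower k A B] [Algebra k B₀]
variable (t : A) (N : ℕ)

lemma smul_mk (J : Ideal B) (a : A) (b : B) :
    a • (Ideal.Quotient.mk J b) = Ideal.Quotient.mk J (algebraMap A B a * b) := by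
  rw [Algebra.smul_def, map_mul]; rfl

lemma algebraMap_quot (J : Ideal B) (a : A) :
    algebraMap A (B ⧸ J) a = Ideal.Quotient.mk J (algebraMap A B a) := rfl

/-- the structure map `A/t^N → B/τ^N` -/
noncomputable def fA : (A ⧸ Ideal.span {t ^ N}) →ₐ[A] (B ⧸ Ideal.span {algebraMap A B t ^ N}) :=
  Ideal.Quotient.liftₐ _ (Algebra.ofId A _) (by
    intro a ha
    rw [Ideal.mem_span_singleton] at ha
    obtain ⟨y, rfl⟩ := ha
    change algebraMap A (B ⧸ Ideal.span {algebraMap A B t ^ N}) (t ^ N * y) = 0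
    rw [algebraMap_quot, Ideal.Quotient.eq_zero_iff_mem,
      Ideal.mem_span_singleton, map_mul, map_pow]
    exact ⟨_, rfl⟩)

variable (σ : B₀ →ₐ[k] B ⧸ Ideal.span {algebraMap A B t ^ N})

/-- the comparison map `A/t^N ⊗_k B₀ → B/τ^N` -/
noncomputable def Θ : (A ⧸ Ideal.span {t ^ N}) ⊗[k] B₀ →ₐ[A] (B ⧸ Ideal.span {algebraMap A B t ^ N}) :=
  Algebra.TensorProduct.lift (fA (B := B) t N) σ (fun _ _ => Commute.all _ _)

lemma Θ_tmul (a : A ⧸ Ideal.span {t ^ N}) (b : B₀) :
    Θ t N σ (a ⊗ₜ b) = fA (B := B) t N a * σ b := by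
  simp [Θ]

lemma Θ_one_tmul (b : B₀) : Θ t N σ (1 ⊗ₜ b) = σ b := by
  rw [Θ_tmul, map_one, one_mul]

variable {t N σ}
variable (π : B →ₐ[k] B₀)

include π in
theorem Θ_surjective (hπ : Function.Surjective π)
    (hker : ∀ x, π x = 0 ↔ ∃ y, x = algebraMap A B t * y)
    (hσ : ∀ b c, σ b = Ideal.Quotient.mk _ c → π c = b) : Function.Surjective (Θ t N σ) := by
  have hstep : ∀ c : B ⧸ Ideal.span {algebraMap A B t ^ N}, ∃ b : B₀, ∃ c', c = σ b + t • c' := by
    intro c
    obtain ⟨bt, rfl⟩ := Ideal.Quotient.mk_surjective c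
    obtain ⟨bt', hbt'⟩ := Ideal.Quotient.mk_surjective (σ (π bt))
    have h1 : π (bt - bt') = 0 := by rw [map_sub, hσ _ _ hbt'.symm, sub_self]
    obtain ⟨y, hy⟩ := (hker _).mp h1
    refine ⟨π bt, Ideal.Quotient.mk _ y, ?_⟩
    rw [← hbt', smul_mk, ← map_add, ← hy]
    congr 1; ring
  have hm : ∀ m : ℕ, ∀ c : B ⧸ Ideal.span {algebraMap A B t ^ N},
      ∃ z, ∃ c', c = Θ t N σ z + (t ^ m) • c' := by
    intro m
    induction m with
    | zero => intro c; exact ⟨0, c, by rw [map_zero, zero_add, pow_zero, one_smul]⟩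
    | succ m ih =>
      intro c
      obtain ⟨z, c', rfl⟩ := ih c
      obtain ⟨b, c'', rfl⟩ := hstep c'
      refine ⟨z + (t ^ m) • ((1 : A ⧸ Ideal.span {t ^ N}) ⊗ₜ b), c'', ?_⟩
      rw [map_add, map_smul, Θ_one_tmul, smul_add, smul_smul, ← pow_succ, add_assoc]
  intro c
  obtain ⟨z, c', rfl⟩ := hm N c
  refine ⟨z, ?_⟩
  have : (t ^ N) • c' = 0 := by
    obtain ⟨bt, rfl⟩ := Ideal.Quotient.mk_surjective c'
    rw [smul_mk, Ideal.Quotient.eq_zero_iff_mem, Ideal.mem_span_singleton, map_pow]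
    exact ⟨bt, rfl⟩
  rw [this, add_zero]

include π in
theorem Θ_injective (hτ : ∀ x : B, algebraMap A B t * x = 0 → x = 0) (hπ : Function.Surjective π)
    (hker : ∀ x, π x = 0 ↔ ∃ y, x = algebraMap A B t * y)
    (hσ : ∀ b c, σ b = Ideal.Quotient.mk _ c → π c = b)
    (hAk : ∀ a : A, ∃ κ : k, ∃ a', a = algebraMap k A κ + t * a') :
    Function.Injective (Θ t N σ) := by
  have hsurj := Θ_surjective (t := t) (N := N) (σ := σ) π hπ hker hσ
  -- decomposition mod t
  have hdec : ∀ y : (A ⧸ Ideal.span {t ^ N}) ⊗[k] B₀, ∃ b : B₀, ∃ y', y = 1 ⊗ₜ b + t • y' := by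
    intro y
    induction y using TensorProduct.induction_on with
    | zero => exact ⟨0, 0, by rw [TensorProduct.tmul_zero, smul_zero, add_zero]⟩
    | tmul a b =>
      obtain ⟨a, rfl⟩ := Ideal.Quotient.mk_surjective a
      obtain ⟨κ, a', rfl⟩ := hAk a
      refine ⟨κ • b, (Ideal.Quotient.mk _ a') ⊗ₜ b, ?_⟩
      have e1 : (1 : A ⧸ Ideal.span {t ^ N}) ⊗ₜ[k] (κ • b) =
          (Ideal.Quotient.mk (Ideal.span {t ^ N}) (algebraMap k A κ)) ⊗ₜ b := by
        rw [TensorProduct.tmul_smul, TensorProduct.smul_tmul']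
        congr 1
        rw [Algebra.smul_def, mul_one]
        rfl
      have e2 : t • ((Ideal.Quotient.mk (Ideal.span {t ^ N}) a') ⊗ₜ[k] b) =
          (Ideal.Quotient.mk (Ideal.span {t ^ N}) (t * a')) ⊗ₜ b := by
        rw [TensorProduct.smul_tmul', Algebra.smul_def, map_mul]
        rfl
      rw [e1, e2, ← TensorProduct.add_tmul, ← map_add]
    | add y z hy hz =>
      obtain ⟨b, y', rfl⟩ := hy
      obtain ⟨b', z', rfl⟩ := hz
      exact ⟨b + b', y' + z', by rw [TensorProduct.tmul_add, smul_add]; abel⟩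
  -- the map to B₀ on the quotient
  have hπt : ∀ (c : B ⧸ Ideal.span {algebraMap A B t ^ N}) (bt : B),
      t • c = Ideal.Quotient.mk _ bt → 1 ≤ N → π bt = 0 := by
    intro c bt h hN
    obtain ⟨ct, rfl⟩ := Ideal.Quotient.mk_surjective c
    rw [smul_mk, Ideal.Quotient.eq, Ideal.mem_span_singleton] at h
    obtain ⟨y, hy⟩ := h
    refine (hker _).mpr ⟨ct - algebraMap A B t ^ (N - 1) * y, ?_⟩
    have hN' : algebraMap A B t ^ N = algebraMap A B t * algebraMap A B t ^ (N - 1) := by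
      rw [← pow_succ', Nat.sub_add_cancel hN]
    rw [hN'] at hy
    rw [mul_sub, ← mul_assoc, ← hy]; ring
  -- S(1)
  have hS1 : 1 ≤ N → ∀ y, Θ t N σ y = 0 → ∃ y', y = t • y' := by
    intro hN y hy
    obtain ⟨b, y', rfl⟩ := hdec y
    refine ⟨y', ?_⟩
    rw [map_add, Θ_one_tmul, map_smul] at hy
    obtain ⟨bt, hbt⟩ := Ideal.Quotient.mk_surjective (σ b)
    obtain ⟨ct, hct⟩ := Ideal.Quotient.mk_surjective (t • Θ t N σ y')
    have h1 : π bt = b := hσ _ _ hbt.symm
    have h2 : π ct = 0 := hπt _ _ hct.symm hN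
    have h3 : π (bt + ct) = 0 := by
      have h4 : Ideal.Quotient.mk (Ideal.span {algebraMap A B t ^ N}) (bt + ct) = 0 := by
        rw [map_add, hbt, hct, hy]
      rw [Ideal.Quotient.eq_zero_iff_mem, Ideal.mem_span_singleton] at h4
      obtain ⟨y, hy⟩ := h4
      refine (hker _).mpr ⟨algebraMap A B t ^ (N - 1) * y, ?_⟩
      rw [hy, ← mul_assoc, ← pow_succ', Nat.sub_add_cancel hN]
    rw [map_add, h1, h2, add_zero] at h3
    rw [h3, TensorProduct.tmul_zero, zero_add]
  -- S(m)
  have hS : ∀ m : ℕ, m ≤ N → ∀ x, Θ t N σ x = 0 → ∃ x', x = (t ^ m) • x' := by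
    intro m
    induction m with
    | zero => intro _ x _; exact ⟨x, by rw [pow_zero, one_smul]⟩
    | succ m ih =>
      intro hm x hx
      obtain ⟨x', rfl⟩ := ih (Nat.le_of_succ_le hm) x hx
      rw [map_smul] at hx
      obtain ⟨bt, hbt⟩ := Ideal.Quotient.mk_surjective (Θ t N σ x')
      rw [← hbt, smul_mk, Ideal.Quotient.eq_zero_iff_mem, Ideal.mem_span_singleton, map_pow] at hx
      obtain ⟨y, hy⟩ := hx
      have hNm : N = m + (N - m) := by omega
      have h1 : algebraMap A B t ^ m * (bt - algebraMap A B t ^ (N - m) * y) = 0 := by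
        rw [mul_sub, hy, ← mul_assoc, ← pow_add, ← hNm, sub_self]
      have h2 : bt = algebraMap A B t ^ (N - m) * y := by
        have hcancel : ∀ (j : ℕ) (x : B), algebraMap A B t ^ j * x = 0 → x = 0 := by
          intro j
          induction j with
          | zero => intro x h; simpa using h
          | succ j ihj =>
            intro x h
            apply ihj
            apply hτ
            rw [← mul_assoc, ← pow_succ']
            exact h
        exact sub_eq_zero.mp (hcancel _ _ h1)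
      obtain ⟨w, hw⟩ := hsurj (Ideal.Quotient.mk _ y)
      have h3 : Θ t N σ (x' - (t ^ (N - m)) • w) = 0 := by
        rw [map_sub, map_smul, hw, ← hbt, h2, smul_mk, map_pow, sub_self]
      obtain ⟨y', hy'⟩ := hS1 (by omega) _ h3
      refine ⟨y', ?_⟩
      have htN : ∀ z : (A ⧸ Ideal.span {t ^ N}) ⊗[k] B₀, (t ^ N) • z = 0 := by
        intro z
        induction z using TensorProduct.induction_on with
        | zero => rw [smul_zero]
        | tmul a e =>
          rw [TensorProduct.smul_tmul', Algebra.smul_def]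
          have : algebraMap A (A ⧸ Ideal.span {t ^ N}) (t ^ N) = 0 :=
            Ideal.Quotient.eq_zero_iff_mem.mpr (Ideal.subset_span rfl)
          rw [this, zero_mul, TensorProduct.zero_tmul]
        | add y y' hy hy' => rw [smul_add, hy, hy', add_zero]
      have h4 : x' = t • y' + (t ^ (N - m)) • w := by rw [← hy']; abel
      rw [h4, smul_add, smul_smul, smul_smul, ← pow_add, ← hNm, htN, add_zero, ← pow_succ]
  rw [injective_iff_map_eq_zero]
  intro x hx
  obtain ⟨x', rfl⟩ := hS N le_rfl x hx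
  clear hx
  induction x' using TensorProduct.induction_on with
  | zero => rw [smul_zero]
  | tmul a e =>
    rw [TensorProduct.smul_tmul', Algebra.smul_def]
    have : algebraMap A (A ⧸ Ideal.span {t ^ N}) (t ^ N) = 0 :=
      Ideal.Quotient.eq_zero_iff_mem.mpr (Ideal.subset_span rfl)
    rw [this, zero_mul, TensorProduct.zero_tmul]
  | add y y' hy hy' =>
    rw [smul_add, hy, hy', add_zero]

end Groth.Agent.H61.RigidTheta
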