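/-
Assembly lemmas for S12306 (rigid singular algebras are not smoothable over a curve) (helper61).
-/
import Groth.Agent.S12292
import Groth.Agent.H61.RigidTriv
import Groth.Agent.H61.RigidSplit
import Groth.Agent.H61.RigidTheta
import Groth.Agent.H61.RigidStar
import Groth.Agent.H61.CotTSmoothLocus

set_option autoImplicit false

namespace Groth.Agent.H61.RigidMain

open TensorProduct

universe u

section Rigid

variable (k B₀ : Type u) [CommRing k] [CommRing B₀] [Algebra k B₀]

attribute [local instance] Exal.opModule Exal.isCentralScalar_opModule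

/-- an extension equivalent to the trivial one is trivial -/
lemma isTrivial_of_cl_eq_zero {M : Type u} [AddCommGroup M] [Module B₀ M] (X : Exal.Ext k B₀ M)
    (h : X.cl = 0) : X.IsTrivial := by
  obtain ⟨ε⟩ : Nonempty (Exal.Ext.Equiv X (Exal.Ext.trivial k B₀ M)) := Quotient.exact h
  let inl : B₀ →ₐ[k] (Exal.Ext.trivial k B₀ M).E :=
    { toFun := fun b => (TrivSqZeroExt.inl b : TrivSqZeroExt B₀ M)
      map_one' := TrivSqZeroExt.inl_one M
      map_mul' := fun a b => TrivSqZeroExt.inl_mul M a b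
      map_zero' := TrivSqZeroExt.inl_zero M
      map_add' := fun a b => TrivSqZeroExt.inl_add M a b
      commutes' := fun _ => rfl }
  refine ⟨ε.toAlgEquiv.symm.toAlgHom.comp inl, fun b => ?_⟩
  have h1 := ε.proj_apply (ε.toAlgEquiv.symm (inl b))
  rw [AlgEquiv.apply_symm_apply] at h1
  exact h1.symm

theorem rigid_of_forall_isTrivial (hT : ∀ X : Exal.Ext k B₀ B₀, X.IsTrivial) :
    RigidTriv.Rigid k B₀ := by
  intro E _ _ p hp x₀ h1 h2
  have hmul : ∀ a a' : E, p a = p a' → a * x₀ = a' * x₀ := by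
    intro a a' haa
    have : (a - a') * x₀ = 0 := (h2 _).mpr (by rw [map_sub, haa, sub_self])
    rw [sub_mul, sub_eq_zero] at this
    exact this
  have hpx₀ : p x₀ = 0 := (h1 x₀).mpr ⟨1, (one_mul _).symm⟩
  have hsi : ∀ b, p (Function.surjInv hp b) = b := Function.surjInv_eq hp
  let incl : B₀ →+ E :=
    { toFun := fun b => Function.surjInv hp b * x₀
      map_zero' := by
        rw [hmul _ 0 (by rw [hsi, map_zero]), zero_mul]
      map_add' := fun b b' => by
        rw [hmul _ (Function.surjInv hp b + Function.surjInv hp b')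
          (by rw [map_add, hsi, hsi, hsi]), add_mul] }
  have hincl : ∀ b, incl b = Function.surjInv hp b * x₀ := fun b => rfl
  let X : Exal.Ext k B₀ B₀ :=
    { E := E
      proj := p
      incl := incl
      isExtension :=
        { proj_surjective := hp
          incl_injective := by
            rw [injective_iff_map_eq_zero]
            intro b hb
            rw [hincl, h2, hsi] at hb
            exact hb
          exact := fun x => by
            constructor
            · intro hx
              obtain ⟨a, rfl⟩ := (h1 x).mp hx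
              exact ⟨p a, by rw [hincl]; exact hmul _ _ (hsi _)⟩
            · rintro ⟨b, rfl⟩
              rw [hincl, map_mul, hpx₀, mul_zero]
          mul_incl := fun x z => by
            rw [hincl, hincl, ← mul_assoc]
            apply hmul
            rw [map_mul, hsi, hsi, smul_eq_mul] } }
  obtain ⟨s, hs⟩ := hT X
  exact ⟨s, hs⟩

theorem rigid_of_subsingleton (h : Subsingleton (CotT.T1 (CotT.canon k B₀) B₀)) :
    RigidTriv.Rigid k B₀ := by
  obtain ⟨ee, -⟩ := Groth.Agent.S12292.result k B₀ B₀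
  haveI : Subsingleton (Exal.Exalcom k B₀ B₀) := ee.subsingleton
  exact rigid_of_forall_isTrivial k B₀
    (fun X => isTrivial_of_cl_eq_zero k B₀ X (Subsingleton.elim _ _))

/-- rigidity is invariant under isomorphism -/
theorem rigid_of_algEquiv {B₁ : Type u} [CommRing B₁] [Algebra k B₁] (e : B₀ ≃ₐ[k] B₁)
    (h : RigidTriv.Rigid k B₀) : RigidTriv.Rigid k B₁ := by
  intro E _ _ p hp x₀ h1 h2
  obtain ⟨s, hs⟩ := h E (e.symm.toAlgHom.comp p) (e.symm.surjective.comp hp) x₀
    (fun y => by
      rw [← h1 y]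
      change e.symm (p y) = 0 ↔ _
      exact map_eq_zero_iff _ e.symm.injective)
    (fun a => by
      rw [h2 a]
      change _ ↔ e.symm (p a) = 0
      exact (map_eq_zero_iff _ e.symm.injective).symm)
  refine ⟨s.comp e.symm.toAlgHom, fun b => ?_⟩
  have := hs (e.symm b)
  change e.symm (p (s (e.symm b))) = e.symm b at this
  exact e.symm.injective this

end Rigid

section LinAlg

variable {K V W : Type*} [Field K] [AddCommGroup V] [Module K V] [AddCommGroup W] [Module K W]

lemma exists_comp_eq (f : V →ₗ[K] W) (g : V →ₗ[K] K) (h : ∀ v, f v = 0 → g v = 0) :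
    ∃ c : W →ₗ[K] K, ∀ v, c (f v) = g v := by
  have hle : LinearMap.ker f ≤ LinearMap.ker g := fun v hv => h v hv
  let g₀ : LinearMap.range f →ₗ[K] K :=
    ((LinearMap.ker f).liftQ g hle).comp (LinearMap.quotKerEquivRange f).symm.toLinearMap
  obtain ⟨c, hc⟩ := LinearMap.exists_extend g₀
  refine ⟨c, fun v => ?_⟩
  have h1 := LinearMap.congr_fun hc ⟨f v, LinearMap.mem_range_self f v⟩
  rw [LinearMap.comp_apply, Submodule.subtype_apply] at h1
  rw [h1]
  change ((LinearMap.ker f).liftQ g hle) ((LinearMap.quotKerEquivRange f).symm ⟨f v, _⟩) = g v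
  rw [LinearMap.quotKerEquivRange_symm_apply_image]
  rfl

end LinAlg

section Curve

variable {k A : Type u} [Field k] [IsAlgClosed k] [CommRing A] [Algebra k A]
  [Algebra.FiniteType k A] (t : A) (ht : (Ideal.span {t}).IsMaximal)

include ht in
lemma exists_decomp (a : A) : ∃ κ : k, ∃ a', a = algebraMap k A κ + t * a' := by
  letI := Ideal.Quotient.field (Ideal.span {t})
  haveI : Algebra.FiniteType k (A ⧸ Ideal.span {t}) :=
    Algebra.FiniteType.of_surjective (Ideal.Quotient.mkₐ k (Ideal.span {t}))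
      (Ideal.Quotient.mkₐ_surjective k _)
  haveI : Module.Finite k (A ⧸ Ideal.span {t}) := finite_of_finite_type_of_isJacobsonRing k _
  have hsurj := (IsAlgClosed.algebraMap_bijective_of_isIntegral (k := k) (K := A ⧸ Ideal.span {t})).2
  obtain ⟨κ, hκ⟩ := hsurj (Ideal.Quotient.mk _ a)
  have h1 : a - algebraMap k A κ ∈ Ideal.span {t} := by
    rw [← Ideal.Quotient.eq, ← hκ]; rfl
  rw [Ideal.mem_span_singleton] at h1
  obtain ⟨a', ha'⟩ := h1
  exact ⟨κ, a', by rw [← ha']; ring⟩

include ht in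
lemma exists_res : ∃ res : A →ₐ[k] k, ∀ a, res a = 0 ↔ t ∣ a := by
  letI := Ideal.Quotient.field (Ideal.span {t})
  haveI : Algebra.FiniteType k (A ⧸ Ideal.span {t}) :=
    Algebra.FiniteType.of_surjective (Ideal.Quotient.mkₐ k (Ideal.span {t}))
      (Ideal.Quotient.mkₐ_surjective k _)
  haveI : Module.Finite k (A ⧸ Ideal.span {t}) := finite_of_finite_type_of_isJacobsonRing k _
  have hbij := (IsAlgClosed.algebraMap_bijective_of_isIntegral (k := k) (K := A ⧸ Ideal.span {t}))
  let eqv : k ≃ₐ[k] (A ⧸ Ideal.span {t}) := AlgEquiv.ofBijective (Algebra.ofId k _) hbij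
  refine ⟨eqv.symm.toAlgHom.comp (Ideal.Quotient.mkₐ k (Ideal.span {t})), fun a => ?_⟩
  change eqv.symm (Ideal.Quotient.mk _ a) = 0 ↔ _
  rw [map_eq_zero_iff _ eqv.symm.injective, Ideal.Quotient.eq_zero_iff_mem, Ideal.mem_span_singleton]

include ht in
lemma exists_resN_c [IsDomain A] (ht0 : t ≠ 0) (n₀ : ℕ) :
    ∃ (resN : (A ⧸ Ideal.span {t ^ (n₀ + 1)}) →ₐ[k] k) (c : (A ⧸ Ideal.span {t ^ (n₀ + 1)}) →ₗ[k] k),
      ∀ a, c (Ideal.Quotient.mk _ (t ^ n₀) * a) = resN a := by
  obtain ⟨res, hres⟩ := exists_res (k := k) t ht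
  let resN : (A ⧸ Ideal.span {t ^ (n₀ + 1)}) →ₐ[k] k :=
    Ideal.Quotient.liftₐ _ res (by
      intro a ha
      rw [Ideal.mem_span_singleton] at ha
      exact (hres a).mpr (dvd_trans (dvd_pow_self t (Nat.succ_ne_zero n₀)) ha))
  have hresN : ∀ a : A, resN (Ideal.Quotient.mk _ a) = res a := fun a => rfl
  let f : (A ⧸ Ideal.span {t ^ (n₀ + 1)}) →ₗ[k] (A ⧸ Ideal.span {t ^ (n₀ + 1)}) :=
    LinearMap.mulLeft k (Ideal.Quotient.mk _ (t ^ n₀))
  have hf : ∀ v, f v = 0 → resN.toLinearMap v = 0 := by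
    intro v hv
    obtain ⟨a, rfl⟩ := Ideal.Quotient.mk_surjective v
    change Ideal.Quotient.mk _ (t ^ n₀) * Ideal.Quotient.mk _ a = 0 at hv
    rw [← map_mul, Ideal.Quotient.eq_zero_iff_mem, Ideal.mem_span_singleton] at hv
    obtain ⟨y, hy⟩ := hv
    have h1 : a = t * y := by
      have h2 : t ^ n₀ * a = t ^ n₀ * (t * y) := by rw [hy]; ring
      exact mul_left_cancel₀ (pow_ne_zero n₀ ht0) h2
    change resN (Ideal.Quotient.mk _ a) = 0
    rw [hresN, hres]
    exact ⟨y, h1⟩
  obtain ⟨c, hc⟩ := exists_comp_eq f resN.toLinearMap hf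
  exact ⟨resN, c, fun a => hc a⟩

end Curve

section Split

variable (k B₀ : Type u) [Field k] [CommRing B₀] [Algebra k B₀]

lemma formallySmooth_of_exists_section
    (h : ∀ (E₀ : Type u) [CommRing E₀] [Algebra k E₀] (π₀ : E₀ →ₐ[k] B₀), Function.Surjective π₀ →
      (∀ x y, π₀ x = 0 → π₀ y = 0 → x * y = 0) → ∃ s : B₀ →ₐ[k] E₀, ∀ b, π₀ (s b) = b) :
    Algebra.FormallySmooth k B₀ := by
  let f : MvPolynomial B₀ k →ₐ[k] B₀ := MvPolynomial.aeval id
  have hf : Function.Surjective f := fun b => ⟨MvPolynomial.X b, by simp [f]⟩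
  have hπ₀ : Function.Surjective f.kerSquareLift := by
    intro b
    obtain ⟨x, rfl⟩ := hf b
    exact ⟨Ideal.Quotient.mk _ x, rfl⟩
  have hsq : ∀ x y, f.kerSquareLift x = 0 → f.kerSquareLift y = 0 → x * y = 0 := by
    intro x y hx hy
    obtain ⟨x, rfl⟩ := Ideal.Quotient.mk_surjective x
    obtain ⟨y, rfl⟩ := Ideal.Quotient.mk_surjective y
    have hx' : x ∈ RingHom.ker f.toRingHom := hx
    have hy' : y ∈ RingHom.ker f.toRingHom := hy
    rw [← map_mul, Ideal.Quotient.eq_zero_iff_mem, pow_two]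
    exact Ideal.mul_mem_mul hx' hy'
  obtain ⟨s, hs⟩ := h _ f.kerSquareLift hπ₀ hsq
  exact Algebra.FormallySmooth.of_split f s (AlgHom.ext hs)

end Split

end Groth.Agent.H61.RigidMain
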