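/-
Deformations of rigid affine schemes over Artinian local algebras are trivial (helper61).
Scheme-level wrapper around `RigidArt.exists_section_artin`, using helper63's dictionary lemmas.
-/
import Groth.Agent.H63.RigidMarked
import Groth.Agent.H61.RigidArt
import Groth.Agent.H61.RigidMain

set_option autoImplicit false
universe u
open AlgebraicGeometry CategoryTheory Limits TensorProduct IsLocalRing

namespace Groth.Agent.H61.RigidSch

open Groth.Agent.H63.RigidSmooth

section Affine

variable (k : Type u) [Field k] (B₀ : Type u) [CommRing B₀] [Algebra k B₀]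
    (hrig : RigidTriv.Rigid k B₀)
    (A : Type u) [CommRing A] [IsLocalRing A] [IsArtinianRing A] [Algebra k A] (e : A →ₐ[k] k)
    (B : Type u) [CommRing B] [Algebra A B] [Module.Flat A B]
    (i : Spec (CommRingCat.of B₀) ⟶ Spec (CommRingCat.of B))
    (hsq : IsPullback i (Spec.map (CommRingCat.ofHom (algebraMap k B₀)))
      (Spec.map (CommRingCat.ofHom (algebraMap A B)))
      (Spec.map (CommRingCat.ofHom e.toRingHom)))

/-- rigidity transfers along an isomorphism of spectra over `k` -/
theorem rigid_of_iso_Spec (B₁ : Type u) [CommRing B₁] [Algebra k B₁]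
    (θ : Spec (CommRingCat.of B₀) ≅ Spec (CommRingCat.of B₁))
    (hθ : θ.hom ≫ Spec.map (CommRingCat.ofHom (algebraMap k B₁)) =
      Spec.map (CommRingCat.ofHom (algebraMap k B₀)))
    (hrig : RigidTriv.Rigid k B₀) : RigidTriv.Rigid k B₁ := by
  let φ : CommRingCat.of B₁ ⟶ CommRingCat.of B₀ := Spec.preimage θ.hom
  let ψ : CommRingCat.of B₀ ⟶ CommRingCat.of B₁ := Spec.preimage θ.inv
  have h1 : ψ ≫ φ = 𝟙 _ := by
    apply Spec.map_injective
    rw [Spec.map_comp, Spec.map_preimage, Spec.map_preimage, Spec.map_id, Iso.hom_inv_id]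
  have h2 : φ ≫ ψ = 𝟙 _ := by
    apply Spec.map_injective
    rw [Spec.map_comp, Spec.map_preimage, Spec.map_preimage, Spec.map_id, Iso.inv_hom_id]
  have h3 : CommRingCat.ofHom (algebraMap k B₁) ≫ φ = CommRingCat.ofHom (algebraMap k B₀) := by
    apply Spec.map_injective
    rw [Spec.map_comp, Spec.map_preimage, hθ]
  let e₀ : B₀ ≃ₐ[k] B₁ :=
    { toFun := ψ.hom
      invFun := φ.hom
      left_inv := fun b => by
        have := congrArg (fun f => f.hom b) h1
        simpa using this
      right_inv := fun b => by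
        have := congrArg (fun f => f.hom b) h2
        simpa using this
      map_mul' := map_mul ψ.hom
      map_add' := map_add ψ.hom
      commutes' := fun c => by
        have h4 := congrArg (fun f => f.hom c) h3
        simp only [CommRingCat.hom_comp, CommRingCat.hom_ofHom, RingHom.comp_apply] at h4
        have h5 := congrArg (fun f => f.hom (algebraMap k B₁ c)) h2
        simp only [CommRingCat.hom_comp, CommRingCat.hom_id, RingHom.comp_apply,
          RingHom.id_apply] at h5
        change ψ.hom (algebraMap k B₀ c) = algebraMap k B₁ c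
        rw [← h4, h5] }
  exact Groth.Agent.H61.RigidMain.rigid_of_algEquiv k B₀ e₀ hrig

include hrig hsq in
theorem exists_retraction_isPullback_of_rigid :
    ∃ r : Spec (CommRingCat.of B) ⟶ Spec (CommRingCat.of B₀),
      IsPullback r (Spec.map (CommRingCat.ofHom (algebraMap A B)))
        (Spec.map (CommRingCat.ofHom (algebraMap k B₀)))
        (Spec.map (CommRingCat.ofHom (algebraMap k A))) ∧ i ≫ r = 𝟙 _ := by
  classical
  letI : Algebra k B := ((algebraMap A B).comp (algebraMap k A)).toAlgebra
  haveI : IsScalarTower k A B := IsScalarTower.of_algebraMap_eq' rfl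
  obtain ⟨θ, hθ1, hθ2⟩ := exists_iso_fibre k (Spec.map (CommRingCat.ofHom (algebraMap k B₀)))
    A e B i hsq
  have hrig' : RigidTriv.Rigid k (B ⧸ (maximalIdeal A).map (algebraMap A B)) :=
    rigid_of_iso_Spec k B₀ _ θ hθ2 hrig
  obtain ⟨s, hs⟩ := RigidArt.exists_section_artin (k := k) (A := A) (B := B) hrig'
  obtain ⟨h1, h2⟩ := isPullback_of_section k (Spec.map (CommRingCat.ofHom (algebraMap k B₀)))
    A e B i (isNilpotent_maximalIdeal A) θ hθ1 hθ2 s hs
  exact ⟨_, h1, h2⟩

end Affine

/-- deformations of a rigid affine scheme over a local Artinian `k`-algebra are trivial -/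
theorem exists_iso_trivial_of_rigid (k : Type u) [Field k] (B₀ : Type u) [CommRing B₀] [Algebra k B₀]
    (hrig : RigidTriv.Rigid k B₀)
    (A : Type u) [CommRing A] [IsLocalRing A] [IsArtinianRing A] [Algebra k A] (e : A →ₐ[k] k)
    (X' : Scheme.{u}) (g : X' ⟶ Spec (CommRingCat.of A)) [Flat g]
    (i : Spec (CommRingCat.of B₀) ⟶ X')
    (hsq : IsPullback i (Spec.map (CommRingCat.ofHom (algebraMap k B₀))) g
      (Spec.map (CommRingCat.ofHom e.toRingHom))) :
    ∃ φ : X' ≅ Limits.pullback (Spec.map (CommRingCat.ofHom (algebraMap k B₀)))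
        (Spec.map (CommRingCat.ofHom (algebraMap k A))),
      φ.hom ≫ Limits.pullback.snd (Spec.map (CommRingCat.ofHom (algebraMap k B₀)))
        (Spec.map (CommRingCat.ofHom (algebraMap k A))) = g ∧
      i ≫ φ.hom ≫ Limits.pullback.fst (Spec.map (CommRingCat.ofHom (algebraMap k B₀)))
        (Spec.map (CommRingCat.ofHom (algebraMap k A))) = 𝟙 _ := by
  have hesurj : Function.Surjective e.toRingHom := fun c => ⟨algebraMap k A c, by simp⟩
  haveI : IsClosedImmersion (Spec.map (CommRingCat.ofHom e.toRingHom)) :=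
    IsClosedImmersion.spec_of_surjective _ hesurj
  haveI : IsClosedImmersion i := MorphismProperty.of_isPullback hsq.flip inferInstance
  haveI : Surjective (Spec.map (CommRingCat.ofHom e.toRingHom)) := by
    refine ⟨fun y => ?_⟩
    obtain ⟨x⟩ : Nonempty (Spec (CommRingCat.of k)) := inferInstance
    refine ⟨x, ?_⟩
    have hsub : ∀ y₁ y₂ : Spec (CommRingCat.of A), y₁ = y₂ := by
      intro y₁ y₂
      apply PrimeSpectrum.ext
      haveI := y₁.isPrime
      haveI := y₂.isPrime
      rw [IsLocalRing.eq_maximalIdeal (IsArtinianRing.isMaximal_of_isPrime y₁.asIdeal),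
        IsLocalRing.eq_maximalIdeal (IsArtinianRing.isMaximal_of_isPrime y₂.asIdeal)]
    exact hsub _ _
  haveI : Surjective i := MorphismProperty.of_isPullback hsq.flip inferInstance
  haveI : IsAffine X' := Groth.Agent.S0440.result i i.surjective
  let gA : A →+* Γ(X', ⊤) := ((Scheme.ΓSpecIso (CommRingCat.of A)).inv ≫ g.appTop).hom
  letI : Algebra A Γ(X', ⊤) := gA.toAlgebra
  have hg : X'.isoSpec.hom ≫ Spec.map (CommRingCat.ofHom (algebraMap A Γ(X', ⊤))) = g := by
    have : CommRingCat.ofHom (algebraMap A Γ(X', ⊤)) =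
        (Scheme.ΓSpecIso (CommRingCat.of A)).inv ≫ g.appTop := rfl
    rw [this, Spec.map_comp, Scheme.isoSpec_hom_naturality_assoc, Scheme.isoSpec_Spec_hom,
      ← Spec.map_comp, Iso.inv_hom_id, Spec.map_id, Category.comp_id]
  haveI : Module.Flat A Γ(X', ⊤) := by
    have h1 : Spec.map (CommRingCat.ofHom (algebraMap A Γ(X', ⊤))) = X'.isoSpec.inv ≫ g := by
      rw [← hg, Iso.inv_hom_id_assoc]
    have h2 : Flat (Spec.map (CommRingCat.ofHom (algebraMap A Γ(X', ⊤)))) := by
      rw [h1]; infer_instance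
    exact RingHom.flat_algebraMap_iff.mp (Flat.SpecMap_iff.mp h2)
  have hsq' : IsPullback (i ≫ X'.isoSpec.hom) (Spec.map (CommRingCat.ofHom (algebraMap k B₀)))
      (Spec.map (CommRingCat.ofHom (algebraMap A Γ(X', ⊤))))
      (Spec.map (CommRingCat.ofHom e.toRingHom)) :=
    hsq.of_iso (Iso.refl _) X'.isoSpec (Iso.refl _) (Iso.refl _) (by simp) (by simp)
      (by simp [hg]) (by simp)
  obtain ⟨r, hr, hir⟩ := exists_retraction_isPullback_of_rigid k B₀ hrig A e Γ(X', ⊤) _ hsq'
  have hr' : IsPullback (X'.isoSpec.hom ≫ r) g (Spec.map (CommRingCat.ofHom (algebraMap k B₀)))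
      (Spec.map (CommRingCat.ofHom (algebraMap k A))) :=
    hr.of_iso X'.isoSpec.symm (Iso.refl _) (Iso.refl _) (Iso.refl _) (by simp)
      (by simp [← hg]) (by simp) (by simp)
  refine ⟨hr'.isoPullback, hr'.isoPullback_hom_snd, ?_⟩
  rw [hr'.isoPullback_hom_fst, ← Category.assoc]
  exact hir

end Groth.Agent.H61.RigidSch
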