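import Groth.Agent.H61.SchlessMain

/-!
# Schlessinger's hull theorem, abstract form (helper61)

Given a coefficient ring `P` with the lifting property, elements `y j` of its maximal ideal
detecting tangent vectors, and a surjection `P → k ⊕ k^r` sending `y j` to the basis vectors,
where `r = dim t_F`: `F` has a hull (a quotient of `P`).
-/

set_option autoImplicit false
set_option linter.unusedSectionVars false
set_option linter.style.haveILetI false
universe u v

namespace Groth.Agent.H61

open CategoryTheory ArtFun ArtFun.Art Groth.Agent.H63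

variable {Λ : Type u} {k : Type u} [CommRing Λ] [Field k] [Algebra Λ k]
variable [IsNoetherianRing Λ] [Module.Finite Λ k]
variable {F : Art Λ k ⥤ Type v} [TS : TangentStr F]

theorem exists_hull_of_frame {P : CRing Λ k} (hlift : HasLift P) {r : ℕ} (y : Fin r → P.carrier)
    (hext : ∀ ψ ψ' : HomSet P.carrier P.res (dual Λ k),
      (∀ j, dsnd (ψ.1 (y j)) = dsnd (ψ'.1 (y j))) → ψ = ψ')
    (ρE : HomSet P.carrier P.res (EE Λ k r)) (hρE : ∀ j, ρE.1 (y j) = eps j)
    (hρEs : Function.Surjective ρE.1)
    (bas : Module.Basis (Fin r) k (TangentSpace F))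
    (h0 : H0 F) (h1 : Hbar F) (h2 : Heps F) :
    ∃ (R : CRing Λ k) (ξ : Family R.carrier R.res F),
      IsVersal ξ ∧ Function.Bijective (ξ.app (dual Λ k)) := by
  classical
  obtain ⟨ζ, hζ⟩ := exists_tangent_elt h0 h2 r (fun i => TangentSpace.val (bas i))
  let eLev : Lev P F := ⟨EE Λ k r, ρE, hρEs, ζ⟩
  have he : eLev.Kills 1 := by
    intro x hx
    rw [RingHom.mem_ker]
    have h1 := homSet_map_pow P ρE 2 x hx
    rw [EE_maximalIdeal_sq] at h1
    exact h1
  obtain ⟨x₀⟩ := h0.1
  let T : Tower P F :=
    { s := Lev.seqS eLev x₀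
      kills := Lev.seqS_kills eLev he x₀
      ovr := Lev.seqS_over h0 eLev he x₀
      adic := Lev.seqS_adic eLev he x₀ }
  have hmin : ∀ M, 1 ≤ M → (T.s M).IsMin M := by
    intro M hM
    obtain ⟨j, rfl⟩ : ∃ j, M = j + 1 := ⟨M - 1, by omega⟩
    exact Lev.seqT_isMin eLev he j
  obtain ⟨g, hg, hgξ⟩ := Lev.seqS_over_e eLev he x₀ h0 (le_refl 1)
  let cc : HomSet T.hull.carrier T.hull.res (dual Λ k) → Fin r → k :=
    fun φ i => dsnd ((T.pull φ).1 (y i))
  have claimA : ∀ φ, T.pull φ = HomSet.map (lin (fn (cc φ))) ρE := by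
    intro φ
    apply hext
    intro i
    rw [homSet_map_apply, hρE i, lin_eps, fn_single]
  have claimB : ∀ φ, TangentSpace.mk (T.family.app (dual Λ k) φ) = ∑ i, cc φ i • bas i := by
    intro φ
    have hf : HomSet.map (g ≫ lin (fn (cc φ))) (T.s 1).ρ = T.pull φ := by
      rw [homSet_map_comp, hg, claimA φ]
    rw [T.family_app φ 1 (g ≫ lin (fn (cc φ))) hf, Functor.map_comp_apply, hgξ]
    change TangentSpace.mk (F.map (lin (fn (cc φ))) ζ) = _
    rw [tan_formula]
    refine Finset.sum_congr rfl fun i _ => ?_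
    rw [hζ i]
    rfl
  have hbij : Function.Bijective (T.family.app (dual Λ k)) := by
    constructor
    · intro φ φ' h
      have h5 : ∑ i, cc φ i • bas i = ∑ i, cc φ' i • bas i := by
        rw [← claimB, ← claimB, h]
      have h6 : cc φ = cc φ' := by
        have := congrArg bas.equivFun h5
        rwa [Module.Basis.equivFun_apply, Module.Basis.equivFun_apply, bas.repr_sum_self,
          bas.repr_sum_self] at this
      apply T.pull_injective
      rw [claimA φ, claimA φ', h6]
    · intro z
      set c : Fin r → k := bas.equivFun (TangentSpace.mk z) with hc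
      set χ : HomSet P.carrier P.res (dual Λ k) := HomSet.map (lin (fn c)) ρE with hχ
      have hJ : T.J ≤ RingHom.ker χ.1 := by
        refine (T.J_le_I 1).trans ?_
        intro x hx
        have hx' : (T.s 1).ρ.1 x = 0 := RingHom.mem_ker.1 hx
        have e0 : ρE.1 x = g ((T.s 1).ρ.1 x) := (congrArg (fun t => t.1 x) hg).symm
        rw [RingHom.mem_ker]
        change (lin (fn c)) (ρE.1 x) = 0
        rw [e0, hx']
        have e1 : g 0 = 0 := map_zero g.toAlgHom
        rw [e1]
        exact map_zero (lin (fn c)).toAlgHom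
      obtain ⟨φ, hφ⟩ := T.exists_descend χ hJ
      refine ⟨φ, ?_⟩
      have h5 : cc φ = c := by
        funext i
        change dsnd ((T.pull φ).1 (y i)) = c i
        rw [hφ, hχ, homSet_map_apply, hρE i, lin_eps, fn_single]
      have h6 := claimB φ
      rw [h5, hc, bas.sum_equivFun] at h6
      exact h6
  exact ⟨T.hull, T.family, T.isVersal hmin hlift h1 h2 hbij.2, hbij⟩

end Groth.Agent.H61
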