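import Groth.Agent.H61.CompletedPoly
import Groth.Agent.H61.SchlessMain

/-!
# Schlessinger's theorem over a general Noetherian base: existence of versal families (helper61)
-/

set_option autoImplicit false
set_option linter.unusedSectionVars false
set_option linter.style.haveILetI false
universe u v

namespace Groth.Agent.H61

open CategoryTheory ArtFun ArtFun.Art Groth.Agent.H63

variable {Λ : Type u} {k : Type u} [CommRing Λ] [Field k] [Algebra Λ k]

theorem tsze_decomp' {r : ℕ} (x : TrivSqZeroExt k (Fin r → k)) :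
    (TrivSqZeroExt.inl x.fst : TrivSqZeroExt k (Fin r → k)) +
      ∑ i, (TrivSqZeroExt.inl (x.snd i) : TrivSqZeroExt k (Fin r → k)) *
        (TrivSqZeroExt.inr (Pi.single i 1) : TrivSqZeroExt k (Fin r → k)) = x := by
  classical
  simp_rw [TrivSqZeroExt.inl_mul_inr]
  apply TrivSqZeroExt.ext
  · rw [TrivSqZeroExt.fst_add, TrivSqZeroExt.fst_inl, TrivSqZeroExt.fst_sum]
    simp only [TrivSqZeroExt.fst_inr, Finset.sum_const_zero, add_zero]
  · rw [TrivSqZeroExt.snd_add, TrivSqZeroExt.snd_inl, zero_add, TrivSqZeroExt.snd_sum]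
    simp only [TrivSqZeroExt.snd_inr]
    funext j
    rw [Finset.sum_apply]
    simp only [Pi.smul_apply, Pi.single_apply, smul_eq_mul, mul_ite, mul_one, mul_zero,
      Finset.sum_ite_eq, Finset.mem_univ, if_true]

theorem kills_of_EE' {P : CRing Λ k} {F : Art Λ k ⥤ Type v} {r : ℕ} (e : Lev P F)
    (he : e.R = EE Λ k r) : e.Kills 1 := by
  intro x hx
  rw [RingHom.mem_ker]
  have h1 := homSet_map_pow P e.ρ 2 x hx
  obtain ⟨R, ρ, s, ξ⟩ := e
  change R = EE Λ k r at he
  subst he
  rw [EE_maximalIdeal_sq] at h1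
  exact h1

section EEmore

variable {r : ℕ}

/-- `c ↦ (c, 0)` -/
def einl (c : k) : EE Λ k r := (TrivSqZeroExt.inl c : TrivSqZeroExt k (Fin r → k))

theorem res_einl (c : k) : (EE Λ k r).res (einl c) = c := rfl

theorem EE_decomp (x : EE Λ k r) :
    einl (Λ := Λ) (TrivSqZeroExt.fst (show TrivSqZeroExt k (Fin r → k) from x)) +
      ∑ i, einl (TrivSqZeroExt.snd (show TrivSqZeroExt k (Fin r → k) from x) i) * eps i = x :=
  tsze_decomp' _

/-- `einl` as an algebra map -/
def einlHom : k →ₐ[Λ] (EE Λ k r).carrier := TrivSqZeroExt.inlAlgHom Λ k (Fin r → k)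

theorem einlHom_apply (c : k) : einlHom (Λ := Λ) (r := r) c = einl c := rfl

end EEmore

variable [IsNoetherianRing Λ]

theorem hasLift_cp {σ : Type} [Finite σ] (π : MvPolynomial σ Λ →ₐ[Λ] k)
    (hπ : Function.Surjective π) : HasLift (CP.ring π hπ) := by
  intro B A μ hμ φ
  choose b hb using fun i : σ => hμ (φ.1 (CP.cpX π hπ i))
  have hbres : ∀ i, B.res (b i) = π (MvPolynomial.X i) := by
    intro i
    rw [← res_app μ (b i), hb i]
    exact AlgHom.congr_fun φ.2 (CP.cpX π hπ i)
  obtain ⟨ψ, hψ⟩ := CP.exists_hom π hπ B b hbres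
  refine ⟨ψ, ?_⟩
  apply CP.hom_ext π hπ
  intro i
  rw [homSet_map_apply, hψ i, hb i]

variable [Module.Finite Λ k]

/-- there is a coefficient ring whose functor is smooth -/
theorem exists_smooth_cring : ∃ R : CRing Λ k, IsSmoothFunctor (hR R.carrier R.res) := by
  obtain ⟨n, f, hf⟩ := Algebra.FiniteType.iff_quotient_mvPolynomial''.1
    (inferInstance : Algebra.FiniteType Λ k)
  refine ⟨CP.ring f hf, ?_⟩
  intro B A μ hμ φ
  obtain ⟨ψ, hψ⟩ := hasLift_cp f hf μ hμ φ
  exact ⟨ψ, hψ⟩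

variable {F : Art Λ k ⥤ Type v} [TS : TangentStr F]

/-- **Schlessinger**, general base: `H0`, `H̄`, `H_ε`, `H_f` give a versal family. -/
theorem exists_versal (h0 : H0 F) (h1 : Hbar F) (h2 : Heps F) (h3 : Hfin F) :
    ∃ (R : CRing Λ k) (ξ : Family R.carrier R.res F), IsVersal ξ := by
  classical
  haveI : Module.Finite k (TangentSpace F) := h3
  obtain ⟨N, f, hf⟩ := Algebra.FiniteType.iff_quotient_mvPolynomial''.1
    (inferInstance : Algebra.FiniteType Λ k)
  obtain ⟨r, ⟨bas⟩⟩ : ∃ r : ℕ, Nonempty (Module.Basis (Fin r) k (TangentSpace F)) :=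
    ⟨_, ⟨Module.finBasis k (TangentSpace F)⟩⟩
  let θ : Fin N ⊕ Fin r → k := Sum.elim (fun i => f (MvPolynomial.X i)) (fun _ => 0)
  let π : MvPolynomial (Fin N ⊕ Fin r) Λ →ₐ[Λ] k := MvPolynomial.aeval θ
  have hθf : (MvPolynomial.aeval (fun i : Fin N => f (MvPolynomial.X i)) :
      MvPolynomial (Fin N) Λ →ₐ[Λ] k) = f := by
    apply MvPolynomial.algHom_ext
    intro i
    rw [MvPolynomial.aeval_X]
  have hπ : Function.Surjective π := by
    intro c
    obtain ⟨p, hp⟩ := hf c
    refine ⟨MvPolynomial.rename Sum.inl p, ?_⟩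
    change MvPolynomial.aeval θ (MvPolynomial.rename Sum.inl p) = c
    rw [MvPolynomial.aeval_rename]
    change MvPolynomial.aeval (fun i : Fin N => f (MvPolynomial.X i)) p = c
    rw [hθf, hp]
  obtain ⟨P, hP⟩ : ∃ P : CRing Λ k, P = CP.ring π hπ := ⟨_, rfl⟩
  obtain ⟨ζ, hζ⟩ := exists_tangent_elt h0 h2 r (fun i => TangentSpace.val (bas i))
  let bE : Fin N ⊕ Fin r → EE Λ k r :=
    Sum.elim (fun i => einl (f (MvPolynomial.X i))) (fun j => eps j)
  have hbE : ∀ i, (EE Λ k r).res (bE i) = π (MvPolynomial.X i) := by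
    rintro (i | j)
    · change f (MvPolynomial.X i) = MvPolynomial.aeval θ (MvPolynomial.X (Sum.inl i))
      rw [MvPolynomial.aeval_X]
      rfl
    · change (0 : k) = MvPolynomial.aeval θ (MvPolynomial.X (Sum.inr j))
      rw [MvPolynomial.aeval_X]
      rfl
  obtain ⟨ρE, hρE⟩ := CP.exists_hom π hπ (EE Λ k r) bE hbE
  have hρEs : Function.Surjective ρE.1 := by
    have hcomp : ρE.1.comp (CP.ofHom π) = MvPolynomial.aeval bE := by
      apply MvPolynomial.algHom_ext
      intro i
      rw [MvPolynomial.aeval_X]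
      exact hρE i
    have hinl : ∀ c : k, einl c ∈ (ρE.1.range : Subalgebra Λ (EE Λ k r).carrier) := by
      intro c
      obtain ⟨p, hp⟩ := hf c
      refine ⟨CP.ofHom π (MvPolynomial.rename Sum.inl p), ?_⟩
      have e1 : ρE.1 (CP.ofHom π (MvPolynomial.rename Sum.inl p)) =
          MvPolynomial.aeval bE (MvPolynomial.rename Sum.inl p) := AlgHom.congr_fun hcomp _
      have e2 : ((einlHom (Λ := Λ) (r := r)).comp f :
          MvPolynomial (Fin N) Λ →ₐ[Λ] (EE Λ k r).carrier) =
          MvPolynomial.aeval (fun i : Fin N => einl (f (MvPolynomial.X i))) := by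
        apply MvPolynomial.algHom_ext
        intro i
        rw [MvPolynomial.aeval_X]
        rfl
      refine e1.trans ?_
      rw [MvPolynomial.aeval_rename]
      change MvPolynomial.aeval (fun i : Fin N => einl (f (MvPolynomial.X i))) p = _
      rw [← e2]
      change einl (f p) = _
      rw [hp]
    have heps : ∀ j : Fin r, (eps j : EE Λ k r) ∈ (ρE.1.range : Subalgebra Λ (EE Λ k r).carrier) :=
      fun j => ⟨CP.cpX π hπ (Sum.inr j), hρE (Sum.inr j)⟩
    intro x
    have hx : x ∈ (ρE.1.range : Subalgebra Λ (EE Λ k r).carrier) := by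
      rw [← EE_decomp x]
      exact Subalgebra.add_mem _ (hinl _)
        (Subalgebra.sum_mem _ fun i _ => Subalgebra.mul_mem _ (hinl _) (heps i))
    exact hx
  let eLev : Lev (CP.ring π hπ) F := ⟨EE Λ k r, ρE, hρEs, ζ⟩
  have he : eLev.Kills 1 := kills_of_EE' eLev rfl
  obtain ⟨x₀⟩ := h0.1
  let T : Tower (CP.ring π hπ) F :=
    { s := Lev.seqS eLev x₀
      kills := Lev.seqS_kills eLev he x₀
      ovr := Lev.seqS_over h0 eLev he x₀
      adic := Lev.seqS_adic eLev he x₀ }
  have hmin : ∀ M, 1 ≤ M → (T.s M).IsMin M := by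
    intro M hM
    obtain ⟨j, rfl⟩ : ∃ j, M = j + 1 := ⟨M - 1, by omega⟩
    exact Lev.seqT_isMin eLev he j
  have hlift : HasLift (CP.ring π hπ) := hasLift_cp π hπ
  obtain ⟨g, hg, hgξ⟩ := Lev.seqS_over_e eLev he x₀ h0 (le_refl 1)
  have htan : Function.Surjective (T.family.app (dual Λ k)) := by
    intro y
    set c : Fin r → k := bas.equivFun (TangentSpace.mk y) with hc
    set χ : HomSet (CP.ring π hπ).carrier (CP.ring π hπ).res (dual Λ k) :=
      HomSet.map (lin (fn c)) ρE with hχ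
    have hJ : T.J ≤ RingHom.ker χ.1 := by
      refine (T.J_le_I 1).trans ?_
      intro x hx
      have hx' : (T.s 1).ρ.1 x = 0 := RingHom.mem_ker.1 hx
      have e0 : ρE.1 x = g ((T.s 1).ρ.1 x) := (congrArg (fun t => t.1 x) hg).symm
      rw [RingHom.mem_ker]
      change (lin (fn c)) (ρE.1 x) = 0
      rw [e0, hx']
      have e1 : g 0 = 0 := map_zero g.toAlgHom
      rw [e1]
      exact map_zero (lin (fn c)).toAlgHom
    obtain ⟨φ, hφ⟩ := T.exists_descend χ hJ
    refine ⟨φ, ?_⟩
    have hf' : HomSet.map (g ≫ lin (fn c)) (T.s 1).ρ = T.pull φ := by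
      rw [homSet_map_comp, hg, hφ]
    rw [T.family_app φ 1 (g ≫ lin (fn c)) hf', Functor.map_comp_apply, hgξ]
    have h5 : TangentSpace.mk (F.map (lin (fn c)) ζ) = ∑ i, c i • bas i := by
      rw [tan_formula]
      refine Finset.sum_congr rfl fun i _ => ?_
      rw [hζ i]
      rfl
    rw [hc, bas.sum_equivFun] at h5
    exact h5
  exact ⟨T.hull, T.family, T.isVersal hmin hlift h1 h2 htan⟩

end Groth.Agent.H61
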