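import Groth.Agent.H61.SchlessLevels

/-!
# Schlessinger's construction: the hull ring and its family (helper61)
-/

set_option autoImplicit false
set_option linter.unusedSectionVars false
set_option linter.style.haveILetI false
universe u v

namespace Groth.Agent.H61

open CategoryTheory ArtFun ArtFun.Art Groth.Agent.H63

variable {Λ : Type u} {k : Type u} [CommRing Λ] [Field k] [Algebra Λ k]

/-- A decreasing sequence of ideals of a complete local ring which is "adic" has the expected
intersection. -/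
theorem chevalley_lite (P : CRing Λ k) (I : ℕ → Ideal P.carrier)
    (h1 : ∀ M, P.mpow M ≤ I M) (h2 : ∀ M, I (M + 1) ≤ I M)
    (h3 : ∀ M, I M ≤ I (M + 1) ⊔ P.mpow M) (N : ℕ) :
    I N ≤ (⨅ M, I M) ⊔ P.mpow N := by
  classical
  have hanti : ∀ {M M' : ℕ}, M ≤ M' → I M' ≤ I M := by
    intro M M' h
    induction h with
    | refl => exact le_rfl
    | step _ ih => exact (h2 _).trans ih
  have hstep : ∀ (M : ℕ) (y : P.carrier), y ∈ I M → ∃ a ∈ I (M + 1), y - a ∈ P.mpow M := by
    intro M y hy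
    obtain ⟨a, ha, b, hb, hab⟩ := Submodule.mem_sup.1 (h3 M hy)
    refine ⟨a, ha, ?_⟩
    rw [← hab, add_sub_cancel_left]
    exact hb
  intro x hx
  let xs : (j : ℕ) → {y : P.carrier // y ∈ I (N + j)} := fun j =>
    Nat.rec (motive := fun j => {y : P.carrier // y ∈ I (N + j)}) ⟨x, hx⟩
      (fun j y => ⟨Classical.choose (hstep (N + j) y.1 y.2),
        (Classical.choose_spec (hstep (N + j) y.1 y.2)).1⟩) j
  have hxs : ∀ j, (xs j).1 - (xs (j + 1)).1 ∈ P.mpow (N + j) := fun j =>
    (Classical.choose_spec (hstep (N + j) (xs j).1 (xs j).2)).2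
  have hx0 : (xs 0).1 = x := rfl
  have hmono : ∀ {a b : ℕ}, a ≤ b → P.mpow b ≤ P.mpow a := fun h =>
    Ideal.pow_le_pow_right (Nat.succ_le_succ h)
  have hcauchy : ∀ m n, m ≤ n → (xs m).1 - (xs n).1 ∈ P.mpow (N + m) := by
    intro m n h
    induction h with
    | refl => rw [sub_self]; exact Ideal.zero_mem _
    | @step n h ih =>
      have : (xs m).1 - (xs (n + 1)).1 = ((xs m).1 - (xs n).1) + ((xs n).1 - (xs (n + 1)).1) := by
        ring
      rw [this]
      have h' : m ≤ n := h
      exact Ideal.add_mem _ ih (hmono (by omega) (hxs n))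
  haveI := P.isAdicComplete
  obtain ⟨L, hL⟩ := IsPrecomplete.prec' (I := IsLocalRing.maximalIdeal P.carrier)
    (fun j => (xs j).1) (by
      intro m n hmn
      rw [SModEq.sub_mem, smul_eq_mul, Ideal.mul_top]
      exact Ideal.pow_le_pow_right (by omega) (hcauchy m n hmn))
  have hL' : ∀ j, (xs j).1 - L ∈ IsLocalRing.maximalIdeal P.carrier ^ j := by
    intro j
    have := hL j
    rwa [SModEq.sub_mem, smul_eq_mul, Ideal.mul_top] at this
  have hLI : L ∈ ⨅ M, I M := by
    rw [Ideal.mem_iInf]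
    intro M
    have h4 : (xs (M + 1)).1 ∈ I M := hanti (by omega) (xs (M + 1)).2
    have h5 : (xs (M + 1)).1 - L ∈ I M := h1 M (hL' (M + 1))
    have : L = (xs (M + 1)).1 - ((xs (M + 1)).1 - L) := by ring
    rw [this]
    exact Ideal.sub_mem _ h4 h5
  have hxL : x - L ∈ P.mpow N := by
    have : x - L = ((xs 0).1 - (xs (N + 1)).1) + ((xs (N + 1)).1 - L) := by rw [hx0]; ring
    rw [this]
    exact Ideal.add_mem _ (hcauchy 0 (N + 1) (Nat.zero_le _)) (hL' (N + 1))
  have : x = L + (x - L) := by ring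
  rw [this]
  exact Ideal.add_mem _ (Ideal.mem_sup_left hLI) (Ideal.mem_sup_right hxL)

theorem lev_ker_le {P : CRing Λ k} {F : Art Λ k ⥤ Type v} (d : Lev P F) :
    RingHom.ker d.ρ.1 ≤ IsLocalRing.maximalIdeal P.carrier := by
  intro x hx
  rw [P.mem_maximalIdeal_iff, ← AlgHom.congr_fun d.ρ.2 x]
  change d.R.res (d.ρ.1 x) = 0
  rw [RingHom.mem_ker.1 hx, map_zero]

variable (P : CRing Λ k) (F : Art Λ k ⥤ Type v)

/-- A tower of levels with the adic property. -/
structure Tower where
  /-- the levels -/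
  s : ℕ → Lev P F
  kills : ∀ M, (s M).Kills M
  ovr : ∀ M, (s (M + 1)).Over (s M)
  adic : ∀ M, RingHom.ker (s M).ρ.1 ≤ RingHom.ker (s (M + 1)).ρ.1 ⊔ P.mpow M

namespace Tower

variable {P F} (T : Tower P F)

/-- the kernel at level `M` -/
def I (M : ℕ) : Ideal P.carrier := RingHom.ker (T.s M).ρ.1

/-- the intersection of the kernels -/
def J : Ideal P.carrier := ⨅ M, T.I M

theorem J_le : T.J ≤ IsLocalRing.maximalIdeal P.carrier :=
  (iInf_le _ 0).trans (lev_ker_le _)

theorem J_le_I (M : ℕ) : T.J ≤ T.I M := iInf_le _ M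

theorem I_le_sup (N : ℕ) : T.I N ≤ T.J ⊔ P.mpow N :=
  chevalley_lite P T.I T.kills (fun M => (T.ovr M).ker_le) T.adic N

theorem over_le {M M' : ℕ} (h : M ≤ M') : (T.s M').Over (T.s M) := by
  induction h with
  | refl => exact Lev.Over.refl _
  | step _ ih => exact (T.ovr _).trans ih

/-- the hull ring -/
noncomputable def hull : CRing Λ k := CRingQ.quot P T.J T.J_le

/-- the projection to the hull ring -/
noncomputable def π : P.carrier →ₐ[Λ] T.hull.carrier := CRingQ.mk P T.J T.J_le

theorem res_π : T.hull.res.comp T.π = P.res := CRingQ.res_comp_mk P T.J T.J_le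

theorem π_surjective : Function.Surjective T.π := CRingQ.mk_surjective P T.J T.J_le

theorem π_eq_zero_iff (a : P.carrier) : T.π a = 0 ↔ a ∈ T.J := CRingQ.mk_eq_zero_iff P T.J T.J_le a

/-- restriction of a map out of the hull ring to `P` -/
noncomputable def pull {A : Art Λ k} (φ : HomSet T.hull.carrier T.hull.res A) :
    HomSet P.carrier P.res A :=
  ⟨φ.1.comp T.π, by rw [← AlgHom.comp_assoc, φ.2, T.res_π]⟩

theorem pull_apply {A : Art Λ k} (φ : HomSet T.hull.carrier T.hull.res A) (x : P.carrier) :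
    (T.pull φ).1 x = φ.1 (T.π x) := rfl

theorem pull_map {A B : Art Λ k} (f : A ⟶ B) (φ : HomSet T.hull.carrier T.hull.res A) :
    T.pull (HomSet.map f φ) = HomSet.map f (T.pull φ) :=
  Subtype.ext (AlgHom.ext fun _ => rfl)

theorem pull_injective {A : Art Λ k} {φ φ' : HomSet T.hull.carrier T.hull.res A}
    (h : T.pull φ = T.pull φ') : φ = φ' := by
  apply homSet_ext
  intro r
  obtain ⟨x, rfl⟩ := T.π_surjective r
  exact congrArg (fun t => t.1 x) h

theorem exists_descend {A : Art Λ k} (χ : HomSet P.carrier P.res A)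
    (h : T.J ≤ RingHom.ker χ.1) : ∃ φ : HomSet T.hull.carrier T.hull.res A, T.pull φ = χ := by
  have h' : ∀ a ∈ T.J, χ.1 a = 0 := fun a ha => RingHom.mem_ker.1 (h ha)
  refine ⟨⟨CRingQ.lift P T.J T.J_le χ.1 h', ?_⟩, ?_⟩
  · apply AlgHom.ext
    intro r
    obtain ⟨x, rfl⟩ := T.π_surjective r
    change A.res (CRingQ.lift P T.J T.J_le χ.1 h' (CRingQ.mk P T.J T.J_le x)) =
      T.hull.res (T.π x)
    rw [CRingQ.lift_mk]
    exact (AlgHom.congr_fun χ.2 x).trans (AlgHom.congr_fun T.res_π x).symm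
  · apply homSet_ext
    intro x
    rfl

theorem π_mem_maximalIdeal {x : P.carrier} (hx : x ∈ IsLocalRing.maximalIdeal P.carrier) :
    T.π x ∈ IsLocalRing.maximalIdeal T.hull.carrier := by
  rw [CRing.mem_maximalIdeal_iff] at hx ⊢
  rw [← hx]
  exact AlgHom.congr_fun T.res_π x

theorem π_mem_mpow {x : P.carrier} {M : ℕ} (hx : x ∈ P.mpow M) : T.π x ∈ T.hull.mpow M := by
  have h1 : (IsLocalRing.maximalIdeal P.carrier).map T.π.toRingHom ≤
      IsLocalRing.maximalIdeal T.hull.carrier := by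
    rw [Ideal.map_le_iff_le_comap]
    intro y hy
    exact T.π_mem_maximalIdeal hy
  have h2 := Ideal.mem_map_of_mem T.π.toRingHom hx
  rw [CRing.mpow, Ideal.map_pow] at h2
  exact Ideal.pow_right_mono h1 _ h2

theorem ker_le_ker_pull_truncHom (M : ℕ) :
    RingHom.ker (T.s M).ρ.1 ≤ RingHom.ker (T.pull (T.hull.truncHom M)).1 := by
  intro x hx
  obtain ⟨a, ha, b, hb, rfl⟩ := Submodule.mem_sup.1 (T.I_le_sup M hx)
  rw [RingHom.mem_ker, map_add, pull_apply, pull_apply, (T.π_eq_zero_iff a).2 ha, map_zero,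
    zero_add]
  exact Ideal.Quotient.eq_zero_iff_mem.2 (T.π_mem_mpow hb)

theorem exists_kappa (M : ℕ) : ∃ κ : (T.s M).R ⟶ T.hull.trunc M,
    HomSet.map κ (T.s M).ρ = T.pull (T.hull.truncHom M) :=
  exists_factor_of_ker_le (T.s M).ρ (T.s M).surj _ (T.ker_le_ker_pull_truncHom M)

/-- the comparison from level `M` to the `M`-th truncation of the hull ring -/
noncomputable def κ (M : ℕ) : (T.s M).R ⟶ T.hull.trunc M := Classical.choose (T.exists_kappa M)

theorem κ_spec (M : ℕ) : HomSet.map (T.κ M) (T.s M).ρ = T.pull (T.hull.truncHom M) :=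
  Classical.choose_spec (T.exists_kappa M)

/-- the formal element on the hull ring -/
noncomputable def formal : FormalElt F T.hull where
  elt M := F.map (T.κ M) (T.s M).ξ
  compat M := by
    obtain ⟨g, hg, hgξ⟩ := T.ovr M
    have h1 : T.κ (M + 1) ≫ T.hull.truncMap M = g ≫ T.κ M := by
      apply hom_ext_of_surjective (T.s (M + 1)).ρ (T.s (M + 1)).surj
      rw [homSet_map_comp, homSet_map_comp, κ_spec, hg, κ_spec, ← pull_map,
        CRing.truncMap_truncHom]
    rw [← Functor.map_comp_apply, h1, Functor.map_comp_apply, hgξ]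

/-- the family on the hull ring -/
noncomputable def family : Family T.hull.carrier T.hull.res F := familyOfFormalElt T.hull T.formal

/-- evaluation of the family -/
theorem family_app {A : Art Λ k} (φ : HomSet T.hull.carrier T.hull.res A) (M : ℕ)
    (f : (T.s M).R ⟶ A) (hf : HomSet.map f (T.s M).ρ = T.pull φ) :
    T.family.app A φ = F.map f (T.s M).ξ := by
  obtain ⟨n, g, hg⟩ := exists_factor_trunc T.hull φ
  set M' := max n M with hM'
  have hg' : HomSet.map (truncLE T.hull (le_max_left n M) ≫ g) (T.hull.truncHom M') = φ := by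
    rw [homSet_map_comp, truncLE_truncHom, hg]
  rw [family, familyOfFormalElt_app T.hull T.formal φ _ hg']
  obtain ⟨τ, hτ, hτξ⟩ := T.over_le (le_max_right n M)
  change F.map _ (F.map (T.κ M') (T.s M').ξ) = _
  have h1 : T.κ M' ≫ (truncLE T.hull (le_max_left n M) ≫ g) = τ ≫ f := by
    apply hom_ext_of_surjective (T.s M').ρ (T.s M').surj
    rw [homSet_map_comp, κ_spec, ← pull_map, hg', homSet_map_comp, hτ, hf]
  rw [← Functor.map_comp_apply, h1, Functor.map_comp_apply, hτξ]

end Tower

end Groth.Agent.H61
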