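import Groth.Agent.H61.SchlessSmall
import Groth.Agent.H61.CRingLib

/-!
# Schlessinger's construction: the levels (helper61)
-/

set_option autoImplicit false
set_option linter.unusedSectionVars false
set_option linter.style.haveILetI false
universe u v

namespace Groth.Agent.H61

open CategoryTheory ArtFun ArtFun.Art Groth.Agent.H63

variable {Λ : Type u} {k : Type u} [CommRing Λ] [Field k] [Algebra Λ k]

section Factor

variable {R : Type u} [CommRing R] [Algebra Λ R] {resR : R →ₐ[Λ] k}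

/-- A map killing the kernel of a surjection factors through it. -/
theorem exists_factor_of_ker_le {Q A : Art Λ k} (χ : HomSet R resR Q)
    (hχ : Function.Surjective χ.1) (χ' : HomSet R resR A)
    (H : RingHom.ker χ.1 ≤ RingHom.ker χ'.1) :
    ∃ f : Q ⟶ A, HomSet.map f χ = χ' := by
  have H' : RingHom.ker χ.1.toRingHom ≤ RingHom.ker χ'.1.toRingHom := H
  refine ⟨⟨AlgHom.liftOfSurjective χ.1 hχ χ'.1 H', ?_⟩, ?_⟩
  · apply AlgHom.ext
    intro q
    obtain ⟨x, rfl⟩ := hχ q
    change A.res (AlgHom.liftOfSurjective χ.1 hχ χ'.1 H' (χ.1 x)) = Q.res (χ.1 x)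
    rw [AlgHom.liftOfSurjective_apply]
    exact (AlgHom.congr_fun χ'.2 x).trans (AlgHom.congr_fun χ.2 x).symm
  · apply homSet_ext
    intro x
    change AlgHom.liftOfSurjective χ.1 hχ χ'.1 H' (χ.1 x) = χ'.1 x
    rw [AlgHom.liftOfSurjective_apply]

/-- Two maps agreeing after a surjection are equal. -/
theorem hom_ext_of_surjective {Q A : Art Λ k} (χ : HomSet R resR Q)
    (hχ : Function.Surjective χ.1) (f f' : Q ⟶ A)
    (h : HomSet.map f χ = HomSet.map f' χ) : f = f' := by
  apply hom_ext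
  apply AlgHom.ext
  intro q
  obtain ⟨x, rfl⟩ := hχ q
  exact congrArg (fun t => t.1 x) h

theorem homSet_map_surjective {Q A : Art Λ k} (χ : HomSet R resR Q)
    (hχ : Function.Surjective χ.1) (f : Q ⟶ A) (hf : Function.Surjective f) :
    Function.Surjective (HomSet.map f χ).1 := hf.comp hχ

theorem surjective_of_homSet_map {Q A : Art Λ k} (χ : HomSet R resR Q) (f : Q ⟶ A)
    (h : Function.Surjective (HomSet.map f χ).1) : Function.Surjective f := by
  intro a
  obtain ⟨x, hx⟩ := h a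
  exact ⟨χ.1 x, hx⟩

end Factor

variable (P : CRing Λ k) (F : Art Λ k ⥤ Type v)

/-- A level of the construction: a quotient of `P` in `Art` with an element of `F`. -/
structure Lev where
  /-- the Artinian quotient -/
  R : Art Λ k
  /-- the quotient map -/
  ρ : HomSet P.carrier P.res R
  surj : Function.Surjective ρ.1
  /-- the element -/
  ξ : F.obj R

namespace Lev

variable {P F}

/-- the level is killed by `m^(N+1)` -/
def Kills (d : Lev P F) (N : ℕ) : Prop := P.mpow N ≤ RingHom.ker d.ρ.1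

/-- minimality -/
def IsMin (d : Lev P F) (N : ℕ) : Prop :=
  ∀ (Q : Art Λ k) (w : HomSet P.carrier P.res Q), Function.Surjective w.1 →
    P.mpow N ≤ RingHom.ker w.1 → ∀ g : Q ⟶ d.R, HomSet.map g w = d.ρ →
      ∀ ζ : F.obj Q, F.map g ζ = d.ξ → Function.Injective g

/-- `d'` lies over `d` -/
def Over (d' d : Lev P F) : Prop :=
  ∃ g : d'.R ⟶ d.R, HomSet.map g d'.ρ = d.ρ ∧ F.map g d'.ξ = d.ξ

theorem Over.refl (d : Lev P F) : d.Over d :=
  ⟨𝟙 _, homSet_map_id _, by rw [Functor.map_id_apply]⟩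

theorem Over.trans {d'' d' d : Lev P F} (h1 : d''.Over d') (h2 : d'.Over d) : d''.Over d := by
  obtain ⟨g1, hg1, hg1'⟩ := h1
  obtain ⟨g2, hg2, hg2'⟩ := h2
  exact ⟨g1 ≫ g2, by rw [homSet_map_comp, hg1, hg2], by rw [Functor.map_comp_apply, hg1', hg2']⟩

theorem Kills.mono {d : Lev P F} {N N' : ℕ} (h : d.Kills N) (hN : N ≤ N') : d.Kills N' :=
  (Ideal.pow_le_pow_right (Nat.succ_le_succ hN)).trans h

theorem Over.ker_le {d' d : Lev P F} (h : d'.Over d) : RingHom.ker d'.ρ.1 ≤ RingHom.ker d.ρ.1 := by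
  obtain ⟨g, hg, -⟩ := h
  intro x hx
  rw [RingHom.mem_ker] at hx ⊢
  rw [← hg, homSet_map_apply, hx]
  exact map_zero g.toAlgHom

theorem Over.kills {d' d : Lev P F} (h : d'.Over d) {N : ℕ} (h' : d'.Kills N) : d.Kills N :=
  h'.trans h.ker_le

theorem map_maximalIdeal (d : Lev P F) :
    (IsLocalRing.maximalIdeal P.carrier).map d.ρ.1.toRingHom = IsLocalRing.maximalIdeal d.R :=
  IsLocalRing.map_maximalIdeal_of_surjective d.ρ.1.toRingHom d.surj

theorem map_mpow (d : Lev P F) (N : ℕ) :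
    (P.mpow N).map d.ρ.1.toRingHom = IsLocalRing.maximalIdeal d.R ^ (N + 1) := by
  rw [CRing.mpow, Ideal.map_pow, map_maximalIdeal]

theorem maximalIdeal_pow_eq_bot {d : Lev P F} {N : ℕ} (h : d.Kills N) :
    IsLocalRing.maximalIdeal d.R ^ (N + 1) = ⊥ := by
  rw [← map_mpow, Ideal.map_eq_bot_iff_le_ker]
  exact h

theorem ker_truncHom (N : ℕ) : RingHom.ker (P.truncHom N).1 = P.mpow N := by
  ext x
  rw [RingHom.mem_ker]
  exact Ideal.Quotient.eq_zero_iff_mem

/-- The key step: a minimal level over a given one. -/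
theorem step (b : Lev P F) (N : ℕ) (hb : b.Kills N) :
    ∃ d : Lev P F, d.Kills N ∧ d.IsMin N ∧ d.Over b := by
  classical
  set τ := P.truncHom N with hτ
  have hτs : Function.Surjective τ.1 := truncHom_surjective P N
  have hτk : RingHom.ker τ.1 = P.mpow N := ker_truncHom N
  obtain ⟨ρb, hρb⟩ := exists_factor_of_ker_le τ hτs b.ρ (hτk ▸ hb)
  have hρbs : Function.Surjective ρb := surjective_of_homSet_map τ ρb (hρb ▸ b.surj)
  have hmax : ∀ {K : Ideal (P.trunc N)}, K ≤ RingHom.ker ρb.toAlgHom →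
      K ≤ IsLocalRing.maximalIdeal (P.trunc N) := fun h => h.trans (ker_le_maximalIdeal ρb)
  let 𝒦 : Set (Ideal (P.trunc N)) := {K | ∃ (hK : K ≤ RingHom.ker ρb.toAlgHom),
    ∃ ξ : F.obj (quot (P.trunc N) K (hmax hK)), F.map (quotFactor (hmax hK) ρb hK) ξ = b.ξ}
  have hbij : ∀ {Q : Art Λ k} (w : P.trunc N ⟶ Q) (hw : Function.Surjective w)
      (hK : RingHom.ker w.toAlgHom ≤ IsLocalRing.maximalIdeal (P.trunc N)),
      Function.Bijective (quotFactor hK w le_rfl) := by
    intro Q w hw hK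
    constructor
    · intro x y hxy
      obtain ⟨a, rfl⟩ := quotMk_surjective _ _ hK x
      obtain ⟨c, rfl⟩ := quotMk_surjective _ _ hK y
      have h1 : w a = w c := hxy
      rw [quotMk_eq_iff, RingHom.mem_ker, map_sub, sub_eq_zero]
      exact h1
    · intro r
      obtain ⟨a, ha⟩ := hw r
      exact ⟨quotMk _ _ hK a, ha⟩
  have hne : 𝒦.Nonempty := by
    refine ⟨RingHom.ker ρb.toAlgHom, le_rfl, ?_⟩
    haveI := isIso_of_bijective _ (hbij ρb hρbs (hmax le_rfl))
    refine ⟨F.map (inv (quotFactor (hmax le_rfl) ρb le_rfl)) b.ξ, ?_⟩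
    rw [← Functor.map_comp_apply, IsIso.inv_hom_id, Functor.map_id_apply]
  obtain ⟨K₀, hK₀mem, hK₀min⟩ :=
    WellFounded.has_min (wellFounded_lt (α := Ideal (P.trunc N))) 𝒦 hne
  obtain ⟨hK₀, ξ₀, hξ₀⟩ := hK₀mem
  refine ⟨⟨quot (P.trunc N) K₀ (hmax hK₀), HomSet.map (quotMk _ K₀ (hmax hK₀)) τ,
    (quotMk_surjective _ _ _).comp hτs, ξ₀⟩, ?_, ?_, ?_⟩
  · intro x hx
    rw [← hτk, RingHom.mem_ker] at hx
    rw [RingHom.mem_ker]
    change quotMk (P.trunc N) K₀ (hmax hK₀) (τ.1 x) = 0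
    rw [hx]
    exact map_zero (quotMk _ K₀ (hmax hK₀)).toAlgHom
  · intro Q w hws hwk (g' : Q ⟶ quot (P.trunc N) K₀ (hmax hK₀)) hg' ζ hζ
    change HomSet.map g' w = HomSet.map (quotMk _ K₀ (hmax hK₀)) τ at hg'
    change F.map g' ζ = ξ₀ at hζ
    obtain ⟨wb, hwb⟩ := exists_factor_of_ker_le τ hτs w (hτk ▸ hwk)
    have hwbs : Function.Surjective wb := surjective_of_homSet_map τ wb (hwb ▸ hws)
    have hcomp : wb ≫ g' = quotMk (P.trunc N) K₀ (hmax hK₀) := by
      apply hom_ext_of_surjective τ hτs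
      rw [homSet_map_comp, hwb, hg']
    have hcomp' : ∀ a, g' (wb a) = quotMk (P.trunc N) K₀ (hmax hK₀) a := fun a =>
      congrArg (fun f => Hom.toAlgHom f a) hcomp
    have hK'K₀ : RingHom.ker wb.toAlgHom ≤ K₀ := by
      intro a ha
      rw [← quotMk_eq_zero_iff (P.trunc N) (hmax hK₀), ← hcomp', RingHom.mem_ker.1 ha]
      exact map_zero g'.toAlgHom
    have hK'b : RingHom.ker wb.toAlgHom ≤ RingHom.ker ρb.toAlgHom := hK'K₀.trans hK₀
    have hK'mem : RingHom.ker wb.toAlgHom ∈ 𝒦 := by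
      refine ⟨hK'b, ?_⟩
      haveI := isIso_of_bijective _ (hbij wb hwbs (hmax hK'b))
      refine ⟨F.map (inv (quotFactor (hmax hK'b) wb le_rfl)) ζ, ?_⟩
      have hfac : quotFactor (hmax hK'b) ρb hK'b =
          quotFactor (hmax hK'b) wb le_rfl ≫ g' ≫ quotFactor (hmax hK₀) ρb hK₀ := by
        apply hom_ext
        apply AlgHom.ext
        intro x
        obtain ⟨a, rfl⟩ := quotMk_surjective _ _ (hmax hK'b) x
        change ρb a = quotFactor (hmax hK₀) ρb hK₀ (g' (wb a))
        rw [hcomp']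
        rfl
      rw [hfac, Functor.map_comp_apply, Functor.map_comp_apply, ← Functor.map_comp_apply F (inv _),
        IsIso.inv_hom_id, Functor.map_id_apply, hζ, hξ₀]
    have hKeq : RingHom.ker wb.toAlgHom = K₀ :=
      eq_of_le_of_not_lt hK'K₀ (hK₀min _ hK'mem)
    refine (injective_iff_map_eq_zero g'.toAlgHom).2 ?_
    intro q hq
    obtain ⟨a, rfl⟩ := hwbs q
    have h1 : quotMk (P.trunc N) K₀ (hmax hK₀) a = 0 := by rw [← hcomp']; exact hq
    rw [quotMk_eq_zero_iff, ← hKeq] at h1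
    exact RingHom.mem_ker.1 h1
  · refine ⟨quotFactor (hmax hK₀) ρb hK₀, ?_, hξ₀⟩
    change HomSet.map _ (HomSet.map _ τ) = _
    rw [← homSet_map_comp, quotMk_quotFactor, hρb]

/-- The adic property: a minimal level is the truncation of any level over it. -/
theorem ker_le_sup_of_isMin {d d' : Lev P F} {N : ℕ} (hmin : d.IsMin N) (hk : d.Kills N)
    (ho : d'.Over d) : RingHom.ker d.ρ.1 ≤ RingHom.ker d'.ρ.1 ⊔ P.mpow N := by
  obtain ⟨g, hg, hgξ⟩ := ho
  have hK : IsLocalRing.maximalIdeal d'.R ^ (N + 1) ≤ IsLocalRing.maximalIdeal d'.R :=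
    Ideal.pow_le_self (Nat.succ_ne_zero N)
  have hKg : IsLocalRing.maximalIdeal d'.R ^ (N + 1) ≤ RingHom.ker g.toAlgHom := by
    have h1 : (IsLocalRing.maximalIdeal d'.R).map g.toAlgHom.toRingHom ≤
        IsLocalRing.maximalIdeal d.R := by
      rw [Ideal.map_le_iff_le_comap]
      intro x hx
      exact map_mem_maximalIdeal g hx
    have h2 : (IsLocalRing.maximalIdeal d'.R ^ (N + 1)).map g.toAlgHom.toRingHom ≤ ⊥ := by
      rw [Ideal.map_pow, ← maximalIdeal_pow_eq_bot hk]
      exact Ideal.pow_right_mono h1 _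
    intro x hx
    rw [RingHom.mem_ker]
    have := h2 (Ideal.mem_map_of_mem _ hx)
    exact this
  have hw : ∀ x ∈ P.mpow N, quotMk d'.R _ hK (d'.ρ.1 x) = 0 := by
    intro x hx
    rw [quotMk_eq_zero_iff]
    exact homSet_map_pow P d'.ρ (N + 1) x hx
  have hinj := hmin (quot d'.R _ hK) (HomSet.map (quotMk d'.R _ hK) d'.ρ)
    ((quotMk_surjective _ _ hK).comp d'.surj)
    (fun x hx => RingHom.mem_ker.2 (hw x hx))
    (quotFactor hK g hKg)
    (by rw [← homSet_map_comp, quotMk_quotFactor, hg])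
    (F.map (quotMk d'.R _ hK) d'.ξ)
    (by rw [← Functor.map_comp_apply, quotMk_quotFactor, hgξ])
  intro x hx
  rw [RingHom.mem_ker] at hx
  have h1 : quotFactor hK g hKg (quotMk d'.R _ hK (d'.ρ.1 x)) = 0 := by
    change g (d'.ρ.1 x) = 0
    rw [← homSet_map_apply, hg, hx]
  have h2 : quotMk d'.R _ hK (d'.ρ.1 x) = 0 :=
    hinj (h1.trans (map_zero (quotFactor hK g hKg).toAlgHom).symm)
  rw [quotMk_eq_zero_iff, ← map_mpow] at h2
  obtain ⟨y, hy, hyx⟩ := (Ideal.mem_map_iff_of_surjective _ d'.surj).1 h2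
  have h3 : x = (x - y) + y := by ring
  rw [h3]
  refine Ideal.add_mem _ (Ideal.mem_sup_left ?_) (Ideal.mem_sup_right hy)
  rw [RingHom.mem_ker, map_sub, sub_eq_zero]
  exact hyx.symm

/-- the step as a function -/
noncomputable def stepFn (b : Lev P F) (N : ℕ) : Lev P F := by
  classical
  exact if h : b.Kills N then Classical.choose (step b N h) else b

theorem stepFn_spec (b : Lev P F) (N : ℕ) (h : b.Kills N) :
    (stepFn b N).Kills N ∧ (stepFn b N).IsMin N ∧ (stepFn b N).Over b := by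
  unfold stepFn
  rw [dif_pos h]
  exact Classical.choose_spec (step b N h)

/-- the sequence of levels `1, 2, …` above a level `e` killed by `m^2` -/
noncomputable def seqT (e : Lev P F) : ℕ → Lev P F
  | 0 => stepFn e 1
  | (j + 1) => stepFn (seqT e j) (j + 2)

theorem seqT_kills (e : Lev P F) (he : e.Kills 1) : ∀ j, (seqT e j).Kills (j + 1) := by
  intro j
  induction j with
  | zero => exact (stepFn_spec e 1 he).1
  | succ j ih => exact (stepFn_spec (seqT e j) (j + 2) (ih.mono (Nat.le_succ _))).1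

theorem seqT_isMin (e : Lev P F) (he : e.Kills 1) : ∀ j, (seqT e j).IsMin (j + 1) := by
  intro j
  cases j with
  | zero => exact (stepFn_spec e 1 he).2.1
  | succ j =>
    exact (stepFn_spec (seqT e j) (j + 2) ((seqT_kills e he j).mono (Nat.le_succ _))).2.1

theorem seqT_over_zero (e : Lev P F) (he : e.Kills 1) : (seqT e 0).Over e :=
  (stepFn_spec e 1 he).2.2

theorem seqT_over (e : Lev P F) (he : e.Kills 1) : ∀ j, (seqT e (j + 1)).Over (seqT e j) := by
  intro j
  exact (stepFn_spec (seqT e j) (j + 2) ((seqT_kills e he j).mono (Nat.le_succ _))).2.2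

/-- the trivial level `k` -/
def triv (x₀ : F.obj (base Λ k)) : Lev P F :=
  ⟨base Λ k, _root_.H61.homSetBasePt, P.res_surjective, x₀⟩

/-- the full sequence of levels `0, 1, 2, …` -/
noncomputable def seqS (e : Lev P F) (x₀ : F.obj (base Λ k)) : ℕ → Lev P F
  | 0 => triv x₀
  | (j + 1) => seqT e j

theorem triv_kills (x₀ : F.obj (base Λ k)) : (triv (P := P) (F := F) x₀).Kills 0 := by
  intro x hx
  rw [RingHom.mem_ker]
  have : x ∈ IsLocalRing.maximalIdeal P.carrier := by
    have h := hx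
    rwa [CRing.mpow, zero_add, pow_one] at h
  exact (P.mem_maximalIdeal_iff x).1 this

theorem over_triv (h0 : H0 F) (d : Lev P F) (x₀ : F.obj (base Λ k)) : d.Over (triv x₀) := by
  have h1 := _root_.H61.homSet_base_subsingleton (Λ := Λ) (k := k) (R := P.carrier) (resR := P.res)
  have h2 := h0.2
  refine ⟨toBase d.R, ?_, ?_⟩
  · exact @Subsingleton.elim _ h1 _ _
  · exact @Subsingleton.elim _ h2 _ _

theorem seqS_kills (e : Lev P F) (he : e.Kills 1) (x₀ : F.obj (base Λ k)) :
    ∀ M, (seqS e x₀ M).Kills M := by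
  intro M
  cases M with
  | zero => exact triv_kills x₀
  | succ j => exact seqT_kills e he j

theorem seqS_over (h0 : H0 F) (e : Lev P F) (he : e.Kills 1) (x₀ : F.obj (base Λ k)) :
    ∀ M, (seqS e x₀ (M + 1)).Over (seqS e x₀ M) := by
  intro M
  cases M with
  | zero => exact over_triv h0 _ x₀
  | succ j => exact seqT_over e he j

theorem seqS_over_le (h0 : H0 F) (e : Lev P F) (he : e.Kills 1) (x₀ : F.obj (base Λ k))
    {M M' : ℕ} (h : M ≤ M') : (seqS e x₀ M').Over (seqS e x₀ M) := by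
  induction h with
  | refl => exact Over.refl _
  | step _ ih => exact (seqS_over h0 e he x₀ _).trans ih

theorem seqS_over_e (e : Lev P F) (he : e.Kills 1) (x₀ : F.obj (base Λ k)) (h0 : H0 F)
    {M : ℕ} (hM : 1 ≤ M) : (seqS e x₀ M).Over e :=
  (seqS_over_le h0 e he x₀ hM).trans (seqT_over_zero e he)

theorem seqS_adic (e : Lev P F) (he : e.Kills 1) (x₀ : F.obj (base Λ k)) (M : ℕ) :
    RingHom.ker (seqS e x₀ M).ρ.1 ≤ RingHom.ker (seqS e x₀ (M + 1)).ρ.1 ⊔ P.mpow M := by
  cases M with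
  | zero =>
    intro x hx
    refine Ideal.mem_sup_right ?_
    rw [CRing.mpow, zero_add, pow_one, P.mem_maximalIdeal_iff]
    exact RingHom.mem_ker.1 hx
  | succ j =>
    exact ker_le_sup_of_isMin (seqT_isMin e he j) (seqT_kills e he j) (seqT_over e he j)

end Lev

end Groth.Agent.H61
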