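import Groth.Agent.H61.SchlessAbstract
import Groth.Agent.H61.SchlessGeneral
import Mathlib.RingTheory.Unramified.Field
import Mathlib.FieldTheory.PrimitiveElement
import Mathlib.Algebra.Polynomial.Taylor

/-!
# Schlessinger's hull theorem over a general Noetherian base, separable residue field (helper61)
-/

set_option autoImplicit false
set_option linter.unusedSectionVars false
set_option linter.style.haveILetI false
universe u v

namespace Groth.Agent.H61

open CategoryTheory ArtFun ArtFun.Art Groth.Agent.H63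

/-- If `k` is a finite `Λ`-algebra without nonzero `Λ`-derivations into itself, it is generated by
one element which is a simple root of a polynomial over `Λ`. -/
theorem exists_primitive_data {Λ k : Type u} [CommRing Λ] [Field k] [Algebra Λ k]
    [Module.Finite Λ k] (hk : Subsingleton (Derivation Λ k k)) :
    ∃ (θ : k) (f : Polynomial Λ), Polynomial.aeval θ f = 0 ∧
      Polynomial.aeval θ (Polynomial.derivative f) ≠ 0 ∧
      Function.Surjective (Polynomial.aeval θ : Polynomial Λ →ₐ[Λ] k) := by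
  classical
  have hΩ : Subsingleton (Ω[k⁄Λ]) := by
    have h0 : ∀ v : Ω[k⁄Λ], v = 0 := fun v =>
      (Module.forall_dual_apply_eq_zero_iff k v).1 (fun φ => by
        have : φ = 0 :=
          (KaehlerDifferential.linearMapEquivDerivation Λ k).injective (Subsingleton.elim _ _)
        rw [this]; rfl)
    exact ⟨fun a b => by rw [h0 a, h0 b]⟩
  haveI : Algebra.FormallyUnramified Λ k := ⟨hΩ⟩
  set 𝔫 : Ideal Λ := RingHom.ker (algebraMap Λ k) with h𝔫
  letI : Algebra (Λ ⧸ 𝔫) k := (RingHom.kerLift (algebraMap Λ k)).toAlgebra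
  haveI : IsScalarTower Λ (Λ ⧸ 𝔫) k := IsScalarTower.of_algebraMap_eq (fun x => rfl)
  have hinj : Function.Injective (algebraMap (Λ ⧸ 𝔫) k) := RingHom.kerLift_injective _
  haveI : Algebra.IsIntegral Λ k := Algebra.IsIntegral.of_finite Λ k
  haveI : Algebra.IsIntegral (Λ ⧸ 𝔫) k := Algebra.IsIntegral.tower_top (R := Λ)
  have hκ : IsField (Λ ⧸ 𝔫) := isField_of_isIntegral_of_isField hinj (Field.toIsField k)
  haveI : 𝔫.IsMaximal := Ideal.Quotient.maximal_of_isField 𝔫 hκ
  letI : Field (Λ ⧸ 𝔫) := Ideal.Quotient.field 𝔫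
  haveI : Module.Finite (Λ ⧸ 𝔫) k := Module.Finite.of_restrictScalars_finite Λ (Λ ⧸ 𝔫) k
  haveI : Algebra.FormallyUnramified (Λ ⧸ 𝔫) k :=
    Algebra.FormallyUnramified.of_restrictScalars Λ (Λ ⧸ 𝔫) k
  haveI : Algebra.IsSeparable (Λ ⧸ 𝔫) k := Algebra.FormallyUnramified.isSeparable (Λ ⧸ 𝔫) k
  obtain ⟨θ, hθ⟩ := Field.exists_primitive_element (Λ ⧸ 𝔫) k
  have hmk : ∀ p : Polynomial Λ, Polynomial.aeval θ (p.map (Ideal.Quotient.mk 𝔫)) =
      Polynomial.aeval θ p := fun p => Polynomial.aeval_map_algebraMap (Λ ⧸ 𝔫) θ p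
  have hsep : (minpoly (Λ ⧸ 𝔫) θ).Separable := Algebra.IsSeparable.isSeparable (Λ ⧸ 𝔫) θ
  obtain ⟨f, hf⟩ := Polynomial.map_surjective (Ideal.Quotient.mk 𝔫) Ideal.Quotient.mk_surjective
    (minpoly (Λ ⧸ 𝔫) θ)
  refine ⟨θ, f, ?_, ?_, ?_⟩
  · rw [← hmk, hf, minpoly.aeval]
  · rw [← hmk, ← Polynomial.derivative_map, hf]
    exact hsep.aeval_derivative_ne_zero (minpoly.aeval _ θ)
  · intro c
    have hint : IsIntegral (Λ ⧸ 𝔫) θ := Algebra.IsIntegral.isIntegral θ
    have h1 : c ∈ (IntermediateField.adjoin (Λ ⧸ 𝔫) {θ}).toSubalgebra := by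
      rw [hθ]; trivial
    rw [IntermediateField.adjoin_simple_toSubalgebra_of_isAlgebraic hint.isAlgebraic,
      Algebra.adjoin_singleton_eq_range_aeval] at h1
    obtain ⟨g', hg'⟩ := h1
    obtain ⟨f', hf'⟩ := Polynomial.map_surjective (Ideal.Quotient.mk 𝔫)
      Ideal.Quotient.mk_surjective g'
    refine ⟨f', ?_⟩
    rw [← hmk, hf']
    exact hg'

variable {Λ : Type u} {k : Type u} [CommRing Λ] [Field k] [Algebra Λ k]

section DualAeval

/-- the dual number with given components, as an algebra map in the first component -/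
def dinlHom : k →ₐ[Λ] (dual Λ k).carrier := TrivSqZeroExt.inlAlgHom Λ k k

theorem dinlHom_apply (c : k) : dinlHom (Λ := Λ) c = dmk c 0 := rfl

theorem dual_decomp (d : dual Λ k) : d = dmk (dfst d) 0 + dmk 0 (dsnd d) := by
  apply dual_ext
  · change dfst d = dfst d + 0
    rw [add_zero]
  · change dsnd d = 0 + dsnd d
    rw [zero_add]

theorem dmk_zero_sq (c : k) : (dmk (Λ := Λ) 0 c) ^ 2 = 0 := by
  rw [sq]
  apply dual_ext
  · change (0 : k) * 0 = 0
    rw [mul_zero]
  · rw [dsnd_mul]
    change (0 : k) * c + 0 * c = 0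
    rw [zero_mul, add_zero]

/-- the `ε`-component of a polynomial evaluated at a dual number -/
theorem dsnd_aeval (d : dual Λ k) (f : Polynomial Λ) :
    dsnd (Polynomial.aeval d f) =
      Polynomial.aeval (dfst d) (Polynomial.derivative f) * dsnd d := by
  have h1 : Polynomial.aeval d f = Polynomial.aeval (dmk (Λ := Λ) (dfst d) 0) f +
      Polynomial.aeval (dmk (Λ := Λ) (dfst d) 0) (Polynomial.derivative f) * dmk 0 (dsnd d) := by
    conv_lhs => rw [dual_decomp d]
    exact Polynomial.aeval_add_of_sq_eq_zero f _ _ (dmk_zero_sq _)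
  have h2 : ∀ g : Polynomial Λ, Polynomial.aeval (dmk (Λ := Λ) (dfst d) 0) g =
      dmk (Polynomial.aeval (dfst d) g) 0 := by
    intro g
    rw [← dinlHom_apply, Polynomial.aeval_algHom_apply, dinlHom_apply]
  rw [h1, h2, h2, dsnd_add, dsnd_mul]
  change (0 : k) + (Polynomial.aeval (dfst d) (Polynomial.derivative f) * dsnd d + 0 * 0) = _
  ring

end DualAeval


/-- a generator of `k` over `Λ` which is a simple root of a polynomial -/
structure SepData (Λ k : Type u) [CommRing Λ] [Field k] [Algebra Λ k] where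
  /-- the generator -/
  θ : k
  /-- the polynomial -/
  f : Polynomial Λ
  hf0 : Polynomial.aeval θ f = 0
  hf1 : Polynomial.aeval θ (Polynomial.derivative f) ≠ 0
  hθ : Function.Surjective (Polynomial.aeval θ : Polynomial Λ →ₐ[Λ] k)

namespace SepData

variable (D : SepData Λ k) (r : ℕ)

/-- values of the variables in `k` -/
def val : Option (Fin r) → k := fun o => o.elim D.θ (fun _ => 0)

/-- the augmentation of the polynomial ring -/
noncomputable def π : MvPolynomial (Option (Fin r)) Λ →ₐ[Λ] k := MvPolynomial.aeval (D.val r)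

theorem π_X (o : Option (Fin r)) : D.π r (MvPolynomial.X o) = D.val r o :=
  MvPolynomial.aeval_X _ _

theorem π_surjective : Function.Surjective (D.π r) := by
  intro c
  obtain ⟨g, hg⟩ := D.hθ c
  refine ⟨Polynomial.aeval (MvPolynomial.X none) g, ?_⟩
  rw [← Polynomial.aeval_algHom_apply, π_X]
  exact hg

variable [IsNoetherianRing Λ]

/-- the completed polynomial ring -/
noncomputable def P : CRing Λ k := CP.ring (D.π r) (D.π_surjective r)

/-- its variables -/
noncomputable def X (o : Option (Fin r)) : (D.P r).carrier := CP.cpX (D.π r) (D.π_surjective r) o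

theorem res_X (o : Option (Fin r)) : (D.P r).res (D.X r o) = D.val r o :=
  (CP.res_cpX (D.π r) (D.π_surjective r) o).trans (D.π_X r o)

theorem P_exists_hom (B : Art Λ k) (b : Option (Fin r) → B) (hb : ∀ o, B.res (b o) = D.val r o) :
    ∃ ψ : HomSet (D.P r).carrier (D.P r).res B, ∀ o, ψ.1 (D.X r o) = b o :=
  CP.exists_hom (D.π r) (D.π_surjective r) B b (fun o => (hb o).trans (D.π_X r o).symm)

theorem P_hom_ext (B : Art Λ k) (ψ ψ' : HomSet (D.P r).carrier (D.P r).res B)
    (h : ∀ o, ψ.1 (D.X r o) = ψ'.1 (D.X r o)) : ψ = ψ' :=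
  CP.hom_ext (D.π r) (D.π_surjective r) B ψ ψ' h

/-- the polynomial evaluated at the first variable -/
noncomputable def fX : (D.P r).carrier := Polynomial.aeval (D.X r none) D.f

theorem fX_mem : D.fX r ∈ IsLocalRing.maximalIdeal (D.P r).carrier := by
  rw [CRing.mem_maximalIdeal_iff]
  change (D.P r).res (Polynomial.aeval (D.X r none) D.f) = 0
  rw [← Polynomial.aeval_algHom_apply, res_X]
  exact D.hf0

/-- the ideal generated by it -/
noncomputable def J : Ideal (D.P r).carrier := Ideal.span {D.fX r}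

theorem J_le : D.J r ≤ IsLocalRing.maximalIdeal (D.P r).carrier :=
  (Ideal.span_singleton_le_iff_mem _).2 (D.fX_mem r)

/-- the quotient: "`W[[y_1, …, y_r]]`" for the formally étale `W` -/
noncomputable def Q : CRing Λ k := CRingQ.quot (D.P r) (D.J r) (D.J_le r)

/-- the projection -/
noncomputable def qmk : (D.P r).carrier →ₐ[Λ] (D.Q r).carrier := CRingQ.mk (D.P r) (D.J r) (D.J_le r)

theorem res_qmk : (D.Q r).res.comp (D.qmk r) = (D.P r).res := CRingQ.res_comp_mk _ _ _

theorem qmk_surjective : Function.Surjective (D.qmk r) := CRingQ.mk_surjective _ _ _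

theorem qmk_fX : D.qmk r (D.fX r) = 0 :=
  (CRingQ.mk_eq_zero_iff _ _ _ _).2 (Ideal.mem_span_singleton_self _)

/-- restriction of a map out of the quotient -/
noncomputable def pull {A : Art Λ k} (φ : HomSet (D.Q r).carrier (D.Q r).res A) :
    HomSet (D.P r).carrier (D.P r).res A :=
  ⟨φ.1.comp (D.qmk r), by rw [← AlgHom.comp_assoc, φ.2, D.res_qmk]⟩

theorem pull_apply {A : Art Λ k} (φ : HomSet (D.Q r).carrier (D.Q r).res A) (x : (D.P r).carrier) :
    (D.pull r φ).1 x = φ.1 (D.qmk r x) := rfl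

theorem pull_map {A B : Art Λ k} (g : A ⟶ B) (φ : HomSet (D.Q r).carrier (D.Q r).res A) :
    D.pull r (HomSet.map g φ) = HomSet.map g (D.pull r φ) :=
  Subtype.ext (AlgHom.ext fun _ => rfl)

theorem pull_injective {A : Art Λ k} {φ φ' : HomSet (D.Q r).carrier (D.Q r).res A}
    (h : D.pull r φ = D.pull r φ') : φ = φ' := by
  apply homSet_ext
  intro z
  obtain ⟨x, rfl⟩ := D.qmk_surjective r z
  exact congrArg (fun t => t.1 x) h

theorem exists_desc {A : Art Λ k} (χ : HomSet (D.P r).carrier (D.P r).res A)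
    (h : χ.1 (D.fX r) = 0) : ∃ φ : HomSet (D.Q r).carrier (D.Q r).res A, D.pull r φ = χ := by
  have h' : ∀ a ∈ D.J r, χ.1 a = 0 := by
    intro a ha
    obtain ⟨c, rfl⟩ := Ideal.mem_span_singleton'.1 ha
    rw [map_mul, h, mul_zero]
  refine ⟨⟨CRingQ.lift (D.P r) (D.J r) (D.J_le r) χ.1 h', ?_⟩, ?_⟩
  · apply AlgHom.ext
    intro z
    obtain ⟨x, rfl⟩ := D.qmk_surjective r z
    change A.res (CRingQ.lift (D.P r) (D.J r) (D.J_le r) χ.1 h' (CRingQ.mk _ _ _ x)) =
      (D.Q r).res (D.qmk r x)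
    rw [CRingQ.lift_mk]
    exact (AlgHom.congr_fun χ.2 x).trans (AlgHom.congr_fun (D.res_qmk r) x).symm
  · apply homSet_ext
    intro x
    rfl

theorem pull_fX {A : Art Λ k} (φ : HomSet (D.Q r).carrier (D.Q r).res A) :
    Polynomial.aeval ((D.pull r φ).1 (D.X r none)) D.f = 0 := by
  rw [Polynomial.aeval_algHom_apply]
  change φ.1 (D.qmk r (D.fX r)) = 0
  rw [qmk_fX, map_zero]

/-- tangent vectors of `Q` are determined by their values on the `y j` -/
theorem tangent_ext (ψ ψ' : HomSet (D.Q r).carrier (D.Q r).res (dual Λ k))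
    (h : ∀ j, dsnd (ψ.1 (D.qmk r (D.X r (some j)))) = dsnd (ψ'.1 (D.qmk r (D.X r (some j))))) :
    ψ = ψ' := by
  have hx : ∀ χ : HomSet (D.Q r).carrier (D.Q r).res (dual Λ k),
      dsnd ((D.pull r χ).1 (D.X r none)) = 0 := by
    intro χ
    have h1 := D.pull_fX r χ
    have h2 := congrArg dsnd h1
    rw [dsnd_aeval, dsnd_zero] at h2
    have h3 : dfst ((D.pull r χ).1 (D.X r none)) = D.θ := by
      rw [dfst_homSet, res_X]
      rfl
    rw [h3] at h2
    exact (mul_eq_zero.1 h2).resolve_left D.hf1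
  apply D.pull_injective r
  apply D.P_hom_ext r
  intro o
  apply dual_ext
  · rw [dfst_homSet, dfst_homSet]
  · cases o with
    | none => rw [hx ψ, hx ψ']
    | some j => exact h j


variable [Module.Finite Λ k]

theorem hasLift_Q : HasLift (D.Q r) := by
  intro B A μ hμ
  refine surjective_induction
    (fun (A B : Art Λ k) (μ : B ⟶ A) => ∀ φ : HomSet (D.Q r).carrier (D.Q r).res A,
      ∃ ψ : HomSet (D.Q r).carrier (D.Q r).res B, HomSet.map μ ψ = φ) ?_ ?_ ?_ μ hμ
  · intro A B e he φ
    haveI := he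
    exact ⟨HomSet.map (inv e) φ, by rw [← homSet_map_comp, IsIso.inv_hom_id, homSet_map_id]⟩
  · intro A B μ hμ φ
    obtain ⟨t, hker, ht, htm, ht0, hμt⟩ := exists_gen μ hμ
    choose b₀ hb₀ using fun o : Option (Fin r) => hμ.1 ((D.pull r φ).1 (D.X r o))
    have hres : ∀ o, B.res (b₀ o) = D.val r o := by
      intro o
      rw [← res_app μ (b₀ o), hb₀ o]
      exact (AlgHom.congr_fun (D.pull r φ).2 (D.X r o)).trans (D.res_X r o)
    have hfker : Polynomial.aeval (b₀ none) D.f ∈ RingHom.ker μ.toAlgHom := by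
      rw [RingHom.mem_ker, ← Polynomial.aeval_algHom_apply, hb₀ none]
      exact D.pull_fX r φ
    rw [hker] at hfker
    obtain ⟨s, hs⟩ := Ideal.mem_span_singleton'.1 hfker
    obtain ⟨u, hu⟩ : ∃ u, u = Polynomial.aeval (b₀ none) (Polynomial.derivative D.f) := ⟨_, rfl⟩
    have hures : B.res u = Polynomial.aeval D.θ (Polynomial.derivative D.f) := by
      rw [hu, ← Polynomial.aeval_algHom_apply, hres none]
      rfl
    have hune : B.res u ≠ 0 := by rw [hures]; exact D.hf1
    obtain ⟨c, hc⟩ := B.res_surjective (-(B.res s) / B.res u)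
    let b : Option (Fin r) → B := fun o => o.elim (b₀ none + c * t) (fun j => b₀ (some j))
    have hμb : ∀ o, μ (b o) = (D.pull r φ).1 (D.X r o) := by
      intro o
      cases o with
      | none =>
        change μ.toAlgHom (b₀ none + c * t) = _
        rw [map_add, map_mul, hμt, mul_zero, add_zero]
        exact hb₀ none
      | some j => exact hb₀ (some j)
    have hbres : ∀ o, B.res (b o) = D.val r o := by
      intro o
      rw [← res_app μ (b o), hμb o]
      exact (AlgHom.congr_fun (D.pull r φ).2 (D.X r o)).trans (D.res_X r o)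
    have hfb : Polynomial.aeval (b none) D.f = 0 := by
      change Polynomial.aeval (b₀ none + c * t) D.f = 0
      have htt := ht t htm
      have hsq : (c * t) ^ 2 = 0 := by
        rw [sq]
        linear_combination (c * c) * htt
      rw [Polynomial.aeval_add_of_sq_eq_zero _ _ _ hsq, ← hs, ← hu]
      have hmem : s + u * c ∈ IsLocalRing.maximalIdeal B := by
        rw [mem_maximalIdeal_iff, map_add, map_mul, hc]
        field_simp
        ring
      have := ht _ hmem
      linear_combination this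
    obtain ⟨ψP, hψP⟩ := D.P_exists_hom r B b hbres
    obtain ⟨ψ, hψ⟩ := D.exists_desc r ψP (by
      change ψP.1 (Polynomial.aeval (D.X r none) D.f) = 0
      rw [← Polynomial.aeval_algHom_apply, hψP none]
      exact hfb)
    refine ⟨ψ, ?_⟩
    apply D.pull_injective r
    rw [pull_map, hψ]
    apply D.P_hom_ext r
    intro o
    rw [homSet_map_apply, hψP o, hμb o]
  · intro A B C p q hp hq φ
    obtain ⟨ψB, e1⟩ := hq φ
    obtain ⟨ψC, e3⟩ := hp ψB
    exact ⟨ψC, by rw [homSet_map_comp, e3, e1]⟩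

omit [Module.Finite Λ k] in
theorem exists_ρE : ∃ ρE : HomSet (D.Q r).carrier (D.Q r).res (EE Λ k r),
    (∀ j, ρE.1 (D.qmk r (D.X r (some j))) = eps j) ∧ Function.Surjective ρE.1 := by
  let bE : Option (Fin r) → EE Λ k r := fun o => o.elim (einl D.θ) (fun j => eps j)
  have hbE : ∀ o, (EE Λ k r).res (bE o) = D.val r o := by
    intro o
    cases o with
    | none => rfl
    | some j => rfl
  obtain ⟨ρP, hρP⟩ := D.P_exists_hom r (EE Λ k r) bE hbE
  have hkill : ρP.1 (D.fX r) = 0 := by
    change ρP.1 (Polynomial.aeval (D.X r none) D.f) = 0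
    rw [← Polynomial.aeval_algHom_apply, hρP none]
    change Polynomial.aeval (einl D.θ) D.f = 0
    rw [← einlHom_apply, Polynomial.aeval_algHom_apply, D.hf0, map_zero]
  obtain ⟨ρE, hρE⟩ := D.exists_desc r ρP hkill
  have hval : ∀ x, ρE.1 (D.qmk r x) = ρP.1 x := fun x => congrArg (fun t => t.1 x) hρE
  refine ⟨ρE, fun j => (hval _).trans (hρP (some j)), ?_⟩
  have hinl : ∀ c : k, einl c ∈ (ρE.1.range : Subalgebra Λ (EE Λ k r).carrier) := by
    intro c
    obtain ⟨g, hg⟩ := D.hθ c
    refine ⟨D.qmk r (Polynomial.aeval (D.X r none) g), ?_⟩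
    refine (hval _).trans ?_
    rw [← Polynomial.aeval_algHom_apply, hρP none]
    change Polynomial.aeval (einl D.θ) g = einl c
    rw [← einlHom_apply, Polynomial.aeval_algHom_apply, hg]
    rfl
  have heps : ∀ j : Fin r, (eps j : EE Λ k r) ∈ (ρE.1.range : Subalgebra Λ (EE Λ k r).carrier) :=
    fun j => ⟨D.qmk r (D.X r (some j)), (hval _).trans (hρP (some j))⟩
  intro x
  have hx : x ∈ (ρE.1.range : Subalgebra Λ (EE Λ k r).carrier) := by
    rw [← EE_decomp x]
    exact Subalgebra.add_mem _ (hinl _)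
      (Subalgebra.sum_mem _ fun i _ => Subalgebra.mul_mem _ (hinl _) (heps i))
  exact hx

end SepData


/-- **Schlessinger**, general Noetherian base, residue field without derivations: `H0`, `H̄`,
`H_ε`, `H_f` give a hull. -/
theorem exists_hull_sep [IsNoetherianRing Λ] [Module.Finite Λ k]
    (hk : Subsingleton (Derivation Λ k k)) {F : Art Λ k ⥤ Type v} [TangentStr F]
    (h0 : H0 F) (h1 : Hbar F) (h2 : Heps F) (h3 : Hfin F) :
    ∃ (R : CRing Λ k) (ξ : Family R.carrier R.res F),
      IsVersal ξ ∧ Function.Bijective (ξ.app (dual Λ k)) := by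
  haveI : Module.Finite k (TangentSpace F) := h3
  obtain ⟨θ, f, hf0, hf1, hθ⟩ := exists_primitive_data hk
  let D : SepData Λ k := ⟨θ, f, hf0, hf1, hθ⟩
  obtain ⟨r, ⟨bas⟩⟩ : ∃ r : ℕ, Nonempty (Module.Basis (Fin r) k (TangentSpace F)) :=
    ⟨_, ⟨Module.finBasis k (TangentSpace F)⟩⟩
  obtain ⟨ρE, hρE, hρEs⟩ := D.exists_ρE r
  exact exists_hull_of_frame (D.hasLift_Q r) (fun j => D.qmk r (D.X r (some j)))
    (D.tangent_ext r) ρE hρE hρEs bas h0 h1 h2

end Groth.Agent.H61
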