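import Groth.Agent.H63.ArtCmp
import Groth.Agent.H61.ArtFunBasic

/-!
# Small extensions: `B ×_k k[ε] ≅ B ×_A B` and the action of the tangent space (helper61)
-/

set_option autoImplicit false
set_option linter.unusedSectionVars false
set_option linter.style.haveILetI false
universe u v

namespace Groth.Agent.H61

open CategoryTheory ArtFun ArtFun.Art Groth.Agent.H63

variable {Λ : Type u} {k : Type u} [CommRing Λ] [Field k] [Algebra Λ k]

section SmulT

variable {B : Art Λ k} (t : B)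

/-- `c ↦ c̃ t` for a lift `c̃` of `c`. -/
noncomputable def smulT (c : k) : B := Classical.choose (B.res_surjective c) * t

variable (ht : ∀ y ∈ IsLocalRing.maximalIdeal B, y * t = 0)

include ht

theorem smulT_eq {c : k} {b : B} (hb : B.res b = c) : smulT t c = b * t := by
  unfold smulT
  have h := Classical.choose_spec (B.res_surjective c)
  have h1 : (Classical.choose (B.res_surjective c) - b) ∈ IsLocalRing.maximalIdeal B := by
    rw [mem_maximalIdeal_iff, map_sub, h, hb, sub_self]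
  have h2 := ht _ h1
  linear_combination h2

theorem smulT_zero : smulT t (0 : k) = 0 := by
  rw [smulT_eq t ht (map_zero B.res), zero_mul]

theorem smulT_add (c c' : k) : smulT t (c + c') = smulT t c + smulT t c' := by
  obtain ⟨b, hb⟩ := B.res_surjective c
  obtain ⟨b', hb'⟩ := B.res_surjective c'
  rw [smulT_eq t ht hb, smulT_eq t ht hb', smulT_eq t ht (b := b + b') (by rw [map_add, hb, hb'])]
  ring

theorem mul_smulT (b : B) (c : k) : b * smulT t c = smulT t (B.res b * c) := by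
  obtain ⟨b', hb'⟩ := B.res_surjective c
  rw [smulT_eq t ht hb', smulT_eq t ht (b := b * b') (by rw [map_mul, hb'])]
  ring

theorem smulT_mul_smulT (htm : t ∈ IsLocalRing.maximalIdeal B) (c c' : k) :
    smulT t c * smulT t c' = 0 := by
  obtain ⟨b, hb⟩ := B.res_surjective c
  obtain ⟨b', hb'⟩ := B.res_surjective c'
  rw [smulT_eq t ht hb, smulT_eq t ht hb']
  have h := ht t htm
  linear_combination (b * b') * h

theorem res_smulT (htm : t ∈ IsLocalRing.maximalIdeal B) (c : k) : B.res (smulT t c) = 0 := by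
  obtain ⟨b, hb⟩ := B.res_surjective c
  rw [smulT_eq t ht hb, map_mul, (mem_maximalIdeal_iff B t).1 htm, mul_zero]

theorem eq_zero_of_smulT_eq_zero (ht0 : t ≠ 0) {c : k} (h : smulT t c = 0) : c = 0 := by
  by_contra hc
  obtain ⟨b, hb⟩ := B.res_surjective c
  rw [smulT_eq t ht hb] at h
  have hu : IsUnit b := by
    by_contra hnu
    have : b ∈ IsLocalRing.maximalIdeal B := (IsLocalRing.mem_maximalIdeal b).2 hnu
    rw [mem_maximalIdeal_iff, hb] at this
    exact hc this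
  exact ht0 ((hu.mul_right_eq_zero).1 h)

end SmulT

section AT

variable {B : Art Λ k} (t : B) (ht : ∀ y ∈ IsLocalRing.maximalIdeal B, y * t = 0)
  (htm : t ∈ IsLocalRing.maximalIdeal B)

/-- second component of a dual number -/
def dsnd (d : dual Λ k) : k := TrivSqZeroExt.snd (show DualNumber k from d)

/-- first component of a dual number -/
def dfst (d : dual Λ k) : k := TrivSqZeroExt.fst (show DualNumber k from d)

theorem dsnd_one : dsnd (1 : dual Λ k) = 0 := rfl
theorem dsnd_zero : dsnd (0 : dual Λ k) = 0 := rfl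
theorem dsnd_add (x y : dual Λ k) : dsnd (x + y) = dsnd x + dsnd y := rfl
theorem dfst_add (x y : dual Λ k) : dfst (x + y) = dfst x + dfst y := rfl
theorem dfst_eq_res (d : dual Λ k) : dfst d = (dual Λ k).res d := rfl

theorem dsnd_mul (x y : dual Λ k) : dsnd (x * y) = dfst x * dsnd y + dfst y * dsnd x := by
  change TrivSqZeroExt.snd ((show DualNumber k from x) * (show DualNumber k from y)) = _
  rw [TrivSqZeroExt.snd_mul]
  simp only [smul_eq_mul, MulOpposite.smul_eq_mul_unop, MulOpposite.unop_op]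
  exact congrArg _ (mul_comm _ _)

theorem dsnd_algebraMap (a : Λ) : dsnd (algebraMap Λ (dual Λ k) a) = 0 := by
  change TrivSqZeroExt.snd (algebraMap Λ (TrivSqZeroExt k k) a) = 0
  rw [TrivSqZeroExt.algebraMap_eq_inl', TrivSqZeroExt.snd_inl]

theorem dual_ext {x y : dual Λ k} (h1 : dfst x = dfst y) (h2 : dsnd x = dsnd y) : x = y :=
  TrivSqZeroExt.ext h1 h2

/-- The map `(b, x + c ε) ↦ b + c t` out of (anything over) `B ×_k k[ε]`. -/
noncomputable def aT {Q : Art Λ k} (q₁ : Q ⟶ B) (q₂ : Q ⟶ dual Λ k) : Q ⟶ B :=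
  ⟨{ toFun := fun q => q₁ q + smulT t (dsnd (q₂ q))
     map_one' := by
       have h1 : q₁ (1 : Q) = 1 := map_one q₁.toAlgHom
       have h2 : q₂ (1 : Q) = 1 := map_one q₂.toAlgHom
       rw [h1, h2, dsnd_one, smulT_zero t ht, add_zero]
     map_mul' := by
       intro x y
       have h1 : q₁ (x * y) = q₁ x * q₁ y := map_mul q₁.toAlgHom x y
       have h2 : q₂ (x * y) = q₂ x * q₂ y := map_mul q₂.toAlgHom x y
       have hx : dfst (q₂ x) = B.res (q₁ x) := by
         rw [dfst_eq_res, res_app, res_app]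
       have hy : dfst (q₂ y) = B.res (q₁ y) := by
         rw [dfst_eq_res, res_app, res_app]
       rw [h1, h2, dsnd_mul, smulT_add t ht, hx, hy, ← mul_smulT t ht, ← mul_smulT t ht]
       have h3 := smulT_mul_smulT t ht htm (dsnd (q₂ x)) (dsnd (q₂ y))
       linear_combination (-1 : B) * h3
     map_zero' := by
       have h1 : q₁ (0 : Q) = 0 := map_zero q₁.toAlgHom
       have h2 : q₂ (0 : Q) = 0 := map_zero q₂.toAlgHom
       rw [h1, h2, dsnd_zero, smulT_zero t ht, add_zero]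
     map_add' := by
       intro x y
       have h1 : q₁ (x + y) = q₁ x + q₁ y := map_add q₁.toAlgHom x y
       have h2 : q₂ (x + y) = q₂ x + q₂ y := map_add q₂.toAlgHom x y
       rw [h1, h2, dsnd_add, smulT_add t ht]
       ring
     commutes' := by
       intro a
       have h1 : q₁ (algebraMap Λ Q a) = algebraMap Λ B a := q₁.toAlgHom.commutes a
       have h2 : q₂ (algebraMap Λ Q a) = algebraMap Λ (dual Λ k) a := q₂.toAlgHom.commutes a
       change q₁ (algebraMap Λ Q a) + smulT t (dsnd (q₂ (algebraMap Λ Q a))) = _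
       rw [h1, h2, dsnd_algebraMap, smulT_zero t ht, add_zero] }, by
    apply AlgHom.ext
    intro q
    change B.res (q₁ q + smulT t (dsnd (q₂ q))) = Q.res q
    rw [map_add, res_smulT t ht htm, add_zero, res_app]⟩

theorem aT_apply {Q : Art Λ k} (q₁ : Q ⟶ B) (q₂ : Q ⟶ dual Λ k) (q : Q) :
    aT t ht htm q₁ q₂ q = q₁ q + smulT t (dsnd (q₂ q)) := rfl

theorem aT_comp {A : Art Λ k} (μ : B ⟶ A) (hμt : μ t = 0) {Q : Art Λ k} (q₁ : Q ⟶ B)
    (q₂ : Q ⟶ dual Λ k) : aT t ht htm q₁ q₂ ≫ μ = q₁ ≫ μ := by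
  apply hom_ext
  apply AlgHom.ext
  intro q
  change μ (aT t ht htm q₁ q₂ q) = μ (q₁ q)
  rw [aT_apply]
  have h1 : μ (q₁ q + smulT t (dsnd (q₂ q))) =
      μ (q₁ q) + μ (smulT t (dsnd (q₂ q))) := map_add μ.toAlgHom _ _
  obtain ⟨b, hb⟩ := B.res_surjective (dsnd (q₂ q))
  have h2 : μ (b * t) = μ b * μ t := map_mul μ.toAlgHom _ _
  rw [h1, smulT_eq t ht hb, h2, hμt, mul_zero, add_zero]

end AT

section HomSetLemmas

variable {R : Type u} [CommRing R] [Algebra Λ R] {resR : R →ₐ[Λ] k}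

theorem homSet_map_comp {A B C : Art Λ k} (f : A ⟶ B) (g : B ⟶ C) (φ : HomSet R resR A) :
    HomSet.map (f ≫ g) φ = HomSet.map g (HomSet.map f φ) :=
  Subtype.ext (AlgHom.ext fun _ => rfl)

theorem homSet_map_id {A : Art Λ k} (φ : HomSet R resR A) : HomSet.map (𝟙 A) φ = φ :=
  Subtype.ext (AlgHom.ext fun _ => rfl)

theorem homSet_map_apply {A B : Art Λ k} (f : A ⟶ B) (φ : HomSet R resR A) (r : R) :
    (HomSet.map f φ).1 r = f (φ.1 r) := rfl

theorem homSet_ext {A : Art Λ k} {φ ψ : HomSet R resR A} (h : ∀ r, φ.1 r = ψ.1 r) : φ = ψ :=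
  Subtype.ext (AlgHom.ext h)

end HomSetLemmas

section Torsor

variable [IsNoetherianRing Λ] [Module.Finite Λ k]

/-- an element of the dual numbers with given components -/
def dmk (a c : k) : dual Λ k := ((a, c) : k × k)

theorem dfst_dmk (a c : k) : dfst (dmk (Λ := Λ) a c) = a := rfl
theorem dsnd_dmk (a c : k) : dsnd (dmk (Λ := Λ) a c) = c := rfl

theorem toBase_dual_surjective : Function.Surjective (toBase (dual Λ k)) :=
  (dual Λ k).res_surjective

/-- `B ×_k k[ε]` -/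
noncomputable abbrev QQ (B : Art Λ k) : Art Λ k :=
  fibreProd (toBase B) (toBase (dual Λ k)) toBase_dual_surjective

/-- first projection -/
noncomputable abbrev qq₁ (B : Art Λ k) : QQ B ⟶ B :=
  fibreProdFst (toBase B) (toBase (dual Λ k)) toBase_dual_surjective

/-- second projection -/
noncomputable abbrev qq₂ (B : Art Λ k) : QQ B ⟶ dual Λ k :=
  fibreProdSnd (toBase B) (toBase (dual Λ k)) toBase_dual_surjective

theorem isFibreProd_QQ (B : Art Λ k) :
    IsFibreProd (qq₁ B) (qq₂ B) (toBase B) (toBase (dual Λ k)) :=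
  isFibreProd_fibreProd _ _ _

theorem exists_gen {B A : Art Λ k} (μ : B ⟶ A) (hμ : IsSmallExt μ) :
    ∃ t : B, RingHom.ker μ.toAlgHom = Ideal.span {t} ∧
      (∀ y ∈ IsLocalRing.maximalIdeal B, y * t = 0) ∧ t ∈ IsLocalRing.maximalIdeal B ∧ t ≠ 0 ∧
      μ t = 0 := by
  obtain ⟨hs, hne, ⟨t, htk⟩, hm⟩ := hμ
  have htk' : RingHom.ker μ.toAlgHom = Ideal.span {t} := htk
  have hmem : t ∈ RingHom.ker μ.toAlgHom := by
    rw [htk']; exact Ideal.mem_span_singleton_self t
  refine ⟨t, htk', ?_, ker_le_maximalIdeal μ hmem, ?_, RingHom.mem_ker.1 hmem⟩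
  · intro y hy
    have : y * t ∈ IsLocalRing.maximalIdeal B * RingHom.ker μ.toAlgHom := Ideal.mul_mem_mul hy hmem
    rw [hm] at this
    exact this
  · rintro rfl
    apply hne
    rw [htk']
    simp

variable {B A : Art Λ k} (μ : B ⟶ A) (hμs : Function.Surjective μ) (t : B)
  (hker : RingHom.ker μ.toAlgHom = Ideal.span {t})
  (ht : ∀ y ∈ IsLocalRing.maximalIdeal B, y * t = 0) (htm : t ∈ IsLocalRing.maximalIdeal B)
  (ht0 : t ≠ 0) (hμt : μ t = 0)

/-- the comparison `B ×_k k[ε] ⟶ B ×_A B` -/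
noncomputable def eMap : QQ B ⟶ fibreProd μ μ hμs :=
  fibreProdLift μ μ hμs (qq₁ B) (aT t ht htm (qq₁ B) (qq₂ B))
    (aT_comp t ht htm μ hμt (qq₁ B) (qq₂ B)).symm

theorem eMap_fst : eMap μ hμs t ht htm hμt ≫ fibreProdFst μ μ hμs = qq₁ B :=
  fibreProdLift_fst _ _ _ _ _ _

theorem eMap_snd : eMap μ hμs t ht htm hμt ≫ fibreProdSnd μ μ hμs = aT t ht htm (qq₁ B) (qq₂ B) :=
  fibreProdLift_snd _ _ _ _ _ _

include hker ht0 in
theorem eMap_bijective : Function.Bijective (eMap μ hμs t ht htm hμt) := by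
  constructor
  · intro q q' h
    have h1 : qq₁ B q = qq₁ B q' := by
      have := congrArg (fibreProdFst μ μ hμs) h
      exact this
    have h2 : aT t ht htm (qq₁ B) (qq₂ B) q = aT t ht htm (qq₁ B) (qq₂ B) q' := by
      have := congrArg (fibreProdSnd μ μ hμs) h
      exact this
    rw [aT_apply, aT_apply, h1] at h2
    have h3 : smulT t (dsnd (qq₂ B q)) = smulT t (dsnd (qq₂ B q')) := add_left_cancel h2
    have h4 : smulT t (dsnd (qq₂ B q) - dsnd (qq₂ B q')) = 0 := by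
      have := smulT_add t ht (dsnd (qq₂ B q) - dsnd (qq₂ B q')) (dsnd (qq₂ B q'))
      rw [sub_add_cancel, h3] at this
      exact (add_eq_right.1 this.symm)
    have h5 := eq_zero_of_smulT_eq_zero t ht ht0 h4
    have h6 : qq₂ B q = qq₂ B q' := by
      apply dual_ext
      · rw [dfst_eq_res, dfst_eq_res, res_app, res_app, ← res_app (qq₁ B) q, ← res_app (qq₁ B) q', h1]
      · exact sub_eq_zero.1 h5
    exact (isFibreProd_QQ B).inj q q' h1 h6
  · intro w
    have hw := (isFibreProd_fibreProd μ μ hμs).w_apply w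
    set b := fibreProdFst μ μ hμs w with hb
    set b' := fibreProdSnd μ μ hμs w with hb'
    have h1 : b' - b ∈ RingHom.ker μ.toAlgHom := by
      rw [RingHom.mem_ker, map_sub, sub_eq_zero]
      exact hw.symm
    rw [hker] at h1
    obtain ⟨s, hs⟩ := Ideal.mem_span_singleton'.1 h1
    obtain ⟨q, hq1, hq2⟩ := (isFibreProd_QQ B).surj b (dmk (B.res b) (B.res s)) rfl
    refine ⟨q, ?_⟩
    apply (isFibreProd_fibreProd μ μ hμs).inj
    · change qq₁ B q = b
      exact hq1
    · change aT t ht htm (qq₁ B) (qq₂ B) q = b'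
      rw [aT_apply, hq1, hq2, dsnd_dmk, smulT_eq t ht rfl, hs]
      ring

end Torsor

section Action

variable [IsNoetherianRing Λ] [Module.Finite Λ k]
variable {F : Art Λ k ⥤ Type v} {R : Type u} [CommRing R] [Algebra Λ R] {resR : R →ₐ[Λ] k}

theorem dsnd_baseToDual' (c : k) :
    TrivSqZeroExt.snd (algebraMap k (DualNumber k) c) = 0 := by
  rw [TrivSqZeroExt.algebraMap_eq_inl, TrivSqZeroExt.snd_inl]

theorem dsnd_baseToDual (c : base Λ k) : dsnd (baseToDual (Λ := Λ) (k := k) c) = 0 :=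
  dsnd_baseToDual' (show k from c)

/-- Transitivity of the tangent action on lifts (Hbar + Heps), in terms of a family. -/
theorem tangent_adjust (h1 : Hbar F) (h2 : Heps F) (ξ : Family R resR F)
    (hsurj : Function.Surjective (ξ.app (dual Λ k))) {B A : Art Λ k} (μ : B ⟶ A)
    (hμ : IsSmallExt μ) (ψ' : HomSet R resR B) (y : F.obj B)
    (hy : F.map μ y = F.map μ (ξ.app B ψ')) :
    ∃ ψ : HomSet R resR B, HomSet.map μ ψ = HomSet.map μ ψ' ∧ ξ.app B ψ = y := by
  obtain ⟨t, hker, ht, htm, ht0, hμt⟩ := exists_gen μ hμ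
  haveI : IsIso (eMap μ hμ.1 t ht htm hμt) :=
    isIso_of_bijective _ (eMap_bijective μ hμ.1 t hker ht htm ht0 hμt)
  obtain ⟨w, hw⟩ := h1 (fibreProdFst μ μ hμ.1) (fibreProdSnd μ μ hμ.1) μ μ
    (isFibreProd_fibreProd μ μ hμ.1) hμ ⟨(ξ.app B ψ', y), hy.symm⟩
  have hw1 : F.map (fibreProdFst μ μ hμ.1) w = ξ.app B ψ' := congrArg (fun z => z.1.1) hw
  have hw2 : F.map (fibreProdSnd μ μ hμ.1) w = y := congrArg (fun z => z.1.2) hw
  have he1 : inv (eMap μ hμ.1 t ht htm hμt) ≫ qq₁ B = fibreProdFst μ μ hμ.1 := by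
    rw [IsIso.inv_comp_eq, eMap_fst]
  have he2 : inv (eMap μ hμ.1 t ht htm hμt) ≫ aT t ht htm (qq₁ B) (qq₂ B) =
      fibreProdSnd μ μ hμ.1 := by
    rw [IsIso.inv_comp_eq, eMap_snd]
  set z := F.map (inv (eMap μ hμ.1 t ht htm hμt)) w with hz
  have hz1 : F.map (qq₁ B) z = ξ.app B ψ' := by
    rw [hz, ← Functor.map_comp_apply, he1, hw1]
  have hz2 : F.map (aT t ht htm (qq₁ B) (qq₂ B)) z = y := by
    rw [hz, ← Functor.map_comp_apply, he2, hw2]
  obtain ⟨δ, hδ⟩ := hsurj (F.map (qq₂ B) z)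
  haveI := _root_.H61.homSet_base_subsingleton (Λ := Λ) (k := k) (R := R) (resR := resR)
  obtain ⟨ψQ, hψ1, hψ2⟩ := _root_.H61.fibreProd_lift (isFibreProd_QQ B) ψ' δ (Subsingleton.elim _ _)
  have hzQ : ξ.app _ ψQ = z := by
    apply (h2 (qq₁ B) (qq₂ B) (isFibreProd_QQ B)).1
    apply Subtype.ext
    apply Prod.ext
    · change F.map (qq₁ B) (ξ.app _ ψQ) = F.map (qq₁ B) z
      rw [← ξ.natural, hψ1, hz1]
    · change F.map (qq₂ B) (ξ.app _ ψQ) = F.map (qq₂ B) z
      rw [← ξ.natural, hψ2, hδ]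
  refine ⟨HomSet.map (aT t ht htm (qq₁ B) (qq₂ B)) ψQ, ?_, ?_⟩
  · rw [← homSet_map_comp, aT_comp t ht htm μ hμt, homSet_map_comp, hψ1]
  · rw [ξ.natural, hzQ, hz2]

/-- Freeness of the tangent action on lifts (HSq), in terms of a family. -/
theorem tangent_inj (h4 : HSq F) (ξ : Family R resR F)
    (hinj : Function.Injective (ξ.app (dual Λ k))) {B A : Art Λ k} (μ : B ⟶ A)
    (hμ : IsSmallExt μ) (ψ₁ ψ₂ : HomSet R resR B)
    (hμψ : HomSet.map μ ψ₁ = HomSet.map μ ψ₂) (hξ : ξ.app B ψ₁ = ξ.app B ψ₂) : ψ₁ = ψ₂ := by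
  obtain ⟨t, hker, ht, htm, ht0, hμt⟩ := exists_gen μ hμ
  haveI : IsIso (eMap μ hμ.1 t ht htm hμt) :=
    isIso_of_bijective _ (eMap_bijective μ hμ.1 t hker ht htm ht0 hμt)
  have he1 : inv (eMap μ hμ.1 t ht htm hμt) ≫ qq₁ B = fibreProdFst μ μ hμ.1 := by
    rw [IsIso.inv_comp_eq, eMap_fst]
  have he2 : inv (eMap μ hμ.1 t ht htm hμt) ≫ aT t ht htm (qq₁ B) (qq₂ B) =
      fibreProdSnd μ μ hμ.1 := by
    rw [IsIso.inv_comp_eq, eMap_snd]
  obtain ⟨ψW, hW1, hW2⟩ := _root_.H61.fibreProd_lift (isFibreProd_fibreProd μ μ hμ.1) ψ₁ ψ₂ hμψ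
  set ψQ := HomSet.map (inv (eMap μ hμ.1 t ht htm hμt)) ψW with hψQ
  have hQ1 : HomSet.map (qq₁ B) ψQ = ψ₁ := by
    rw [hψQ, ← homSet_map_comp, he1, hW1]
  have hQ2 : HomSet.map (aT t ht htm (qq₁ B) (qq₂ B)) ψQ = ψ₂ := by
    rw [hψQ, ← homSet_map_comp, he2, hW2]
  haveI := _root_.H61.homSet_base_subsingleton (Λ := Λ) (k := k) (R := R) (resR := resR)
  set δ₀ := HomSet.map (toBase B ≫ baseToDual) ψ₁ with hδ₀
  obtain ⟨ψQ0, h01, h02⟩ := _root_.H61.fibreProd_lift (isFibreProd_QQ B) ψ₁ δ₀ (Subsingleton.elim _ _)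
  have h03 : HomSet.map (aT t ht htm (qq₁ B) (qq₂ B)) ψQ0 = ψ₁ := by
    apply homSet_ext
    intro r
    rw [homSet_map_apply, aT_apply]
    have e1 : qq₁ B (ψQ0.1 r) = ψ₁.1 r := congrArg (fun χ => χ.1 r) h01
    have e2 : qq₂ B (ψQ0.1 r) = δ₀.1 r := congrArg (fun χ => χ.1 r) h02
    rw [e1, e2]
    have e3 : δ₀.1 r = baseToDual (toBase B (ψ₁.1 r)) := rfl
    rw [e3, dsnd_baseToDual, smulT_zero t ht, add_zero]
  -- compare in F(W)
  have key : F.map (eMap μ hμ.1 t ht htm hμt) (ξ.app _ ψQ) =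
      F.map (eMap μ hμ.1 t ht htm hμt) (ξ.app _ ψQ0) := by
    apply (h4 (fibreProdFst μ μ hμ.1) (fibreProdSnd μ μ hμ.1) μ
      (isFibreProd_fibreProd μ μ hμ.1) hμ).1
    apply Subtype.ext
    apply Prod.ext
    · change F.map (fibreProdFst μ μ hμ.1) (F.map _ (ξ.app _ ψQ)) =
        F.map (fibreProdFst μ μ hμ.1) (F.map _ (ξ.app _ ψQ0))
      rw [← Functor.map_comp_apply, ← Functor.map_comp_apply, eMap_fst, ← ξ.natural, ← ξ.natural,
        hQ1, h01]
    · change F.map (fibreProdSnd μ μ hμ.1) (F.map _ (ξ.app _ ψQ)) =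
        F.map (fibreProdSnd μ μ hμ.1) (F.map _ (ξ.app _ ψQ0))
      rw [← Functor.map_comp_apply, ← Functor.map_comp_apply, eMap_snd, ← ξ.natural, ← ξ.natural,
        hQ2, h03, hξ]
  have key2 : ξ.app _ ψQ = ξ.app _ ψQ0 := by
    have := congrArg (F.map (inv (eMap μ hμ.1 t ht htm hμt))) key
    rwa [← Functor.map_comp_apply, ← Functor.map_comp_apply, IsIso.hom_inv_id,
      Functor.map_id_apply, Functor.map_id_apply] at this
  have key3 : HomSet.map (qq₂ B) ψQ = δ₀ := by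
    apply hinj
    rw [ξ.natural, key2, ← ξ.natural, h02]
  have key4 : ψQ = ψQ0 := by
    apply homSet_ext
    intro r
    apply (isFibreProd_QQ B).inj
    · exact (congrArg (fun χ => χ.1 r) hQ1).trans (congrArg (fun χ => χ.1 r) h01).symm
    · exact (congrArg (fun χ => χ.1 r) key3).trans (congrArg (fun χ => χ.1 r) h02).symm
  rw [← hQ2, key4, h03]

end Action

end Groth.Agent.H61
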