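import Groth.Agent.H61.SchlessHull

/-!
# Schlessinger's construction: versality of the family on the hull ring (helper61)
-/

set_option autoImplicit false
set_option linter.unusedSectionVars false
set_option linter.style.haveILetI false
universe u v

namespace Groth.Agent.H61

open CategoryTheory ArtFun ArtFun.Art Groth.Agent.H63

variable {Λ : Type u} {k : Type u} [CommRing Λ] [Field k] [Algebra Λ k]

/-- the lifting property of (power series) coefficient rings -/
def HasLift (P : CRing Λ k) : Prop :=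
  ∀ ⦃B A : Art Λ k⦄ (μ : B ⟶ A), Function.Surjective μ → ∀ φ : HomSet P.carrier P.res A,
    ∃ ψ : HomSet P.carrier P.res B, HomSet.map μ ψ = φ

variable {P : CRing Λ k} {F : Art Λ k ⥤ Type v} (T : Tower P F)

namespace Tower

theorem exists_factor_level {A : Art Λ k} (φ : HomSet T.hull.carrier T.hull.res A) :
    ∃ M₀ : ℕ, ∀ M, M₀ ≤ M → ∃ f : (T.s M).R ⟶ A, HomSet.map f (T.s M).ρ = T.pull φ := by
  obtain ⟨n, hn⟩ := art_maximalIdeal_nilpotent A
  refine ⟨n, fun M hM => ?_⟩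
  apply exists_factor_of_ker_le (T.s M).ρ (T.s M).surj
  intro x hx
  obtain ⟨a, ha, b, hb, rfl⟩ := Submodule.mem_sup.1 (T.I_le_sup M hx)
  rw [RingHom.mem_ker, map_add]
  have h1 : (T.pull φ).1 a = 0 := by
    rw [pull_apply, (T.π_eq_zero_iff a).2 ha, map_zero]
  have h2 : (T.pull φ).1 b = 0 := by
    have h3 := homSet_map_pow P (T.pull φ) (M + 1) b hb
    have h4 : IsLocalRing.maximalIdeal A ^ (M + 1) ≤ IsLocalRing.maximalIdeal A ^ n :=
      Ideal.pow_le_pow_right (by omega)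
    have h5 := h4 h3
    rw [hn] at h5
    exact h5
  rw [h1, h2, add_zero]

variable [IsNoetherianRing Λ] [Module.Finite Λ k]

theorem versal_small (hmin : ∀ M, 1 ≤ M → (T.s M).IsMin M) (hlift : HasLift P)
    (h1 : Hbar F) (h2 : Heps F) (htan : Function.Surjective (T.family.app (dual Λ k)))
    {B A : Art Λ k} (μ : B ⟶ A) (hμ : IsSmallExt μ)
    (φ : HomSet T.hull.carrier T.hull.res A) (y : F.obj B)
    (hy : F.map μ y = T.family.app A φ) :
    ∃ ψ : HomSet T.hull.carrier T.hull.res B, HomSet.map μ ψ = φ ∧ T.family.app B ψ = y := by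
  obtain ⟨M₀, hM₀⟩ := T.exists_factor_level φ
  obtain ⟨nB, hnB⟩ := art_maximalIdeal_nilpotent B
  set M := max (max M₀ nB) 1 with hM
  have hM1 : 1 ≤ M := le_max_right _ _
  have hMB : nB ≤ M := (le_max_right _ _).trans (le_max_left _ _)
  obtain ⟨f, hf⟩ := hM₀ M ((le_max_left _ _).trans (le_max_left _ _))
  have hfξ : F.map f (T.s M).ξ = F.map μ y := by rw [hy, T.family_app φ M f hf]
  have hQ := isFibreProd_fibreProd f μ hμ.1
  set pr₁ := fibreProdFst f μ hμ.1 with hpr₁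
  set pr₂ := fibreProdSnd f μ hμ.1 with hpr₂
  obtain ⟨ζ, hζ⟩ := h1 pr₁ pr₂ f μ hQ hμ ⟨((T.s M).ξ, y), hfξ⟩
  have hζ1 : F.map pr₁ ζ = (T.s M).ξ := congrArg (fun z => z.1.1) hζ
  have hζ2 : F.map pr₂ ζ = y := congrArg (fun z => z.1.2) hζ
  have hpr₁s : Function.Surjective pr₁ := IsFibreProd.surjective_fst hQ hμ.1
  obtain ⟨w, hw⟩ := hlift pr₁ hpr₁s (T.s M).ρ
  have hw' : ∀ x, pr₁ (w.1 x) = (T.s M).ρ.1 x := fun x => congrArg (fun t => t.1 x) hw
  have hclaim : RingHom.ker (T.s M).ρ.1 ≤ RingHom.ker (HomSet.map pr₂ w).1 := by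
    by_contra hcon
    obtain ⟨x, hxI, hxn⟩ := SetLike.not_le_iff_exists.1 hcon
    have hxI' : (T.s M).ρ.1 x = 0 := RingHom.mem_ker.1 hxI
    have hxn' : pr₂ (w.1 x) ≠ 0 := fun h => hxn (RingHom.mem_ker.2 h)
    obtain ⟨t, hker, ht, htm, ht0, hμt⟩ := exists_gen μ hμ
    have hkerμ : ∀ q : (fibreProd f μ hμ.1 : Art Λ k), pr₁ q = 0 → ∃ b : B, b * t = pr₂ q := by
      intro q hq
      have : pr₂ q ∈ RingHom.ker μ.toAlgHom := by
        rw [RingHom.mem_ker]
        have h3 := hQ.w_apply q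
        rw [hq] at h3
        exact h3.symm.trans (map_zero f.toAlgHom)
      exact Ideal.mem_span_singleton'.1 (hker.le this)
    obtain ⟨c, hc⟩ := hkerμ (w.1 x) ((hw' x).trans hxI')
    have hcu : B.res c ≠ 0 := by
      intro h0
      have : c ∈ IsLocalRing.maximalIdeal B := (mem_maximalIdeal_iff B c).2 h0
      exact hxn' (hc ▸ ht c this)
    have hws : Function.Surjective w.1 := by
      intro q
      obtain ⟨y₀, hy₀⟩ := (T.s M).surj (pr₁ q)
      have h1' : pr₁ (q - w.1 y₀) = 0 := by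
        have : pr₁ (q - w.1 y₀) = pr₁ q - pr₁ (w.1 y₀) := map_sub pr₁.toAlgHom _ _
        rw [this, hw', hy₀, sub_self]
      obtain ⟨b, hb⟩ := hkerμ _ h1'
      have hb' : pr₂ q = pr₂ (w.1 y₀) + b * t := by
        have : pr₂ (q - w.1 y₀) = pr₂ q - pr₂ (w.1 y₀) := map_sub pr₂.toAlgHom _ _
        rw [hb, this]
        ring
      obtain ⟨z, hz⟩ := P.res_surjective (B.res b * (B.res c)⁻¹)
      refine ⟨y₀ + z * x, ?_⟩
      apply hQ.inj
      · rw [hw', map_add, map_mul, hxI', mul_zero, add_zero, hy₀]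
      · have e1 : pr₂ (w.1 (y₀ + z * x)) = pr₂ (w.1 y₀) + pr₂ (w.1 z) * pr₂ (w.1 x) := by
          rw [map_add, map_mul]
          have a1 : pr₂ (w.1 y₀ + w.1 z * w.1 x) = pr₂ (w.1 y₀) + pr₂ (w.1 z * w.1 x) :=
            map_add pr₂.toAlgHom _ _
          have a2 : pr₂ (w.1 z * w.1 x) = pr₂ (w.1 z) * pr₂ (w.1 x) := map_mul pr₂.toAlgHom _ _
          rw [a1, a2]
        rw [e1, hb', ← hc]
        have e2 : B.res (pr₂ (w.1 z)) = P.res z := AlgHom.congr_fun (HomSet.map pr₂ w).2 z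
        have e3 : pr₂ (w.1 z) * c - b ∈ IsLocalRing.maximalIdeal B := by
          rw [mem_maximalIdeal_iff, map_sub, map_mul, e2, hz]
          field_simp
          ring
        have e4 := ht _ e3
        linear_combination e4
    have hwk : P.mpow M ≤ RingHom.ker w.1 := by
      intro x' hx'
      rw [RingHom.mem_ker]
      apply hQ.inj
      · rw [hw', RingHom.mem_ker.1 (T.kills M hx')]
        exact (map_zero pr₁.toAlgHom).symm
      · have h3 := homSet_map_pow P (HomSet.map pr₂ w) (M + 1) x' hx'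
        have h4 : IsLocalRing.maximalIdeal B ^ (M + 1) ≤ IsLocalRing.maximalIdeal B ^ nB :=
          Ideal.pow_le_pow_right (by omega)
        have h5 := h4 h3
        rw [hnB] at h5
        exact ((Ideal.mem_bot).1 h5).trans (map_zero pr₂.toAlgHom).symm
    have hinj := hmin M hM1 _ w hws hwk pr₁ hw ζ hζ1
    have h6 : w.1 x = 0 := hinj (((hw' x).trans hxI').trans (map_zero pr₁.toAlgHom).symm)
    exact hxn' (by rw [h6]; exact map_zero pr₂.toAlgHom)
  have hJ : T.J ≤ RingHom.ker (HomSet.map pr₂ w).1 := (T.J_le_I M).trans hclaim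
  obtain ⟨ψ', hψ'⟩ := T.exists_descend (HomSet.map pr₂ w) hJ
  have hμψ' : HomSet.map μ ψ' = φ := by
    apply T.pull_injective
    rw [pull_map, hψ', ← homSet_map_comp, ← hQ.w, homSet_map_comp, hw, hf]
  have hy' : F.map μ y = F.map μ (T.family.app B ψ') := by
    rw [← T.family.natural, hμψ', hy]
  obtain ⟨ψ, hψ1, hψ2⟩ := tangent_adjust h1 h2 T.family htan μ hμ ψ' y hy'
  exact ⟨ψ, hψ1.trans hμψ', hψ2⟩

theorem isVersal (hmin : ∀ M, 1 ≤ M → (T.s M).IsMin M) (hlift : HasLift P)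
    (h1 : Hbar F) (h2 : Heps F) (htan : Function.Surjective (T.family.app (dual Λ k))) :
    IsVersal T.family := by
  intro B A μ hμ
  refine surjective_induction
    (fun (A B : Art Λ k) (μ : B ⟶ A) => ∀ (φ : HomSet T.hull.carrier T.hull.res A) (y : F.obj B),
      F.map μ y = T.family.app A φ →
      ∃ ψ : HomSet T.hull.carrier T.hull.res B, HomSet.map μ ψ = φ ∧ T.family.app B ψ = y)
    ?_ ?_ ?_ μ hμ
  · intro A B e he φ y hy
    haveI := he
    refine ⟨HomSet.map (inv e) φ, ?_, ?_⟩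
    · rw [← homSet_map_comp, IsIso.inv_hom_id, homSet_map_id]
    · rw [T.family.natural, ← hy, ← Functor.map_comp_apply, IsIso.hom_inv_id, Functor.map_id_apply]
  · intro A B p hp φ y hy
    exact T.versal_small hmin hlift h1 h2 htan p hp φ y hy
  · intro A B C p q hp hq φ y hy
    obtain ⟨ψB, e1, e2⟩ := hq φ (F.map p y) (by rw [← Functor.map_comp_apply, hy])
    obtain ⟨ψC, e3, e4⟩ := hp ψB y e2.symm
    exact ⟨ψC, by rw [homSet_map_comp, e3, e1], e4⟩

end Tower

end Groth.Agent.H61
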