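import Groth.Agent.H61.MinPres
import Groth.Agent.H61.ArtYoneda
import Groth.Agent.H63.ArtLift

/-!
# Minimal quotients carrying a lift, and versality for small prolongations (helper61)
-/

set_option autoImplicit false
set_option linter.unusedSectionVars false
set_option linter.style.haveILetI false
universe u v

namespace Groth.Agent.H61

open CategoryTheory ArtFun ArtFun.Art Groth.Agent.H63

variable {Λ : Type u} {k : Type u} [CommRing Λ] [Field k] [Algebra Λ k]

/-- Among the quotients of `B` over `R` to which `a` lifts there is a minimal one. -/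
theorem exists_min_quot (F : Art Λ k ⥤ Type v) {B R : Art Λ k} (p : B ⟶ R)
    (hp : Function.Surjective p) (a : F.obj R) :
    ∃ (R' : Art Λ k) (ρ : B ⟶ R') (q : R' ⟶ R) (a' : F.obj R'),
      Function.Surjective ρ ∧ ρ ≫ q = p ∧ F.map q a' = a ∧
      ∀ (Q : Art Λ k) (w : B ⟶ Q) (g : Q ⟶ R'), Function.Surjective w → w ≫ g = ρ →
        ∀ ζ : F.obj Q, F.map g ζ = a' → Function.Injective g := by
  classical
  have hmax : ∀ {K : Ideal B}, K ≤ RingHom.ker p.toAlgHom →
      K ≤ IsLocalRing.maximalIdeal B := fun h => h.trans (ker_le_maximalIdeal p)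
  let 𝒦 : Set (Ideal B) := {K | ∃ (hK : K ≤ RingHom.ker p.toAlgHom),
    ∃ ξ : F.obj (quot B K (hmax hK)), F.map (quotFactor (hmax hK) p hK) ξ = a}
  have hbij : ∀ {Q : Art Λ k} (w : B ⟶ Q) (hw : Function.Surjective w)
      (hK : RingHom.ker w.toAlgHom ≤ IsLocalRing.maximalIdeal B),
      Function.Bijective (quotFactor hK w le_rfl) := by
    intro Q w hw hK
    constructor
    · intro x y hxy
      obtain ⟨a, rfl⟩ := quotMk_surjective _ _ hK x
      obtain ⟨c, rfl⟩ := quotMk_surjective _ _ hK y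
      have h1 : w a = w c := hxy
      rw [quotMk_eq_iff, RingHom.mem_ker, map_sub, sub_eq_zero]
      exact h1
    · intro r
      obtain ⟨a, ha⟩ := hw r
      exact ⟨quotMk _ _ hK a, ha⟩
  have hne : 𝒦.Nonempty := by
    refine ⟨RingHom.ker p.toAlgHom, le_rfl, ?_⟩
    haveI := isIso_of_bijective _ (hbij p hp (hmax le_rfl))
    refine ⟨F.map (inv (quotFactor (hmax le_rfl) p le_rfl)) a, ?_⟩
    rw [← Functor.map_comp_apply, IsIso.inv_hom_id, Functor.map_id_apply]
  obtain ⟨K₀, hK₀mem, hK₀min⟩ :=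
    WellFounded.has_min (wellFounded_lt (α := Ideal B)) 𝒦 hne
  obtain ⟨hK₀, ξ₀, hξ₀⟩ := hK₀mem
  refine ⟨quot B K₀ (hmax hK₀), quotMk _ K₀ (hmax hK₀), quotFactor (hmax hK₀) p hK₀, ξ₀,
    quotMk_surjective _ _ _, quotMk_quotFactor _ _ _, hξ₀, ?_⟩
  intro Q w g' hws hg' ζ hζ
  have hcomp' : ∀ b, g' (w b) = quotMk B K₀ (hmax hK₀) b := fun b =>
    congrArg (fun f => Hom.toAlgHom f b) hg'
  have hK'K₀ : RingHom.ker w.toAlgHom ≤ K₀ := by
    intro b hb
    rw [← quotMk_eq_zero_iff B (hmax hK₀), ← hcomp', RingHom.mem_ker.1 hb]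
    exact map_zero g'.toAlgHom
  have hK'b : RingHom.ker w.toAlgHom ≤ RingHom.ker p.toAlgHom := hK'K₀.trans hK₀
  have hK'mem : RingHom.ker w.toAlgHom ∈ 𝒦 := by
    refine ⟨hK'b, ?_⟩
    haveI := isIso_of_bijective _ (hbij w hws (hmax hK'b))
    refine ⟨F.map (inv (quotFactor (hmax hK'b) w le_rfl)) ζ, ?_⟩
    have hfac : quotFactor (hmax hK'b) p hK'b =
        quotFactor (hmax hK'b) w le_rfl ≫ g' ≫ quotFactor (hmax hK₀) p hK₀ := by
      apply hom_ext
      apply AlgHom.ext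
      intro x
      obtain ⟨b, rfl⟩ := quotMk_surjective _ _ (hmax hK'b) x
      change p b = quotFactor (hmax hK₀) p hK₀ (g' (w b))
      rw [hcomp']
      rfl
    rw [hfac, Functor.map_comp_apply, Functor.map_comp_apply, ← Functor.map_comp_apply F (inv _),
      IsIso.inv_hom_id, Functor.map_id_apply, hζ, hξ₀]
  have hKeq : RingHom.ker w.toAlgHom = K₀ :=
    eq_of_le_of_not_lt hK'K₀ (hK₀min _ hK'mem)
  refine (injective_iff_map_eq_zero g'.toAlgHom).2 ?_
  intro y hy
  obtain ⟨b, rfl⟩ := hws y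
  have h1 : quotMk B K₀ (hmax hK₀) b = 0 := by rw [← hcomp']; exact hy
  rw [quotMk_eq_zero_iff, ← hKeq] at h1
  exact RingHom.mem_ker.1 h1

/-- two morphisms agreeing after a surjection are equal -/
theorem art_hom_ext_of_surjective {B A C : Art Λ k} (ρ : B ⟶ A) (hρ : Function.Surjective ρ)
    (u v : A ⟶ C) (h : ρ ≫ u = ρ ≫ v) : u = v := by
  apply hom_ext
  apply AlgHom.ext
  intro y
  obtain ⟨b, rfl⟩ := hρ y
  exact congrArg (fun f => Hom.toAlgHom f b) h

/-- factoring through a surjection -/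
theorem art_exists_factor {B A C : Art Λ k} (ρ : B ⟶ A) (hρ : Function.Surjective ρ)
    (g : B ⟶ C) (H : RingHom.ker ρ.toAlgHom ≤ RingHom.ker g.toAlgHom) :
    ∃ f : A ⟶ C, ρ ≫ f = g := by
  have H' : RingHom.ker ρ.toAlgHom.toRingHom ≤ RingHom.ker g.toAlgHom.toRingHom := H
  refine ⟨⟨AlgHom.liftOfSurjective ρ.toAlgHom hρ g.toAlgHom H', ?_⟩, ?_⟩
  · apply AlgHom.ext
    intro y
    obtain ⟨b, rfl⟩ := hρ y
    change C.res (AlgHom.liftOfSurjective ρ.toAlgHom hρ g.toAlgHom H' (ρ.toAlgHom b)) = A.res (ρ b)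
    rw [AlgHom.liftOfSurjective_apply]
    exact (res_app g b).trans (res_app ρ b).symm
  · apply hom_ext
    apply AlgHom.ext
    intro b
    change AlgHom.liftOfSurjective ρ.toAlgHom hρ g.toAlgHom H' (ρ.toAlgHom b) = g.toAlgHom b
    rw [AlgHom.liftOfSurjective_apply]

variable [IsNoetherianRing Λ] [Module.Finite Λ k]

/-- The minimal quotient maps to every small prolongation which `B` maps to. -/
theorem exists_hom_of_min (F : Art Λ k ⥤ Type v) (h1 : Hbar F) {B R R' : Art Λ k}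
    (ρ : B ⟶ R') (q : R' ⟶ R) (a' : F.obj R') (hρ : Function.Surjective ρ)
    (hmin : ∀ (Q : Art Λ k) (w : B ⟶ Q) (g : Q ⟶ R'), Function.Surjective w → w ≫ g = ρ →
        ∀ ζ : F.obj Q, F.map g ζ = a' → Function.Injective g)
    {R₁ : Art Λ k} (π₁ : R₁ ⟶ R) (hπ : IsSmallExt π₁) (a₁ : F.obj R₁)
    (ha₁ : F.map π₁ a₁ = F.map q a') (g : B ⟶ R₁) (hg : g ≫ π₁ = ρ ≫ q) :
    ∃ f : R' ⟶ R₁, ρ ≫ f = g := by
  have hQ := isFibreProd_fibreProd q π₁ hπ.1
  set pr₁ := fibreProdFst q π₁ hπ.1 with hpr₁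
  set pr₂ := fibreProdSnd q π₁ hπ.1 with hpr₂
  obtain ⟨ζ, hζ⟩ := h1 pr₁ pr₂ q π₁ hQ hπ ⟨(a', a₁), ha₁.symm⟩
  have hζ1 : F.map pr₁ ζ = a' := congrArg (fun z => z.1.1) hζ
  obtain ⟨w, hw1, hw2⟩ := Groth.Agent.H63.IsFibreProd.exists_lift hQ ρ g hg.symm
  have hw1' : ∀ b, pr₁ (w b) = ρ b := fun b => congrArg (fun f => Hom.toAlgHom f b) hw1
  have hw2' : ∀ b, pr₂ (w b) = g b := fun b => congrArg (fun f => Hom.toAlgHom f b) hw2
  have hclaim : RingHom.ker ρ.toAlgHom ≤ RingHom.ker g.toAlgHom := by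
    by_contra hcon
    obtain ⟨x, hxI, hxn⟩ := SetLike.not_le_iff_exists.1 hcon
    have hxI' : ρ x = 0 := RingHom.mem_ker.1 hxI
    have hxn' : g x ≠ 0 := fun h => hxn (RingHom.mem_ker.2 h)
    obtain ⟨t, hker, ht, htm, ht0, hμt⟩ := exists_gen π₁ hπ
    have hkerμ : ∀ y : (fibreProd q π₁ hπ.1 : Art Λ k), pr₁ y = 0 →
        ∃ b : R₁, b * t = pr₂ y := by
      intro y hy
      have : pr₂ y ∈ RingHom.ker π₁.toAlgHom := by
        rw [RingHom.mem_ker]
        have h3 := hQ.w_apply y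
        rw [hy] at h3
        exact h3.symm.trans (map_zero q.toAlgHom)
      exact Ideal.mem_span_singleton'.1 (hker.le this)
    obtain ⟨c, hc⟩ := hkerμ (w x) ((hw1' x).trans hxI')
    rw [hw2'] at hc
    have hcu : R₁.res c ≠ 0 := by
      intro h0
      have : c ∈ IsLocalRing.maximalIdeal R₁ := (mem_maximalIdeal_iff R₁ c).2 h0
      exact hxn' (hc ▸ ht c this)
    have hws : Function.Surjective w := by
      intro y
      obtain ⟨y₀, hy₀⟩ := hρ (pr₁ y)
      have h1' : pr₁ (y - w y₀) = 0 := by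
        have : pr₁ (y - w y₀) = pr₁ y - pr₁ (w y₀) := map_sub pr₁.toAlgHom _ _
        rw [this, hw1', hy₀, sub_self]
      obtain ⟨b, hb⟩ := hkerμ _ h1'
      have hb' : pr₂ y = g y₀ + b * t := by
        have : pr₂ (y - w y₀) = pr₂ y - pr₂ (w y₀) := map_sub pr₂.toAlgHom _ _
        rw [hb, this, hw2']
        ring
      obtain ⟨z, hz⟩ := B.res_surjective (R₁.res b * (R₁.res c)⁻¹)
      refine ⟨y₀ + z * x, ?_⟩
      apply hQ.inj
      · rw [hw1']
        have e0 : ρ (y₀ + z * x) = ρ y₀ + ρ z * ρ x := by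
          rw [map_add, map_mul]
        rw [e0, hxI', mul_zero, add_zero, hy₀]
      · rw [hw2', hb']
        have e1 : g (y₀ + z * x) = g y₀ + g z * g x := by
          rw [map_add, map_mul]
        rw [e1, ← hc]
        have e2 : R₁.res (g z) = B.res z := res_app g z
        have e3 : g z * c - b ∈ IsLocalRing.maximalIdeal R₁ := by
          rw [mem_maximalIdeal_iff, map_sub, map_mul, e2, hz]
          field_simp
          ring
        have e4 := ht _ e3
        linear_combination e4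
    have hinj := hmin _ w pr₁ hws hw1 ζ hζ1
    have h6 : w x = 0 := hinj (((hw1' x).trans hxI').trans (map_zero pr₁.toAlgHom).symm)
    exact hxn' (by rw [← hw2', h6]; exact map_zero pr₂.toAlgHom)
  exact art_exists_factor ρ hρ g hclaim

end Groth.Agent.H61

namespace Groth.Agent.H61

open CategoryTheory ArtFun ArtFun.Art Groth.Agent.H63

variable {Λ : Type u} {k : Type u} [CommRing Λ] [Field k] [Algebra Λ k]

section NN

variable [IsLocalRing Λ]

/-- maps of coefficient rings into Artinian algebras respect `m² + m_Λ` -/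
theorem homSet_map_nn (P : CRing Λ k) {A : Art Λ k} (φ : HomSet P.carrier P.res A) (x : P.carrier)
    (hx : x ∈ IsLocalRing.maximalIdeal P.carrier ^ 2 ⊔
      (IsLocalRing.maximalIdeal Λ).map (algebraMap Λ P.carrier)) :
    φ.1 x ∈ IsLocalRing.maximalIdeal (A : Type u) ^ 2 ⊔
      (IsLocalRing.maximalIdeal Λ).map (algebraMap Λ A) := by
  obtain ⟨u, hu, v, hv, rfl⟩ := Submodule.mem_sup.1 hx
  rw [map_add]
  refine Submodule.add_mem_sup (homSet_map_pow P φ 2 u hu) ?_
  have h1 : Ideal.map φ.1.toRingHom ((IsLocalRing.maximalIdeal Λ).map (algebraMap Λ P.carrier)) ≤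
      (IsLocalRing.maximalIdeal Λ).map (algebraMap Λ A) := by
    rw [Ideal.map_map]
    have h2 : φ.1.toRingHom.comp (algebraMap Λ P.carrier) = algebraMap Λ A :=
      φ.1.comp_algebraMap
    rw [h2]
  exact h1 (Ideal.mem_map_of_mem _ hv)

/-- a surjection of coefficient rings onto an Artinian algebra maps `m² + m_Λ` onto `m² + m_Λ` -/
theorem nn_le_map (P : CRing Λ k) {A : Art Λ k} (φ : HomSet P.carrier P.res A)
    (hφ : Function.Surjective φ.1) :
    IsLocalRing.maximalIdeal (A : Type u) ^ 2 ⊔ (IsLocalRing.maximalIdeal Λ).map (algebraMap Λ A) ≤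
      Ideal.map φ.1.toRingHom (IsLocalRing.maximalIdeal P.carrier ^ 2 ⊔
        (IsLocalRing.maximalIdeal Λ).map (algebraMap Λ P.carrier)) := by
  rw [Ideal.map_sup, Ideal.map_pow, Ideal.map_map]
  have h2 : φ.1.toRingHom.comp (algebraMap Λ P.carrier) = algebraMap Λ A := φ.1.comp_algebraMap
  rw [h2, IsLocalRing.map_maximalIdeal_of_surjective φ.1.toRingHom hφ]

end NN

section Main

variable [IsLocalRing Λ] [IsNoetherianRing Λ] [IsAdicComplete (IsLocalRing.maximalIdeal Λ) Λ]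
variable (hΛk : Function.Surjective (algebraMap Λ k))

include hΛk

/-- Existence of a semismall prolongation which is versal for small prolongations, up to the
element. -/
theorem exists_semismall_versal (F : Art Λ k ⥤ Type v) (h1 : Hbar F) (R : Art Λ k) (a : F.obj R) :
    ∃ (R' : Art Λ k) (q : R' ⟶ R) (a' : F.obj R'), F.map q a' = a ∧ IsSemismallExt q ∧
      (∀ x' : R', q x' ∈ IsLocalRing.maximalIdeal (R : Type u) ^ 2 ⊔
          (IsLocalRing.maximalIdeal Λ).map (algebraMap Λ R) →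
        x' ∈ IsLocalRing.maximalIdeal (R' : Type u) ^ 2 ⊔
          (IsLocalRing.maximalIdeal Λ).map (algebraMap Λ R')) ∧
      ∀ (R₁ : Art Λ k) (π₁ : R₁ ⟶ R), IsSmallExt π₁ → ∀ a₁ : F.obj R₁, F.map π₁ a₁ = a →
        ∃ f : R' ⟶ R₁, f ≫ π₁ = q := by
  haveI : Module.Finite Λ k := Module.Finite.of_surjective (Algebra.linearMap Λ k) hΛk
  obtain ⟨n, ρ₀, hρ₀s, hker⟩ := exists_min_presentation hΛk R
  obtain ⟨N, hN⟩ := art_maximalIdeal_nilpotent R
  have hτs : Function.Surjective ((psCRing hΛk n).truncHom N).1 :=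
    truncHom_surjective (psCRing hΛk n) N
  have hτk : RingHom.ker ((psCRing hΛk n).truncHom N).1 = (psCRing hΛk n).mpow N :=
    Lev.ker_truncHom N
  have hpowN : ∀ y ∈ IsLocalRing.maximalIdeal (psCRing hΛk n).carrier ^ N, ρ₀.1 y = 0 := by
    intro y hy
    have h1' := homSet_map_pow (psCRing hΛk n) ρ₀ N y hy
    rw [hN] at h1'
    exact h1'
  have hkill : (psCRing hΛk n).mpow N ≤ RingHom.ker ρ₀.1 := by
    intro x hx
    rw [RingHom.mem_ker]
    exact hpowN x (Ideal.pow_le_pow_right (Nat.le_succ N) hx)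
  obtain ⟨ρb, hρb⟩ := exists_factor_of_ker_le ((psCRing hΛk n).truncHom N) hτs ρ₀ (hτk ▸ hkill)
  have hρbs : Function.Surjective ρb :=
    surjective_of_homSet_map ((psCRing hΛk n).truncHom N) ρb (hρb ▸ hρ₀s)
  obtain ⟨K, hK⟩ : ∃ K : Ideal ((psCRing hΛk n).trunc N : Art Λ k),
      K = IsLocalRing.maximalIdeal ((psCRing hΛk n).trunc N : Art Λ k) *
        RingHom.ker ρb.toAlgHom := ⟨_, rfl⟩
  have hKm : K ≤ IsLocalRing.maximalIdeal ((psCRing hΛk n).trunc N : Art Λ k) :=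
    hK ▸ Ideal.mul_le_left
  have hKk : K ≤ RingHom.ker ρb.toAlgHom := hK ▸ Ideal.mul_le_right
  have hps : Function.Surjective (quotFactor hKm ρb hKk) := by
    intro r
    obtain ⟨x, hx⟩ := hρbs r
    exact ⟨quotMk _ K hKm x, hx⟩
  obtain ⟨R', ρ, q, a', hρs, hρq, hqa, hmin⟩ := exists_min_quot F (quotFactor hKm ρb hKk) hps a
  obtain ⟨β, hβ⟩ : ∃ β : ((psCRing hΛk n).trunc N : Art Λ k) ⟶ R', β = quotMk _ K hKm ≫ ρ :=
    ⟨_, rfl⟩
  have hβs : Function.Surjective β := by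
    rw [hβ]
    exact hρs.comp (quotMk_surjective _ K hKm)
  have hβq : β ≫ q = ρb := by
    rw [hβ, Category.assoc, hρq, quotMk_quotFactor]
  have hβq' : ∀ z, q (β z) = ρb z := fun z => congrArg (fun f => Hom.toAlgHom f z) hβq
  have hβK : ∀ z ∈ K, β z = 0 := by
    intro z hz
    rw [hβ]
    change ρ (quotMk _ K hKm z) = 0
    rw [(quotMk_eq_zero_iff _ hKm z).2 hz]
    exact map_zero ρ.toAlgHom
  refine ⟨R', q, a', hqa, ⟨?_, ?_⟩, ?_, ?_⟩
  · intro r
    obtain ⟨z, hz⟩ := hρbs r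
    exact ⟨β z, (hβq' z).trans hz⟩
  · rw [eq_bot_iff, Ideal.mul_le]
    intro x' hx' y' hy'
    obtain ⟨x, rfl⟩ := hβs x'
    obtain ⟨y, rfl⟩ := hβs y'
    have hxm : x ∈ IsLocalRing.maximalIdeal ((psCRing hΛk n).trunc N : Art Λ k) :=
      mem_maximalIdeal_of_map β hx'
    have hyk : y ∈ RingHom.ker ρb.toAlgHom := by
      rw [RingHom.mem_ker]
      exact (hβq' y).symm.trans (RingHom.mem_ker.1 hy')
    rw [Ideal.mem_bot]
    have e : β x * β y = β (x * y) := (map_mul β.toAlgHom x y).symm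
    rw [e]
    exact hβK _ (hK ▸ Ideal.mul_mem_mul hxm hyk)
  · intro x' hx'
    obtain ⟨σ, hσ⟩ : ∃ σ : HomSet (psCRing hΛk n).carrier (psCRing hΛk n).res R',
        σ = HomSet.map β ((psCRing hΛk n).truncHom N) := ⟨_, rfl⟩
    have hσs : Function.Surjective σ.1 := by
      rw [hσ]
      exact hβs.comp hτs
    have hσq : HomSet.map q σ = ρ₀ := by
      rw [hσ, ← homSet_map_comp, hβq, hρb]
    obtain ⟨x, rfl⟩ := hσs x'
    have h1' : ρ₀.1 x ∈ IsLocalRing.maximalIdeal (R : Type u) ^ 2 ⊔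
        (IsLocalRing.maximalIdeal Λ).map (algebraMap Λ R) := by
      rw [← hσq]
      exact hx'
    obtain ⟨y, hy, hyx⟩ := (Ideal.mem_map_iff_of_surjective ρ₀.1.toRingHom hρ₀s).1
      (nn_le_map (psCRing hΛk n) ρ₀ hρ₀s h1')
    have h2 : x - y ∈ RingHom.ker ρ₀.1 := by
      rw [RingHom.mem_ker, map_sub, sub_eq_zero]
      exact hyx.symm
    have h3 : x ∈ IsLocalRing.maximalIdeal (psCRing hΛk n).carrier ^ 2 ⊔
        (IsLocalRing.maximalIdeal Λ).map (algebraMap Λ (psCRing hΛk n).carrier) := by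
      have := Ideal.add_mem _ (hker h2) hy
      rwa [sub_add_cancel] at this
    exact homSet_map_nn (psCRing hΛk n) σ x h3
  · intro R₁ π₁ hπ a₁ ha₁
    obtain ⟨ψ, hψ⟩ := hasLift_ps hΛk n π₁ hπ.1 ρ₀
    have hψ' : ∀ y, π₁ (ψ.1 y) = ρ₀.1 y := fun y => congrArg (fun t => t.1 y) hψ
    have hψkill : (psCRing hΛk n).mpow N ≤ RingHom.ker ψ.1 := by
      intro x hx
      rw [RingHom.mem_ker]
      have hx' : x ∈ IsLocalRing.maximalIdeal (psCRing hΛk n).carrier *
          IsLocalRing.maximalIdeal (psCRing hΛk n).carrier ^ N := by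
        rw [← pow_succ']
        exact hx
      have h1' : Ideal.map ψ.1.toRingHom (IsLocalRing.maximalIdeal (psCRing hΛk n).carrier *
          IsLocalRing.maximalIdeal (psCRing hΛk n).carrier ^ N) ≤
          IsLocalRing.maximalIdeal (R₁ : Type u) * RingHom.ker π₁.toAlgHom := by
        rw [Ideal.map_mul]
        refine Ideal.mul_mono ?_ ?_
        · refine Ideal.map_le_iff_le_comap.2 ?_
          intro y hy
          exact homSet_map_maximalIdeal (psCRing hΛk n) ψ y hy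
        · refine Ideal.map_le_iff_le_comap.2 ?_
          intro y hy
          rw [Ideal.mem_comap, RingHom.mem_ker]
          exact (hψ' y).trans (hpowN y hy)
      have h2 := h1' (Ideal.mem_map_of_mem _ hx')
      rw [hπ.2.2.2] at h2
      exact h2
    obtain ⟨ψb, hψb⟩ := exists_factor_of_ker_le ((psCRing hΛk n).truncHom N) hτs ψ
      (hτk ▸ hψkill)
    have hψbπ : ψb ≫ π₁ = ρb := by
      apply hom_ext_of_surjective ((psCRing hΛk n).truncHom N) hτs
      rw [homSet_map_comp, hψb, hψ, hρb]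
    have hψbπ' : ∀ z, π₁ (ψb z) = ρb z := fun z => congrArg (fun f => Hom.toAlgHom f z) hψbπ
    have hψbK : K ≤ RingHom.ker ψb.toAlgHom := by
      rw [hK, Ideal.mul_le]
      intro x hx y hy
      rw [RingHom.mem_ker, map_mul]
      have h1' : ψb.toAlgHom x ∈ IsLocalRing.maximalIdeal (R₁ : Type u) :=
        map_mem_maximalIdeal ψb hx
      have h2 : ψb.toAlgHom y ∈ RingHom.ker π₁.toAlgHom := by
        rw [RingHom.mem_ker]
        exact (hψbπ' y).trans (RingHom.mem_ker.1 hy)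
      have h3 := Ideal.mul_mem_mul h1' h2
      rw [hπ.2.2.2] at h3
      exact h3
    have hg : quotFactor hKm ψb hψbK ≫ π₁ = ρ ≫ q := by
      rw [hρq]
      apply art_hom_ext_of_surjective (quotMk _ K hKm) (quotMk_surjective _ _ _)
      rw [← Category.assoc, quotMk_quotFactor, quotMk_quotFactor, hψbπ]
    obtain ⟨f, hf⟩ := exists_hom_of_min F h1 ρ q a' hρs hmin π₁ hπ a₁ (ha₁.trans hqa.symm)
      (quotFactor hKm ψb hψbK) hg
    refine ⟨f, ?_⟩
    apply art_hom_ext_of_surjective ρ hρs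
    rw [← Category.assoc, hf, hg]

end Main

end Groth.Agent.H61
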