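import Groth.Agent.H61.Curvilinear

/-!
# `T¹`-lifting implies smoothness in characteristic zero (helper61)
-/

set_option autoImplicit false
set_option linter.unusedSectionVars false
set_option linter.style.haveILetI false
universe u v

namespace Groth.Agent.H61.T1S

open CategoryTheory ArtFun ArtFun.Art T1Lift Groth.Agent.H61.T1L Groth.Agent.H61.Obs
  Groth.Agent.H61.Curv

attribute [local instance] field_isAdicComplete

variable (k : Type u) [Field k]

/-- `A_m → B_m`, `a ↦ a + 0·y` -/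
noncomputable def inlB (m : ℕ) : A k m ⟶ B k m :=
  Art.homMk ((TrivSqZeroExt.inlAlgHom k (Tr k m) (Tr k m))) (AlgHom.ext fun _ => rfl)

theorem inlB_apply (m : ℕ) (x : Tr k m) : (inlB k m) x = TrivSqZeroExt.inl x := rfl

theorem inlB_β (m : ℕ) : inlB k m ≫ β k m = 𝟙 _ := hom_ext (AlgHom.ext fun _ => rfl)

theorem inlB_ξ (n : ℕ) : inlB k (n + 1) ≫ ξ k n = α k n ≫ inlB k n := by
  apply hom_ext
  apply AlgHom.ext
  intro x
  change (ξ k n) (TrivSqZeroExt.inl x) = TrivSqZeroExt.inl (αAlg k n x)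
  rw [ξ_apply]
  apply TrivSqZeroExt.ext
  · rfl
  · change αAlg k n 0 = 0
    exact map_zero _

theorem sec_w (n : ℕ) : (α k n ≫ inlB k n) ≫ β k n = 𝟙 (A k (n + 1)) ≫ α k n := by
  rw [Category.assoc, inlB_β, Category.comp_id, Category.id_comp]

/-- the section of `C → A_{n+1}` -/
noncomputable def secC (n : ℕ) : A k (n + 1) ⟶ Cn k n :=
  Groth.Agent.H63.fibreProdLift (β k n) (α k n) (α_surjective k n) (α k n ≫ inlB k n) (𝟙 _)
    (sec_w k n)

theorem secC_fst (n : ℕ) : secC k n ≫ cFst k n = α k n ≫ inlB k n :=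
  Groth.Agent.H63.fibreProdLift_fst _ _ _ _ _ _

theorem secC_snd (n : ℕ) : secC k n ≫ cSnd k n = 𝟙 _ :=
  Groth.Agent.H63.fibreProdLift_snd _ _ _ _ _ _

theorem inlB_qn (n : ℕ) : inlB k (n + 1) ≫ qn k n = secC k n := by
  apply Cn_hom_ext
  · rw [Category.assoc, qn_fst, secC_fst, inlB_ξ]
  · rw [Category.assoc, qn_snd, secC_snd, inlB_β]

theorem ker_β_sq (m : ℕ) : RingHom.ker (β k m).toAlgHom * RingHom.ker (β k m).toAlgHom = ⊥ := by
  rw [eq_bot_iff, Ideal.mul_le]
  intro x hx y hy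
  rw [Ideal.mem_bot]
  have hx' : TrivSqZeroExt.fst (x : DualNumber (Tr k m)) = 0 := RingHom.mem_ker.1 hx
  have hy' : TrivSqZeroExt.fst (y : DualNumber (Tr k m)) = 0 := RingHom.mem_ker.1 hy
  apply TrivSqZeroExt.ext
  · change TrivSqZeroExt.fst (x : DualNumber (Tr k m)) *
      TrivSqZeroExt.fst (y : DualNumber (Tr k m)) = 0
    rw [hx', zero_mul]
  · change TrivSqZeroExt.fst (x : DualNumber (Tr k m)) •
        TrivSqZeroExt.snd (y : DualNumber (Tr k m)) +
      MulOpposite.op (TrivSqZeroExt.fst (y : DualNumber (Tr k m))) •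
        TrivSqZeroExt.snd (x : DualNumber (Tr k m)) = 0
    rw [hx', hy', MulOpposite.op_zero, zero_smul, zero_smul, add_zero]

theorem ker_cSnd_sq (n : ℕ) :
    RingHom.ker (cSnd k n).toAlgHom * RingHom.ker (cSnd k n).toAlgHom = ⊥ := by
  rw [eq_bot_iff, Ideal.mul_le]
  intro x hx y hy
  rw [Ideal.mem_bot]
  have hx' : (cSnd k n) x = 0 := RingHom.mem_ker.1 hx
  have hy' : (cSnd k n) y = 0 := RingHom.mem_ker.1 hy
  have hx'' : cFst k n x ∈ RingHom.ker (β k n).toAlgHom := by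
    rw [RingHom.mem_ker]
    have := (isFibreProd_Cn k n).w_apply x
    rw [hx', map_zero] at this
    exact this
  have hy'' : cFst k n y ∈ RingHom.ker (β k n).toAlgHom := by
    rw [RingHom.mem_ker]
    have := (isFibreProd_Cn k n).w_apply y
    rw [hy', map_zero] at this
    exact this
  apply (isFibreProd_Cn k n).inj
  · rw [map_mul, map_zero]
    have h1 := Ideal.mul_mem_mul hx'' hy''
    rw [ker_β_sq, Ideal.mem_bot] at h1
    exact h1
  · rw [map_mul, hx', zero_mul, map_zero]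

variable {k}

/-- the hypothesis of the `T¹`-lifting theorem -/
def T1Hyp (F : Art k k ⥤ Type v) : Prop :=
  ∀ ⦃A A' A'' : Art k k⦄ (π' : A' ⟶ A) (i' : A ⟶ A') (π'' : A'' ⟶ A) (i'' : A ⟶ A'')
    (q : A'' ⟶ A'), i' ≫ π' = 𝟙 A → i'' ≫ π'' = 𝟙 A →
    RingHom.ker π'.toAlgHom * RingHom.ker π'.toAlgHom = ⊥ →
    RingHom.ker π''.toAlgHom * RingHom.ker π''.toAlgHom = ⊥ →
    q ≫ π' = π'' → i'' ≫ q = i' → Function.Surjective q → Function.Surjective (F.map q)

/-- the `T¹`-hypothesis gives the curvilinear lifting for a versal family -/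
theorem curv_of_T1Hyp {F : Art k k ⥤ Type v} (hT1 : T1Hyp F) (R : CRing k k)
    (ζ : Family R.carrier R.res F) (hζ : IsVersal ζ) (n : ℕ)
    (u : HomSet R.carrier R.res (A k (n + 1))) :
    ∃ v : HomSet R.carrier R.res (B k (n + 1)), HomSet.map (β k (n + 1)) v = u ∧
      HomSet.map (ξ k n) v = HomSet.map (ε k n) u := by
  have hsurj := hT1 (cSnd k n) (secC k n) (β k (n + 1)) (inlB k (n + 1)) (qn k n)
    (secC_snd k n) (inlB_β k (n + 1)) (ker_cSnd_sq k n) (ker_β_sq k (n + 1)) (qn_snd k n)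
    (inlB_qn k n) (qn_surjective k n)
  obtain ⟨Y, hY⟩ := hsurj (F.map (botn k n) (ζ.app _ u))
  obtain ⟨ψ, hψ, -⟩ := hζ (qn k n) (qn_surjective k n) (HomSet.map (botn k n) u) Y
    (by rw [hY, ζ.natural])
  refine ⟨ψ, ?_, ?_⟩
  · have h1 := congrArg (HomSet.map (cSnd k n)) hψ
    rw [← homSet_map_comp, ← homSet_map_comp, qn_snd, botn_snd] at h1
    rw [h1]
    exact Subtype.ext (AlgHom.ext fun _ => rfl)
  · have h1 := congrArg (HomSet.map (cFst k n)) hψ
    rw [← homSet_map_comp, ← homSet_map_comp, qn_fst, botn_fst] at h1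
    exact h1

/-- **`T¹`-lifting theorem**: a deformation functor in characteristic zero with
finite-dimensional tangent space satisfying the `T¹`-lifting hypothesis is smooth. -/
theorem isSmoothFunctor_of_T1Hyp [CharZero k] (F : Art k k ⥤ Type v) [TangentStr F]
    (h0 : H0 F)
    (hRS : ∀ ⦃B A A' A'' : Art k k⦄ (p' : B ⟶ A') (p'' : B ⟶ A'') (f' : A' ⟶ A) (f'' : A'' ⟶ A)
      (h : IsFibreProd p' p'' f' f''), Function.Surjective f'' → Function.Bijective (cmp F h))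
    (hfin : Hfin F) (hT1 : T1Hyp F) : IsSmoothFunctor F := by
  have h1 : Hbar F := fun _ _ _ _ p' p'' f' f'' h hs => (hRS p' p'' f' f'' h hs.1).2
  have h2 : Heps F := fun B₀ A' p' p'' h =>
    hRS p' p'' (toBase A') (toBase (dual k k)) h (dual k k).res_surjective
  obtain ⟨R, ζ, hζ, -⟩ := exists_hull (surj_id k) h0 h1 h2 hfin
  have hlift : HasLift R := hasLift_of_T1 R (curv_of_T1Hyp hT1 R ζ hζ)
  intro B₀ A₀ μ hμ y
  -- `y` comes from `h_R`
  obtain ⟨φ, -, hφ⟩ := hζ (toBase A₀) A₀.res_surjective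
    (⟨R.res, AlgHom.id_comp _⟩ : HomSet R.carrier R.res (base k k)) y
    (@Subsingleton.elim _ h0.2 _ _)
  obtain ⟨ψ, hψ⟩ := hlift μ hμ φ
  refine ⟨ζ.app B₀ ψ, ?_⟩
  rw [← ζ.natural, hψ, hφ]

end Groth.Agent.H61.T1S
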