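/-
`T² = 0` in coordinates: every module map on the relation module killing the Koszul relations is a
coordinate map (helper61).
-/
import Mathlib
import Groth.Prelude.Def_CotT

set_option autoImplicit false

namespace Groth.Agent.H61.T2Obs

open CotT TensorProduct

universe u v w t

variable {A : Type u} {B : Type v} {ι : Type w} {σ : Type t}
variable [CommRing A] [CommRing B] [Algebra A B]
variable (P : Algebra.Presentation A B ι σ)

/-- if `T²(P, B) = 0` then every `R`-linear map `Q → B` on the relation module killing the trivial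
relations is given by coordinates -/
theorem exists_coord_of_subsingleton_T2 (hT2 : Subsingleton (T2 P B))
    (ob : relKer P →ₗ[P.toExtension.Ring] B)
    (htriv : ∀ q : relKer P, (q : relMod P) ∈ trivRel P → ob q = 0) :
    ∃ g : σ → B, ∀ q : relKer P,
      ob q = (q : relMod P).sum (fun s c => algebraMap P.toExtension.Ring B c * g s) := by
  classical
  let ψ : B ⊗[P.toExtension.Ring] relKer P →ₗ[B] B := LinearMap.liftBaseChange B ob
  have hψ : LinearMap.range ((trivRelKer P).subtype.baseChange B) ≤ LinearMap.ker ψ := by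
    rw [LinearMap.range_le_ker_iff]
    refine TensorProduct.AlgebraTensorModule.ext fun b q => ?_
    simp only [LinearMap.coe_comp, Function.comp_apply, LinearMap.baseChange_tmul,
      Submodule.coe_subtype, LinearMap.zero_apply, ψ, LinearMap.liftBaseChange_tmul]
    rw [htriv (q : relKer P) q.2, smul_zero]
  let φ₂ : L2 P →ₗ[B] B := Submodule.liftQ _ ψ hψ
  have hrange : LinearMap.range (d2Star P B) = ⊤ :=
    Submodule.Quotient.subsingleton_iff.mp hT2
  have hmem : φ₂ ∈ LinearMap.range (d2Star P B) := by rw [hrange]; exact Submodule.mem_top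
  obtain ⟨φ₁, hφ₁⟩ := hmem
  refine ⟨fun s => φ₁ ((1 : B) ⊗ₜ Finsupp.single s (1 : P.toExtension.Ring)), fun q => ?_⟩
  have h1 : φ₂ (Submodule.Quotient.mk ((1 : B) ⊗ₜ q)) = ob q := by
    simp [φ₂, ψ]
  have h2 : φ₂ (Submodule.Quotient.mk ((1 : B) ⊗ₜ q)) = φ₁ ((1 : B) ⊗ₜ (q : relMod P)) := by
    rw [← hφ₁, d2Star_apply, LinearMap.comp_apply, d2_mk_tmul]
  rw [← h1, h2]
  have h3 : ∀ x : relMod P, φ₁ ((1 : B) ⊗ₜ x) =
      x.sum (fun s c => algebraMap P.toExtension.Ring B c *
        φ₁ ((1 : B) ⊗ₜ Finsupp.single s (1 : P.toExtension.Ring))) := by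
    intro x
    induction x using Finsupp.induction_linear with
    | zero => simp
    | add x y hx hy =>
      rw [TensorProduct.tmul_add, map_add, hx, hy, Finsupp.sum_add_index']
      · intro s; simp
      · intro s c₁ c₂; rw [map_add, add_mul]
    | single s c =>
      rw [Finsupp.sum_single_index (by simp)]
      have : Finsupp.single s c = c • Finsupp.single s (1 : P.toExtension.Ring) := by
        rw [Finsupp.smul_single, smul_eq_mul, mul_one]
      rw [this, TensorProduct.tmul_smul, ← algebraMap_smul B c, map_smul, smul_eq_mul]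
  exact h3 _

end Groth.Agent.H61.T2Obs
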