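import Groth.Agent.H61.T1Smooth

/-!
# Power series rings and lifting along trivial square-zero extensions (helper61)
-/

set_option autoImplicit false
set_option linter.unusedSectionVars false
set_option linter.style.haveILetI false
universe u v

namespace Groth.Agent.H61.TrivLift

open CategoryTheory ArtFun ArtFun.Art T1Lift Groth.Agent.H61.T1L Groth.Agent.H61.Obs
  Groth.Agent.H61.Curv

attribute [local instance] field_isAdicComplete

variable (k : Type u) [Field k]

/-- `A_n` as a module over `A_{n+1}` through `α` -/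
def Mn (n : ℕ) : Type u := Tr k n

variable {k} in
/-- the underlying element -/
def Mn.val {n : ℕ} (m : Mn k n) : Tr k n := m

variable {k} in
/-- view an element of `A_n` as an element of the module -/
def Mn.mk {n : ℕ} (x : Tr k n) : Mn k n := x

noncomputable instance (n : ℕ) : AddCommGroup (Mn k n) := inferInstanceAs (AddCommGroup (Tr k n))
noncomputable instance (n : ℕ) : Module k (Mn k n) := inferInstanceAs (Module k (Tr k n))

noncomputable instance modA (n : ℕ) : Module (A k (n + 1)) (Mn k n) :=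
  Module.compHom (Tr k n) (αAlg k n).toRingHom

noncomputable instance modAop (n : ℕ) : Module (A k (n + 1))ᵐᵒᵖ (Mn k n) :=
  Module.compHom (Tr k n) ((αAlg k n).toRingHom.fromOpposite (fun _ _ => Commute.all _ _))

theorem smul_def (n : ℕ) (a : A k (n + 1)) (m : Mn k n) :
    a • m = Mn.mk (αAlg k n a * m.val) := rfl

theorem op_smul_def (n : ℕ) (a : A k (n + 1)) (m : Mn k n) :
    MulOpposite.op a • m = Mn.mk (αAlg k n a * m.val) := rfl

instance (n : ℕ) : IsCentralScalar (A k (n + 1)) (Mn k n) := ⟨fun _ _ => rfl⟩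

instance (n : ℕ) : IsScalarTower k (A k (n + 1)) (Mn k n) := ⟨fun c a m => by
  change (αAlg k n (c • a) * m.val : Tr k n) = c • (αAlg k n a * m.val : Tr k n)
  have e : αAlg k n (c • (a : Tr k (n + 1))) = c • αAlg k n (a : Tr k (n + 1)) := map_smul _ _ _
  exact (congrArg (fun z => z * m.val) e).trans (smul_mul_assoc c _ _)⟩

instance (n : ℕ) : IsScalarTower k (A k (n + 1))ᵐᵒᵖ (Mn k n) := ⟨fun c a m => by
  change (αAlg k n (c • a).unop * m.val : Tr k n) = c • (αAlg k n a.unop * m.val : Tr k n)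
  have e : αAlg k n (c • (a.unop : Tr k (n + 1))) = c • αAlg k n (a.unop : Tr k (n + 1)) :=
    map_smul _ _ _
  exact (congrArg (fun z => z * m.val) e).trans (smul_mul_assoc c _ _)⟩

/-- `α` as a linear map `A_{n+1} → A_n` -/
noncomputable def αLin (n : ℕ) : (A k (n + 1)).carrier →ₗ[A k (n + 1)] Mn k n where
  toFun x := Mn.mk (αAlg k n x)
  map_add' x y := map_add (αAlg k n) x y
  map_smul' a x := map_mul (αAlg k n) a x

theorem αLin_surjective (n : ℕ) : Function.Surjective (αLin k n) := αAlg_surjective k n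

theorem fst_εAlg (n : ℕ) (x : Tr k (n + 1)) :
    TrivSqZeroExt.fst (εAlg k n x) = αAlg k n x :=
  congrArg (fun (f : A k (n + 1) ⟶ A k n) => f x) (ε_β' k n)

/-- the second component of `ε` -/
noncomputable def dε (n : ℕ) (x : (A k (n + 1)).carrier) : Mn k n :=
  Mn.mk (TrivSqZeroExt.snd (εAlg k n x))

theorem dε_one (n : ℕ) : dε k n 1 = 0 := by
  have h : TrivSqZeroExt.snd (εAlg k n (1 : Tr k (n + 1))) = 0 := by
    rw [map_one, TrivSqZeroExt.snd_one]
  exact h

theorem dε_zero (n : ℕ) : dε k n 0 = 0 := by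
  have h : TrivSqZeroExt.snd (εAlg k n (0 : Tr k (n + 1))) = 0 := by
    rw [map_zero, TrivSqZeroExt.snd_zero]
  exact h

theorem dε_add (n : ℕ) (x y : (A k (n + 1)).carrier) : dε k n (x + y) = dε k n x + dε k n y := by
  have h : ∀ x y : Tr k (n + 1), TrivSqZeroExt.snd (εAlg k n (x + y)) =
      TrivSqZeroExt.snd (εAlg k n x) + TrivSqZeroExt.snd (εAlg k n y) := by
    intro x y
    rw [map_add, TrivSqZeroExt.snd_add]
  exact h x y

theorem dε_mul (n : ℕ) (x y : (A k (n + 1)).carrier) :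
    dε k n (x * y) = x • dε k n y + MulOpposite.op y • dε k n x := by
  have h : ∀ x y : Tr k (n + 1), TrivSqZeroExt.snd (εAlg k n (x * y)) =
      αAlg k n x * TrivSqZeroExt.snd (εAlg k n y) + αAlg k n y * TrivSqZeroExt.snd (εAlg k n x) := by
    intro x y
    rw [map_mul, TrivSqZeroExt.snd_mul, fst_εAlg, fst_εAlg, smul_eq_mul, op_smul_eq_smul,
      smul_eq_mul]
  exact h x y

theorem dε_algebraMap (n : ℕ) (c : k) : dε k n (algebraMap k (A k (n + 1)).carrier c) = 0 := by
  have h : TrivSqZeroExt.snd (εAlg k n (algebraMap k (Tr k (n + 1)) c)) = 0 := by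
    rw [AlgHom.commutes, TrivSqZeroExt.algebraMap_eq_inl', TrivSqZeroExt.snd_inl]
  exact h

/-- `x ↦ (x, ∂x)`: the map `A_{n+1} → A_{n+1} ⊕ A_n` encoding `ε` -/
noncomputable def θ (n : ℕ) :
    (A k (n + 1)).carrier →ₐ[k] TrivSqZeroExt (A k (n + 1)).carrier (Mn k n) where
  toFun x := TrivSqZeroExt.inl x + TrivSqZeroExt.inr (dε k n x)
  map_one' := by
    rw [dε_one, TrivSqZeroExt.inr_zero, add_zero, TrivSqZeroExt.inl_one]
  map_mul' x y := by
    apply TrivSqZeroExt.ext
    · simp only [TrivSqZeroExt.fst_add, TrivSqZeroExt.fst_inl, TrivSqZeroExt.fst_inr, add_zero,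
        TrivSqZeroExt.fst_mul]
    · simp only [TrivSqZeroExt.snd_add, TrivSqZeroExt.snd_inl, TrivSqZeroExt.snd_inr, zero_add,
        TrivSqZeroExt.snd_mul, TrivSqZeroExt.fst_add, TrivSqZeroExt.fst_inl,
        TrivSqZeroExt.fst_inr, add_zero]
      exact dε_mul k n x y
  map_zero' := by
    rw [dε_zero, TrivSqZeroExt.inr_zero, add_zero, TrivSqZeroExt.inl_zero]
  map_add' x y := by
    rw [dε_add, TrivSqZeroExt.inl_add, TrivSqZeroExt.inr_add]
    abel
  commutes' c := by
    rw [dε_algebraMap, TrivSqZeroExt.inr_zero, add_zero, TrivSqZeroExt.algebraMap_eq_inl']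

theorem θ_fst (n : ℕ) (x : (A k (n + 1)).carrier) : (θ k n x).fst = x := by
  change (TrivSqZeroExt.inl x + TrivSqZeroExt.inr (dε k n x)).fst = x
  rw [TrivSqZeroExt.fst_add, TrivSqZeroExt.fst_inl, TrivSqZeroExt.fst_inr, add_zero]

theorem θ_snd (n : ℕ) (x : (A k (n + 1)).carrier) : (θ k n x).snd = dε k n x := by
  change (TrivSqZeroExt.inl x + TrivSqZeroExt.inr (dε k n x)).snd = _
  rw [TrivSqZeroExt.snd_add, TrivSqZeroExt.snd_inl, TrivSqZeroExt.snd_inr, zero_add]

variable {k}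

/-- the lifting property along trivial square-zero extensions -/
def TrivHyp (R : CRing k k) : Prop :=
  ∀ (A : Art k k) (M M' : Type u) [AddCommGroup M] [Module (↥A) M] [Module (↥A)ᵐᵒᵖ M]
    [IsCentralScalar (↥A) M] [Module k M] [IsScalarTower k (↥A) M] [IsScalarTower k (↥A)ᵐᵒᵖ M]
    [AddCommGroup M'] [Module (↥A) M'] [Module (↥A)ᵐᵒᵖ M'] [IsCentralScalar (↥A) M'] [Module k M']
    [IsScalarTower k (↥A) M'] [IsScalarTower k (↥A)ᵐᵒᵖ M'] (f : M' →ₗ[↥A] M),
    Function.Surjective f →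
      ∀ φ : R.carrier →ₐ[k] TrivSqZeroExt (↥A) M,
        ∃ ψ : R.carrier →ₐ[k] TrivSqZeroExt (↥A) M',
          ∀ r : R.carrier, (ψ r).fst = (φ r).fst ∧ f (ψ r).snd = (φ r).snd

theorem curv_of_trivHyp (R : CRing k k) (H : TrivHyp R) (n : ℕ)
    (u : HomSet R.carrier R.res (A k (n + 1))) :
    ∃ v : HomSet R.carrier R.res (B k (n + 1)), HomSet.map (β k (n + 1)) v = u ∧
      HomSet.map (ξ k n) v = HomSet.map (ε k n) u := by
  obtain ⟨ψ, hψ⟩ := H (A k (n + 1)) (Mn k n) (A k (n + 1)).carrier (αLin k n) (αLin_surjective k n)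
    ((θ k n).comp u.1)
  have h1 : ∀ r, (ψ r).fst = u.1 r := fun r => (hψ r).1.trans (θ_fst k n _)
  have h2 : ∀ r, αAlg k n (ψ r).snd = TrivSqZeroExt.snd (εAlg k n (u.1 r)) :=
    fun r => (hψ r).2.trans (θ_snd k n _)
  let ψ' : R.carrier →ₐ[k] (B k (n + 1)).carrier := ψ
  refine ⟨⟨ψ', ?_⟩, ?_, ?_⟩
  · apply AlgHom.ext
    intro r
    change (A k (n + 1)).res ((ψ r).fst) = R.res r
    rw [h1]
    exact AlgHom.congr_fun u.2 r
  · apply Subtype.ext
    apply AlgHom.ext
    intro r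
    exact h1 r
  · apply Subtype.ext
    apply AlgHom.ext
    intro r
    change (ξ k n) (ψ r) = εAlg k n (u.1 r)
    refine (ξ_apply k n _).trans ?_
    apply TrivSqZeroExt.ext
    · change αAlg k n (ψ r).fst = _
      rw [h1]
      exact (fst_εAlg k n _).symm
    · exact h2 r

/-! ### Maps from power series rings to rings with a nilpotent ideal -/

section Nilp

open MvPowerSeries

variable {T : Type*} [CommRing T] [Algebra k T] (𝔫 : Ideal T) (K : ℕ) (h𝔫 : 𝔫 ^ K = ⊥) (d : ℕ)

include h𝔫 in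
theorem ps_exists_algHom (b : Fin d → T) (hb : ∀ i, b i ∈ 𝔫) :
    ∃ ψ : MvPowerSeries (Fin d) k →ₐ[k] T,
      ∀ i, ψ (X i : MvPowerSeries (Fin d) k) = b i := by
  set I := MvPolynomial.idealOfVars (Fin d) k with hI
  let ev : MvPolynomial (Fin d) k →ₐ[k] T := MvPolynomial.aeval b
  have hev : ∀ p ∈ I ^ (K + 2), ev p = 0 := by
    intro p hp
    have h1 : Ideal.map ev.toRingHom I ≤ 𝔫 := by
      rw [hI, MvPolynomial.idealOfVars, Ideal.map_span, Ideal.span_le]
      rintro _ ⟨_, ⟨i, rfl⟩, rfl⟩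
      change MvPolynomial.aeval b (MvPolynomial.X i) ∈ _
      rw [MvPolynomial.aeval_X]
      exact hb i
    have h2 := Ideal.mem_map_of_mem ev.toRingHom hp
    rw [Ideal.map_pow] at h2
    have h3 := Ideal.pow_right_mono h1 (K + 2) h2
    rw [pow_add, h𝔫, Ideal.bot_mul] at h3
    exact h3
  let q : (MvPolynomial (Fin d) k ⧸ I ^ (K + 2)) →ₐ[k] T :=
    Ideal.Quotient.liftₐ (I ^ (K + 2)) ev hev
  let tr : MvPowerSeries (Fin d) k →ₐ[k] (MvPolynomial (Fin d) k ⧸ I ^ (K + 2)) :=
    (truncTotalAlgHom (Fin d) k (K + 2)).restrictScalars k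
  have htr : ∀ f, tr f = Ideal.Quotient.mk _ (truncTotal (K + 2) f) := fun f => rfl
  have hq : ∀ p, q (Ideal.Quotient.mk _ p) = MvPolynomial.aeval b p := fun p => rfl
  refine ⟨q.comp tr, ?_⟩
  intro i
  change q (tr (X i)) = b i
  rw [htr]
  have : truncTotal (K + 2) (X i : MvPowerSeries (Fin d) k) = MvPolynomial.X i := by
    rw [← MvPolynomial.coe_X, truncTotal_coe_eq_self_iff _ (Nat.succ_ne_zero (K + 1)),
      MvPolynomial.totalDegree_X]
    omega
  rw [this, hq, MvPolynomial.aeval_X]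

include h𝔫 in
theorem ps_algHom_ext (φ φ' : MvPowerSeries (Fin d) k →ₐ[k] T)
    (hφ : ∀ x ∈ IsLocalRing.maximalIdeal (MvPowerSeries (Fin d) k), φ x ∈ 𝔫)
    (hφ' : ∀ x ∈ IsLocalRing.maximalIdeal (MvPowerSeries (Fin d) k), φ' x ∈ 𝔫)
    (h : ∀ i, φ (X i : MvPowerSeries (Fin d) k) = φ' (X i : MvPowerSeries (Fin d) k)) :
    φ = φ' := by
  apply AlgHom.ext
  intro f
  have hpoly : ∀ p : MvPolynomial (Fin d) k,
      φ ((p : MvPowerSeries (Fin d) k)) = φ' ((p : MvPowerSeries (Fin d) k)) := by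
    have h1 : φ.comp (MvPolynomial.coeToMvPowerSeries.algHom (σ := Fin d) (R := k) k) =
        φ'.comp (MvPolynomial.coeToMvPowerSeries.algHom (σ := Fin d) (R := k) k) := by
      apply MvPolynomial.algHom_ext
      intro i
      change φ (MvPolynomial.coeToMvPowerSeries.algHom k (MvPolynomial.X i)) =
        φ' (MvPolynomial.coeToMvPowerSeries.algHom k (MvPolynomial.X i))
      rw [MvPolynomial.coeToMvPowerSeries.algHom_apply, MvPolynomial.coe_X]
      have e : (MvPowerSeries.map (algebraMap k k)) (X i : MvPowerSeries (Fin d) k) = X i := by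
        simp
      rw [e]
      exact h i
    intro p
    have h2 := AlgHom.congr_fun h1 p
    change φ (MvPolynomial.coeToMvPowerSeries.algHom k p) =
      φ' (MvPolynomial.coeToMvPowerSeries.algHom k p) at h2
    rw [MvPolynomial.coeToMvPowerSeries.algHom_apply] at h2
    have e : (MvPowerSeries.map (algebraMap k k)) (p : MvPowerSeries (Fin d) k) = p := by
      simp
    rw [e] at h2
    exact h2
  have hrem : ∀ (χ : MvPowerSeries (Fin d) k →ₐ[k] T),
      (∀ x ∈ IsLocalRing.maximalIdeal (MvPowerSeries (Fin d) k), χ x ∈ 𝔫) →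
      χ (f - ((truncTotal K f : MvPolynomial (Fin d) k) : MvPowerSeries (Fin d) k)) = 0 := by
    intro χ hχ
    have h1 : (f - ((truncTotal K f : MvPolynomial (Fin d) k) : MvPowerSeries (Fin d) k)) ∈
        IsLocalRing.maximalIdeal (MvPowerSeries (Fin d) k) ^ K :=
      Ideal.pow_right_mono PS.span_X_le K (PS.sub_truncTotal_mem K f)
    have h2 : (IsLocalRing.maximalIdeal (MvPowerSeries (Fin d) k)).map χ.toRingHom ≤ 𝔫 := by
      refine Ideal.map_le_iff_le_comap.2 ?_
      intro x hx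
      exact hχ x hx
    have h3 := Ideal.mem_map_of_mem χ.toRingHom h1
    rw [Ideal.map_pow] at h3
    have h4 := Ideal.pow_right_mono h2 K h3
    rw [h𝔫] at h4
    exact h4
  have h1 := hrem φ hφ
  have h2 := hrem φ' hφ'
  rw [map_sub, sub_eq_zero] at h1 h2
  rw [h1, h2]
  exact hpoly _

end Nilp

/-! ### Power series rings have the lifting property -/

section Forward

open MvPowerSeries

variable (A : Art k k) (M : Type u) [AddCommGroup M] [Module (↥A) M] [Module (↥A)ᵐᵒᵖ M]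
  [IsCentralScalar (↥A) M] [Module k M] [IsScalarTower k (↥A) M] [IsScalarTower k (↥A)ᵐᵒᵖ M]

/-- the ideal `m_A ⊕ M` of `A ⊕ M` -/
noncomputable def nn : Ideal (TrivSqZeroExt (↥A) M) :=
  Ideal.comap (TrivSqZeroExt.fstHom k (↥A) M) (IsLocalRing.maximalIdeal (↥A))

theorem mem_nn (x : TrivSqZeroExt (↥A) M) : x ∈ nn A M ↔ x.fst ∈ IsLocalRing.maximalIdeal (↥A) :=
  Iff.rfl

theorem nn_nilpotent : ∃ K : ℕ, nn A M ^ K = ⊥ := by
  obtain ⟨N, hN⟩ := art_maximalIdeal_nilpotent A
  refine ⟨N + N, ?_⟩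
  have h1 : nn A M ^ N ≤ RingHom.ker (TrivSqZeroExt.fstHom k (↥A) M) := by
    refine (Ideal.le_comap_pow _ N).trans ?_
    rw [hN]
    exact le_rfl
  rw [eq_bot_iff, pow_add]
  refine (Ideal.mul_mono h1 h1).trans ?_
  rw [Ideal.mul_le]
  intro x hx y hy
  have hx' : x.fst = 0 := RingHom.mem_ker.1 hx
  have hy' : y.fst = 0 := RingHom.mem_ker.1 hy
  rw [Ideal.mem_bot]
  apply TrivSqZeroExt.ext
  · rw [TrivSqZeroExt.fst_mul, hx', zero_mul, TrivSqZeroExt.fst_zero]
  · rw [TrivSqZeroExt.snd_mul, hx', hy', MulOpposite.op_zero, zero_smul, zero_smul, add_zero,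
      TrivSqZeroExt.snd_zero]

/-- every `k`-algebra map from a local `k`-algebra with residue field `k` is local -/
theorem map_mem_nn {P : Type u} [CommRing P] [IsLocalRing P] [Algebra k P] (resP : P →ₐ[k] k)
    (φ : P →ₐ[k] TrivSqZeroExt (↥A) M) (x : P) (hx : x ∈ IsLocalRing.maximalIdeal P) :
    φ x ∈ nn A M := by
  rw [mem_nn, Art.mem_maximalIdeal_iff]
  have h1 : (A.res.comp (TrivSqZeroExt.fstHom k (↥A) M)).comp φ = resP :=
    algHom_to_field_unique _ _
  have h2 : resP x = 0 := by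
    have hker : RingHom.ker resP.toRingHom = IsLocalRing.maximalIdeal P := by
      have hs : Function.Surjective resP.toRingHom := fun c => ⟨algebraMap k P c, resP.commutes c⟩
      haveI := RingHom.ker_isMaximal_of_surjective resP.toRingHom hs
      exact IsLocalRing.eq_maximalIdeal inferInstance
    rw [← hker] at hx
    exact RingHom.mem_ker.1 hx
  rw [← h2, ← h1]
  rfl

variable {A M}
variable {M' : Type u} [AddCommGroup M'] [Module (↥A) M'] [Module (↥A)ᵐᵒᵖ M']
  [IsCentralScalar (↥A) M'] [Module k M'] [IsScalarTower k (↥A) M'] [IsScalarTower k (↥A)ᵐᵒᵖ M']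

/-- power series rings lift along `A ⊕ M' → A ⊕ M` -/
theorem ps_lift (d : ℕ) (f : M' →ₗ[↥A] M) (hf : Function.Surjective f)
    (φ : MvPowerSeries (Fin d) k →ₐ[k] TrivSqZeroExt (↥A) M) :
    ∃ ψ : MvPowerSeries (Fin d) k →ₐ[k] TrivSqZeroExt (↥A) M',
      ((TrivSqZeroExt.map f).restrictScalars k).comp ψ = φ := by
  haveI : IsLocalRing k := inferInstance
  obtain ⟨K, hK⟩ := nn_nilpotent A M
  obtain ⟨K', hK'⟩ := nn_nilpotent A M'
  have hloc : ∀ (χ : MvPowerSeries (Fin d) k →ₐ[k] TrivSqZeroExt (↥A) M),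
      ∀ x ∈ IsLocalRing.maximalIdeal (MvPowerSeries (Fin d) k), χ x ∈ nn A M :=
    fun χ x hx => map_mem_nn A M (psCRing (surj_id k) d).res χ x hx
  choose m' hm' using fun i => hf (φ (X i : MvPowerSeries (Fin d) k)).snd
  obtain ⟨ψ, hψ⟩ := ps_exists_algHom (k := k) (nn A M') K' hK' d
    (fun i => TrivSqZeroExt.inl (φ (X i : MvPowerSeries (Fin d) k)).fst + TrivSqZeroExt.inr (m' i))
    (fun i => by
      rw [mem_nn, TrivSqZeroExt.fst_add, TrivSqZeroExt.fst_inl, TrivSqZeroExt.fst_inr, add_zero]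
      exact hloc φ _ (PS.X_mem_maximalIdeal i))
  refine ⟨ψ, ?_⟩
  apply ps_algHom_ext (nn A M) K hK d _ _ (hloc _) (hloc _)
  intro i
  change TrivSqZeroExt.map f (ψ (X i)) = φ (X i)
  rw [hψ, map_add, TrivSqZeroExt.map_inl, TrivSqZeroExt.map_inr, hm']
  apply TrivSqZeroExt.ext
  · rw [TrivSqZeroExt.fst_add, TrivSqZeroExt.fst_inl, TrivSqZeroExt.fst_inr, add_zero]
  · rw [TrivSqZeroExt.snd_add, TrivSqZeroExt.snd_inl, TrivSqZeroExt.snd_inr, zero_add]

end Forward

/-! ### The criterion -/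

theorem finrank_cotangent_of_equiv (R : CRing k k) (d : ℕ)
    (e : MvPowerSeries (Fin d) k ≃ₐ[k] R.carrier) :
    Module.finrank (IsLocalRing.ResidueField R.carrier) (IsLocalRing.CotangentSpace R.carrier) = d := by
  haveI := ps_isRegularLocalRing (k := k) d
  have hreg : IsRegularLocalRing R.carrier := IsRegularLocalRing.of_ringEquiv e.toRingEquiv
  have h1 := (IsRegularLocalRing.iff_finrank_cotangentSpace R.carrier).1 hreg
  have h2 : ringKrullDim R.carrier = ringKrullDim (MvPowerSeries (Fin d) k) :=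
    (ringKrullDim_eq_of_ringEquiv e.toRingEquiv).symm
  rw [h2, ps_dim_eq] at h1
  exact_mod_cast h1

theorem trivHyp_of_equiv (R : CRing k k) (d : ℕ) (e : R.carrier ≃ₐ[k] MvPowerSeries (Fin d) k) :
    TrivHyp R := by
  intro A M M' _ _ _ _ _ _ _ _ _ _ _ _ _ _ f hf φ
  obtain ⟨ψP, hψP⟩ := ps_lift d f hf (φ.comp e.symm.toAlgHom)
  refine ⟨ψP.comp e.toAlgHom, fun r => ?_⟩
  have h1 : TrivSqZeroExt.map f (ψP (e r)) = φ r := by
    have h2 := AlgHom.congr_fun hψP (e r)
    change TrivSqZeroExt.map f (ψP (e r)) = φ (e.symm (e r)) at h2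
    rw [AlgEquiv.symm_apply_apply] at h2
    exact h2
  constructor
  · change (ψP (e r)).fst = _
    rw [← h1, TrivSqZeroExt.fst_map]
  · change f (ψP (e r)).snd = _
    rw [← h1, TrivSqZeroExt.snd_map]

/-- **A complete local `k`-algebra (char 0) is a power series ring iff it has the lifting
property along trivial square-zero extensions.** -/
theorem equiv_ps_iff [CharZero k] (R : CRing k k) :
    Nonempty (R.carrier ≃ₐ[k] MvPowerSeries
        (Fin (Module.finrank (IsLocalRing.ResidueField R.carrier)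
          (IsLocalRing.CotangentSpace R.carrier))) k) ↔ TrivHyp R := by
  constructor
  · rintro ⟨e⟩
    exact trivHyp_of_equiv R _ e
  · intro H
    obtain ⟨d, g, -, hbij⟩ := exists_ps_iso R (curv_of_trivHyp R H)
    let e : MvPowerSeries (Fin d) k ≃ₐ[k] R.carrier := AlgEquiv.ofBijective g hbij
    rw [finrank_cotangent_of_equiv R d e]
    exact ⟨e.symm⟩

end Groth.Agent.H61.TrivLift
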