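import Mathlib
import Groth.Prelude.Def_W4c1liftfrobW2
import Groth.Prelude.Def_Frob
import Groth.Agent.H65.ThickGlue
import Groth.Agent.H68.TopInv

set_option autoImplicit false
set_option linter.style.haveILetI false
universe u
open CategoryTheory CategoryTheory.Limits AlgebraicGeometry

namespace Groth.Agent.H61.W2FrobEt

variable (p : ℕ) [Fact p.Prime] (k : Type u) [CommRing k] [CharP k p]

open WittVector in
theorem vv_mul (a b : WittVector p k) :
    verschiebung a * verschiebung b = verschiebung (verschiebung (frobenius b * frobenius a)) := by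
  rw [← verschiebung_mul_frobenius, frobenius_verschiebung, ← verschiebung_frobenius,
    mul_comm a, ← verschiebung_mul_frobenius]

open WittVector in
theorem mul_eq_zero_of_res (x y : FrobAlg.W2 p k) (hx : FrobAlg.res p k x = 0)
    (hy : FrobAlg.res p k y = 0) : x * y = 0 := by
  obtain ⟨X, rfl⟩ := WittVector.truncate_surjective p 2 k x
  obtain ⟨Y, rfl⟩ := WittVector.truncate_surjective p 2 k y
  rw [FrobAlg.res_truncate] at hx hy
  have hX : X = verschiebung (X.shift 1) := by
    have := WittVector.eq_iterate_verschiebung (x := X) (n := 1) (fun i hi => by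
      have : i = 0 := by omega
      subst this; exact hx)
    simpa using this
  have hY : Y = verschiebung (Y.shift 1) := by
    have := WittVector.eq_iterate_verschiebung (x := Y) (n := 1) (fun i hi => by
      have : i = 0 := by omega
      subst this; exact hy)
    simpa using this
  rw [← map_mul, hX, hY, vv_mul]
  rw [← RingHom.mem_ker, WittVector.mem_ker_truncate]
  intro i hi
  interval_cases i
  · exact verschiebung_coeff_zero _
  · rw [verschiebung_coeff_succ, verschiebung_coeff_zero]

theorem res_surjective : Function.Surjective (FrobAlg.res p k) := by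
  intro a
  refine ⟨WittVector.truncate 2 (WittVector.teichmuller p a), ?_⟩
  rw [FrobAlg.res_truncate, WittVector.teichmuller_coeff_zero]

theorem ker_res_le_nilradical : RingHom.ker (FrobAlg.res p k) ≤ nilradical (FrobAlg.W2 p k) := by
  intro x hx
  rw [RingHom.mem_ker] at hx
  exact ⟨2, by rw [pow_two]; exact mul_eq_zero_of_res p k x x hx hx⟩


theorem isClosedImmersion_spec_res :
    IsClosedImmersion (Spec.map (CommRingCat.ofHom (FrobAlg.res p k))) :=
  IsClosedImmersion.spec_of_surjective _ (res_surjective p k)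

theorem surjective_spec_res : Surjective (Spec.map (CommRingCat.ofHom (FrobAlg.res p k))) := by
  constructor
  have h : Set.range (PrimeSpectrum.comap (FrobAlg.res p k)) = Set.univ := by
    rw [range_comap_of_surjective _ _ (res_surjective p k),
      PrimeSpectrum.zeroLocus_eq_univ_iff]
    exact ker_res_le_nilradical p k
  intro x
  obtain ⟨y, hy⟩ := Set.range_eq_univ.mp h x
  exact ⟨y, hy⟩

/-- **W₂-lifts of Frobenius pass to étale schemes.** -/
theorem main {X Y : Scheme.{u}} (f : X ⟶ Spec (CommRingCat.of k))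
    (q : Y ⟶ X) [AlgebraicGeometry.Etale q]
    [FrobSch.IsCharP X p] [FrobSch.IsCharP Y p]
    (Xl : Scheme.{u}) (g : Xl ⟶ Spec (CommRingCat.of (FrobAlg.W2 p k))) [Flat g]
    (i : X ⟶ Xl) (hsq : IsPullback i f g (Spec.map (CommRingCat.ofHom (FrobAlg.res p k))))
    (Fl : Xl ⟶ Xl) (hF : i ≫ Fl = FrobSch.frob X p ≫ i) :
    ∃ (Yl : Scheme.{u}) (gY : Yl ⟶ Spec (CommRingCat.of (FrobAlg.W2 p k))) (j : Y ⟶ Yl)
      (Gl : Yl ⟶ Yl),
      Flat gY ∧ IsPullback j (q ≫ f) gY (Spec.map (CommRingCat.ofHom (FrobAlg.res p k))) ∧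
        j ≫ Gl = FrobSch.frob Y p ≫ j := by
  haveI hci : IsClosedImmersion i :=
    MorphismProperty.of_isPullback (P := @IsClosedImmersion) hsq.flip
      (isClosedImmersion_spec_res p k)
  haveI hsurj : Surjective i :=
    MorphismProperty.of_isPullback (P := @Surjective) hsq.flip (surjective_spec_res p k)
  obtain ⟨Yl, ql, hql, j, hpb⟩ := Groth.Agent.H65.ThickLift.exists_lift i Y q
  haveI := hql
  haveI hjci : IsClosedImmersion j :=
    MorphismProperty.of_isPullback (P := @IsClosedImmersion) hpb.flip hci
  haveI hjs : Surjective j :=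
    MorphismProperty.of_isPullback (P := @Surjective) hpb.flip hsurj
  have hψ : (FrobSch.frob Y p ≫ j) ≫ ql = j ≫ (ql ≫ Fl) := by
    rw [Category.assoc, hpb.w, ← Category.assoc, FrobSch.frob_comp, Category.assoc, ← hF,
      ← Category.assoc, ← hpb.w, Category.assoc]
  obtain ⟨Gl, -, hGl⟩ := Groth.Agent.H68.TopInv.surj ql (ql ≫ Fl) j (FrobSch.frob Y p ≫ j) hψ
  refine ⟨Yl, ql ≫ g, j, Gl, inferInstance, ?_, hGl⟩
  exact hpb.paste_vert hsq

end Groth.Agent.H61.W2FrobEt
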